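import Cfsg.Agent.Lib.LyReal.Cent
import Cfsg.Prelude.Def_Exceptional
import Cfsg.Prelude.Def_Sporadic

/-!
# The permutation group of degree 8835156
-/

set_option autoImplicit false
set_option maxRecDepth 100000

namespace Cfsg.Lib.LyReal

open Cfsg.Spor Cfsg.Lib.CosetEnum.LyG2

/-- Being a nonsplit double cover passes along isomorphisms. -/
theorem doubleCover_congr {A B K : Type*} [Group A] [Group B] [Group K] (e : A ≃* B)
    (h : IsNonsplitDoubleCover A K) : IsNonsplitDoubleCover B K := by
  obtain ⟨hc, ⟨f⟩, hn⟩ := h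
  have hmap : (Subgroup.center A).map e.toMonoidHom = Subgroup.center B := by
    ext b
    constructor
    · rintro ⟨a, ha, rfl⟩
      refine Subgroup.mem_center_iff.2 fun g => ?_
      obtain ⟨u, rfl⟩ := e.surjective g
      show e u * e a = e a * e u
      rw [← map_mul, ← map_mul, Subgroup.mem_center_iff.1 ha u]
    · intro hb
      refine ⟨e.symm b, Subgroup.mem_center_iff.2 fun u => e.injective ?_, e.apply_symm_apply b⟩
      rw [map_mul, map_mul, e.apply_symm_apply, Subgroup.mem_center_iff.1 hb (e u)]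
  refine ⟨?_, ⟨((QuotientGroup.congr (Subgroup.center A) (Subgroup.center B) e hmap).symm).trans f⟩,
    fun L hL => hn (L.comap e.toMonoidHom) ?_⟩
  · rw [← hmap, Subgroup.card_map_of_injective e.injective]
    exact hc
  · refine Subgroup.isComplement'_of_disjoint_and_mul_eq_univ ?_ ?_
    · rw [disjoint_iff, eq_bot_iff]
      rintro x ⟨hx1, hx2⟩
      have h1 : e x ∈ Subgroup.center B := hmap ▸ ⟨x, hx1, rfl⟩
      have h2 := hL.disjoint.le_bot ⟨h1, hx2⟩
      exact e.injective (by rw [Subgroup.mem_bot] at h2; rw [h2, map_one])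
    · refine Set.eq_univ_of_forall fun x => ?_
      obtain ⟨⟨c, l⟩, hcl⟩ := hL.2 (e x)
      obtain ⟨a, ha, hac⟩ : (c : B) ∈ (Subgroup.center A).map e.toMonoidHom := hmap.symm ▸ c.2
      refine ⟨a, ha, a⁻¹ * x, ?_, mul_inv_cancel_left a x⟩
      show e (a⁻¹ * x) ∈ L
      have hac' : e a = (c : B) := hac
      have hcl' : (c : B) * (l : B) = e x := hcl
      rw [map_mul, map_inv, ← hcl', hac', inv_mul_cancel_left]
      exact l.2

/-- The permutation group of degree 8835156. -/
theorem exists_sims : ∃ H : Subgroup (Equiv.Perm (Fin 8835156)), IsLy H ∧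
    MulAction.IsPretransitive H (Fin 8835156) ∧
    IsG2 (MulAction.stabilizer H (0 : Fin 8835156)) ∧
    ∃ t : H, orderOf t = 2 ∧ IsNonsplitDoubleCover (Subgroup.centralizer ({t} : Set H))
      (alternatingGroup (Fin 11)) := by
  classical
  have := finite_ly
  have hidx : Nat.card (Ly ⧸ abcd) = 8835156 := order_index.2
  obtain ⟨e, he⟩ : ∃ e : Ly ⧸ abcd ≃ Fin 8835156, e ((1 : Ly) : Ly ⧸ abcd) = 0 := by
    have e0 : Ly ⧸ abcd ≃ Fin 8835156 := Finite.equivFinOfCardEq hidx
    exact ⟨e0.trans (Equiv.swap (e0 ((1 : Ly) : Ly ⧸ abcd)) 0), Equiv.swap_apply_left _ _⟩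
  set φ : Ly →* Equiv.Perm (Fin 8835156) :=
    e.permCongrHom.toMonoidHom.comp (MulAction.toPermHom Ly (Ly ⧸ abcd)) with hφdef
  have hact : ∀ (x : Ly) (k : Fin 8835156), φ x k = e (x • e.symm k) := fun x k => rfl
  have hinj : Function.Injective φ := by
    refine (MonoidHom.ker_eq_bot_iff φ).1 ((ly_simple.eq_bot_or_eq_top_of_normal φ.ker
      inferInstance).resolve_right fun h => ?_)
    have htop : abcd = ⊤ := by
      rw [eq_top_iff]
      intro x _
      have hx := congrArg (fun p : Equiv.Perm (Fin 8835156) => p 0)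
        (MonoidHom.mem_ker.1 (h ▸ Subgroup.mem_top x))
      simp only [Equiv.Perm.one_apply, hact, ← he, e.symm_apply_apply] at hx
      have h2 := e.injective hx
      rw [MulAction.Quotient.smul_mk, smul_eq_mul, mul_one] at h2
      have h3 := QuotientGroup.eq.1 h2
      simpa using h3
    have h2 := order_index.2
    rw [htop, Subgroup.index_top] at h2
    norm_num at h2
  let E : Ly ≃* φ.range := MonoidHom.ofInjective hinj
  have hE : ∀ x, ((E x : φ.range) : Equiv.Perm (Fin 8835156)) = φ x := fun x => rfl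
  refine ⟨φ.range, ⟨?_, ?_⟩, ?_, ⟨?_, 5, ⟨5, 1, by decide, by norm_num⟩, by norm_num, ?_⟩, E tau, ?_, ?_⟩
  · have := ly_simple
    exact E.symm.isSimpleGroup
  · rw [← Nat.card_congr E.toEquiv]
    exact order_index.1
  · refine ⟨fun a b => ?_⟩
    obtain ⟨x, hx⟩ := MulAction.exists_smul_eq Ly (e.symm a) (e.symm b)
    exact ⟨E x, by show φ x a = b; rw [hact, hx, e.apply_symm_apply]⟩
  all_goals
    try
      have hst : ∀ x : Ly, E x ∈ MulAction.stabilizer φ.range (0 : Fin 8835156) ↔ x ∈ abcd := by
        intro x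
        rw [MulAction.mem_stabilizer_iff]
        show φ x 0 = 0 ↔ _
        rw [hact, ← he, e.symm_apply_apply, e.injective.eq_iff, MulAction.Quotient.smul_mk,
          smul_eq_mul, mul_one, QuotientGroup.eq, mul_one, inv_mem_iff]
      let S : abcd ≃* MulAction.stabilizer φ.range (0 : Fin 8835156) :=
        MulEquiv.ofBijective
          ((E.toMonoidHom.comp abcd.subtype).codRestrict _ fun x => (hst x).2 x.2)
          ⟨fun x y h => Subtype.ext (E.injective (congrArg Subtype.val h)), fun y => by
            obtain ⟨x, hx⟩ := E.surjective y.1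
            exact ⟨⟨x, (hst x).1 (hx ▸ y.2)⟩, Subtype.ext hx⟩⟩
  · obtain ⟨f⟩ := abcd_iso
    obtain ⟨g⟩ := six_iso
    have := six_simple
    exact (S.symm.trans (f.trans g.symm)).isSimpleGroup
  · rw [← Nat.card_congr S.toEquiv, card_abcd]
    norm_num
  · rw [MulEquiv.orderOf_eq]
    exact tau_order
  · refine doubleCover_congr ?_ cent_double_cover
    exact MulEquiv.ofBijective
      ((E.toMonoidHom.comp CT.subtype).codRestrict _ fun x =>
        Subgroup.mem_centralizer_singleton_iff.2 (by
          show E x.1 * E tau = E tau * E x.1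
          rw [← map_mul, ← map_mul, Subgroup.mem_centralizer_singleton_iff.1 x.2]))
      ⟨fun x y h => Subtype.ext (E.injective (congrArg Subtype.val h)), fun y => by
        obtain ⟨x, hx⟩ := E.surjective y.1
        refine ⟨⟨x, Subgroup.mem_centralizer_singleton_iff.2 (E.injective ?_)⟩, Subtype.ext hx⟩
        rw [map_mul, map_mul, hx]
        exact Subgroup.mem_centralizer_singleton_iff.1 y.2⟩

end Cfsg.Lib.LyReal
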