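import Cfsg.Agent.Lib.LyReal.Check

/-! Generated data: certified facts about cosets. -/

set_option autoImplicit false
set_option maxRecDepth 20000

namespace Cfsg.Lib.LyReal

/-- Equations from facts known twice. -/
def eqnList : List (Cert × List Nat × List Int) :=
  [ (.prop 13 [2, 4, 4, 4, 7] [0, 0, 5, 0, 0, 4, 0], [0, 0, 6, 1, 0, 5, 0, 7], [1, -1, -1, 0, -2, 0, -1, -2, 0, 0, 0, 0, 0, 0]),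
    (.prop 13 [3, 5, 7, 1, 2, 6] [0, 1, 4, 1, 2, 4, 1, 4, 2], [0, 1, 5, 5, 4, 7], [0, 1, 1, -1, 2, -3, -1, -2, 0, 0, 0, 0, 0, 0]),
    (.scan 0 ⟨1, [1, 0, 1, 0, 7, 1, 1, 0, 7, 7], [0, 0, 0, 0, 0, 0, 0, 0, 0, 0, 0, 0, 0, 0]⟩ [⟨13, [], [0, 2, 0, 1, 0]⟩, ⟨13, [], [0, 0, 0, 0, 0, 0]⟩] [], [0, 2, 0, 1, 0], [0, 2, 2, 0, 0, 0, 0, 0, 3, -2, 0, 0, 0, 0]),
    (.prop 22 [2, 1, 0, 2] [19, 19, 15, 15, 19, 19, 15, 15, 19, 19, 19], [19, 15, 15, 19, 19, 15, 15, 19, 19, 19], [7, -2, -2, -1, 2, -1, -2, 0, 0, 0, 0, 0, 1, 0]),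
    (.prop 26 [0, 0, 0, 2, 6, 2, 4, 0, 1, 4] [19, 15, 19, 19, 19, 19, 15, 15, 19, 19, 19, 15, 19, 19], [19, 19, 19, 15, 15, 19, 15, 19, 19, 15, 19, 19, 15, 19], [0, -2, -2, -1, 0, -1, -3, 0, 0, 0, 0, -1, 1, 0]),
    (.prop 28 [0, 0, 0, 0, 0, 0] [29, 17, 29, 29], [29, 20, 29, 17, 20], [-16, 1, -1, 1, -3, 1, 2, -2, 0, 0, 0, 0, 0, 1]),
    (.scan 2 ⟨3, [0, 5, 1, 1, 4, 0, 2, 3, 1, 0, 7, 7, 2, 1, 0, 1, 2, 7, 5, 1, 0, 7, 1, 1, 0, 7, 7, 0], [0, 0, 0, 0, 0, 0, 0, 0, 0, 0, 0, 0, 0, 0]⟩ [⟨69, [1, 4, 0, 2, 5, 1, 0, 0, 0], [20, 17, 20, 29, 17, 29]⟩, ⟨69, [0, 1, 3, 0, 2, 4, 5, 1], [20, 29, 17, 17, 29, 17]⟩, ⟨69, [7, 0, 2], []⟩] [], [29, 17, 20, 29, 29, 17], [-24, 49, 25, 13, -23, 27, 25, 31, 3, -3, 1, 9, -21, 22]) ]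

/-- Equations from words of one element. -/
def ceqList : List (List Nat × List Nat × List Int) :=
  [ ([7, 4, 3, 1, 5, 0], [1, 4, 7, 0, 5], [0, 0, 0, 1, 0, 0, 0, 0, 0, 0, 0, 0, 0, 0]),
    ([5, 6, 3, 4, 4, 7], [3, 6, 5, 4, 4], [0, 0, 0, 0, 0, 0, 0, 1, 0, 0, 0, 0, 0, 0]),
    ([5, 2, 4, 7], [6, 2], [0, 0, 0, 0, 1, 1, -1, 1, 0, 0, 0, 0, 0, 0]),
    ([4, 5, 2, 7, 1, 1], [1, 4, 3, 1, 2, 3], [0, 0, 0, -2, 0, 1, 0, 1, 0, 0, 0, 0, 0, 0]),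
    ([6, 3, 6, 1, 4], [4, 5, 4, 1, 3], [0, 0, 0, 0, -1, -1, 2, 0, 0, 0, 0, 0, 0, 0]),
    ([6, 1, 0, 1], [6, 0, 1, 0], [-1, 1, 0, 0, 0, 0, 0, 0, 0, 0, 0, 0, 0, 0]) ]

/-- Each unit vector as a combination. -/
def combList : List (List Int) :=
  [ [1, 1, 0, 0, 0, 0, 0, 7, -1, 2, 3, 2, 0, 0],
    [1, 1, 0, 0, 0, 0, 0, 7, -1, 2, 3, 2, 1, 0],
    [-1, 0, 0, 0, 0, 0, 0, 4, 1, -5, 2, -3, -1, 0],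
    [0, 0, 0, 0, 0, 0, 0, 1, 0, 0, 0, 0, 0, 0],
    [0, 0, 0, 0, 0, 0, 0, -2, -1, 2, -1, 1, 0, 0],
    [0, 0, 0, 0, 0, 0, 0, 2, -1, 0, 1, 0, 0, 0],
    [0, 0, 0, 0, 0, 0, 0, 0, -1, 1, 0, 1, 0, 0],
    [0, 0, 0, 0, 0, 0, 0, 0, 1, 0, 0, 0, 0, 0],
    [0, -2, 1, 0, 0, 0, 0, -22, 0, 6, -10, 2, 0, 2],
    [0, -2, 1, 0, 0, 0, 0, -22, 0, 6, -10, 2, 0, 3],
    [-392, -397, 0, 12, 9, -22, 1, -2603, 298, -833, -1118, -776, 20, 3],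
    [-7, -7, 0, 1, -1, 0, 0, -45, 10, -19, -19, -17, 0, 0],
    [-7, -5, 0, 1, 0, 0, 0, -20, 6, -22, -8, -16, 0, 0],
    [14, 15, 0, 0, 0, 1, 0, 100, -12, 29, 43, 28, -2, 0] ]

end Cfsg.Lib.LyReal
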