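import Cfsg.Agent.Lib.LyReal.Facts
import Cfsg.Agent.Lib.LyReal.DataEqns

/-!
# All parameters are trivial once one of them is normalised
-/

set_option autoImplicit false
set_option maxRecDepth 100000

open scoped IsMulCommutative

namespace Cfsg.Lib.LyReal

/-- The normalising equation. -/
def normVec : List ℤ := vsub (vunit 9) (vunit 8)

/-- All equations. -/
def rowsE : List (List ℤ) :=
  eqnList.map (fun p => p.2.2) ++ (ceqList.map (fun p => p.2.2) ++ [normVec])

/-- A combination of equations. -/
def lincomb : List ℤ → List (List ℤ) → List ℤ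
  | c :: cs, r :: rs => vadd ((List.range 14).map fun i => c * getL 0 r i) (lincomb cs rs)
  | _, _ => vzero

theorem comb_ok : ((List.range 14).all fun k =>
    eqE (lincomb (getL [] combList k) rowsE) (vunit k)) = true := by decide +kernel

theorem eqnList_ok : (eqnList.all fun p => eqnOK facts p.1 p.2.1 p.2.2) = true := by
  decide +kernel

theorem ceqList_ok : (ceqList.all fun p => ceqOK p.1 p.2.1 p.2.2) = true := by decide +kernel

theorem prod_zpow_center {Γ : Type*} [Group Γ] (f : ℕ → Subgroup.center Γ) (c : ℤ) (s : Finset ℕ) :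
    ∏ i ∈ s, f i ^ c = (∏ i ∈ s, f i) ^ c := by
  induction s using Finset.induction with
  | empty => rw [Finset.prod_empty, Finset.prod_empty, one_zpow]
  | insert a s ha ih =>
    rw [Finset.prod_insert ha, Finset.prod_insert ha, ih, Commute.mul_zpow]
    exact Subtype.ext (Subgroup.mem_center_iff.1 (∏ i ∈ s, f i).2 _)

namespace Sys

variable {Γ : Type*} [Group Γ] (S : Sys Γ)

theorem ev_lincomb : ∀ {cs : List ℤ} {rs : List (List ℤ)}, (∀ r ∈ rs, S.ev r = 1) →
    S.ev (lincomb cs rs) = 1
  | [], _, _ => by simp [lincomb, S.ev_vzero]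
  | _ :: _, [], _ => by simp [lincomb, S.ev_vzero]
  | c :: cs, r :: rs, h => by
    rw [lincomb, S.ev_vadd, ev_lincomb fun x hx => h x (List.mem_cons_of_mem _ hx), mul_one]
    have hr : S.evC r = 1 := Subtype.ext (h r (by simp))
    have : S.evC ((List.range 14).map fun i => c * getL 0 r i) = S.evC r ^ c := by
      rw [evC, evC]
      refine Eq.trans ?_ (prod_zpow_center (fun i => S.η i ^ getL 0 r i) c (Finset.range 14))
      refine Finset.prod_congr rfl fun i hi => ?_
      rw [getL_map_range _ _ (Finset.mem_range.1 hi), mul_comm, zpow_mul]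
    rw [ev, this, hr, one_zpow, Subgroup.coe_one]

/-- All parameters are trivial. -/
theorem eta_one (hdis : ∀ a, S.ev a ∈ S.H → S.ev a = 1) (hnorm : S.ev normVec = 1) :
    ∀ k < 14, S.η k = 1 := by
  intro k hk
  have hrows : ∀ r ∈ rowsE, S.ev r = 1 := by
    intro r hr
    simp only [rowsE, List.mem_append, List.mem_map, List.mem_singleton] at hr
    rcases hr with ⟨p, hp, rfl⟩ | ⟨p, hp, rfl⟩ | rfl
    · exact S.eqnOK_sound S.facts_hold hdis (List.all_eq_true.1 eqnList_ok p hp)
    · exact S.ceqOK_sound hdis (List.all_eq_true.1 ceqList_ok p hp)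
    · exact hnorm
  have h := List.all_eq_true.1 comb_ok k (List.mem_range.2 hk)
  have h1 := S.ev_lincomb (cs := getL [] combList k) hrows
  rw [eqE_eq h, S.ev_vunit hk] at h1
  exact Subtype.ext h1

end Sys

end Cfsg.Lib.LyReal
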