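import Cfsg.Agent.Lib.LyReal.Closure
import Cfsg.Agent.Lib.LyReal.Eqns

/-!
# The index of the subgroup of the letters is at most 8835156
-/

set_option autoImplicit false
set_option maxRecDepth 100000

open scoped Pointwise

namespace Cfsg.Lib.LyReal

open Cfsg.Lib.CosetEnum.LyG2

theorem facts_small : (envS.all fun f => !f.zf || (Nat.blt f.k 5 && lettersOK f.w')) = true := by
  decide +kernel

theorem first_record : lettersOK (getL [] defW 0) = true := by decide +kernel

/-- The sizes of the orbits. -/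
def orbSize : ℕ → ℕ
  | 0 => 1
  | 1 => 19530
  | 2 => 968750
  | 3 => 5812500
  | _ => 2034375

namespace Sys

variable {Γ : Type*} [Group Γ] (S : Sys Γ)

/-- A coset in one of the five orbits. -/
def Cover (x : Γ) : Prop := ∃ j, j < 5 ∧ ∃ h ∈ S.H, S.R x (h * S.P j)

theorem cover_H {h x : Γ} (hh : h ∈ S.H) (hx : S.Cover x) : S.Cover (h * x) := by
  obtain ⟨j, hj, h', hh', hR⟩ := hx
  exact ⟨j, hj, h * h', mul_mem hh hh', by rw [mul_assoc]; exact S.R_mul _ hR⟩

theorem cover_R {x y : Γ} (hxy : S.R x y) (hy : S.Cover y) : S.Cover x := by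
  obtain ⟨j, hj, h, hh, hR⟩ := hy
  exact ⟨j, hj, h, hh, S.R_trans hxy hR⟩

theorem cover_z (hη : ∀ k < 14, S.η k = 1) {x : Γ} (hx : S.Cover x) : S.Cover (S.z * x) := by
  obtain ⟨j, hj, h, hh, hR⟩ := hx
  refine S.cover_R (S.R_mul S.z hR) ?_
  rcases Nat.eq_zero_or_pos j with rfl | hpos
  · refine ⟨1, by norm_num, 1, one_mem _, ?_⟩
    simp only [P, one_mul, mul_one]
    refine S.R_mul _ ?_
    simpa [R] using mul_mem (inv_mem hh) (S.v_mem first_record)
  · obtain ⟨c, n, hc, hn, hjn, hR2⟩ := S.inRec_all hη hpos hj hh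
    refine S.cover_R (S.R_mul S.z hR2) ?_
    obtain ⟨hzf, hfj, -, -, -⟩ := rec_spec hn
    have hf := S.holds_get (env := envS) S.facts_hold (getL 0 recT n)
    simp only [recW] at hR2 ⊢
    set f := getL nilFct envS (getL 0 recT n) with hfdef
    simp only [Holds, hzf, if_true, S.ev_one hη, one_mul, hfj, hjn] at hf
    have hfk : f.k < 5 ∧ lettersOK f.w' = true := by
      have key : ∀ (l : List Fct) (i : ℕ), getL nilFct l i ∈ l ∨ getL nilFct l i = nilFct := by
        intro l
        induction l with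
        | nil => intro i; right; rfl
        | cons a l ih =>
          intro i
          cases i with
          | zero => left; simp [getL]
          | succ i =>
            rcases ih i with h | h
            · left; exact List.mem_cons_of_mem _ h
            · right; exact h
      rcases key envS (getL 0 recT n) with h1 | h1
      · have h2 := List.all_eq_true.1 facts_small _ h1
        rw [← hfdef, hzf] at h2
        simpa [Nat.blt_eq] using h2
      · rw [← hfdef] at h1
        rw [h1] at hzf
        simp [nilFct] at hzf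
    have hm := S.z_move (cOK_iff hc)
    rw [S.ev_one hη, one_mul] at hm
    rw [← mul_assoc, hm, mul_assoc]
    refine S.cover_R (S.R_mul _ hf) ⟨f.k, hfk.1, S.v (cim c) * S.v f.w', ?_, ?_⟩
    · refine mul_mem ?_ (S.v_mem hfk.2)
      have h6 : ∀ g ∈ [0, 0, 6, 6], S.e g ∈ S.H := fun g hg => S.e_mem (by
        simp at hg; omega)
      have hci : ∀ i < 8, lettersOK (getL [] ci6 i) = true := fun i hi => (seeds_ok.1 i hi).2
      rw [cim, v_append, v_append]
      refine mul_mem ?_ (mul_mem ?_ ?_)
      · exact S.v_mem rfl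
      · have hcc := cOK_iff hc
        clear hm hR2 hc
        induction c with
        | nil => exact one_mem _
        | cons i c ih =>
          rw [ciw, v_append]
          exact mul_mem (S.v_mem (hci i (hcc i (by simp))))
            (ih fun k hk => hcc k (List.mem_cons_of_mem _ hk))
      · exact S.v_mem rfl
    · exact S.R_of_eq (mul_assoc _ _ _).symm

theorem cover_all (hη : ∀ k < 14, S.η k = 1)
    (hgen : Subgroup.closure ((S.H : Set Γ) ∪ {S.z}) = ⊤) (x : Γ) : S.Cover x := by
  have key : ∀ x ∈ Subgroup.closure ((S.H : Set Γ) ∪ {S.z}),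
      (∀ y, S.Cover y → S.Cover (x * y)) ∧ ∀ y, S.Cover y → S.Cover (x⁻¹ * y) := by
    intro x hx
    induction hx using Subgroup.closure_induction with
    | mem a ha =>
      rcases ha with ha | rfl
      · exact ⟨fun y hy => S.cover_H ha hy, fun y hy => S.cover_H (inv_mem ha) hy⟩
      · refine ⟨fun y hy => S.cover_z hη hy, fun y hy => ?_⟩
        rw [S.z_inv, S.ev_one hη, inv_one, mul_one, mul_assoc]
        exact S.cover_z hη (S.cover_H (S.v_mem rfl) hy)
    | one => exact ⟨fun y hy => by simpa using hy, fun y hy => by simpa using hy⟩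
    | mul a b _ _ iha ihb =>
      exact ⟨fun y hy => by rw [mul_assoc]; exact iha.1 _ (ihb.1 y hy),
        fun y hy => by rw [mul_inv_rev, mul_assoc]; exact ihb.2 _ (iha.2 y hy)⟩
    | inv a _ iha => exact ⟨iha.2, fun y hy => by rw [inv_inv]; exact iha.1 y hy⟩
  have h1 : S.Cover 1 := ⟨0, by norm_num, 1, one_mem _, by simpa [P] using S.R_refl (1 : Γ)⟩
  simpa using (key x (hgen ▸ Subgroup.mem_top x)).1 1 h1

/-- The orbit of a point. -/
def Orb (j : ℕ) : Set (Γ ⧸ S.H) :=
  Set.range fun s : SixGroup => ((S.hom s * S.P j : Γ) : Γ ⧸ S.H)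

theorem orb_card (hη : ∀ k < 14, S.η k = 1) {j : ℕ} (hj : j < 5) :
    (S.Orb j).Finite ∧ Nat.card (S.Orb j) ≤ orbSize j := by
  rcases Nat.eq_zero_or_pos j with rfl | hpos
  · have hsub : S.Orb 0 ⊆ {((1 : Γ) : Γ ⧸ S.H)} := by
      rintro _ ⟨s, rfl⟩
      rw [Set.mem_singleton_iff, QuotientGroup.eq]
      have : S.hom s ∈ S.H := by rw [← S.hom_range]; exact ⟨s, rfl⟩
      simpa [P] using inv_mem this
    refine ⟨(Set.finite_singleton _).subset hsub, ?_⟩
    exact (Nat.card_mono (Set.finite_singleton _) hsub).trans (by simp [orbSize])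
  · have hη' := S.ev_one hη
    have hfin : Finite SixGroup := Nat.finite_of_card_ne_zero (by rw [six_card]; norm_num)
    letI : MulAction SixGroup (Γ ⧸ S.H) := MulAction.compHom _ S.hom
    set a : Γ ⧸ S.H := ((S.P j : Γ) : Γ ⧸ S.H)
    have horb : S.Orb j = MulAction.orbit SixGroup a := rfl
    have hstab : S.Stab j ≤ MulAction.stabilizer SixGroup a := by
      intro s hs
      show (((S.hom s * S.P j : Γ)) : Γ ⧸ S.H) = a
      exact QuotientGroup.eq.2 hs
    have hcard : Nat.card (MulAction.orbit SixGroup a) *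
        Nat.card (MulAction.stabilizer SixGroup a) = 5859000000 := by
      rw [← six_card, ← Nat.card_prod]
      exact Nat.card_congr (MulAction.orbitProdStabilizerEquivGroup SixGroup a)
    have hle : Nat.card (S.Stab j) ≤ Nat.card (MulAction.stabilizer SixGroup a) :=
      Nat.card_le_card_of_injective _ (Subgroup.inclusion_injective hstab)
    rw [horb]
    refine ⟨Set.finite_range _, ?_⟩
    have main : ∀ n, n ≤ Nat.card (S.Stab j) →
        Nat.card (MulAction.orbit SixGroup a) * n ≤ 5859000000 := fun n hn =>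
      (Nat.mul_le_mul_left _ (hn.trans hle)).trans hcard.le
    obtain rfl | rfl | rfl | rfl : j = 1 ∨ j = 2 ∨ j = 3 ∨ j = 4 := by omega
    · have := main _ (S.card_stab_one hη')
      simp only [orbSize]; omega
    · have := main _ (S.card_stab hη' hpos hj prods2_ok ord2_ok)
      simp only [orbSize]; omega
    · have := main _ (S.card_stab hη' hpos hj prods3_ok ord3_ok)
      simp only [orbSize]; omega
    · have := main _ (S.card_stab hη' hpos hj prods4_ok ord4_ok)
      simp only [orbSize]; omega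

theorem orb_union (hη : ∀ k < 14, S.η k = 1)
    (hgen : Subgroup.closure ((S.H : Set Γ) ∪ {S.z}) = ⊤) :
    (⋃ j : Fin 5, S.Orb j) = Set.univ := by
  refine Set.eq_univ_of_forall fun x => ?_
  obtain ⟨y, rfl⟩ := QuotientGroup.mk_surjective x
  obtain ⟨j, hj, h, hh, hR⟩ := S.cover_all hη hgen y
  rw [← S.hom_range] at hh
  obtain ⟨s, rfl⟩ := hh
  exact Set.mem_iUnion.2 ⟨⟨j, hj⟩, s, (QuotientGroup.eq.2 hR).symm⟩

theorem index_le (hη : ∀ k < 14, S.η k = 1)
    (hgen : Subgroup.closure ((S.H : Set Γ) ∪ {S.z}) = ⊤) :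
    Finite (Γ ⧸ S.H) ∧ S.H.index ≤ 8835156 := by
  have hu := S.orb_union hη hgen
  have hf : ∀ j : Fin 5, (S.Orb j).Finite := fun j => (S.orb_card hη j.2).1
  have hfin : (Set.univ : Set (Γ ⧸ S.H)).Finite := hu ▸ Set.finite_iUnion hf
  have : Finite (Γ ⧸ S.H) := Set.finite_univ_iff.1 hfin
  refine ⟨this, ?_⟩
  rw [Subgroup.index, ← Set.ncard_univ, ← hu]
  refine (Set.ncard_iUnion_le_of_fintype _).trans ?_
  refine (Finset.sum_le_sum (g := fun j : Fin 5 => orbSize j) fun (j : Fin 5) _ =>
    (Nat.card_coe_set_eq (S.Orb j)).ge.trans (S.orb_card hη j.2).2).trans ?_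
  simp [Fin.sum_univ_five, orbSize]

end Sys

end Cfsg.Lib.LyReal
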