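import Cfsg.Agent.Lib.LyReal.Rep

/-!
# Nine elements of order three commuting with the involution
-/

set_option autoImplicit false
set_option maxRecDepth 100000

namespace Cfsg.Lib.LyReal

open Cfsg.Lib.CosetEnum (force force_eq)

/-- The words, in the twenty letters. -/
def triWord : List (List ℕ) := [[1, 3, 4, 3, 4, 11, 0, 0, 0, 0],
  [0, 4, 11, 4, 11, 4, 1, 0, 0, 0, 0],
  [0, 1, 14, 11, 0, 0, 0, 0],
  [1, 4, 11, 11, 14, 1, 0, 0, 0, 0],
  [1, 1, 10, 11, 11, 19, 1, 10, 11, 10, 11, 10, 11, 3, 11, 4, 3, 4, 1, 1, 0, 1, 0, 1, 0, 11, 9, 1, 1, 0, 11, 11, 0, 0, 0, 0],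
  [0, 1, 1, 10, 11, 11, 19, 1, 10, 11, 10, 11, 10, 11, 3, 4, 3, 4, 1, 0, 1, 0, 1, 0, 11, 9, 1, 1, 0, 11, 11, 10, 0, 0, 0, 0],
  [1, 4, 11, 14, 0, 0, 0, 0],
  [1, 0, 1, 0, 1, 0, 11, 9, 1, 1, 0, 11, 11, 3, 11, 11, 4, 3, 4, 1, 1, 1, 1, 10, 11, 11, 19, 1, 10, 11, 10, 11, 10, 11, 0, 0, 0, 0],
  [10, 1, 1, 10, 11, 11, 19, 1, 10, 11, 10, 11, 10, 11, 3, 4, 3, 4, 1, 0, 1, 0, 1, 0, 11, 9, 1, 1, 0, 11, 11, 0, 0, 0, 0, 0]]

/-- Apply a test to the list of the matrices of words, evaluated once. -/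
noncomputable def withMats : List (List ℕ) → List ℕ → (List ℕ → Bool) → Bool
  | [], acc, f => f acc.reverse
  | w :: ws, acc, f => force (BigMat.prodWord 111 CosetEnum.LyRep.letterMat w.reverse) fun M =>
    withMats ws (M :: acc) f

/-- Every pair has a product whose square is the given matrix. -/
noncomputable def pairsOK (T : ℕ) : List ℕ → Bool
  | [] => true
  | X :: r => (r.all fun Y => force (BigMat.mul 111 X Y) fun P =>
      Nat.beq (BigMat.mul 111 P P) T) && pairsOK T r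

/-- The relations. -/
noncomputable def triOK (l : List ℕ) : Bool :=
  match l with
  | [] => false
  | T :: Xs => (Xs.all fun X =>
      Nat.beq (BigMat.mul 111 X (BigMat.mul 111 X X)) (BigMat.one 111) &&
      Nat.beq (BigMat.mul 111 X T) (BigMat.mul 111 T X)) && pairsOK T Xs

theorem tri_ok : withMats ([0, 0, 0, 0] :: triWord) [] triOK = true := by decide +kernel

end Cfsg.Lib.LyReal
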