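import Cfsg.Agent.Lib.LyReal.FixBound
import Cfsg.Agent.Lib.LyReal.CentData
import Cfsg.Agent.Lib.PresSymAlt.Carmichael
import Cfsg.Prelude.Def_SporadicB

/-!
# The centralizer of the involution is a nonsplit double cover of the alternating group of degree 11
-/

set_option autoImplicit false
set_option maxRecDepth 100000

namespace Cfsg.Lib.LyReal

open Cfsg.Spor Cfsg.Lib.CosetEnum Cfsg.Lib.CosetEnum.LyG2

/-- A word has the given matrix. -/
def HasMat (w : List ℕ) (M : ℕ) : Prop :=
  BigMat.IsMat 111 M ∧
    (rho (val20 w) : Matrix (Fin 111) (Fin 111) (ZMod 5)) = BigMat.toMat 111 M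

theorem withMats_spec : ∀ (ws : List (List ℕ)) (acc : List ℕ) (f : List ℕ → Bool),
    withMats ws acc f = f (acc.reverse ++
      ws.map fun w => BigMat.prodWord 111 LyRep.letterMat w.reverse)
  | [], acc, f => by simp [withMats]
  | w :: ws, acc, f => by
    rw [withMats, force_eq, withMats_spec ws _ f]
    simp [List.append_assoc]

theorem hasMat_word {w : List ℕ} (hw : (w.all fun l => Nat.blt l 20) = true) :
    HasMat w (BigMat.prodWord 111 LyRep.letterMat w.reverse) :=
  rho_word (by rw [hw, Nat.beq_refl, Bool.true_and])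

theorem pairsOK_spec {T : ℕ} : ∀ {l : List ℕ}, pairsOK T l = true →
    ∀ i j, i < j → j < l.length → BigMat.mul 111 (BigMat.mul 111 (l.getD i 0) (l.getD j 0))
      (BigMat.mul 111 (l.getD i 0) (l.getD j 0)) = T
  | [], _, i, j, _, hj => by simp at hj
  | X :: r, h, i, j, hij, hj => by
    simp only [pairsOK, Bool.and_eq_true, List.all_eq_true, force_eq, Nat.beq_eq] at h
    rcases j with - | j
    · omega
    simp only [List.length_cons, Nat.add_lt_add_iff_right] at hj
    rcases i with - | i
    · simp only [List.getD_cons_zero, List.getD_cons_succ]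
      exact h.1 _ (by rw [List.getD_eq_getElem _ _ hj]; exact List.getElem_mem hj)
    · simp only [List.getD_cons_succ]
      exact pairsOK_spec h.2 i j (by omega) hj

/-- The nine elements. -/
noncomputable def triEl (i : Fin 9) : Ly := val20 (triWord.getD i [])

theorem triWord_ok : (triWord.all fun w => w.all fun l => Nat.blt l 20) = true ∧
    triWord.length = 9 := by decide +kernel

theorem tau_val : val20 [0, 0, 0, 0] = tau := by
  rw [tau, tauSix, lySys.hom_six rfl]
  show _ = ([0, 0, 0, 0].map lyLetter).prod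
  simp [val20, let20, baseGen, lyLetter]

theorem rho_injective : Function.Injective rho := by
  have := ly_simple
  refine (MonoidHom.ker_eq_bot_iff _).1 ((ly_simple.eq_bot_or_eq_top_of_normal rho.ker
    inferInstance).resolve_right fun h => ?_)
  obtain ⟨hM, he⟩ := hasMat_word (w := [0]) rfl
  rw [MonoidHom.mem_ker.1 (h ▸ Subgroup.mem_top (val20 [0])), Units.val_one,
    ← BigMat.isMat_one.2] at he
  have hne : Nat.beq (BigMat.prodWord 111 LyRep.letterMat [0].reverse) (BigMat.one 111) = false := by
    decide +kernel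
  rw [← BigMat.toMat_inj BigMat.isMat_one.1 hM he, Nat.beq_refl] at hne
  exact Bool.noConfusion hne

theorem tri_rels : (∀ i, triEl i ^ 3 = 1 ∧ triEl i * tau = tau * triEl i) ∧
    ∀ i j, i < j → triEl i * triEl j * (triEl i * triEl j) = tau := by
  have h := tri_ok
  rw [withMats_spec, List.reverse_nil, List.nil_append, List.map_cons] at h
  set Tm := BigMat.prodWord 111 LyRep.letterMat [0, 0, 0, 0].reverse
  set Xs := triWord.map fun w => BigMat.prodWord 111 LyRep.letterMat w.reverse with hXs
  simp only [triOK, Bool.and_eq_true, List.all_eq_true, Nat.beq_eq] at h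
  obtain ⟨hall, hpairs⟩ := h
  have hT : HasMat [0, 0, 0, 0] Tm := hasMat_word rfl
  have hlen : Xs.length = 9 := by rw [hXs, List.length_map]; exact triWord_ok.2
  have hX : ∀ i : Fin 9, BigMat.IsMat 111 (Xs.getD i 0) ∧
      (rho (triEl i) : Matrix (Fin 111) (Fin 111) (ZMod 5)) = BigMat.toMat 111 (Xs.getD i 0) := by
    intro i
    have hi : (i : ℕ) < triWord.length := triWord_ok.2.symm ▸ i.2
    rw [hXs, List.getD_eq_getElem _ _ (by simpa using hi), List.getElem_map, triEl,
      List.getD_eq_getElem _ _ hi]
    exact hasMat_word (List.all_eq_true.1 triWord_ok.1 _ (List.getElem_mem hi))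
  have hmul : ∀ {A B : ℕ}, BigMat.IsMat 111 A → BigMat.IsMat 111 B →
      BigMat.IsMat 111 (BigMat.mul 111 A B) ∧ BigMat.toMat 111 (BigMat.mul 111 A B) =
        BigMat.toMat 111 A * BigMat.toMat 111 B :=
    fun hA hB => BigMat.toMat_mul (by norm_num) (by norm_num) hA hB
  have hτ : (rho tau : Matrix (Fin 111) (Fin 111) (ZMod 5)) = BigMat.toMat 111 Tm := by
    rw [← tau_val]; exact hT.2
  refine ⟨fun i => ?_, fun i j hij => ?_⟩
  · obtain ⟨hM, he⟩ := hX i
    obtain ⟨h3, hc⟩ := hall (Xs.getD i 0) (by
      rw [List.getD_eq_getElem _ _ (hlen.symm ▸ i.2)]; exact List.getElem_mem _)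
    refine ⟨rho_injective (Units.ext ?_), rho_injective (Units.ext ?_)⟩
    · have h2 := hmul hM hM
      rw [map_pow, map_one, Units.val_pow_eq_pow_val, Units.val_one, he, pow_succ', pow_two,
        ← h2.2, ← (hmul hM h2.1).2, h3, BigMat.isMat_one.2]
    · rw [map_mul, map_mul, Units.val_mul, Units.val_mul, he, hτ, ← (hmul hM hT.1).2,
        ← (hmul hT.1 hM).2, hc]
  · obtain ⟨hM, he⟩ := hX i
    obtain ⟨hN, he'⟩ := hX j
    have h2 := hmul hM hN
    refine rho_injective (Units.ext ?_)
    simp only [map_mul, Units.val_mul]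
    rw [he, he', hτ, ← h2.2, ← (hmul h2.1 h2.1).2, pairsOK_spec hpairs i j hij (hlen.symm ▸ j.2)]

theorem tau_order : orderOf tau = 2 := by
  rw [tau, orderOf_injective lySys.hom hom_injective, tauSix_order]

/-- The centralizer of the involution. -/
noncomputable abbrev CT : Subgroup Ly := Subgroup.centralizer ({tau} : Set Ly)

/-- The involution in its centralizer. -/
noncomputable def tauC : CT := ⟨tau, Subgroup.mem_centralizer_singleton_iff.2 rfl⟩

/-- The nine elements in the centralizer. -/
noncomputable def triC (i : Fin 9) : CT :=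
  ⟨triEl i, Subgroup.mem_centralizer_singleton_iff.2 (tri_rels.1 i).2⟩

theorem triC_pair {i j : Fin 9} (hij : i ≠ j) :
    triC i * triC j * (triC i * triC j) = tauC := by
  have key : ∀ {a b : Fin 9}, a < b → triC a * triC b * (triC a * triC b) = tauC :=
    fun hab => Subtype.ext (tri_rels.2 _ _ hab)
  rcases lt_or_gt_of_ne hij with h | h
  · exact key h
  · have e := key h
    have hc : triC i * tauC = tauC * triC i := Subtype.ext (tri_rels.1 i).2
    calc triC i * triC j * (triC i * triC j)
        = triC i * (triC j * triC i * (triC j * triC i)) * (triC i)⁻¹ := by group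
      _ = tauC := by rw [e, hc]; group

/-- The eleven points. -/
def pt11 : Fin 9 ⊕ Bool ≃ Fin 11 where
  toFun x := Sum.elim (fun i : Fin 9 => (⟨i, by omega⟩ : Fin 11)) (fun b : Bool => if b then 10 else 9) x
  invFun k := if h : (k : ℕ) < 9 then .inl ⟨k, h⟩ else .inr (decide ((k : ℕ) = 10))
  left_inv := by decide
  right_inv := by decide

/-- The three-cycle through the last two points and a point. -/
def tri11 (i : Fin 9) : alternatingGroup (Fin 11) :=
  pt11.altCongrHom ⟨PresSymAlt.tri i, PresSymAlt.tri_mem i⟩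

/-- The map onto the alternating group. -/
theorem exists_cover : ∃ π : CT →* alternatingGroup (Fin 11), Function.Surjective π ∧
    π.ker = Subgroup.zpowers tauC ∧ ∀ i, π (triC i) = tri11 i := by
  have := finite_ly
  set Z := Subgroup.zpowers tauC with hZdef
  have hZc : Z ≤ Subgroup.center CT := Subgroup.zpowers_le.2 (Subgroup.mem_center_iff.2 fun x =>
    Subtype.ext (Subgroup.mem_centralizer_singleton_iff.1 x.2))
  have : Z.Normal := ⟨fun n hn g => by
    rwa [Subgroup.mem_center_iff.1 (hZc hn) g, mul_inv_cancel_right]⟩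
  have hZcard : Nat.card Z = 2 := by
    rw [Nat.card_zpowers, ← Subgroup.orderOf_coe tauC]
    exact tau_order
  let y : Fin 9 → CT ⧸ Z := fun i => QuotientGroup.mk' Z (triC i)
  have hy : PresSymAlt.CarRel y := by
    refine ⟨fun i => ?_, fun i j hij => ?_⟩
    · simp only [y]
      rw [← map_pow, show triC i ^ 3 = 1 from Subtype.ext (tri_rels.1 i).1, map_one]
    · simp only [y]
      rw [← map_mul, ← map_pow, pow_two, triC_pair hij]
      exact (QuotientGroup.eq_one_iff _).2 (Subgroup.mem_zpowers _)
  obtain ⟨φ, hφ, -⟩ := PresSymAlt.carmichael hy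
  have : IsSimpleGroup (alternatingGroup (Fin 11)) :=
    alternatingGroup.isSimpleGroup (by norm_num [Fintype.card_fin])
  have : IsSimpleGroup (alternatingGroup (Fin 9 ⊕ Bool)) := pt11.altCongrHom.isSimpleGroup
  have hinj : Function.Injective φ := by
    refine (MonoidHom.ker_eq_bot_iff φ).1
      ((Subgroup.Normal.eq_bot_or_eq_top inferInstance).resolve_right fun h => ?_)
    have h0 : y 0 = 1 := by rw [← hφ 0, MonoidHom.mem_ker.1 (h ▸ Subgroup.mem_top _)]
    obtain ⟨k, hk⟩ := (QuotientGroup.eq_one_iff _).1 h0
    have hsq : tauC ^ 2 = 1 := Subtype.ext (by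
      show tau ^ 2 = 1
      rw [← tau_order]; exact pow_orderOf_eq_one tau)
    have h2 : triC 0 ^ 2 = 1 := by
      have hk' : tauC ^ k = triC 0 := hk
      rw [← hk', ← zpow_natCast, ← zpow_mul, mul_comm, zpow_mul, zpow_natCast, hsq, one_zpow]
    have h3 : triC 0 ^ 3 = 1 := Subtype.ext (tri_rels.1 0).1
    have h1 : triC 0 = 1 := by
      calc triC 0 = triC 0 ^ 3 * (triC 0 ^ 2)⁻¹ := by group
        _ = 1 := by rw [h2, h3]; group
    have e := triC_pair (i := 0) (j := 1) (by decide)
    rw [h1, one_mul] at e
    have hx3 : triC 1 ^ 3 = 1 := Subtype.ext (tri_rels.1 1).1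
    have hx : triC 1 * tauC = 1 := by
      rw [← e, ← mul_assoc, ← pow_two, ← pow_succ]; exact hx3
    have hx1 : tauC = 1 := by
      have hh : tauC = (triC 1)⁻¹ := eq_inv_of_mul_eq_one_right hx
      have h32 : tauC ^ 3 = 1 := by rw [hh, inv_pow, hx3, inv_one]
      calc tauC = tauC ^ 3 * (tauC ^ 2)⁻¹ := by group
        _ = 1 := by rw [h32, hsq]; group
    have := tau_order
    rw [show tau = 1 from congrArg Subtype.val hx1, orderOf_one] at this
    norm_num at this
  have hA : Nat.card (alternatingGroup (Fin 9 ⊕ Bool)) = 19958400 := by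
    haveI : Nontrivial (Fin 9 ⊕ Bool) := ⟨⟨.inr false, .inr true, by simp⟩⟩
    have := two_mul_nat_card_alternatingGroup (α := Fin 9 ⊕ Bool)
    rw [Nat.card_perm, Nat.card_sum] at this
    simp only [Nat.card_fin, Nat.card_eq_fintype_card (α := Bool), Fintype.card_bool] at this
    rw [show ((9 : ℕ) + 2).factorial = 39916800 from rfl] at this
    omega
  have hmul := Subgroup.card_eq_card_quotient_mul_card_subgroup Z
  rw [hZcard] at hmul
  have hbound : Nat.card CT ≤ 39916800 := card_cent_le
  have hbij : Function.Bijective φ := (Nat.bijective_iff_injective_and_card φ).2 ⟨hinj,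
    le_antisymm (Nat.card_le_card_of_injective φ hinj) (by omega)⟩
  refine ⟨(pt11.altCongrHom.toMonoidHom.comp
    (MulEquiv.ofBijective φ hbij).symm.toMonoidHom).comp (QuotientGroup.mk' Z), ?_, ?_, ?_⟩
  · exact (pt11.altCongrHom.surjective.comp (MulEquiv.ofBijective φ hbij).symm.surjective).comp
      (QuotientGroup.mk'_surjective Z)
  · ext x
    rw [MonoidHom.mem_ker]
    simp only [MonoidHom.coe_comp, MulEquiv.coe_toMonoidHom, Function.comp_apply,
      MulEquiv.map_eq_one_iff]
    exact QuotientGroup.eq_one_iff _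
  · intro i
    simp only [MonoidHom.coe_comp, MulEquiv.coe_toMonoidHom, Function.comp_apply, tri11]
    congr 1
    rw [MulEquiv.symm_apply_eq]
    exact (hφ i).symm

theorem card_tauC : Nat.card (Subgroup.zpowers tauC) = 2 := by
  rw [Nat.card_zpowers, ← Subgroup.orderOf_coe tauC]
  exact tau_order

/-- The centre of the centralizer. -/
theorem center_cent : Subgroup.center CT = Subgroup.zpowers tauC := by
  obtain ⟨π, hπ, hker, -⟩ := exists_cover
  refine le_antisymm (fun x hx => ?_) (Subgroup.zpowers_le.2 (Subgroup.mem_center_iff.2 fun x =>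
    Subtype.ext (Subgroup.mem_centralizer_singleton_iff.1 x.2)))
  rw [← hker, MonoidHom.mem_ker]
  have : IsSimpleGroup (alternatingGroup (Fin 11)) :=
    alternatingGroup.isSimpleGroup (by norm_num [Fintype.card_fin])
  have hqc : Subgroup.center (alternatingGroup (Fin 11)) = ⊥ := by
    refine (Subgroup.Normal.eq_bot_or_eq_top inferInstance).resolve_right fun h => ?_
    let _ : CommGroup (alternatingGroup (Fin 11)) :=
      { (inferInstance : Group (alternatingGroup (Fin 11))) with
        mul_comm := fun a b => Subgroup.mem_center_iff.1 (h ▸ Subgroup.mem_top b) a }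
    have hp := IsSimpleGroup.prime_card (α := alternatingGroup (Fin 11))
    have hc := two_mul_nat_card_alternatingGroup (α := Fin 11)
    rw [Nat.card_perm, Nat.card_fin] at hc
    rw [show Nat.card (alternatingGroup (Fin 11)) = 19958400 by
      rw [show Nat.factorial (11 : ℕ) = 39916800 from rfl] at hc; omega] at hp
    norm_num at hp
  have h1 : π x ∈ Subgroup.center (alternatingGroup (Fin 11)) := by
    refine Subgroup.mem_center_iff.2 fun g => ?_
    obtain ⟨u, rfl⟩ := hπ g
    rw [← map_mul, ← map_mul, Subgroup.mem_center_iff.1 hx u]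
  rwa [hqc, Subgroup.mem_bot] at h1

/-- The centralizer of the involution is a nonsplit double cover of the alternating group. -/
theorem cent_double_cover :
    IsNonsplitDoubleCover CT (alternatingGroup (Fin 11)) := by
  obtain ⟨π, hπ, hker, -⟩ := exists_cover
  have hcenter := center_cent
  set Z := Subgroup.zpowers tauC
  have hZcard : Nat.card Z = 2 := card_tauC
  refine ⟨by rw [hcenter, hZcard], ⟨(QuotientGroup.quotientMulEquivOfEq (hcenter.trans hker.symm)).trans
    (QuotientGroup.quotientKerEquivOfSurjective π hπ)⟩,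
    fun L hL => ?_⟩
  rw [hcenter] at hL
  have hidx : L.index = 2 := by
    rw [← hZcard]
    exact hL.index_eq_card
  have : L.Normal := Subgroup.normal_of_index_eq_two hidx
  have hmem : ∀ i, triC i ∈ L := fun i => by
    have h2 : triC i * triC i ∈ L := Subgroup.mul_self_mem_of_index_two hidx _
    have h4 : triC i ^ 4 = triC i := by
      rw [pow_succ, show triC i ^ 3 = 1 from Subtype.ext (tri_rels.1 i).1, one_mul]
    rw [← h4, show triC i ^ 4 = triC i * triC i * (triC i * triC i) by
      simp only [pow_succ, pow_zero, one_mul, mul_assoc]]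
    exact mul_mem h2 h2
  have hτL : tauC ∈ L := by
    rw [← triC_pair (i := 0) (j := 1) (by decide)]
    exact mul_mem (mul_mem (hmem 0) (hmem 1)) (mul_mem (hmem 0) (hmem 1))
  have hbot : tauC = 1 := by
    have h := hL.disjoint.le_bot ⟨Subgroup.mem_zpowers tauC, hτL⟩
    exact h
  have := tau_order
  rw [show tau = 1 from congrArg Subtype.val hbot, orderOf_one] at this
  norm_num at this

end Cfsg.Lib.LyReal
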