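import Cfsg.Agent.Lib.LyReal.Setup

/-!
# The checker of facts about cosets and its soundness
-/

set_option autoImplicit false
set_option maxRecDepth 20000

namespace Cfsg.Lib.LyReal

/-- A fact about cosets: with `zf` it reads `z w P_j = e w' P_k`, without it `w P_j = e w' P_k`. -/
structure Fct where
  /-- Whether `z` is applied. -/
  zf : Bool
  /-- The first point. -/
  j : ℕ
  /-- The first word. -/
  w : List ℕ
  /-- The second point. -/
  k : ℕ
  /-- The second word. -/
  w' : List ℕ
  /-- The scalar. -/
  e : List ℤ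

/-- A state: the coset `e w P_j`. -/
structure St where
  /-- The point. -/
  j : ℕ
  /-- The word. -/
  w : List ℕ
  /-- The scalar. -/
  e : List ℤ

/-- The use of a fact to apply `z`. -/
structure Step where
  /-- The fact. -/
  i : ℕ
  /-- The left part. -/
  c : List ℕ
  /-- The right part. -/
  ks : List ℕ

/-- A derivation. -/
inductive Cert where
  | seedK (i : ℕ)
  | seedT (k : ℕ)
  | scan (ri : ℕ) (x : St) (aw bw : List Step)
  | gap (ri : ℕ) (x : St) (aw bw : List Step) (c ks : List ℕ)
  | prop (i : ℕ) (c ks : List ℕ)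

/-- The empty fact. -/
def nilFct : Fct := ⟨false, 0, [], 0, [], vzero⟩

/-- Equality of scalars. -/
def eqE : List ℤ → List ℤ → Bool
  | [], [] => true
  | a :: x, b :: y => decide (a = b) && eqE x y
  | _, _ => false

theorem eqE_eq : ∀ {x y : List ℤ}, eqE x y = true → x = y
  | [], [], _ => rfl
  | a :: x, b :: y, h => by
    simp only [eqE, Bool.and_eq_true, decide_eq_true_eq] at h
    rw [h.1, eqE_eq h.2]
  | [], b :: y, h => by simp [eqE] at h
  | a :: x, [], h => by simp [eqE] at h

/-- All indices below eight. -/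
def cOK : List ℕ → Bool
  | [] => true
  | i :: c => Nat.blt i 8 && cOK c

theorem cOK_iff : ∀ {c : List ℕ}, cOK c = true → ∀ i ∈ c, i < 8
  | [], _, i, h => absurd h (List.not_mem_nil)
  | a :: c, h, i, hi => by
    simp only [cOK, Bool.and_eq_true, Nat.blt_eq] at h
    rcases List.mem_cons.1 hi with rfl | hi
    · exact h.1
    · exact cOK_iff h.2 i hi

/-- The element of a stabilizer given by a list of facts, with its scalar. -/
def kap (env : List Fct) (j : ℕ) : List ℕ → Option (List ℕ × List ℤ)
  | [] => some ([], vzero)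
  | i :: ks =>
    let f := getL nilFct env i
    if !f.zf && Nat.beq f.j j && Nat.beq f.k j && f.w'.isEmpty then
      (kap env j ks).map fun p => (f.w ++ p.1, vadd f.e p.2)
    else none

/-- The element of a stabilizer, the first point being fixed by all letters. -/
def kapJ (env : List Fct) (j : ℕ) (ks : List ℕ) : Option (List ℕ × List ℤ) :=
  if Nat.beq j 0 then (if lettersOK ks then some (ks, vzero) else none) else kap env j ks

/-- One application of `z`. -/
noncomputable def zstep (env : List Fct) (st : St) (s : Step) : Option St :=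
  match kapJ env st.j s.ks with
  | none => none
  | some (kw, kv) =>
    let f := getL nilFct env s.i
    if f.zf && Nat.beq f.j st.j && cOK s.c && eqW st.w (cw s.c ++ (f.w ++ kw)) then
      some ⟨f.k, cim s.c ++ f.w', vadd st.e (vadd (lam s.c) (vadd kv f.e))⟩
    else none

/-- A prefix word. -/
def pre (s : List ℕ) (st : St) : St := ⟨st.j, s ++ st.w, st.e⟩

/-- The right end of a relator. -/
noncomputable def runA (env : List Fct) (x : St) : List (List ℕ) → List Step → Option St
  | [s], [] => some (pre s x)
  | s :: rest, st :: sts => ((runA env x rest sts).bind fun A => zstep env A st).map (pre s)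
  | _, _ => none

/-- The left end of a relator. -/
noncomputable def runB (env : List Fct) : St → List (List ℕ) → List Step →
    Option (St × List (List ℕ))
  | B, segs, [] => some (B, segs)
  | B, s :: t :: rest, st :: sts =>
    if lettersOK s then
      (zstep env ⟨B.j, [6, 6] ++ (winv s ++ B.w), vsub B.e (vunit 8)⟩ st).bind fun B' =>
        runB env B' (t :: rest) sts
    else none
  | _, _, _ => none

/-- The fact given by a derivation. -/
noncomputable def derive (env : List Fct) (w : List ℕ) : Cert → Option Fct
  | .seedK i => if Nat.blt i 8 then some ⟨false, 1, getL [] c6 i, 1, [], vunit i⟩ else none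
  | .seedT k =>
    if Nat.blt k 4 then some ⟨true, getL 0 defJ k, getL [] defW k, k + 1, [], vzero⟩ else none
  | .scan ri x aw bw =>
    if Nat.blt ri 6 then
      (runB env ⟨x.j, x.w, vadd x.e (revec ri)⟩ (getL [] segsT ri) bw).bind fun p =>
      (runA env x p.2 aw).bind fun A =>
        if Nat.beq A.j p.1.j && lettersOK p.1.w then
          some ⟨false, A.j, winv p.1.w ++ A.w, A.j, [], vsub p.1.e A.e⟩ else none
    else none
  | .gap ri x aw bw c ks =>
    if Nat.blt ri 6 then
      (runB env ⟨x.j, x.w, vadd x.e (revec ri)⟩ (getL [] segsT ri) bw).bind fun p =>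
      match p.2 with
      | [] => none
      | s :: rest =>
        if rest.isEmpty then none else
        (runA env x rest aw).bind fun A =>
        (kapJ env A.j ks).bind fun q =>
          if lettersOK s && lettersOK (cim c) && cOK c && eqW A.w (cw c ++ (w ++ q.1)) then
            some ⟨true, A.j, w, p.1.j, winv (cim c) ++ (winv s ++ p.1.w),
              vsub p.1.e (vadd A.e (vadd (lam c) q.2))⟩
          else none
    else none
  | .prop i c ks =>
    let f := getL nilFct env i
    (kapJ env f.j ks).bind fun q =>
      if f.zf && cOK c && lettersOK f.w' && eqW (f.w ++ q.1) (cw c ++ f.w) then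
        some ⟨false, f.k, winv f.w' ++ (cim c ++ f.w'), f.k, [], vsub q.2 (lam c)⟩
      else none

/-- A stated fact follows from its derivation. -/
noncomputable def factOK (env : List Fct) (g : Fct) (ct : Cert) : Bool :=
  match derive env g.w ct with
  | none => false
  | some f => (f.zf == g.zf) && Nat.beq f.j g.j && Nat.beq f.k g.k && eqE f.e g.e &&
      eqW f.w g.w && eqW f.w' g.w'

/-- All facts follow, one after the other. -/
noncomputable def allOK : List Fct → List (Fct × Cert) → Bool
  | _, [] => true
  | env, (g, ct) :: rest => factOK env g ct && allOK (env ++ [g]) rest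

/-- A derivation of a fact which is already known gives an equation. -/
noncomputable def eqnOK (env : List Fct) (ct : Cert) (ks : List ℕ) (d : List ℤ) : Bool :=
  match derive env [] ct with
  | none => false
  | some f =>
    match kapJ env f.j ks with
    | none => false
    | some q => !f.zf && Nat.beq f.k f.j && f.w'.isEmpty && eqW f.w q.1 &&
        eqE (vsub f.e q.2) d

/-- Two words of the subgroup normalised by `z` give an equation. -/
noncomputable def ceqOK (a b : List ℕ) (d : List ℤ) : Bool :=
  cOK a && cOK b && eqW (cw a) (cw b) && lettersOK (ciw a) && lettersOK (ciw b) &&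
    eqE (vsub (lam a) (lam b)) d

namespace Sys

variable {Γ : Type*} [Group Γ] (S : Sys Γ)

/-- The same coset. -/
def R (x y : Γ) : Prop := x⁻¹ * y ∈ S.H

theorem R_refl (x : Γ) : S.R x x := by simp [R]

theorem R_symm {x y : Γ} (h : S.R x y) : S.R y x := by
  simpa [R] using inv_mem h

theorem R_trans {x y w : Γ} (h : S.R x y) (h' : S.R y w) : S.R x w := by
  have := mul_mem h h'
  simpa [R, mul_assoc] using this

theorem R_mul (a : Γ) {x y : Γ} (h : S.R x y) : S.R (a * x) (a * y) := by
  simpa [R, mul_assoc] using h

theorem R_cancel (a : Γ) {x y : Γ} (h : S.R (a * x) (a * y)) : S.R x y := by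
  simpa [R, mul_assoc] using h

theorem R_of_eq {x y : Γ} (h : x = y) : S.R x y := h ▸ S.R_refl x

/-- A fact holds. -/
def Holds (f : Fct) : Prop :=
  S.R ((if f.zf then S.z else 1) * (S.v f.w * S.P f.j)) (S.ev f.e * (S.v f.w' * S.P f.k))

/-- The coset of a state. -/
def pt (st : St) : Γ := S.ev st.e * (S.v st.w * S.P st.j)

theorem holds_nil : S.Holds nilFct := by
  simp [Holds, nilFct, S.ev_vzero, S.R_refl]

theorem holds_get {env : List Fct} (h : ∀ f ∈ env, S.Holds f) :
    ∀ i, S.Holds (getL nilFct env i) := by
  induction env with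
  | nil => intro i; exact S.holds_nil
  | cons f env ih =>
    intro i
    cases i with
    | zero => exact h f (by simp)
    | succ i => exact ih (fun g hg => h g (List.mem_cons_of_mem _ hg)) i

theorem kap_sound {env : List Fct} (h : ∀ f ∈ env, S.Holds f) {j : ℕ} :
    ∀ {ks : List ℕ} {q : List ℕ × List ℤ}, kap env j ks = some q →
      S.R (S.v q.1 * S.P j) (S.ev q.2 * S.P j)
  | [], q, hq => by
    simp only [kap, Option.some.injEq] at hq
    subst hq
    simp [S.ev_vzero, S.R_refl]
  | i :: ks, q, hq => by
    simp only [kap] at hq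
    split_ifs at hq with hc
    · obtain ⟨p, hp, rfl⟩ := Option.map_eq_some_iff.1 hq
      simp only [Bool.and_eq_true, Bool.not_eq_true', Nat.beq_eq, List.isEmpty_iff] at hc
      obtain ⟨⟨⟨hz, hj⟩, hk⟩, hw⟩ := hc
      have hf := S.holds_get h i
      simp only [Holds, hz, hj, hk, hw, v_nil, one_mul, Bool.false_eq_true, if_false] at hf
      have ih := kap_sound h hp
      simp only [v_append, S.ev_vadd]
      refine S.R_trans (S.R_of_eq (mul_assoc _ _ _)) (S.R_trans (S.R_mul _ ih) ?_)
      rw [← mul_assoc, S.ev_central, mul_assoc]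
      refine S.R_trans (S.R_mul _ hf) (S.R_of_eq ?_)
      rw [← mul_assoc, ← S.ev_central]

theorem kapJ_sound {env : List Fct} (h : ∀ f ∈ env, S.Holds f) {j : ℕ} {ks : List ℕ}
    {q : List ℕ × List ℤ} (hq : kapJ env j ks = some q) :
    S.R (S.v q.1 * S.P j) (S.ev q.2 * S.P j) := by
  simp only [kapJ] at hq
  split_ifs at hq with hj hl
  · simp only [Option.some.injEq] at hq
    subst hq
    obtain rfl := Nat.eq_of_beq_eq_true hj
    simp only [P, S.ev_vzero, mul_one]
    refine S.R_symm ?_
    simpa [R] using S.v_mem hl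
  · exact S.kap_sound h hq

theorem zstep_sound {env : List Fct} (h : ∀ f ∈ env, S.Holds f) {st st' : St} {s : Step}
    (hs : zstep env st s = some st') : S.R (S.z * S.pt st) (S.pt st') := by
  simp only [zstep] at hs
  split at hs
  · simp at hs
  · rename_i kw kv hk
    split_ifs at hs with hc
    · simp only [Option.some.injEq] at hs
      subst hs
      simp only [Bool.and_eq_true, Nat.beq_eq] at hc
      obtain ⟨⟨⟨hz, hj⟩, hcc⟩, he⟩ := hc
      have hf := S.holds_get h s.i
      simp only [Holds, hz, if_true] at hf
      have hκ := S.kapJ_sound h hk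
      have hm := S.z_move (cOK_iff hcc)
      simp only [pt]
      rw [S.v_eq he, v_append, v_append, v_append, S.ev_vadd, S.ev_vadd, S.ev_vadd, ← hj]
      rw [← hj] at hκ
      set C := S.ev (lam s.c)
      set f := getL nilFct env s.i
      have e1 : S.z * (S.ev st.e * (S.v (cw s.c) * (S.v f.w * S.v kw) * S.P f.j)) =
          S.ev st.e * C * S.v (cim s.c) * (S.z * (S.v f.w * (S.v kw * S.P f.j))) := by
        rw [← mul_assoc, S.ev_central, mul_assoc, ← mul_assoc S.z, ← mul_assoc S.z, hm]
        simp only [C, mul_assoc]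
      rw [e1]
      refine S.R_trans (S.R_mul _ (S.R_mul _ (S.R_mul _ hκ))) ?_
      rw [show S.z * (S.v f.w * (S.ev kv * S.P f.j)) = S.ev kv * (S.z * (S.v f.w * S.P f.j)) by
        rw [← mul_assoc (S.v f.w), S.ev_central, mul_assoc, ← mul_assoc, S.ev_central, mul_assoc]]
      refine S.R_trans (S.R_mul _ (S.R_mul _ hf)) (S.R_of_eq ?_)
      set A := S.v (cim s.c)
      calc S.ev st.e * C * A * (S.ev kv * (S.ev f.e * (S.v f.w' * S.P f.k)))
          = S.ev st.e * C * ((A * (S.ev kv * S.ev f.e)) * (S.v f.w' * S.P f.k)) := by group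
        _ = S.ev st.e * C * ((S.ev kv * S.ev f.e * A) * (S.v f.w' * S.P f.k)) := by
            rw [← mul_assoc A, S.ev_central kv A, mul_assoc (S.ev kv) A, S.ev_central f.e A,
              mul_assoc (S.ev kv) (S.ev f.e) A]
        _ = S.ev st.e * (C * (S.ev kv * S.ev f.e)) * (A * S.v f.w' * S.P f.k) := by group

theorem pt_pre (s : List ℕ) (st : St) : S.pt (pre s st) = S.v s * S.pt st := by
  simp only [pt, pre, v_append]
  rw [← mul_assoc (S.v s) (S.ev st.e), S.ev_central]
  simp [mul_assoc]

theorem runA_sound {env : List Fct} (h : ∀ f ∈ env, S.Holds f) {x : St} :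
    ∀ {segs : List (List ℕ)} {sts : List Step} {A : St}, runA env x segs sts = some A →
      S.R (S.items segs * S.pt x) (S.pt A)
  | [], [], A, hA => by simp [runA] at hA
  | [], _ :: _, A, hA => by simp [runA] at hA
  | [s], [], A, hA => by
    simp only [runA, Option.some.injEq] at hA
    subst hA
    rw [items_one, S.pt_pre]
    exact S.R_refl _
  | s :: t :: r, [], A, hA => by simp [runA] at hA
  | [s], st :: sts, A, hA => by
    simp only [runA, Option.map_eq_some_iff, Option.bind_eq_some_iff] at hA
    obtain ⟨B, ⟨C, hC, -⟩, -⟩ := hA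
    cases sts <;> simp [runA] at hC
  | s :: t :: r, st :: sts, A, hA => by
    simp only [runA, Option.map_eq_some_iff, Option.bind_eq_some_iff] at hA
    obtain ⟨B, ⟨C, hC, hB⟩, rfl⟩ := hA
    have ih := runA_sound h hC
    rw [items_cons, S.pt_pre, mul_assoc, mul_assoc]
    exact S.R_mul _ (S.R_trans (S.R_mul _ ih) (S.zstep_sound h hB))

theorem runB_sound {env : List Fct} (h : ∀ f ∈ env, S.Holds f) {x : Γ} :
    ∀ {B : St} {segs : List (List ℕ)} {sts : List Step} {p : St × List (List ℕ)},
      runB env B segs sts = some p → S.R (S.items segs * x) (S.pt B) →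
      S.R (S.items p.2 * x) (S.pt p.1)
  | B, segs, [], p, hp, hB => by
    simp only [runB, Option.some.injEq] at hp
    subst hp
    exact hB
  | B, [], _ :: _, p, hp, _ => by simp [runB] at hp
  | B, [_], _ :: _, p, hp, _ => by simp [runB] at hp
  | B, s :: t :: rest, st :: sts, p, hp, hB => by
    simp only [runB] at hp
    split_ifs at hp with hl
    · obtain ⟨B', hB', hp⟩ := Option.bind_eq_some_iff.1 hp
      refine runB_sound h hp (S.R_trans ?_ (S.zstep_sound h hB'))
      rw [items_cons] at hB
      have h1 : S.R (S.items (t :: rest) * x) (S.z⁻¹ * ((S.v s)⁻¹ * S.pt B)) := by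
        refine S.R_cancel S.z (S.R_cancel (S.v s) ?_)
        simpa [mul_assoc] using hB
      refine S.R_trans h1 (S.R_of_eq ?_)
      simp only [pt, S.ev_vsub, v_append, S.v_winv hl, S.z_inv]
      have hc := S.ev_central B.e
      calc S.z * S.v [6, 6] * (S.ev (vunit 8))⁻¹ * ((S.v s)⁻¹ * (S.ev B.e * (S.v B.w * S.P B.j)))
          = S.z * ((S.v [6, 6] * (S.ev (vunit 8))⁻¹ * (S.v s)⁻¹ * S.ev B.e) *
              (S.v B.w * S.P B.j)) := by group
        _ = S.z * ((S.ev B.e * (S.ev (vunit 8))⁻¹ * (S.v [6, 6] * (S.v s)⁻¹)) *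
              (S.v B.w * S.P B.j)) := by
            rw [← S.ev_vneg (vunit 8), hc, S.ev_central (vneg (vunit 8)) (S.v [6, 6]),
              mul_assoc (S.ev (vneg (vunit 8))), ← mul_assoc (S.ev B.e) (S.ev (vneg (vunit 8)))]
        _ = S.z * (S.ev B.e * (S.ev (vunit 8))⁻¹ *
              (S.v [6, 6] * ((S.v s)⁻¹ * S.v B.w) * S.P B.j)) := by group

/-- The start of a relator. -/
theorem start_sound {ri : ℕ} (hri : ri < 6) (x : St) :
    S.R (S.items (getL [] segsT ri) * S.pt x) (S.pt ⟨x.j, x.w, vadd x.e (revec ri)⟩) := by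
  refine S.R_of_eq ?_
  rw [S.relZ' hri]
  simp only [pt, S.ev_vadd]
  rw [← mul_assoc, ← S.ev_central (revec ri)]

end Sys

end Cfsg.Lib.LyReal
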