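/-! Generated data: double cosets. -/

set_option autoImplicit false
set_option maxRecDepth 20000

namespace Cfsg.Lib.LyReal

/-- The translates of record 0. -/
def moveT0 : List (List Nat × Nat × List Nat) :=
  [([], 6, []),
    ([], 6, [0]),
    ([], 6, [1]),
    ([], 6, [2]),
    ([], 6, [3]),
    ([], 6, [4]),
    ([], 6, [0, 0]),
    ([], 6, [0, 1]),
    ([], 6, [0, 2]),
    ([], 6, [0, 3]),
    ([], 6, [0, 4]),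
    ([], 6, [0, 6]),
    ([], 6, [1, 2]),
    ([], 6, [1, 4]),
    ([], 6, [1, 5]),
    ([], 6, [1, 6]),
    ([], 6, [2, 0]),
    ([], 6, [2, 1]),
    ([], 6, [2, 3]),
    ([], 6, [2, 5]),
    ([], 6, [3, 2]),
    ([], 6, [3, 4]),
    ([], 6, [4, 0]),
    ([], 6, [4, 1]),
    ([], 6, [4, 2]),
    ([], 6, [4, 4]),
    ([], 6, [0, 0, 0]),
    ([], 6, [0, 0, 2]),
    ([], 6, [0, 0, 3]),
    ([], 6, [0, 0, 4]),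
    ([], 6, [0, 1, 2]),
    ([], 6, [0, 1, 3]),
    ([], 6, [0, 1, 4]),
    ([], 6, [0, 1, 5]),
    ([], 6, [0, 1, 6]),
    ([], 6, [0, 2, 5]),
    ([], 6, [0, 3, 1]),
    ([], 6, [0, 3, 2]),
    ([], 6, [0, 3, 3]),
    ([], 6, [0, 3, 4]),
    ([], 6, [0, 4, 1]),
    ([], 6, [0, 4, 2]),
    ([], 6, [0, 4, 6]),
    ([], 6, [0, 6, 0]),
    ([], 6, [0, 6, 1]),
    ([], 6, [0, 6, 6]),
    ([], 6, [1, 2, 1]),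
    ([], 6, [1, 2, 3]),
    ([], 6, [1, 2, 4]),
    ([], 6, [1, 2, 6]),
    ([], 6, [1, 4, 0]),
    ([], 6, [1, 4, 2]),
    ([], 6, [1, 4, 4]),
    ([], 6, [1, 4, 5]),
    ([], 6, [1, 4, 6]),
    ([], 6, [1, 5, 0]),
    ([], 6, [1, 5, 2]),
    ([], 6, [1, 5, 5]),
    ([], 6, [1, 5, 6]),
    ([], 6, [1, 6, 0]),
    ([], 6, [1, 6, 1]),
    ([], 6, [2, 0, 5]),
    ([], 6, [2, 1, 0]),
    ([], 6, [2, 1, 3]),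
    ([], 6, [2, 1, 4]),
    ([], 6, [2, 1, 5]),
    ([], 6, [2, 1, 6]),
    ([], 6, [2, 3, 1]),
    ([], 6, [2, 3, 3]),
    ([], 6, [2, 3, 5]),
    ([], 6, [2, 5, 0]),
    ([], 6, [2, 5, 1]),
    ([], 6, [2, 5, 2]),
    ([], 6, [3, 2, 3]),
    ([], 6, [3, 2, 5]),
    ([], 6, [3, 4, 0]),
    ([], 6, [3, 4, 1]),
    ([], 6, [3, 4, 2]),
    ([], 6, [3, 4, 4]),
    ([], 6, [4, 0, 0]),
    ([], 6, [4, 0, 1]),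
    ([], 6, [4, 0, 3]),
    ([], 6, [4, 1, 0]),
    ([], 6, [4, 1, 4]),
    ([], 6, [4, 1, 6]),
    ([], 6, [4, 2, 3]),
    ([], 6, [4, 2, 5]),
    ([], 6, [4, 4, 4]),
    ([], 6, [0, 0, 0, 3]),
    ([], 6, [0, 0, 0, 6]),
    ([], 6, [0, 0, 2, 1]),
    ([], 6, [0, 0, 2, 3]),
    ([], 6, [0, 0, 3, 2]),
    ([], 6, [0, 0, 3, 3]),
    ([], 6, [0, 0, 3, 4]),
    ([], 6, [0, 0, 4, 1]),
    ([], 6, [0, 0, 4, 4]),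
    ([], 6, [0, 1, 2, 3]),
    ([], 6, [0, 1, 2, 4]),
    ([], 6, [0, 1, 2, 5]),
    ([], 6, [0, 1, 2, 6]),
    ([], 6, [0, 1, 3, 5]),
    ([], 6, [0, 1, 3, 6]),
    ([], 6, [0, 1, 4, 4]),
    ([], 6, [0, 1, 4, 5]),
    ([], 6, [0, 1, 5, 0]),
    ([], 6, [0, 1, 5, 5]),
    ([], 6, [0, 1, 6, 6]),
    ([], 6, [0, 2, 5, 2]),
    ([], 6, [0, 3, 1, 4]),
    ([], 6, [0, 3, 2, 0]),
    ([], 6, [0, 3, 2, 6]),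
    ([], 6, [0, 3, 3, 1]),
    ([], 6, [0, 3, 3, 2]),
    ([], 6, [0, 3, 4, 2]),
    ([], 6, [0, 4, 1, 2]),
    ([], 6, [0, 4, 1, 3]),
    ([], 6, [0, 4, 1, 4]),
    ([], 6, [0, 4, 1, 5]),
    ([], 6, [0, 4, 1, 6]),
    ([], 6, [0, 4, 6, 0]),
    ([], 6, [0, 4, 6, 6]),
    ([], 6, [0, 6, 0, 3]),
    ([], 6, [0, 6, 1, 0]),
    ([], 6, [0, 6, 6, 0]),
    ([], 6, [1, 2, 3, 1]),
    ([], 6, [1, 2, 3, 4]),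
    ([], 6, [1, 2, 6, 0]),
    ([], 6, [1, 4, 0, 1]),
    ([], 6, [1, 4, 0, 5]),
    ([], 6, [1, 4, 2, 4]),
    ([], 6, [1, 4, 5, 5]),
    ([], 6, [1, 4, 6, 1]),
    ([], 6, [1, 5, 0, 2]),
    ([], 6, [1, 5, 0, 3]),
    ([], 6, [1, 5, 0, 5]),
    ([], 6, [1, 5, 2, 0]),
    ([], 6, [1, 5, 2, 3]),
    ([], 6, [1, 5, 5, 0]),
    ([], 6, [1, 5, 6, 0]),
    ([], 6, [1, 6, 0, 2]),
    ([], 6, [2, 1, 3, 3]),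
    ([], 6, [2, 1, 3, 4]),
    ([], 6, [2, 1, 3, 5]),
    ([], 6, [2, 1, 3, 6]),
    ([], 6, [2, 1, 4, 5]),
    ([], 6, [2, 3, 1, 5]),
    ([], 6, [2, 3, 3, 1]),
    ([], 6, [4, 0, 3, 1]),
    ([], 6, [0, 0, 2, 1, 6])]

end Cfsg.Lib.LyReal
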