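/-! Generated data: double cosets. -/

set_option autoImplicit false
set_option maxRecDepth 20000

namespace Cfsg.Lib.LyReal

/-- The translates of record 1. -/
def moveT1 : List (List Nat × Nat × List Nat) :=
  [([2, 4, 1, 0], 6, [3, 5, 2, 3, 5, 1]),
    ([0, 6, 4, 0], 6, [0, 5, 5, 0, 1, 2, 7, 0]),
    ([2, 4, 1, 0], 6, [0, 1, 0, 5, 0, 6, 0, 2, 1]),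
    ([2, 4, 1, 0], 6, [0, 0, 0, 5, 0, 2, 1, 3, 6, 0]),
    ([2, 4, 1, 0], 6, [2, 5, 6, 1, 3, 5]),
    ([2, 4, 1, 0], 6, [3, 2, 5, 1, 5]),
    ([2, 4, 1, 0], 6, [0, 0, 3, 6, 5, 2, 1]),
    ([0, 6, 4, 0], 6, [7, 0, 5, 5, 2]),
    ([0, 6, 4, 0], 6, [6, 1, 3, 7, 2, 4]),
    ([0, 6, 4, 0], 6, [0, 0, 5, 1, 2, 0, 4, 4]),
    ([0, 6, 4, 0], 6, [2, 6, 1, 2, 1, 0, 3]),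
    ([0, 6, 4, 0], 6, [0, 6, 6, 0, 1, 2, 0]),
    ([2, 4, 1, 0], 6, [0, 1, 0, 5, 0, 6, 2, 0, 1, 0]),
    ([2, 4, 1, 0], 6, [1, 0, 6, 1, 6, 0, 0, 2, 1]),
    ([2, 4, 1, 0], 6, [0, 0, 0, 1, 6, 0, 2, 7, 1]),
    ([2, 4, 1, 0], 6, [0, 1, 0, 5, 2, 5, 0, 0, 1]),
    ([0, 6, 4, 0], 6, [0, 0, 0, 5, 0, 7, 1, 2]),
    ([2, 4, 1, 0], 6, [1, 2, 0, 6, 5, 2, 7]),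
    ([2, 4, 1, 0], 6, [0, 0, 0, 3, 5, 0, 2, 1, 0, 4]),
    ([2, 4, 1, 0], 6, [0, 0, 1, 5, 2, 1, 3, 2, 0, 5]),
    ([2, 4, 1, 0], 6, [0, 0, 2, 0, 3, 1, 6, 0, 1]),
    ([2, 4, 1, 0], 6, [4, 6, 2, 5, 1]),
    ([0, 6, 4, 0], 6, [1, 2, 0, 6, 5, 0, 0, 4]),
    ([2, 4, 1, 0], 6, [0, 0, 0, 4, 5, 1, 0, 3, 2, 1]),
    ([2, 4, 1, 0], 6, [0, 0, 0, 0, 3, 4, 2, 4, 1, 0]),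
    ([2, 4, 1, 0], 6, [2, 1, 6, 3, 6, 6]),
    ([0, 6, 4, 0], 6, [3, 1, 0, 7, 2, 6, 6]),
    ([2, 4, 1, 0], 6, [0, 2, 1, 0, 5, 1, 3, 4]),
    ([2, 4, 1, 0], 6, [0, 0, 2, 4, 4, 1]),
    ([2, 4, 1, 0], 6, [0, 0, 6, 3, 2, 1, 6]),
    ([0, 6, 4, 0], 6, [0, 0, 3, 2, 5, 3]),
    ([0, 6, 4, 0], 6, [0, 4, 4, 2, 3, 6]),
    ([0, 6, 4, 0], 6, [0, 2, 4, 5, 4, 4]),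
    ([0, 6, 4, 0], 6, [4, 0, 2, 3, 6, 6, 3]),
    ([0, 6, 4, 0], 6, [0, 3, 4, 2, 6, 6]),
    ([0, 6, 4, 0], 6, [1, 3, 3, 3, 2, 5, 3]),
    ([0, 6, 4, 0], 6, [0, 6, 6, 2, 5, 7]),
    ([0, 6, 4, 0], 6, [1, 3, 2, 4, 4, 6]),
    ([0, 6, 4, 0], 6, [1, 3, 2, 5, 1, 5, 1, 0]),
    ([0, 6, 4, 0], 6, [1, 4, 6, 0, 0, 2, 4, 0]),
    ([0, 6, 4, 0], 6, [0, 3, 5, 2, 4]),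
    ([0, 6, 4, 0], 6, [4, 6, 1, 5, 5, 2]),
    ([0, 6, 4, 0], 6, [1, 0, 5, 0, 2, 5, 7, 0]),
    ([2, 4, 1, 0], 6, [1, 3, 2, 6, 1, 4, 2]),
    ([0, 6, 4, 0], 6, [0, 6, 6, 2]),
    ([0, 6, 4, 0], 6, [0, 0, 4, 6, 3, 1, 2, 0]),
    ([2, 4, 1, 0], 6, [0, 0, 3, 6, 5, 0, 0, 1]),
    ([2, 4, 1, 0], 6, [0, 0, 0, 1, 2, 4, 5, 1, 4, 0, 1]),
    ([2, 4, 1, 0], 6, [0, 0, 0, 1, 2, 0, 1, 0, 3, 5, 5]),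
    ([2, 4, 1, 0], 6, [0, 2, 0, 1, 2, 6, 0, 1, 4, 2]),
    ([5, 3], 6, [0, 5, 4, 0, 2, 1, 0, 4]),
    ([2, 4, 1, 0], 6, [1, 0, 6, 1, 6, 0, 2, 0, 1, 0]),
    ([2, 4, 1, 0], 6, [0, 1, 0, 2, 1, 5, 2, 4, 2]),
    ([2, 4, 1, 0], 6, [1, 2, 1, 0, 5, 1, 7, 2, 0]),
    ([2, 4, 1, 0], 6, [0, 5, 0, 0, 6, 1, 0, 2, 1]),
    ([5, 3], 6, [0, 0, 5, 2, 1, 5, 0]),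
    ([2, 4, 1, 0], 6, [0, 0, 0, 1, 6, 2, 0, 7, 1, 0]),
    ([2, 4, 1, 0], 6, [0, 0, 0, 1, 0, 5, 2, 1, 6, 7]),
    ([2, 4, 1, 0], 6, [0, 1, 0, 2, 5, 0, 0, 7, 1]),
    ([5, 3], 6, [0, 0, 2, 4, 4, 1, 0, 5]),
    ([2, 4, 1, 0], 6, [1, 5, 1, 7, 2, 5, 1]),
    ([0, 6, 4, 0], 6, [1, 2, 0, 2, 6, 2, 0, 3]),
    ([3, 2, 1, 0], 6, [6, 2, 6, 0, 1, 0, 2]),
    ([2, 4, 1, 0], 6, [1, 2, 0, 6, 2, 3, 4, 3]),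
    ([2, 4, 1, 0], 6, [1, 6, 6, 2, 6, 0, 2]),
    ([2, 4, 1, 0], 6, [1, 2, 5, 6, 6, 0, 4, 2]),
    ([2, 4, 1, 0], 6, [4, 1, 2, 0, 6, 5, 2]),
    ([2, 4, 1, 0], 6, [1, 2, 0, 6, 6, 2, 5, 4]),
    ([2, 4, 1, 0], 6, [0, 2, 5, 1, 2, 0, 2, 3, 1]),
    ([2, 4, 1, 0], 6, [0, 0, 0, 0, 6, 7, 2, 4, 1, 0]),
    ([0, 6, 4, 0], 6, [0, 0, 0, 6, 0, 5, 1, 2]),
    ([2, 4, 1, 0], 6, [1, 3, 5, 2, 0, 2, 6]),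
    ([2, 4, 1, 0], 6, [1, 3, 2, 1, 5, 2, 4]),
    ([2, 4, 1, 0], 6, [0, 0, 0, 0, 2, 1, 3, 4, 0, 3]),
    ([2, 4, 1, 0], 6, [0, 0, 1, 6, 5, 1, 2, 1, 0, 5]),
    ([0, 6, 4, 0], 6, [0, 5, 0, 5, 1, 2, 0, 4]),
    ([2, 4, 1, 0], 6, [1, 0, 4, 0, 4, 0, 1, 2, 1]),
    ([2, 4, 1, 0], 6, [1, 0, 4, 0, 2, 1, 3, 2, 0]),
    ([2, 4, 1, 0], 6, [2, 4, 5, 1, 3, 6]),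
    ([2, 4, 1, 0], 6, [3, 2, 5, 1, 5, 0, 0]),
    ([0, 6, 4, 0], 6, [0, 6, 5, 2, 5, 5, 5]),
    ([0, 6, 4, 0], 6, [4, 5, 1, 0, 4, 0, 2, 0]),
    ([5, 3], 6, [0, 0, 2, 1, 6, 7, 0, 6]),
    ([2, 4, 1, 0], 6, [0, 1, 0, 3, 1, 2, 1, 3, 2, 5]),
    ([2, 4, 1, 0], 6, [0, 1, 0, 2, 1, 5, 1, 4, 1]),
    ([2, 4, 1, 0], 6, [0, 0, 0, 6, 0, 2, 7, 1, 6, 0]),
    ([2, 4, 1, 0], 6, [0, 6, 0, 2, 0, 1, 0, 3, 1]),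
    ([2, 4, 1, 0], 6, [5, 2, 3, 1]),
    ([0, 6, 4, 0], 6, [1, 4, 0, 5, 2, 6]),
    ([0, 6, 4, 0], 6, [1, 4, 0, 2, 3, 5, 3]),
    ([2, 4, 1, 0], 6, [6, 1, 3, 7, 0, 6]),
    ([2, 4, 1, 0], 6, [0, 2, 5, 1, 4, 0, 1]),
    ([2, 4, 1, 0], 6, [0, 5, 2, 1, 0, 5, 1]),
    ([2, 4, 1, 0], 6, [2, 6, 2, 6, 5, 2, 1]),
    ([2, 4, 1, 0], 6, [2, 0, 6, 0, 5, 4, 1]),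
    ([2, 4, 1, 0], 6, [1, 2, 0, 4, 6, 1, 5, 2]),
    ([2, 4, 1, 0], 6, [2, 1, 5, 0, 0, 7]),
    ([0, 6, 4, 0], 6, [3, 4, 2, 0, 5, 0]),
    ([0, 6, 4, 0], 6, [4, 5, 1, 3, 1, 2]),
    ([0, 6, 4, 0], 6, [1, 6, 6, 5, 1, 4, 2]),
    ([0, 6, 4, 0], 6, [2, 3, 2, 5, 6, 2]),
    ([0, 6, 4, 0], 6, [4, 0, 2, 4, 5, 4]),
    ([0, 6, 4, 0], 6, [4, 7, 0, 2]),
    ([0, 6, 4, 0], 6, [3, 4, 0, 2, 6]),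
    ([0, 6, 4, 0], 6, [0, 2, 3, 4, 4, 4]),
    ([5, 3], 6, [0, 0, 4, 1, 5, 0, 0, 0]),
    ([0, 6, 4, 0], 6, [4, 0, 3, 5, 2, 5, 6]),
    ([0, 6, 4, 0], 6, [0, 5, 2, 6, 6, 3]),
    ([0, 6, 4, 0], 6, [1, 0, 4, 4, 5, 2, 7]),
    ([0, 6, 4, 0], 6, [0, 4, 2, 6, 6]),
    ([2, 4, 1, 0], 6, [0, 0, 6, 3, 2, 1, 6, 0]),
    ([0, 6, 4, 0], 6, [1, 7, 2, 5, 5, 4]),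
    ([0, 6, 4, 0], 6, [0, 4, 6, 3, 2, 4]),
    ([0, 6, 4, 0], 6, [3, 5, 7, 1, 4, 2, 3]),
    ([0, 6, 4, 0], 6, [1, 4, 6, 2, 4, 4]),
    ([0, 6, 4, 0], 6, [0, 6, 0, 4, 2, 7]),
    ([0, 6, 4, 0], 6, [6, 0, 6, 7, 2, 7]),
    ([0, 6, 4, 0], 6, [0, 2, 6, 6, 5, 4]),
    ([0, 6, 4, 0], 6, [0, 4, 4, 4, 3, 4, 2]),
    ([0, 6, 4, 0], 6, [0, 4, 5, 2, 6]),
    ([2, 4, 1, 0], 6, [3, 2, 0, 5, 0, 1]),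
    ([0, 6, 4, 0], 6, [0, 0, 1, 6, 2, 6, 0]),
    ([2, 4, 1, 0], 6, [0, 0, 2, 4, 4, 1, 5]),
    ([5, 3], 6, [0, 1, 2, 4, 6, 2, 0, 3, 1]),
    ([2, 4, 1, 0], 6, [1, 3, 1, 2, 3, 6, 1]),
    ([2, 4, 1, 0], 6, [0, 1, 0, 5, 1, 5, 6, 0]),
    ([2, 4, 1, 0], 6, [0, 0, 0, 3, 1, 2, 0, 1, 0, 3]),
    ([5, 3], 6, [0, 0, 0, 0, 2, 4, 1, 5]),
    ([5, 3], 6, [0, 0, 1, 0, 5, 4, 0, 0]),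
    ([5, 3], 6, [5, 2, 1, 0, 2, 4, 2]),
    ([2, 4, 1, 0], 6, [0, 0, 2, 1, 0, 6, 1, 2, 3, 1]),
    ([2, 4, 1, 0], 6, [1, 2, 1, 0, 6, 1, 2, 5, 0]),
    ([2, 4, 1, 0], 6, [0, 0, 2, 1, 5, 5, 3]),
    ([5, 3], 6, [2, 3, 1, 6, 3]),
    ([5, 3], 6, [1, 3, 1, 2, 5, 1, 0]),
    ([5, 3], 6, [1, 2, 1, 4, 2, 0, 4, 3]),
    ([5, 3], 6, [0, 0, 5, 2, 1, 5, 0, 0]),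
    ([2, 4, 1, 0], 6, [0, 2, 1, 0, 5, 0, 2, 0, 4, 1]),
    ([5, 3], 6, [2, 0, 5, 5, 7, 0, 1, 0]),
    ([5, 3], 6, [0, 0, 3, 2, 3, 4, 1, 0]),
    ([5, 3], 6, [3, 3, 2, 1, 6, 3, 4]),
    ([2, 4, 1, 0], 6, [1, 6, 2, 0, 2, 6, 5, 5]),
    ([2, 4, 1, 0], 6, [1, 6, 3, 2, 0, 3, 2]),
    ([2, 4, 1, 0], 6, [4, 1, 4, 2, 5, 0, 2]),
    ([2, 4, 1, 0], 6, [1, 2, 4, 0, 2, 4, 7]),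
    ([2, 4, 1, 0], 6, [1, 4, 3, 3, 2, 0, 2]),
    ([2, 4, 1, 0], 6, [1, 2, 4, 6, 0, 2, 5, 7]),
    ([2, 4, 1, 0], 6, [1, 2, 6, 0, 2, 6, 3, 6]),
    ([0, 6, 4, 0], 6, [4, 5, 0, 2, 3]),
    ([2, 4, 1, 0], 6, [1, 0, 5, 6, 5, 6])]

end Cfsg.Lib.LyReal
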