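/-! Generated data: double cosets. -/

set_option autoImplicit false
set_option maxRecDepth 20000

namespace Cfsg.Lib.LyReal

/-- The translates of record 4. -/
def moveT4 : List (List Nat × Nat × List Nat) :=
  [([1, 3, 2, 6, 3, 0], 16, [4981]),
    ([1, 3, 2, 6, 3, 0], 16, [743]),
    ([1, 3, 2, 6, 3, 0], 16, [2647]),
    ([1, 3, 2, 6, 3, 0], 16, [4100]),
    ([0, 5, 5, 4, 2, 0], 16, [2126]),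
    ([2, 5, 0, 6, 4, 2, 0], 15, [103]),
    ([1, 3, 2, 6, 3, 0], 16, [4914]),
    ([1, 3, 2, 6, 3, 0], 16, [2519]),
    ([1, 3, 2, 6, 3, 0], 16, [3212]),
    ([2, 0, 7, 2, 1, 4, 0, 2, 0], 10, [2135]),
    ([0, 5, 5, 4, 2, 0], 16, [3494]),
    ([0, 1, 3, 2, 6, 5, 4], 10, [4776]),
    ([1, 3, 2, 6, 3, 0], 16, [5385]),
    ([1, 6, 4, 1, 6, 0, 0, 0, 0], 10, [974]),
    ([0, 1, 2, 5, 0, 3, 0, 0, 0], 10, [2765]),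
    ([4, 3, 1, 0, 6, 2, 1], 10, [907]),
    ([1, 3, 2, 6, 3, 0], 16, [2614]),
    ([1, 3, 2, 6, 3, 0], 16, [3317]),
    ([4, 3, 5, 1, 5, 0, 2, 1], 10, [1132]),
    ([1, 2, 3, 0, 1, 3, 3, 5], 10, [5353]),
    ([0, 5, 5, 4, 2, 0], 16, [1771]),
    ([2, 3, 1, 0, 2, 0, 3, 0, 2], 10, [3314]),
    ([2, 5, 0, 6, 4, 2, 0], 15, [605]),
    ([2, 5, 0, 6, 4, 2, 0], 15, [2840]),
    ([2, 5, 0, 6, 4, 2, 0], 15, [1022]),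
    ([2, 0, 7, 2, 1, 4, 0, 2, 0], 10, [3756]),
    ([1, 3, 2, 6, 3, 0], 16, [2329]),
    ([1, 3, 2, 6, 3, 0], 16, [4393]),
    ([2, 6, 6, 0, 1, 3, 2], 16, [3743]),
    ([2, 0, 7, 2, 1, 4, 0, 2, 0], 10, [5329]),
    ([1, 3, 2, 6, 3, 0], 16, [2044]),
    ([2, 6, 1, 0, 3, 3], 15, [5029]),
    ([1, 0, 0, 6, 5, 0, 2, 4, 1], 10, [5638]),
    ([1, 2, 3, 1, 2, 0, 5, 0, 0], 10, [3630]),
    ([1, 5, 2, 1, 0, 3, 1, 0], 10, [478]),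
    ([6, 5, 0, 0, 3, 3], 15, [2371]),
    ([2, 0, 7, 2, 1, 4, 0, 2, 0], 10, [1088]),
    ([2, 0, 7, 2, 1, 4, 0, 2, 0], 10, [2224]),
    ([1, 6, 0, 6, 0, 1, 3], 10, [1148]),
    ([5, 1, 0, 6, 6, 2, 1], 15, [570]),
    ([0, 5, 5, 4, 2, 0], 16, [4948]),
    ([0, 5, 5, 4, 2, 0], 16, [5298]),
    ([7, 0, 5, 0, 3], 15, [4517]),
    ([0, 1, 3, 2, 6, 5, 4], 10, [3620]),
    ([0, 1, 3, 2, 6, 5, 4], 10, [4613]),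
    ([2, 6, 0, 7, 6, 2, 0], 10, [3205]),
    ([1, 3, 2, 6, 3, 0], 16, [1858]),
    ([1, 0, 0, 6, 5, 0, 2, 4, 1], 10, [2522]),
    ([3, 4, 1, 0, 3], 9, [5799]),
    ([3, 4, 1, 2, 0, 1, 3, 0, 0], 10, [611]),
    ([1, 6, 4, 1, 6, 0, 0, 0, 0], 10, [3701]),
    ([1, 6, 4, 1, 6, 0, 0, 0, 0], 10, [4964]),
    ([1, 5, 6, 2, 0, 3, 1, 0, 0], 10, [4519]),
    ([0, 1, 4, 1, 4, 0], 15, [5766]),
    ([7, 0, 3, 2, 3, 1, 2, 1], 10, [22]),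
    ([0, 1, 2, 5, 0, 3, 0, 0, 0], 10, [3583]),
    ([0, 1, 2, 5, 0, 3, 0, 0, 0], 10, [1639]),
    ([7, 2, 4, 2, 3, 0, 0], 10, [5177]),
    ([2, 6, 4, 1, 5, 0], 10, [1130]),
    ([4, 3, 1, 0, 6, 2, 1], 10, [2047]),
    ([4, 3, 1, 0, 6, 2, 1], 10, [1098]),
    ([0, 0, 5, 0, 7, 0, 0, 0], 10, [432]),
    ([1, 3, 2, 6, 3, 0], 16, [354]),
    ([2, 5, 0, 6, 4, 2, 0], 15, [4601]),
    ([5, 1, 6, 0, 3, 2, 1], 15, [1071]),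
    ([2, 1, 0, 3, 3, 2, 3, 1, 0], 10, [3619]),
    ([2, 4, 5, 6, 1, 6, 0], 10, [1096]),
    ([4, 3, 5, 1, 5, 0, 2, 1], 10, [1379]),
    ([2, 6, 1, 0, 3, 3], 15, [1561]),
    ([3, 1, 4, 5, 5], 9, [453]),
    ([1, 2, 3, 0, 1, 3, 3, 5], 10, [3600]),
    ([1, 2, 3, 0, 1, 3, 3, 5], 10, [1908]),
    ([1, 2, 3, 0, 1, 3, 3, 5], 10, [5466]),
    ([2, 0, 7, 2, 5, 1, 0, 2, 0], 10, [885]),
    ([0, 1, 3, 2, 6, 5, 4], 10, [3628]),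
    ([2, 3, 1, 0, 2, 0, 3, 0, 2], 10, [4446]),
    ([2, 3, 1, 0, 2, 0, 3, 0, 2], 10, [5554]),
    ([2, 3, 1, 0, 2, 0, 3, 0, 2], 10, [2291]),
    ([6, 1, 0, 5, 2, 1], 15, [5258]),
    ([2, 5, 0, 6, 4, 2, 0], 15, [4674]),
    ([2, 5, 0, 6, 4, 2, 0], 15, [218]),
    ([4, 5, 5, 4, 1, 2, 0, 1], 10, [4831]),
    ([2, 5, 0, 6, 4, 2, 0], 15, [4740]),
    ([0, 5, 5, 2, 0, 1, 4, 0], 10, [1027]),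
    ([2, 3, 2, 5, 4], 10, [4447]),
    ([6, 2, 5, 2, 5], 10, [5060]),
    ([0, 1, 3, 4, 1, 5, 0], 10, [1863]),
    ([4, 5, 5, 4, 1, 2, 0, 1], 10, [3203]),
    ([1, 6, 0, 6, 0, 1, 3], 10, [3878]),
    ([2, 6, 0, 7, 6, 2, 0], 10, [1179]),
    ([1, 3, 2, 6, 3, 0], 16, [3162]),
    ([2, 6, 1, 0, 3, 3], 15, [938]),
    ([2, 6, 6, 0, 1, 3, 2], 16, [3738]),
    ([3, 4, 1, 0, 3], 9, [1556]),
    ([2, 6, 0, 6, 0, 3, 1, 0], 10, [3288]),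
    ([2, 0, 7, 2, 1, 4, 0, 2, 0], 10, [2416]),
    ([1, 6, 0, 6, 0, 1, 3], 10, [5313]),
    ([1, 5, 6, 2, 0, 3, 1, 0, 0], 10, [5849]),
    ([4, 5, 5, 4, 1, 2, 0, 1], 10, [1065]),
    ([1, 5, 1, 7, 0, 0], 10, [3974]),
    ([1, 0, 2, 6, 0, 1, 4, 0, 2], 10, [1024]),
    ([0, 6, 6, 3, 4], 9, [3887]),
    ([2, 4, 5, 4, 4, 2], 10, [1663]),
    ([5, 1, 6, 0, 3, 2, 1], 15, [2655]),
    ([3, 1, 0, 6, 2, 7, 1], 10, [3274]),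
    ([1, 2, 3, 1, 2, 0, 5, 0, 0], 10, [5488]),
    ([5, 2, 6, 1, 0, 0, 6, 0], 10, [4221]),
    ([1, 6, 6, 6, 6, 1], 15, [4508]),
    ([6, 5, 0, 0, 3, 3], 15, [1888]),
    ([1, 2, 5, 4, 1, 0, 2], 10, [5212]),
    ([2, 0, 7, 2, 1, 4, 0, 2, 0], 10, [338]),
    ([3, 1, 0, 7, 3], 9, [5253]),
    ([1, 6, 0, 6, 0, 1, 3], 10, [1558]),
    ([1, 6, 0, 6, 0, 1, 3], 10, [1960]),
    ([5, 1, 0, 6, 6, 2, 1], 15, [1401]),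
    ([0, 5, 5, 4, 2, 0], 16, [5632]),
    ([5, 5, 2, 7, 3, 1, 0], 10, [887]),
    ([2, 0, 2, 7, 4, 1, 2], 10, [3155]),
    ([7, 2, 5, 0, 2, 4, 0], 10, [318]),
    ([0, 6, 6, 5, 1, 2, 0, 0], 10, [2367]),
    ([7, 0, 5, 0, 3], 15, [2724]),
    ([1, 0, 7, 2, 1, 0, 5, 0], 10, [845]),
    ([0, 5, 2, 6, 4, 0, 1, 0], 10, [609]),
    ([0, 1, 3, 2, 6, 5, 4], 10, [2277]),
    ([2, 6, 0, 7, 6, 2, 0], 10, [3470]),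
    ([1, 0, 0, 6, 5, 0, 2, 4, 1], 10, [4581]),
    ([2, 7, 0, 6, 4, 2, 0], 10, [5896]),
    ([3, 4, 1, 2, 0, 1, 3, 0, 0], 10, [2760]),
    ([1, 6, 4, 1, 6, 0, 0, 0, 0], 10, [1409]),
    ([5, 5, 0, 1, 5, 6, 2], 10, [5265]),
    ([1, 2, 4, 1, 7, 6, 2, 0], 10, [3929]),
    ([1, 5, 0, 1, 5, 5, 1, 2, 1], 10, [5179]),
    ([7, 0, 3, 2, 3, 1, 2, 1], 10, [2024]),
    ([0, 1, 2, 5, 0, 3, 0, 0, 0], 10, [843]),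
    ([0, 2, 5, 3, 2, 0, 2, 1, 0], 10, [5448]),
    ([0, 2, 0, 1, 5, 6, 5, 0], 10, [5969]),
    ([0, 1, 2, 5, 0, 3, 0, 0, 0], 10, [1146]),
    ([0, 2, 6, 0, 3, 1, 5, 0], 10, [3804]),
    ([7, 2, 4, 2, 3, 0, 0], 10, [86]),
    ([2, 6, 4, 1, 5, 0], 10, [2912]),
    ([4, 3, 1, 0, 6, 2, 1], 10, [3920]),
    ([2, 0, 7, 2, 1, 4, 0, 2, 0], 10, [2688]),
    ([0, 6, 1, 2, 7, 3], 10, [5391]),
    ([0, 3, 0, 5, 6, 0, 0, 0, 0], 10, [1181]),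
    ([5, 5, 5, 1, 4], 9, [3791]),
    ([3, 6, 0, 0, 3], 10, [5869]),
    ([6, 0, 6, 6, 4, 0], 15, [4028]),
    ([2, 6, 1, 0, 3, 3], 15, [4863]),
    ([4, 5, 5, 4, 1, 2, 0, 1], 10, [4134]),
    ([0, 2, 6, 0, 3, 1, 5, 0], 10, [3853])]

end Cfsg.Lib.LyReal
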