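import Cfsg.Agent.Lib.LyReal.ClosureDefs
import Cfsg.Agent.Lib.LyReal.DataMove0
import Cfsg.Agent.Lib.LyReal.DataMove1
import Cfsg.Agent.Lib.LyReal.DataMove2
import Cfsg.Agent.Lib.LyReal.DataMove3
import Cfsg.Agent.Lib.LyReal.DataMove4

/-!
# Translates of five records
-/

set_option autoImplicit false
set_option maxRecDepth 100000

namespace Cfsg.Lib.LyReal

theorem move0_ok : moveOK 0 moveT0 = true := by decide +kernel

theorem move1_ok : moveOK 1 moveT1 = true := by decide +kernel

theorem move2_ok : moveOK 2 moveT2 = true := by decide +kernel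

theorem move3_ok : moveOK 3 moveT3 = true := by decide +kernel

theorem move4_ok : moveOK 4 moveT4 = true := by decide +kernel

end Cfsg.Lib.LyReal
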