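/-! Generated data: double cosets. -/

set_option autoImplicit false
set_option maxRecDepth 20000

namespace Cfsg.Lib.LyReal

/-- The translates of record 5. -/
def moveT5 : List (List Nat × Nat × List Nat) :=
  [([1, 2, 4, 5, 1, 0], 3, [0, 0, 1, 4, 0, 1, 0, 4, 0]),
    ([6, 0, 5, 2, 6], 3, [0, 0, 0, 6, 2, 4, 2, 0, 4]),
    ([6, 3, 2, 1, 6, 3, 0], 3, [0, 0, 0, 2, 1, 6, 3, 5, 0]),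
    ([2, 5, 0, 0], 6, [0, 1, 0, 2, 4, 1, 4, 0, 4]),
    ([5, 5, 6, 5, 3], 2, [2, 6, 0, 2, 1, 5, 3]),
    ([0, 5, 5, 5, 3], 3, [0, 2, 7, 0, 1, 5, 5, 5]),
    ([7, 1, 2, 0, 5], 3, [4, 0, 2, 4, 0]),
    ([5, 6, 5, 2, 1, 0], 3, [0, 1, 2, 5, 1, 3, 1, 7]),
    ([5, 5, 5, 0, 5, 3], 2, [0, 1, 0, 2, 6, 5, 1, 2]),
    ([2, 7, 0, 1, 0, 6], 3, [2, 0, 2, 7, 1, 6, 5, 5]),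
    ([7, 3, 6, 1, 0, 3], 3, [5, 0, 1, 0, 2, 3, 1, 2]),
    ([3, 2, 6, 1, 5, 0], 3, [0, 1, 3, 5, 2, 6, 7]),
    ([0, 6, 6, 4], 3, [1, 5, 2, 4, 6, 0, 1, 0]),
    ([6, 4, 1, 2, 0, 3], 3, [0, 0, 0, 7, 1, 6, 0, 5, 0]),
    ([5, 4, 2, 1, 0, 3], 3, [0, 2, 1, 4, 1, 4, 3, 1, 0]),
    ([2, 4, 5, 4, 4], 3, [0, 3, 1, 2, 6, 7, 1]),
    ([7, 5, 1, 2, 5, 0], 3, [1, 0, 2, 6, 5, 1, 2]),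
    ([1, 6, 4, 1, 6], 2, [0, 0, 0, 1, 6, 0, 0, 7]),
    ([3, 1, 7, 4, 1], 5, [0, 3, 2, 5, 1, 6, 5, 6]),
    ([3, 4, 1, 3, 1], 5, [2, 5, 4, 0, 4, 1]),
    ([4, 1, 3], 6, [1, 0, 6, 2, 1, 0, 2, 7]),
    ([3, 3, 6, 1, 4, 0], 3, [0, 2, 5, 1, 0, 6, 2]),
    ([0, 2, 0, 5, 4], 2, [0, 0, 0, 0, 3, 3, 5]),
    ([4, 2, 7, 0, 6, 1, 0], 3, [0, 2, 0, 3, 3, 6]),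
    ([1, 7, 4, 1], 5, [0, 0, 2, 5, 0, 5, 1, 7]),
    ([2, 6, 2, 1, 4, 3], 3, [5, 0, 5, 1, 5]),
    ([0, 6, 6, 4], 3, [0, 0, 3, 5, 2, 4, 0, 0, 1]),
    ([3, 0, 2], 6, [0, 2, 1, 3, 5, 0, 2, 3, 1]),
    ([2, 3, 0, 5, 6, 1, 0], 3, [1, 2, 1, 5, 0, 3, 3, 5]),
    ([1, 5, 1, 0, 2, 4], 3, [0, 0, 1, 0, 2, 5, 1, 0, 6, 2]),
    ([3, 4, 0, 6, 4, 0], 3, [0, 2, 1, 0, 6, 0, 0, 7]),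
    ([2, 4, 1, 3, 5, 0], 3, [0, 1, 0, 5, 4, 0, 5, 2]),
    ([0, 2, 5, 3], 2, [5, 5, 0, 3, 3, 5]),
    ([7, 6, 4, 1, 3], 3, [2, 5, 2, 6, 2, 7]),
    ([3, 0, 5, 4, 1, 3, 0], 3, [1, 0, 6, 0, 3, 2, 4, 0]),
    ([2, 0, 1, 3, 2, 3], 2, [0, 1, 4, 1, 4, 3, 1, 0]),
    ([7, 6, 4, 1, 3], 2, [1, 0, 2, 4, 0]),
    ([7, 5, 1, 2, 5, 0], 3, [0, 2, 5, 5, 4, 0]),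
    ([7, 4, 4, 1, 0, 5], 3, [1, 6, 0, 0, 7, 0, 2, 1]),
    ([5, 5, 5, 1, 4], 2, [0, 0, 1, 2, 6, 2, 4, 2]),
    ([0, 5, 5, 4], 2, [2, 0, 5, 1, 3, 1, 7]),
    ([5, 0, 5, 2, 3], 3, [0, 1, 5, 6, 2, 0, 1, 0]),
    ([0, 5, 3, 0, 3], 2, [2, 6, 2, 6, 6, 2]),
    ([1, 2, 0, 5, 1, 0], 3, [0, 2, 6, 2, 0, 5, 4, 0]),
    ([3, 2, 1, 6, 2, 4, 0], 3, [1, 4, 2, 3, 3, 5]),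
    ([7, 3, 6, 1, 0, 3], 3, [1, 0, 5, 2, 1, 0, 4, 0]),
    ([1, 2, 4, 4, 5, 3], 3, [1, 0, 3, 2, 4, 1, 5, 6]),
    ([5, 1, 4, 3], 3, [0, 1, 6, 3, 2, 6, 0, 1]),
    ([7, 3, 1, 0, 3], 2, [1, 3, 6, 2, 1, 6, 3]),
    ([3, 5, 3, 3, 3], 3, [5, 1, 3, 2, 0, 7, 2]),
    ([0, 0, 6, 3], 5, [6, 5, 6, 6, 5]),
    ([7, 6, 1, 0, 5], 3, [0, 6, 2, 3, 3, 6]),
    ([3, 5, 1, 5], 2, [0, 5, 2, 1, 5, 7, 0, 1]),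
    ([0, 7, 1, 6, 0, 6], 3, [0, 1, 5, 2, 1, 5, 7, 0, 1]),
    ([3, 0, 3, 4, 4, 3], 3, [0, 1, 5, 5, 5, 0, 3, 2]),
    ([0, 6, 3, 6, 0], 5, [3, 3, 5, 6, 5]),
    ([2, 1, 5, 3, 2, 3, 0], 3, [2, 0, 1, 6, 2, 3, 3, 6]),
    ([2, 0, 6, 1, 0], 3, [0, 3, 3, 2, 5, 4, 0]),
    ([1, 7, 6, 2, 3], 3, [0, 6, 2, 3, 1, 2, 0, 5]),
    ([0, 7, 6, 4, 0], 5, [7, 7]),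
    ([3, 6, 2, 1, 5], 2, [0, 0, 0, 6, 1, 2, 1, 4, 0]),
    ([4, 1, 5, 5, 0, 3], 3, [1, 5, 5, 2, 0, 7, 1]),
    ([7, 1, 2, 0, 5], 3, [1, 2, 6, 5, 1, 5, 5, 0]),
    ([4, 2, 4, 3, 2, 3], 3, [0, 1, 0, 3, 3, 2, 4, 0]),
    ([3, 6, 0, 1, 0, 3], 3, [0, 0, 5, 3, 5, 7]),
    ([6, 0, 3, 3, 2, 3], 3, [0, 0, 5, 0, 2, 1, 6, 3]),
    ([4, 0, 3, 5, 5, 4], 3, [0, 6, 0, 2, 1, 5, 6]),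
    ([6, 0, 3, 3, 2, 3], 2, [0, 0, 3, 2, 4, 1, 0, 5, 0]),
    ([5, 0, 5, 3, 0], 5, [0, 1, 6, 1, 6, 2, 1]),
    ([1, 3, 2], 6, [0, 0, 0, 0, 3, 2, 6, 7, 2]),
    ([7, 4, 1, 5], 2, [1, 0, 2, 5, 5, 4, 0]),
    ([2, 1, 6, 6, 6, 4, 0], 3, [0, 0, 0, 0, 1, 5, 4, 0]),
    ([4, 2, 6, 0, 6, 0], 3, [5, 1, 4, 0, 5, 1]),
    ([0, 0, 3, 0, 0], 5, [0, 0, 3, 5, 5, 6]),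
    ([6, 5, 5, 4, 3], 5, [0, 0, 1, 2, 0, 5, 1, 0, 2, 3]),
    ([3, 6, 2, 5, 0, 3], 3, [0, 0, 3, 3, 5]),
    ([5, 1, 6, 0, 6], 2, [0, 1, 2, 3, 1, 2, 0, 6]),
    ([0, 6, 1, 2], 5, [1, 2, 0, 2, 5, 2, 4]),
    ([0, 2, 1, 0, 6, 2, 3], 3, [1, 2, 5, 0, 5, 1, 5]),
    ([3, 2, 6, 1, 6, 0], 3, [5, 2, 5, 1, 6, 2]),
    ([1, 4, 4, 5, 3, 0], 3, [1, 2, 3, 5, 5, 0, 1, 4]),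
    ([3, 2, 5, 1, 5], 3, [0, 0, 2, 3, 1, 0, 4, 0]),
    ([1, 7, 4, 1], 5, [0, 0, 0, 4, 7, 0, 5, 0, 0]),
    ([1, 5, 3, 6, 0], 3, [1, 6, 6, 5, 7]),
    ([6, 3, 6, 4, 3, 3], 3, [1, 2, 1, 6, 6, 5, 7]),
    ([2, 1, 5, 4, 0], 5, [0, 1, 2, 1, 6, 0, 1, 3, 7]),
    ([7, 0, 3, 0], 5, [0, 1, 2, 4, 1, 2, 4, 4]),
    ([4, 5, 3, 1, 3], 2, [0, 1, 2, 3, 2, 5, 4, 0]),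
    ([5, 1, 3, 4, 0], 3, [0, 1, 2, 1, 0, 6, 2, 4, 2]),
    ([5, 1, 5, 2, 3, 0], 3, [1, 2, 5, 6, 1, 0]),
    ([5, 6, 5, 2, 1, 0], 3, [0, 0, 1, 2, 1, 6, 0, 0, 7]),
    ([0, 0, 7], 5, [1, 0, 6, 1, 2, 7, 1, 0]),
    ([0, 3], 6, [0, 0, 0, 2, 1, 6, 2, 0, 1, 6]),
    ([2, 0, 5, 6, 5, 4], 3, [0, 2, 1, 6, 0, 2, 1, 5, 3]),
    ([2, 0, 6, 3, 6, 0], 3, [6, 1, 5, 0, 3, 1]),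
    ([1, 0, 3, 2, 3, 4], 3, [0, 1, 0, 4, 0, 2, 0, 1, 6]),
    ([1, 6, 3, 6, 4], 2, [0, 0, 0, 4, 3, 2, 1, 4, 2]),
    ([6, 1, 0, 5, 6, 4], 3, [0, 1, 2, 5, 6, 0, 1, 2]),
    ([3, 2, 5, 1, 6, 3, 0], 3, [1, 0, 2, 6, 2, 3, 1, 0, 2]),
    ([4, 2, 5, 0, 6], 3, [0, 0, 2, 4, 2, 0, 4, 0]),
    ([3, 2, 1, 5, 1, 0], 3, [2, 0, 7, 2, 3, 6, 0]),
    ([7, 5, 5], 3, [0, 2, 5, 1, 5, 3, 2, 0, 2]),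
    ([7, 7, 4, 1, 3, 0], 3, [1, 2, 4, 0, 1, 3, 3, 6]),
    ([0, 3, 5, 1, 2, 3], 3, [1, 2, 1, 0, 4, 0]),
    ([2, 5, 4, 1, 6, 0], 3, [0, 1, 2, 0, 4, 0]),
    ([6, 0, 1, 0, 6], 3, [0, 0, 0, 5, 4, 0]),
    ([6, 5, 5, 1, 0], 3, [1, 3, 3, 2, 0, 1]),
    ([0, 2, 5, 3], 2, [5, 0, 6, 6, 3, 7]),
    ([5, 1, 5, 3, 5], 2, [0, 1, 5, 5, 5, 4, 0]),
    ([7, 1, 3, 1, 0, 3], 3, [5, 0, 6, 6, 3, 7]),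
    ([0, 7, 6, 4, 0], 5, [6, 0, 0, 5]),
    ([0, 2, 1, 0, 6, 4], 3, [4, 2, 3, 1, 0, 2]),
    ([7, 0, 2, 5, 3], 3, [5, 3, 6, 7]),
    ([2, 4, 3, 1, 4, 3, 0], 3, [1, 2, 1, 3, 3, 6]),
    ([1, 4, 4, 4, 1, 4], 3, [1, 5, 5, 4, 0]),
    ([1, 2, 0, 5, 1, 4, 0], 3, [1, 2, 5, 0, 1, 0, 4, 7]),
    ([3, 1, 5, 3, 2, 3], 2, [0, 0, 5, 1, 5, 3, 2, 1]),
    ([4, 0, 3, 2, 3], 3, [2, 4, 0, 2, 5, 4, 0]),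
    ([2, 3, 3, 4, 1, 4, 0], 3, [0, 1, 2, 5, 2, 6, 2, 7]),
    ([5, 1, 6, 4, 3, 3], 3, [0, 5, 4, 0, 5, 2]),
    ([4, 3, 5, 1, 3], 2, [2, 1, 5, 0, 1, 2, 4, 0]),
    ([6, 5, 1, 2, 4], 3, [0, 2, 3, 3, 5]),
    ([2, 0, 5, 6, 4], 3, [0, 5, 1, 0, 2, 1, 5, 4, 0]),
    ([7, 5, 1, 2, 5, 1, 0], 3, [0, 0, 0, 7, 1, 3, 6, 0]),
    ([1, 3, 6, 3, 1, 0], 3, [4, 0, 2, 0, 1, 5, 0, 2, 1]),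
    ([1, 2, 3, 6, 6, 0], 3, [2, 3, 3, 3]),
    ([6, 3, 4, 1, 0, 3], 3, [0, 7, 2, 6, 5, 5]),
    ([6, 6, 1, 6, 4], 3, [0, 0, 6, 2, 0, 5, 4, 0]),
    ([1, 0, 6, 0, 3], 2, [0, 0, 1, 5, 0, 5, 1, 3]),
    ([5, 4, 2, 5, 2], 5, [0, 7, 0, 0, 0, 5]),
    ([3, 6, 0, 1, 2, 3], 3, [0, 0, 1, 0, 5, 7, 1, 0, 2]),
    ([6, 6, 1, 2, 0, 3], 3, [0, 0, 6, 0, 1, 0, 4, 0]),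
    ([1, 4, 0, 6], 3, [0, 4, 2, 3, 3, 6]),
    ([5, 6, 5, 4], 3, [3, 4, 3, 4, 1, 0]),
    ([2, 4, 2, 6], 5, [5, 0, 0, 1, 0, 6, 0, 1]),
    ([7, 5, 4], 5, [0, 1, 2, 6, 5, 1, 2, 3]),
    ([4, 0, 3, 5, 5, 4], 3, [5, 5, 5, 5, 4, 0]),
    ([3, 5, 2, 0, 6], 3, [1, 0, 2, 3, 1, 2, 0, 5]),
    ([0, 0, 7], 5, [0, 0, 6, 5, 6, 5]),
    ([4, 5, 3, 0, 0], 5, [3, 5, 6, 0, 5, 0]),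
    ([1, 2, 4, 2, 0, 3], 3, [3, 2, 5, 4, 0]),
    ([4, 0, 7, 2, 3], 3, [0, 3, 2, 4, 1, 0, 5, 0]),
    ([7, 4, 1, 7, 3], 2, [2, 0, 2, 1, 5, 4, 0]),
    ([2, 4, 1, 5, 3, 3, 0], 3, [0, 0, 0, 5, 1, 0, 5, 7, 1]),
    ([2, 4, 1, 7, 5, 3, 0], 3, [0, 0, 1, 0, 6, 0, 0, 7]),
    ([5, 6, 6, 5], 3, [0, 0, 0, 1, 2, 0, 5, 4, 0]),
    ([0, 5, 4, 1, 4], 3, [0, 2, 0, 1, 5, 4, 0]),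
    ([1, 5, 5, 6], 2, [1, 2, 6, 0, 2, 1, 5, 6]),
    ([7, 6, 5, 5], 3, [2, 4, 0, 0, 1, 0, 5, 1]),
    ([0, 3, 5, 1, 2, 3], 3, [0, 1, 6, 2, 3, 3, 3])]

end Cfsg.Lib.LyReal
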