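/-! Generated data: double cosets. -/

set_option autoImplicit false
set_option maxRecDepth 20000

namespace Cfsg.Lib.LyReal

/-- The translates of record 7. -/
def moveT7 : List (List Nat × Nat × List Nat) :=
  [([6, 3, 2, 4, 2], 21, [484]),
    ([2, 6, 2, 6, 1, 3, 1], 21, [789]),
    ([6, 3, 2, 4, 2], 21, [40]),
    ([6, 3, 2, 4, 2], 21, [37]),
    ([0, 1, 7, 0, 2, 0], 21, [224]),
    ([0, 2, 6, 4, 1, 2, 4, 0, 0], 27, [384]),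
    ([6, 3, 2, 4, 2], 21, [238]),
    ([2, 6, 2, 6, 1, 3, 1], 21, [285]),
    ([2, 6, 2, 6, 1, 3, 1], 21, [861]),
    ([3, 3, 2, 3, 1, 3, 2], 22, [73]),
    ([5, 6, 0, 1, 2, 5, 6], 21, [902]),
    ([5, 2, 1, 6, 3, 0, 2], 33, [170]),
    ([6, 3, 2, 4, 2], 21, [169]),
    ([1, 2, 7, 0, 1, 0, 5, 2], 22, [213]),
    ([2, 3, 1, 7, 5, 2, 0, 2], 29, [984]),
    ([2, 6, 5, 5, 3], 33, [213]),
    ([2, 6, 2, 6, 1, 3, 1], 21, [904]),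
    ([6, 3, 2, 4, 2], 21, [440]),
    ([2, 6, 6, 6, 6], 33, [598]),
    ([2, 0, 7, 6, 0, 0, 6], 22, [632]),
    ([0, 1, 7, 0, 2, 0], 21, [95]),
    ([0, 6, 1, 5, 0], 22, [221]),
    ([1, 5, 4, 0, 7, 2], 27, [49]),
    ([0, 2, 6, 4, 1, 2, 4, 0, 0], 27, [831]),
    ([0, 2, 6, 4, 1, 2, 4, 0, 0], 27, [677]),
    ([4, 0, 5, 4, 2, 0, 1, 0], 29, [5]),
    ([2, 6, 2, 6, 1, 3, 1], 21, [412]),
    ([6, 3, 2, 4, 2], 21, [396]),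
    ([5, 2, 1, 0, 5, 4, 5], 21, [123]),
    ([4, 0, 5, 4, 2, 0, 1, 0], 29, [384]),
    ([2, 6, 2, 6, 1, 3, 1], 21, [28]),
    ([7, 7, 5, 1, 3], 27, [365]),
    ([6, 2, 6, 2, 3, 2], 33, [848]),
    ([5, 2, 7, 3, 6, 0, 2], 40, [894]),
    ([6, 0, 2, 5, 4, 4], 22, [697]),
    ([4, 5, 3, 2, 3, 0, 1, 2], 27, [984]),
    ([3, 3, 2, 3, 1, 3, 2], 22, [715]),
    ([3, 3, 2, 3, 1, 3, 2], 22, [882]),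
    ([5, 0, 1, 0, 3, 6, 2, 1], 33, [196]),
    ([0, 2, 1, 7, 4, 0, 6, 0, 0], 27, [473]),
    ([5, 6, 0, 1, 2, 5, 6], 21, [326]),
    ([5, 6, 0, 1, 2, 5, 6], 21, [56]),
    ([2, 0, 7, 1, 4, 2, 5], 27, [564]),
    ([0, 7, 2, 4, 0, 1, 2, 0, 1], 40, [280]),
    ([5, 2, 1, 6, 3, 0, 2], 33, [657]),
    ([1, 6, 5, 4, 0, 1, 2, 1, 0, 0, 0], 22, [749]),
    ([6, 3, 2, 4, 2], 21, [4]),
    ([1, 4, 3, 1, 2, 1, 0, 0], 40, [230]),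
    ([2, 6, 6, 5, 6, 2], 46, [56]),
    ([5, 6, 0, 5, 2, 0, 2], 29, [564]),
    ([7, 5, 1, 5, 2, 0, 1], 29, [677]),
    ([1, 2, 7, 0, 1, 0, 5, 2], 22, [196]),
    ([0, 2, 4, 0, 2, 6, 6], 29, [202]),
    ([6, 0, 2, 5, 1, 4, 0, 3], 27, [202]),
    ([6, 0, 2, 4, 0, 1, 2, 5], 22, [508]),
    ([1, 7, 3, 6, 2, 1, 0], 33, [768]),
    ([2, 3, 1, 7, 5, 2, 0, 2], 29, [282]),
    ([6, 3, 0, 5, 1, 2, 0], 40, [645]),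
    ([4, 3, 4, 2, 0, 6, 2, 1], 33, [508]),
    ([3, 2, 6, 1, 0, 6, 0], 40, [896]),
    ([2, 6, 5, 5, 3], 33, [221]),
    ([0, 5, 0, 6, 0, 1, 2, 0], 40, [809]),
    ([0, 5, 0, 5, 0, 7, 0, 0, 0], 21, [428]),
    ([0, 2, 6, 4, 1, 2, 4, 0, 0], 27, [98]),
    ([5, 3, 1, 4, 2, 0, 0, 0], 27, [260]),
    ([2, 1, 0, 7, 0, 6, 0, 0], 40, [167]),
    ([2, 4, 0, 2, 1, 4, 3], 33, [239]),
    ([2, 6, 6, 6, 6], 33, [488]),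
    ([4, 0, 5, 4, 2, 5, 1, 0], 27, [732]),
    ([2, 3, 3, 3, 5, 2], 46, [182]),
    ([6, 0, 7, 2, 0, 6, 1], 40, [577]),
    ([2, 0, 7, 6, 0, 0, 6], 22, [181]),
    ([2, 0, 7, 6, 0, 0, 6], 22, [893]),
    ([0, 6, 6, 3, 2, 0, 1, 0], 29, [842]),
    ([0, 7, 2, 4, 0, 1, 2, 0, 1], 40, [940]),
    ([2, 4, 0, 5, 2, 5], 40, [670]),
    ([0, 6, 1, 5, 0], 22, [781]),
    ([0, 6, 1, 5, 0], 22, [768]),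
    ([1, 6, 2, 4, 0, 0, 0], 27, [5]),
    ([0, 2, 6, 4, 1, 2, 4, 0, 0], 27, [112]),
    ([1, 5, 4, 0, 7, 2], 27, [613]),
    ([0, 7, 2, 5, 0, 3, 1], 40, [660]),
    ([7, 1, 0, 5, 0, 5, 0, 0], 27, [711]),
    ([0, 2, 5, 2, 0, 3, 0, 1, 2], 29, [846]),
    ([1, 2, 3, 0, 2, 1, 4, 2, 1], 33, [882]),
    ([0, 3, 1, 2, 0, 1, 0, 6, 0], 33, [632]),
    ([4, 0, 1, 2, 3, 0], 40, [783]),
    ([0, 0, 6, 3, 3, 2, 0], 22, [832]),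
    ([5, 0, 1, 0, 3, 6, 2, 1], 33, [73]),
    ([1, 6, 5, 4, 0, 1, 2, 1, 0, 0, 0], 22, [170]),
    ([6, 3, 2, 4, 2], 21, [182]),
    ([4, 0, 5, 4, 2, 5, 1, 0], 27, [842]),
    ([5, 2, 1, 0, 5, 4, 5], 21, [246]),
    ([2, 6, 6, 5, 6, 2], 46, [326]),
    ([0, 0, 0, 0, 5, 0, 3], 40, [211]),
    ([4, 0, 5, 4, 2, 0, 1, 0], 29, [831]),
    ([0, 6, 1, 6, 4, 3, 2, 0], 40, [601]),
    ([0, 5, 5, 2, 3], 22, [397]),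
    ([0, 7, 2, 5, 0, 3, 1], 40, [911]),
    ([4, 5, 0, 1, 6, 0, 2, 1], 33, [397]),
    ([2, 5, 6, 0, 3, 3, 2], 40, [191]),
    ([3, 0, 1, 4, 2, 5], 46, [484]),
    ([7, 5, 3, 5, 1, 0, 2, 1], 29, [149]),
    ([0, 3, 2, 3, 1, 0, 3, 0, 0], 27, [740]),
    ([7, 6, 0, 6, 4, 0], 29, [740]),
    ([0, 1, 4, 0, 0, 3, 2], 29, [513]),
    ([5, 4, 0, 6, 1], 33, [715]),
    ([6, 2, 5, 6, 5, 0, 1, 2], 27, [149]),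
    ([4, 5, 3, 2, 3, 0, 1, 2], 27, [282]),
    ([5, 1, 6, 1, 5, 0, 1, 0], 22, [657]),
    ([4, 0, 5, 4, 2, 0, 1, 0], 29, [732]),
    ([5, 0, 0, 5, 0, 0], 46, [169]),
    ([5, 0, 1, 0, 3, 6, 2, 1], 33, [697]),
    ([5, 0, 1, 0, 3, 6, 2, 1], 33, [781]),
    ([0, 2, 1, 7, 4, 0, 6, 0, 0], 27, [846]),
    ([5, 6, 0, 1, 2, 5, 6], 21, [70]),
    ([2, 0, 3, 2, 1, 4, 5, 2], 29, [365]),
    ([5, 2, 5, 1, 4, 3, 0], 29, [613]),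
    ([0, 5, 1, 0, 5, 2, 1, 0, 0, 0], 22, [848]),
    ([1, 6, 2, 7, 1, 0, 3, 1], 40, [253]),
    ([0, 2, 5, 4, 2, 0, 1, 0, 0], 27, [245]),
    ([2, 5, 1, 7, 6, 3, 1], 33, [749]),
    ([0, 5, 1, 0, 6, 0, 2, 0, 0], 29, [245]),
    ([1, 2, 6, 1, 5, 1, 4, 1, 0, 0], 22, [239]),
    ([1, 4, 2, 4, 3, 0, 1, 0, 0], 29, [112]),
    ([1, 4, 3, 1, 2, 1, 0, 0], 40, [704]),
    ([0, 7, 0, 5, 5, 1, 2, 0, 1], 29, [473]),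
    ([4, 0, 6, 5, 2, 6, 0], 33, [893]),
    ([7, 5, 1, 5, 2, 0, 1], 29, [98]),
    ([2, 0, 0, 0, 0, 5, 1, 2, 3], 22, [574]),
    ([5, 0, 2, 4, 2, 6, 0, 0], 40, [388]),
    ([2, 4, 1, 5, 0, 5, 0, 0, 0], 40, [367]),
    ([6, 0, 2, 4, 0, 1, 2, 5], 22, [441]),
    ([1, 7, 3, 6, 2, 1, 0], 33, [832]),
    ([4, 0, 6, 1, 2, 0, 0], 29, [711]),
    ([5, 0, 7, 1, 0, 3, 0, 0, 0], 33, [574]),
    ([1, 7, 3, 6, 2, 1, 0], 33, [441]),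
    ([0, 1, 2, 1, 5, 2, 5, 2, 1], 29, [49]),
    ([0, 1, 7, 5, 2, 0, 1, 0, 0, 0], 22, [598]),
    ([3, 3, 6, 0, 3, 0, 0], 40, [818]),
    ([3, 2, 6, 1, 0, 6, 0], 40, [438]),
    ([4, 0, 5, 4, 2, 0, 1, 0], 29, [260]),
    ([1, 0, 2, 1, 5, 3, 0, 0, 0], 40, [695]),
    ([6, 1, 0, 7, 3, 1, 2, 1, 0], 22, [488]),
    ([0, 7, 0, 5, 3], 46, [246]),
    ([1, 2, 6, 0, 1, 2, 0, 5, 0], 33, [181]),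
    ([2, 0, 0, 0, 0, 5, 2, 1], 27, [513]),
    ([4, 0, 5, 4, 2, 5, 1, 0], 27, [127]),
    ([0, 7, 2, 5, 0, 3, 1], 40, [110]),
    ([0, 1, 2, 1, 5, 2, 5, 2, 1], 29, [127])]

end Cfsg.Lib.LyReal
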