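/-! Generated data: double cosets. -/

set_option autoImplicit false
set_option maxRecDepth 20000

namespace Cfsg.Lib.LyReal

/-- The translates of record 9. -/
def moveT9 : List (List Nat × Nat × List Nat) :=
  [([7, 0, 5, 4, 4], 8, [171]),
    ([7, 0, 5, 4, 4], 8, [5812]),
    ([7, 0, 5, 4, 4], 8, [1523]),
    ([7, 0, 5, 4, 4], 8, [1950]),
    ([3, 4, 1, 0, 3], 8, [4028]),
    ([2, 5, 2, 0, 0, 5], 15, [2396]),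
    ([7, 0, 5, 4, 4], 8, [3111]),
    ([7, 0, 5, 4, 4], 8, [5333]),
    ([7, 0, 5, 4, 4], 8, [4247]),
    ([0, 1, 3, 3, 5, 2, 3], 10, [794]),
    ([3, 4, 1, 0, 3], 8, [2305]),
    ([0, 1, 3, 2, 0, 0, 3, 0, 0], 10, [4477]),
    ([7, 0, 5, 4, 4], 8, [1783]),
    ([2, 3, 3, 3, 2, 3], 10, [1261]),
    ([4, 0, 6, 1, 4, 2], 10, [1232]),
    ([6, 1, 6, 2, 0, 7, 1], 10, [1652]),
    ([7, 0, 5, 4, 4], 8, [1927]),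
    ([7, 0, 5, 4, 4], 8, [1702]),
    ([4, 1, 4, 2, 0, 7, 4, 1], 10, [3707]),
    ([1, 7, 3, 5, 3, 0, 2, 1], 10, [4190]),
    ([3, 4, 1, 0, 3], 8, [832]),
    ([2, 6, 6, 1, 4, 0, 3], 10, [3100]),
    ([2, 5, 2, 0, 0, 5], 15, [435]),
    ([2, 5, 2, 0, 0, 5], 15, [4984]),
    ([2, 5, 2, 0, 0, 5], 15, [5329]),
    ([0, 1, 3, 3, 5, 2, 3], 10, [5222]),
    ([7, 0, 5, 4, 4], 8, [655]),
    ([7, 0, 5, 4, 4], 8, [533]),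
    ([7, 0, 5, 0, 3], 8, [2107]),
    ([0, 1, 3, 3, 5, 2, 3], 10, [4725]),
    ([7, 0, 5, 4, 4], 8, [5727]),
    ([4, 4], 15, [2112]),
    ([2, 5, 4, 1, 2, 0, 1, 0], 10, [1802]),
    ([4, 2, 6, 4, 1, 0], 10, [4520]),
    ([1, 0, 2, 1, 0, 0, 6], 10, [3981]),
    ([3, 1, 4, 0, 6, 2, 1], 15, [5336]),
    ([0, 1, 3, 3, 5, 2, 3], 10, [4512]),
    ([0, 1, 3, 3, 5, 2, 3], 10, [521]),
    ([4, 2, 7, 0, 5, 2, 0], 10, [4156]),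
    ([5, 2, 5, 6, 2, 5], 15, [4328]),
    ([3, 4, 1, 0, 3], 8, [4405]),
    ([3, 4, 1, 0, 3], 8, [2408]),
    ([2, 1, 0, 2, 3, 4, 2], 15, [907]),
    ([0, 1, 3, 2, 0, 0, 3, 0, 0], 10, [5006]),
    ([0, 1, 3, 2, 0, 0, 3, 0, 0], 10, [1618]),
    ([0, 7, 5, 1, 5, 1, 0], 10, [1351]),
    ([7, 0, 5, 4, 4], 8, [1538]),
    ([2, 5, 4, 1, 2, 0, 1, 0], 10, [209]),
    ([3, 4, 1, 0, 3], 4, [1892]),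
    ([2, 1, 0, 7, 6, 2, 1, 0], 10, [5210]),
    ([2, 3, 3, 3, 2, 3], 10, [849]),
    ([2, 3, 3, 3, 2, 3], 10, [4042]),
    ([0, 1, 0, 7, 5, 1, 2, 1], 10, [3139]),
    ([7, 7, 6], 15, [2714]),
    ([2, 6, 0, 1, 6, 4, 2, 1], 10, [2158]),
    ([4, 0, 6, 1, 4, 2], 10, [4249]),
    ([4, 0, 6, 1, 4, 2], 10, [1674]),
    ([6, 6, 4], 10, [444]),
    ([1, 2, 1, 7, 5, 2, 0, 0, 0], 10, [4267]),
    ([6, 1, 6, 2, 0, 7, 1], 10, [1514]),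
    ([6, 1, 6, 2, 0, 7, 1], 10, [3166]),
    ([6, 1, 6, 1, 6], 10, [1636]),
    ([7, 0, 5, 4, 4], 8, [3526]),
    ([2, 5, 2, 0, 0, 5], 15, [2526]),
    ([1, 5, 4, 3, 1], 15, [2203]),
    ([4, 1, 4, 2, 1, 0, 3, 1, 0], 10, [926]),
    ([2, 3, 0, 0, 0, 0, 5, 1, 0], 10, [3366]),
    ([4, 1, 4, 2, 0, 7, 4, 1], 10, [1741]),
    ([4, 4], 15, [5443]),
    ([3, 1, 4, 5, 5], 4, [403]),
    ([1, 7, 3, 5, 3, 0, 2, 1], 10, [3169]),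
    ([1, 7, 3, 5, 3, 0, 2, 1], 10, [2791]),
    ([1, 7, 3, 5, 3, 0, 2, 1], 10, [1978]),
    ([4, 0, 6, 1, 4, 2, 7], 10, [4791]),
    ([0, 1, 3, 2, 0, 0, 3, 0, 0], 10, [5748]),
    ([2, 6, 6, 1, 4, 0, 3], 10, [520]),
    ([2, 6, 6, 1, 4, 0, 3], 10, [4866]),
    ([2, 6, 6, 1, 4, 0, 3], 10, [719]),
    ([4, 0, 6, 5, 0], 15, [5201]),
    ([2, 5, 2, 0, 0, 5], 15, [3845]),
    ([2, 5, 2, 0, 0, 5], 15, [1334]),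
    ([5, 4, 1, 3, 0, 2, 3, 1], 10, [1433]),
    ([2, 5, 2, 0, 0, 5], 15, [4418]),
    ([2, 1, 0, 2, 5, 4, 2], 10, [3151]),
    ([3, 1, 4, 1, 3, 0, 0, 0, 0], 10, [3949]),
    ([0, 1, 5, 1, 4, 5, 0, 0, 0], 10, [242]),
    ([7, 7, 6, 4], 10, [1314]),
    ([5, 4, 1, 3, 0, 2, 3, 1], 10, [2635]),
    ([4, 2, 7, 0, 5, 2, 0], 10, [2196]),
    ([0, 7, 5, 1, 5, 1, 0], 10, [4046]),
    ([7, 0, 5, 4, 4], 8, [6018]),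
    ([4, 4], 15, [5485]),
    ([7, 0, 5, 0, 3], 8, [2456]),
    ([3, 4, 1, 0, 3], 4, [1554]),
    ([0, 2, 0, 3, 1, 5, 4, 0], 10, [2781]),
    ([0, 1, 3, 3, 5, 2, 3], 10, [2857]),
    ([4, 2, 7, 0, 5, 2, 0], 10, [2060]),
    ([0, 1, 0, 7, 5, 1, 2, 1], 10, [4287]),
    ([5, 4, 1, 3, 0, 2, 3, 1], 10, [1892]),
    ([7, 7, 7, 4, 4, 4], 10, [3848]),
    ([6, 2, 4, 3, 1, 0], 10, [166]),
    ([0, 6, 6, 3, 4], 4, [2290]),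
    ([0, 1, 6, 1, 0, 0, 6, 0], 10, [3108]),
    ([1, 5, 4, 3, 1], 15, [196]),
    ([1, 2, 6, 0, 3, 1, 5], 10, [280]),
    ([4, 2, 6, 4, 1, 0], 10, [5497]),
    ([1, 7, 6, 2, 1, 0, 2], 10, [5087]),
    ([2, 6, 0, 1, 3, 0, 1], 15, [2240]),
    ([3, 1, 4, 0, 6, 2, 1], 15, [0]),
    ([6, 1, 3, 2, 3, 1, 2, 0], 10, [4503]),
    ([0, 1, 3, 3, 5, 2, 3], 10, [2355]),
    ([3, 1, 0, 7, 3], 4, [2261]),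
    ([4, 2, 7, 0, 5, 2, 0], 10, [5801]),
    ([4, 2, 7, 0, 5, 2, 0], 10, [104]),
    ([5, 2, 5, 6, 2, 5], 15, [2308]),
    ([3, 4, 1, 0, 3], 8, [2566]),
    ([2, 0, 0, 7, 0, 5, 0, 1, 0], 10, [2431]),
    ([7, 0, 1, 4, 3, 2, 0, 0], 10, [5884]),
    ([2, 3, 2, 0, 0, 5], 10, [1357]),
    ([0, 1, 0, 5, 2, 3, 0], 10, [198]),
    ([2, 1, 0, 2, 3, 4, 2], 15, [3124]),
    ([1, 2, 0, 5, 4, 1, 3, 0, 0], 10, [1556]),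
    ([2, 1, 0, 2, 3, 4, 2], 10, [4484]),
    ([0, 1, 3, 2, 0, 0, 3, 0, 0], 10, [378]),
    ([0, 7, 5, 1, 5, 1, 0], 10, [4715]),
    ([2, 5, 4, 1, 2, 0, 1, 0], 10, [1300]),
    ([2, 5, 4, 2, 0, 0], 10, [4145]),
    ([2, 1, 0, 7, 6, 2, 1, 0], 10, [4977]),
    ([2, 3, 3, 3, 2, 3], 10, [2229]),
    ([0, 1, 2, 7, 1, 6, 1, 0, 0], 10, [2261]),
    ([0, 6, 3, 2, 0, 1, 4, 0], 10, [1554]),
    ([6, 1, 4, 2, 1, 0, 3, 1, 0], 10, [628]),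
    ([2, 6, 0, 1, 6, 4, 2, 1], 10, [5877]),
    ([4, 0, 6, 1, 4, 2], 10, [2326]),
    ([2, 3, 4, 1, 7, 0, 6], 10, [4228]),
    ([2, 1, 0, 2, 3, 4, 2, 4], 10, [4086]),
    ([4, 0, 6, 1, 4, 2], 10, [950]),
    ([3, 2, 1, 0, 0, 0, 3], 10, [2686]),
    ([6, 6, 4], 10, [3680]),
    ([1, 2, 1, 7, 5, 2, 0, 0, 0], 10, [614]),
    ([6, 1, 6, 2, 0, 7, 1], 10, [4766]),
    ([0, 1, 3, 3, 5, 2, 3], 10, [6005]),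
    ([1, 0, 0, 6, 1, 0, 3, 1, 2], 10, [1186]),
    ([1, 6, 1, 4], 10, [3318]),
    ([5, 5, 5, 1, 4], 4, [611]),
    ([7, 2, 5, 2, 0, 0, 3, 0, 0], 10, [3676]),
    ([5, 1, 2, 7, 1, 4, 2, 0], 15, [5820]),
    ([4, 4], 15, [3770]),
    ([5, 4, 1, 3, 0, 2, 3, 1], 10, [388]),
    ([3, 2, 1, 0, 0, 0, 3], 10, [4499])]

end Cfsg.Lib.LyReal
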