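import Cfsg.Agent.Lib.LyReal.ClosureDefs
import Cfsg.Agent.Lib.LyReal.DataMove5
import Cfsg.Agent.Lib.LyReal.DataMove6
import Cfsg.Agent.Lib.LyReal.DataMove7
import Cfsg.Agent.Lib.LyReal.DataMove8
import Cfsg.Agent.Lib.LyReal.DataMove9

/-!
# Translates of five records
-/

set_option autoImplicit false
set_option maxRecDepth 100000

namespace Cfsg.Lib.LyReal

theorem move5_ok : moveOK 5 moveT5 = true := by decide +kernel

theorem move6_ok : moveOK 6 moveT6 = true := by decide +kernel

theorem move7_ok : moveOK 7 moveT7 = true := by decide +kernel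

theorem move8_ok : moveOK 8 moveT8 = true := by decide +kernel

theorem move9_ok : moveOK 9 moveT9 = true := by decide +kernel

end Cfsg.Lib.LyReal
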