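/-! Generated data: double cosets. -/

set_option autoImplicit false
set_option maxRecDepth 20000

namespace Cfsg.Lib.LyReal

/-- The translates of record 50. -/
def moveT50 : List (List Nat × Nat × List Nat) :=
  [([1, 4, 2, 0, 7, 0, 0], 61, [398]),
    ([0, 1, 0, 3, 2, 1, 0, 0], 61, [2021]),
    ([3, 5, 2, 6, 0, 3, 3], 56, [594]),
    ([2, 0, 0, 6, 1, 3, 2, 0, 0], 56, [1360]),
    ([4, 1, 2, 5, 0, 1, 2], 61, [1958]),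
    ([6, 0, 1, 3, 6, 2], 49, [2276]),
    ([5, 4, 1, 5, 0], 60, [1057]),
    ([1, 6, 2, 0, 1, 2, 4], 61, [882]),
    ([4, 5, 1, 2, 3, 3, 0], 54, [2368]),
    ([6, 5, 2, 6, 2, 0, 1], 59, [1378]),
    ([2, 3, 2, 1, 4], 60, [1740]),
    ([7, 0, 1, 4, 2, 0, 0], 55, [497]),
    ([1, 0, 0, 0, 3, 2, 6], 61, [1691]),
    ([3, 2, 6, 1, 2], 61, [786]),
    ([3, 5, 0, 1, 0, 0, 0], 61, [677]),
    ([1, 5, 0, 1, 6, 4], 60, [1089]),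
    ([4, 5, 1, 2, 1, 0, 0], 56, [2368]),
    ([6, 0, 6, 3, 2, 0, 0], 56, [1995]),
    ([6, 1, 5, 5, 3, 0, 0], 54, [2451]),
    ([3, 3, 1, 0, 6, 0, 1, 0, 0], 48, [1102]),
    ([0, 1, 6, 0, 7, 0, 6, 0], 56, [57]),
    ([1, 5, 2, 5, 1, 0, 2], 55, [2276]),
    ([5, 1, 0, 0, 7, 6, 1], 55, [2507]),
    ([1, 4, 3, 0, 2, 4], 57, [984]),
    ([7, 4, 2, 4, 3, 1], 61, [1937]),
    ([0, 5, 6, 4, 0], 55, [2021]),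
    ([5, 0, 1, 6, 3, 0, 0], 61, [523]),
    ([7, 6, 0, 3, 1, 0, 0, 0, 0], 58, [2377]),
    ([6, 4, 0, 7, 3, 5, 1], 61, [1000]),
    ([0, 3, 5, 1, 2, 3, 0, 0], 55, [2707]),
    ([0, 0, 6, 1, 3, 5, 0, 2], 54, [331]),
    ([6, 0, 3, 2, 6], 59, [241]),
    ([1, 0, 5, 4, 2, 5, 1], 55, [1149]),
    ([3, 0, 2, 0, 3, 1, 5, 0], 55, [2081]),
    ([6, 4, 0, 5, 0], 59, [2085]),
    ([2, 0, 1, 5, 2, 1, 0, 6], 61, [2478]),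
    ([4, 2, 0, 0, 5, 1, 4, 0], 55, [493]),
    ([0, 5, 1], 57, [514]),
    ([3, 2, 5, 5, 5], 61, [692]),
    ([7, 6, 0, 3, 0, 2, 0], 59, [995]),
    ([3, 3, 3, 0, 2, 1], 60, [1949]),
    ([6, 0, 1, 3, 4, 0, 2, 1, 0, 0], 58, [2357]),
    ([2, 5, 1, 4, 3, 0], 49, [497]),
    ([2, 4, 4, 1, 5, 0], 59, [1057]),
    ([1, 3, 0, 5, 0, 2, 3, 0], 61, [2236]),
    ([2, 0, 5, 2, 1, 5, 2], 55, [167]),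
    ([1, 7, 6, 2, 6, 0], 61, [889]),
    ([2, 0, 1, 0, 6, 0, 6], 50, [1378]),
    ([2, 3, 5, 2, 5, 1], 61, [1727]),
    ([1, 5, 6, 2, 0, 3, 1], 55, [2035]),
    ([0, 1, 2, 6, 1, 6, 1, 0], 61, [2382]),
    ([2, 5, 2, 1, 4, 3, 0, 2], 61, [252]),
    ([7, 6, 5, 5, 5, 0, 2], 56, [2729]),
    ([4, 0, 1, 6, 2, 0, 5, 1, 0, 0, 0], 56, [874]),
    ([6, 3, 4, 0, 2, 1, 0], 54, [874]),
    ([2, 0, 5, 0, 0], 61, [335]),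
    ([7, 3, 1, 4, 3], 60, [1814]),
    ([3, 3, 5, 0, 1, 3], 58, [1524]),
    ([3, 2, 6, 1, 2, 0], 58, [2447]),
    ([0, 1, 5, 4, 0, 2, 1, 0], 61, [1145]),
    ([2, 1, 0, 6, 2, 5, 1, 0], 55, [1200]),
    ([2, 0, 3, 2, 1, 5, 2, 0], 61, [476]),
    ([5, 0, 1, 6, 3, 0, 0], 61, [2637]),
    ([2, 6, 1, 0, 6, 3, 0, 0], 48, [1491]),
    ([2, 3, 2, 5, 6, 1], 57, [2011]),
    ([4, 1, 2, 0, 6, 1, 2, 4], 57, [989]),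
    ([0, 3, 5, 1, 3, 1], 61, [1935]),
    ([0, 3, 5, 2, 3, 3, 0], 57, [1573]),
    ([4, 0, 6, 6, 0], 48, [1991]),
    ([5, 0, 5, 4, 1, 4, 0, 2, 1], 58, [2189]),
    ([3, 1, 0, 3, 1, 7, 2], 57, [66]),
    ([2, 0, 0, 5, 6, 0], 56, [462]),
    ([7, 0, 5, 5, 3, 1], 50, [1101]),
    ([5, 6, 0, 1, 3, 6, 2, 0, 1], 58, [1329]),
    ([3, 2, 5, 1, 5, 0, 0], 57, [448]),
    ([6, 1, 2, 0, 1, 5, 0, 0], 55, [486]),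
    ([3, 6, 3, 3, 1], 48, [2383]),
    ([1, 6, 0, 2, 6, 1], 60, [2497]),
    ([6, 6, 1, 3, 2, 0, 1], 55, [2108]),
    ([3, 0, 5, 3, 1, 5], 61, [647]),
    ([2, 3, 1, 2, 5, 0, 2], 49, [2424]),
    ([1, 0, 2, 5, 2, 5, 2, 1], 55, [647]),
    ([2, 0, 1, 0, 6, 6, 5], 57, [1102]),
    ([5, 1, 5, 3, 3], 57, [860]),
    ([4, 2, 3, 0, 1, 2, 1], 48, [860]),
    ([1, 0, 6, 2, 3, 1], 48, [1504]),
    ([0, 6, 2, 1, 6, 2, 5], 57, [2179]),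
    ([0, 1, 3, 4, 3, 2, 0, 1], 61, [560]),
    ([2, 7, 5, 0], 50, [1922]),
    ([5, 0, 6, 6, 4, 0], 55, [1192]),
    ([2, 5, 1, 5, 0, 2, 0], 56, [331]),
    ([5, 0, 5, 3, 4, 4, 2], 56, [2451]),
    ([3, 2, 5, 1, 0, 3, 1], 54, [57]),
    ([0, 2, 1, 0, 3, 0, 2], 61, [657]),
    ([2, 5, 5, 1, 6, 0, 5], 55, [502]),
    ([3, 6, 0, 6, 6, 2, 0, 1], 57, [1917]),
    ([1, 2, 3, 1, 0, 6, 1, 0], 55, [231]),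
    ([0, 1, 6, 2, 5, 4, 1], 57, [1491]),
    ([0, 1, 5, 1, 2, 6, 2, 0], 48, [2011]),
    ([0, 3, 5, 3, 2, 6, 0, 1], 57, [1130]),
    ([1, 2, 7, 1, 6, 0, 1, 2, 0, 0], 61, [2539]),
    ([1, 0, 3, 0, 0, 5, 2], 61, [1119]),
    ([3, 2, 6, 5, 0, 0], 61, [2035]),
    ([0, 3, 4, 0, 3], 55, [909]),
    ([4, 2, 6, 4, 3, 2], 49, [788]),
    ([6, 2, 5, 1, 0, 2, 6], 58, [363]),
    ([3, 1, 2, 0, 1, 3], 55, [788]),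
    ([0, 1, 6, 3, 0, 3, 2, 1], 61, [2105]),
    ([2, 1, 6, 0, 0, 5, 2, 0], 61, [1149]),
    ([5, 4, 1, 5, 2, 0], 60, [81]),
    ([2, 5, 5, 4, 3], 57, [2394]),
    ([4, 5, 3, 3, 2, 5], 58, [2560]),
    ([5, 0, 1, 7, 4, 0], 50, [2303]),
    ([6, 2, 1, 0, 2, 3, 1, 0], 48, [984]),
    ([2, 1, 7, 6, 3, 6], 48, [66]),
    ([0, 1, 3, 0, 3, 4, 2, 1], 58, [115]),
    ([4, 1, 2, 1, 0, 6, 0], 50, [2830]),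
    ([0, 6, 1, 4, 3, 3, 2], 55, [2424]),
    ([1, 0, 5, 1, 0, 3, 1, 0], 55, [560]),
    ([4, 3, 4, 0, 1], 59, [2749]),
    ([1, 3, 2, 7, 4, 4, 1], 59, [2843]),
    ([2, 0, 1, 6, 2, 1], 49, [2484]),
    ([2, 6, 1, 4, 1, 0], 50, [1891]),
    ([7, 0, 3, 1, 0, 5, 0, 0], 61, [2779]),
    ([2, 0, 1, 2, 0, 5, 4, 0], 61, [2103]),
    ([2, 0, 0, 0, 6, 1, 0, 3, 1], 55, [2283]),
    ([0, 3, 2, 7, 6, 5], 59, [2461]),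
    ([3, 5, 2, 4, 3], 59, [2042]),
    ([4, 0, 1, 2, 1, 5, 1], 48, [1097]),
    ([0, 1, 2, 3, 1, 5, 0, 0], 48, [2394]),
    ([0, 3, 5, 3, 0, 1], 61, [1778]),
    ([3, 2, 3, 6, 3], 57, [2383]),
    ([1, 5, 1, 3, 0, 5, 0], 49, [231]),
    ([1, 5, 1, 2, 3, 0, 1, 0], 61, [969]),
    ([0, 5, 1, 7], 57, [507]),
    ([5, 6, 2, 1, 0, 5, 2], 57, [1221]),
    ([1, 0, 3, 2, 1, 5, 4], 55, [2008]),
    ([6, 0, 1, 7, 2, 3], 55, [2484]),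
    ([7, 6, 6, 4, 2, 4], 58, [370]),
    ([0, 0, 3, 0, 1, 5, 0, 0, 0], 56, [2170]),
    ([5, 3, 1, 5, 2], 60, [2486]),
    ([2, 4, 5, 0, 2, 0, 0], 48, [2851]),
    ([4, 4, 2, 0, 5, 3, 1, 2], 54, [462]),
    ([1, 7, 0, 6, 1, 4, 2, 1], 57, [601]),
    ([1, 0, 5, 5, 1, 6, 0], 58, [2877]),
    ([4, 4, 3, 2, 4, 0, 2, 1], 58, [1525]),
    ([0, 5, 1, 2, 0, 1, 0, 3], 56, [655]),
    ([3, 4, 1, 2, 0, 1, 0], 61, [2700]),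
    ([6, 5, 1, 0, 3, 3, 0], 61, [2069]),
    ([7, 0, 2, 6, 3], 60, [1566])]

end Cfsg.Lib.LyReal
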