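/-! Generated data: double cosets. -/

set_option autoImplicit false
set_option maxRecDepth 20000

namespace Cfsg.Lib.LyReal

/-- The translates of record 51. -/
def moveT51 : List (List Nat × Nat × List Nat) :=
  [([1, 5, 0, 1, 4, 0, 2, 0], 55, [1402]),
    ([1, 7, 3, 1, 0, 3, 1, 2, 0], 55, [2840]),
    ([5, 5, 6, 3, 0], 51, [732]),
    ([0, 1, 0, 2, 6], 55, [1405]),
    ([5, 1, 7, 5, 4, 2, 1], 49, [1687]),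
    ([3, 4, 5, 0, 2, 3], 49, [2499]),
    ([7, 2, 0, 2, 4, 3], 55, [594]),
    ([0, 1, 4, 3, 0, 3, 4], 49, [1634]),
    ([5, 2, 3, 2, 0], 51, [1956]),
    ([7, 2, 4, 0, 3, 2], 55, [1401]),
    ([0, 6, 4, 4, 2, 4], 49, [554]),
    ([4, 5, 5, 6, 2, 0, 2], 55, [466]),
    ([0, 1, 4, 2, 0, 6, 1, 0, 2], 55, [2066]),
    ([5, 1, 4, 1, 2, 1], 51, [405]),
    ([5, 2, 0, 6], 18, [1135]),
    ([1, 2, 0, 1, 3, 0], 51, [1707]),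
    ([2, 0, 3, 4, 2], 51, [2423]),
    ([4, 1, 6, 3, 3], 47, [1119]),
    ([6, 0, 0, 5, 1, 2, 0, 1, 6, 0], 55, [2465]),
    ([0, 5, 4, 3, 1, 4, 0, 2], 55, [1530]),
    ([5, 2, 1, 6, 4, 2, 0, 0], 49, [1689]),
    ([6, 0, 5, 2, 6, 0, 3, 1], 55, [2499]),
    ([1, 2, 6, 0, 7, 1, 3, 0], 55, [2053]),
    ([2, 1, 5, 3, 5], 51, [1524]),
    ([5, 5, 6, 0, 3, 1, 0, 2], 55, [2398]),
    ([0, 6, 2, 6, 3, 6, 0, 1], 55, [853]),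
    ([2, 5, 5, 5, 0, 2, 5], 55, [554]),
    ([4, 4, 5, 5, 0, 3], 55, [586]),
    ([7, 3, 0, 1, 2, 0, 5, 0, 0], 55, [1953]),
    ([0, 1, 5, 0, 6, 0, 2, 0], 55, [975]),
    ([1, 2, 0, 6, 4], 47, [2190]),
    ([2, 6, 1, 0, 0, 0, 3, 0], 55, [1611]),
    ([7, 0, 6, 1, 0, 3], 49, [2589]),
    ([1, 7, 0, 2, 6, 1, 0, 0, 0], 55, [748]),
    ([3, 0, 1, 2, 7, 3, 0], 55, [635]),
    ([2, 6, 3, 1], 51, [2483]),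
    ([3, 0, 1, 7, 2, 3, 0], 55, [1796]),
    ([4, 0, 5, 4], 51, [1051]),
    ([5, 1, 2, 1, 7, 6], 49, [1928]),
    ([1, 4, 2, 0, 6, 1, 0], 55, [1792]),
    ([2, 1, 5, 3, 2, 3, 2, 0, 0], 55, [1997]),
    ([0, 1, 0, 2, 5, 3], 51, [1196]),
    ([1, 7, 6, 4, 2, 0, 1, 0], 55, [361]),
    ([0, 6, 5, 3, 2, 0, 1, 4], 55, [2405]),
    ([1, 0, 5, 0, 1, 0, 3], 55, [2727]),
    ([3, 4, 3, 3, 0, 2], 49, [2039]),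
    ([2, 4, 2, 0, 7, 5], 55, [552]),
    ([1, 6, 3, 3, 0, 1], 49, [1792]),
    ([6, 1, 5, 1, 0, 0, 0], 55, [2856]),
    ([2, 6, 0, 2, 4, 2], 49, [1485]),
    ([0, 2, 6, 0, 6, 3, 1, 4], 55, [851]),
    ([0, 1, 5, 3, 4, 2, 3, 0], 55, [1018]),
    ([4, 1, 2, 6, 1], 18, [1737]),
    ([4, 0, 1, 2, 7, 0], 51, [1495]),
    ([3, 6, 6, 0], 51, [910]),
    ([7, 1, 5, 2, 0, 1, 0], 55, [149]),
    ([0, 0, 5, 3, 5, 2, 1, 0, 0], 55, [666]),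
    ([2, 3, 1, 7, 2, 0, 1], 51, [1990]),
    ([2, 6, 3, 5, 1], 51, [1186]),
    ([2, 3, 6, 0, 6, 5, 4, 2], 55, [1913]),
    ([1, 2, 7, 0, 6, 4, 1, 0], 55, [2381]),
    ([7, 3, 1, 0, 2, 1, 0], 51, [1501]),
    ([0, 6, 1, 2, 3, 2, 6, 2, 0], 55, [1634]),
    ([0, 7, 4, 2, 0, 6, 0], 53, [547]),
    ([0, 5, 4, 2, 7], 53, [1883]),
    ([1, 6, 2, 4, 0, 2, 1], 53, [1110]),
    ([2, 0, 0, 7, 6, 3, 0], 53, [496]),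
    ([4, 0, 5, 4, 3, 2], 53, [1179]),
    ([4, 5, 5, 0], 55, [2112]),
    ([0, 7, 0, 5, 1, 2, 0, 1, 0], 55, [1689]),
    ([7, 0, 5, 4], 51, [200]),
    ([4, 3, 3, 3, 3, 2, 0], 53, [1152]),
    ([0, 6, 2, 5, 6], 49, [2405]),
    ([6, 5, 6, 5, 0, 1, 0, 2], 55, [113]),
    ([7, 1, 2, 0, 5, 0, 1], 49, [596]),
    ([3, 0, 2, 5, 2, 5, 1, 2, 0], 55, [2591]),
    ([1, 6, 6, 2, 0, 1, 0], 51, [1507]),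
    ([0, 5, 0, 1, 2, 3, 1], 49, [149]),
    ([2, 4, 5, 0, 3, 2], 55, [1920]),
    ([2, 1, 5, 2, 0, 3, 4, 1], 55, [1869]),
    ([4, 0, 1, 4, 1, 4, 0, 0], 55, [2589]),
    ([0, 6, 2, 6, 0, 3, 1], 55, [413]),
    ([0, 2, 6, 3, 3, 0, 1], 55, [1499]),
    ([0, 2, 6, 3], 18, [1254]),
    ([0, 3, 4, 0, 0], 51, [1432]),
    ([1, 2, 5, 1, 6, 0, 1, 0, 0], 55, [596]),
    ([3, 6, 0, 1, 0, 3, 2], 55, [1868]),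
    ([2, 0, 3, 5, 2, 6, 5], 55, [885]),
    ([6, 6, 1, 3, 2, 0, 1, 0], 55, [1715]),
    ([1, 2, 5, 6, 0, 3, 1, 0], 55, [1485]),
    ([1, 0, 2, 0, 3], 47, [2799]),
    ([0, 7, 5, 0, 0, 5, 2], 49, [2465]),
    ([6, 0, 1, 0, 2, 6, 3], 55, [618]),
    ([0, 6, 5, 3, 2, 0, 1, 4], 55, [1687]),
    ([0, 2, 5, 3, 0, 5, 3, 1], 55, [623]),
    ([1, 6, 2, 4, 1], 18, [2344]),
    ([0, 2, 6, 0, 3, 1, 4], 55, [720]),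
    ([0, 0, 5, 0, 5, 1, 0], 53, [1878]),
    ([2, 3, 6, 0, 3, 3], 53, [2071]),
    ([2, 6, 0, 1, 6, 5, 1], 53, [2413]),
    ([1, 5, 1, 5, 0, 2], 53, [1305]),
    ([0, 6, 6, 3, 4, 1, 2, 0], 55, [2799]),
    ([3, 0, 5, 6, 1, 5, 0], 49, [2727]),
    ([2, 3, 2, 6, 5, 2, 0], 49, [703]),
    ([7, 1, 0, 2, 6, 1, 0, 0, 0], 55, [1394]),
    ([1, 4, 2, 7, 1], 53, [52]),
    ([1, 4, 1, 4, 2, 4, 1, 0, 0], 55, [703]),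
    ([1, 0, 0, 6, 6, 0, 2, 1, 0], 55, [1542]),
    ([3, 0, 5, 2, 5, 0, 1, 4], 55, [1928]),
    ([3, 0, 1, 2, 7, 3, 0], 55, [359]),
    ([0, 2, 3, 4, 0, 5, 0], 49, [2112]),
    ([5, 0, 1, 6, 0], 18, [1172]),
    ([2, 0, 6, 0, 5, 1, 0, 2, 1], 55, [1013]),
    ([5, 2, 0, 2, 4], 51, [897]),
    ([7, 0, 6, 1, 2, 0], 51, [1327]),
    ([4, 2, 5, 2, 5], 47, [1864]),
    ([5, 6, 1, 2, 4, 2, 1, 0], 55, [127]),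
    ([1, 2, 5, 5, 1, 5, 2, 0, 0], 55, [1471]),
    ([3, 0, 1, 2, 3, 6, 0], 55, [2219]),
    ([2, 0, 6, 0, 7, 0], 49, [1611]),
    ([7, 2, 0, 2, 4, 3], 55, [2695]),
    ([7, 5, 5, 0, 2, 0, 1], 55, [2039]),
    ([7, 1, 6, 2, 0, 5, 5, 1, 0], 55, [139]),
    ([2, 6, 0, 3, 3], 53, [1904]),
    ([0, 6, 2, 5, 6], 49, [1518]),
    ([4, 4, 1, 7, 0, 5, 2, 1, 0], 55, [1821]),
    ([3, 0, 1, 5, 2, 7, 0, 6], 55, [873]),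
    ([5, 2, 1, 6, 4, 0, 0, 0, 0], 55, [1363]),
    ([0, 7, 5, 2, 3, 3], 53, [820]),
    ([0, 3, 2, 3, 6, 3, 0, 1], 55, [1193]),
    ([4, 0, 1, 0, 2, 4, 1, 2, 0], 55, [1609]),
    ([5, 3, 0], 51, [1290]),
    ([6, 1, 2, 0, 7, 3, 1, 0], 55, [2396]),
    ([0, 5, 0, 0, 7, 5, 0, 0], 55, [1148]),
    ([2, 0, 5, 5, 2, 6], 55, [984]),
    ([1, 5, 2, 0, 1, 0], 55, [396]),
    ([0, 6, 6, 5, 1, 0], 49, [2396]),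
    ([0, 1, 4, 2, 0, 6, 1, 0, 2], 55, [1465]),
    ([5, 3, 2, 0, 2, 5], 55, [1361]),
    ([7, 5, 0, 5, 2, 3, 0, 1], 55, [2181]),
    ([1, 3, 6, 3, 1, 2, 1, 0, 0], 55, [1518]),
    ([4, 0, 5, 4, 2], 53, [868]),
    ([3, 2, 0, 6, 5, 5], 53, [690]),
    ([3, 0, 5, 2, 5], 53, [699]),
    ([7, 3, 6, 2, 0, 3], 47, [2704]),
    ([0, 1, 0, 3, 3, 4], 53, [2460]),
    ([5, 4, 2, 5, 6, 3, 0], 53, [1167]),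
    ([2, 0, 7, 0, 3, 3, 0], 53, [1255]),
    ([2, 7, 0, 6, 0, 3, 1, 0, 0], 55, [471]),
    ([5, 2, 5, 5, 3, 0], 53, [528])]

end Cfsg.Lib.LyReal
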