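/-! Generated data: double cosets. -/

set_option autoImplicit false
set_option maxRecDepth 20000

namespace Cfsg.Lib.LyReal

/-- The translates of record 52. -/
def moveT52 : List (List Nat × Nat × List Nat) :=
  [([1, 2, 6, 1, 0, 0, 0], 63, [143]),
    ([2, 0, 3, 0, 2, 5, 1, 2], 55, [158]),
    ([2, 4, 1, 0, 5, 3, 2, 0, 0], 55, [901]),
    ([2, 0, 1, 5, 0, 0, 0], 56, [171]),
    ([4, 2, 7, 0, 1, 0, 0, 0], 63, [349]),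
    ([1, 0, 2, 1, 4, 1, 6], 56, [2366]),
    ([4, 1, 0, 2, 1, 5, 0], 63, [234]),
    ([0, 1, 4, 0, 2, 0, 1, 5], 56, [839]),
    ([5, 5, 6, 2, 6, 0], 55, [636]),
    ([6, 0, 1, 5, 4, 0, 2, 1, 0, 0, 0], 58, [1766]),
    ([5, 1, 6, 2, 0, 6, 2], 49, [158]),
    ([1, 2, 5, 2, 5, 2, 0, 1], 57, [977]),
    ([4, 1, 3, 0, 1, 7, 0, 0], 55, [1782]),
    ([2, 0, 2, 5, 4, 0], 57, [327]),
    ([6, 1, 2, 0, 6, 3, 0], 57, [1658]),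
    ([7, 6, 1, 5, 0, 0, 0], 48, [2843]),
    ([0, 3, 6, 2, 1, 0, 3, 0, 0], 55, [2565]),
    ([7, 6, 2, 0, 6, 4, 1], 55, [2813]),
    ([0, 1, 2, 7, 0, 5, 0], 52, [507]),
    ([3, 4, 1, 0, 3, 0], 56, [695]),
    ([3, 4, 1, 5, 2, 3], 58, [959]),
    ([0, 7, 3, 5, 2, 1, 0, 0], 54, [2366]),
    ([2, 0, 2, 4, 1, 3, 2, 0, 2], 55, [1547]),
    ([4, 5, 0, 1, 3], 54, [1612]),
    ([7, 1, 6, 4, 4, 2], 58, [2708]),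
    ([6, 1, 4, 0, 2, 4, 0, 0], 56, [152]),
    ([0, 1, 7, 5, 3, 2, 1, 0, 0], 55, [1612]),
    ([6, 3, 2, 3, 4, 0, 1], 54, [421]),
    ([7, 4, 2, 5, 3, 0], 62, [99]),
    ([3, 0, 2, 1, 6, 0, 2, 0], 56, [585]),
    ([1, 5, 0, 7, 2, 0, 1], 55, [1666]),
    ([4, 0, 2, 6, 1, 3], 54, [1696]),
    ([6, 6, 5, 4, 4, 1], 63, [2164]),
    ([3, 3, 6, 2, 3, 3], 63, [1270]),
    ([0, 6, 1, 5, 1, 2, 4, 1], 58, [2652]),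
    ([4, 2, 6, 5, 3, 4], 48, [543]),
    ([2, 0, 2, 1, 6, 0, 2, 4, 1], 63, [821]),
    ([1, 2, 3, 0, 3, 1, 0], 54, [978]),
    ([5, 3, 4, 0, 2, 4, 0, 1], 56, [594]),
    ([3, 0, 1, 2, 6, 1, 0, 0], 58, [801]),
    ([2, 6, 3, 1, 0, 3, 1], 56, [2727]),
    ([3, 4, 1, 0, 2, 5], 49, [901]),
    ([0, 2, 0, 6, 4, 4, 2], 57, [31]),
    ([0, 3, 6, 2, 5, 1, 0, 0], 58, [931]),
    ([2, 5, 0, 1, 7, 0, 3], 56, [1713]),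
    ([3, 4, 0, 6, 5], 49, [1547]),
    ([1, 2, 7, 6, 5, 0, 0], 54, [2727]),
    ([2, 7, 1, 6, 4, 0, 0, 0, 0], 56, [0]),
    ([4, 2, 5, 4, 4, 1, 0, 2], 55, [1082]),
    ([7, 6, 1, 4, 3, 2], 57, [1166]),
    ([1, 5, 5, 3, 5, 0], 58, [2296]),
    ([0, 1, 0, 7, 5, 1, 2, 1], 56, [2368]),
    ([5, 6, 5, 1, 2, 0, 0, 0, 0], 55, [986]),
    ([0, 0, 5, 0, 1, 0, 3, 1, 0], 55, [1637]),
    ([1, 2, 0, 6, 3, 3, 2], 49, [986]),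
    ([2, 4, 4, 1, 4, 0, 1], 56, [1613]),
    ([3, 2, 6, 3, 6, 0, 2, 1], 54, [594]),
    ([0, 2, 4, 2, 1, 5], 55, [1278]),
    ([2, 5, 1, 3, 2, 1, 4, 1], 55, [1467]),
    ([2, 0, 5, 4, 1, 3, 2, 0, 0], 56, [128]),
    ([5, 5, 1, 6, 0], 58, [2409]),
    ([3, 5, 2, 5, 3, 1, 0], 57, [2876]),
    ([2, 4, 1, 0, 7, 6, 1, 0], 58, [297]),
    ([6, 2, 6, 0, 6, 1, 2, 0], 55, [1953]),
    ([6, 2, 0, 1, 2, 5, 0, 1, 0], 54, [1637]),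
    ([1, 3, 2, 1, 5, 0], 49, [594]),
    ([2, 1, 6, 1, 3, 5, 0, 0], 54, [2565]),
    ([2, 5, 1, 2, 0, 1, 0, 5, 0], 56, [1637]),
    ([2, 7, 6, 6, 2, 1], 63, [929]),
    ([7, 3, 0, 1, 5, 2, 1], 56, [421]),
    ([6, 6, 6, 5, 6, 3, 0], 56, [2374]),
    ([5, 0, 2, 4, 1, 3, 0, 0], 57, [1378]),
    ([2, 1, 5, 0, 0, 0, 3, 1, 2], 58, [1968]),
    ([0, 6, 3, 0, 1, 0, 2], 63, [613]),
    ([7, 0, 6, 6, 2, 1, 0, 2], 58, [1533]),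
    ([7, 1, 3, 4, 2, 0, 0, 0], 55, [2374]),
    ([2, 0, 1, 7, 5, 2, 0, 1, 0, 0], 58, [1342]),
    ([4, 4, 1, 3, 0, 3], 54, [1613]),
    ([0, 0, 6, 6, 0, 2, 4, 1], 54, [152]),
    ([2, 0, 1, 3, 2, 0, 6, 1, 0], 63, [1534]),
    ([6, 1, 0, 6, 2, 1, 6, 0], 63, [2225]),
    ([7, 1, 5, 2], 48, [305]),
    ([0, 2, 6, 5, 1, 5, 0, 0], 58, [2732]),
    ([3, 5, 0, 2, 6, 3, 1, 0], 58, [272]),
    ([7, 0, 3, 2], 58, [540]),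
    ([0, 2, 3, 4, 5, 1, 0, 0], 54, [460]),
    ([2, 1, 0, 2, 4, 0, 6, 0, 1], 63, [2791]),
    ([1, 2, 3, 1, 2, 6], 63, [2274]),
    ([2, 0, 5, 0, 7, 1, 0, 0, 0], 56, [2622]),
    ([0, 5, 5, 2, 7, 0], 48, [1551]),
    ([3, 0, 5, 1, 4, 1], 49, [1666]),
    ([0, 3, 1, 2, 0, 1], 62, [2826]),
    ([2, 0, 1, 7, 6, 4, 2, 0, 0, 0], 58, [2083]),
    ([5, 5, 2, 6, 5, 6], 52, [349]),
    ([7, 5, 1, 3, 0, 2, 3, 0], 58, [1228]),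
    ([1, 2, 1, 5, 1, 3, 0], 58, [1839]),
    ([0, 3, 2, 1, 0, 2, 5, 0], 56, [16]),
    ([1, 6, 3, 0, 3, 2, 0, 0], 55, [594]),
    ([1, 3, 5, 0, 2, 1, 6, 3], 56, [1654]),
    ([0, 5, 5, 1, 4, 3, 0], 55, [1402]),
    ([3, 3, 5, 2, 5, 0, 1, 0], 58, [113]),
    ([5, 4, 5, 3, 1, 3, 0], 58, [2180]),
    ([5, 4, 3, 1, 0], 58, [1608]),
    ([6, 4, 4, 2, 0, 2], 63, [1968]),
    ([1, 2, 0, 7, 6, 5, 0], 62, [2333]),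
    ([1, 7, 0, 5, 1], 48, [2749]),
    ([0, 1, 6, 5, 5, 2], 52, [2155]),
    ([1, 6, 6, 5, 0, 3, 2, 0], 58, [676]),
    ([3, 1, 4, 0, 6, 1, 0, 0], 58, [2357]),
    ([5, 1, 2, 0, 6, 2, 3], 54, [1713]),
    ([4, 4, 5, 3, 1, 2, 1, 0], 63, [402]),
    ([2, 7, 6, 0, 6, 1], 55, [1635]),
    ([0, 6, 2, 7, 1, 5, 2, 0, 0, 0], 58, [387]),
    ([5, 6, 5, 0, 6, 5], 56, [1612]),
    ([0, 2, 5, 0, 1, 6, 5, 0], 56, [978]),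
    ([2, 6, 5, 5, 4, 0, 2, 1], 55, [1335]),
    ([5, 4, 5, 5, 1, 4], 56, [1847]),
    ([2, 6, 3, 4, 4, 4, 3], 52, [2028]),
    ([2, 6, 0, 5, 4], 62, [1272]),
    ([6, 1, 7, 0, 2, 6], 56, [1696]),
    ([4, 1, 5, 3, 0, 2, 3], 56, [1020]),
    ([4, 5, 5, 1, 2, 0, 2], 55, [855]),
    ([3, 3, 3, 4, 0, 2, 1], 54, [1020]),
    ([0, 1, 6, 0, 1, 3, 1], 58, [2375]),
    ([5, 0, 5, 1, 3, 2], 52, [1534]),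
    ([7, 4, 2, 5, 4, 2, 1], 63, [1673]),
    ([2, 3, 6, 0, 0, 5, 1], 54, [2622]),
    ([1, 2, 0, 2, 5, 2, 6], 56, [25]),
    ([6, 2, 7, 0, 3, 0, 0, 0], 55, [1687]),
    ([2, 7, 6, 6, 0], 62, [1738]),
    ([0, 7, 5, 5, 1, 3, 2, 1], 58, [2560]),
    ([4, 1, 2, 7, 0, 6, 1], 56, [2054]),
    ([3, 1, 0, 2, 0, 3, 4], 58, [1830]),
    ([1, 2, 6, 4, 4], 62, [1659]),
    ([6, 6, 1, 7, 0, 5, 2], 56, [460]),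
    ([3, 3, 3, 5, 3, 2], 52, [548]),
    ([1, 2, 0, 5, 4, 1, 3, 1, 0], 58, [1312]),
    ([0, 5, 1, 3, 4, 4, 4], 55, [1695]),
    ([5, 6, 2, 5, 2, 0], 63, [2248]),
    ([1, 4, 3, 2, 0, 1, 2, 0, 0], 63, [1185]),
    ([1, 0, 2, 1, 6, 1], 63, [2685]),
    ([4, 1, 6, 0, 2, 7, 4], 58, [2713]),
    ([5, 5, 6, 0, 5, 1, 0], 57, [2662]),
    ([1, 0, 3, 4, 0, 3, 2, 1], 58, [1469]),
    ([5, 2, 5, 0, 1, 6, 3, 2], 55, [0]),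
    ([5, 5, 2, 1, 6, 0], 57, [1454]),
    ([4, 0, 2, 3, 5, 1], 48, [2662]),
    ([0, 3, 2, 1, 5, 2, 1, 0, 0], 56, [1067]),
    ([0, 5, 2, 5, 1, 3, 0, 2, 0], 56, [1239]),
    ([5, 5, 0, 1, 6, 4, 0, 2], 56, [2565])]

end Cfsg.Lib.LyReal
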