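/-! Generated data: double cosets. -/

set_option autoImplicit false
set_option maxRecDepth 20000

namespace Cfsg.Lib.LyReal

/-- The translates of record 53. -/
def moveT53 : List (List Nat × Nat × List Nat) :=
  [([1, 3, 6, 6, 2, 6, 1], 54, [1327]),
    ([6, 1, 2, 5, 3], 47, [888]),
    ([0, 3, 5, 1, 2, 3], 54, [1124]),
    ([0, 7, 2, 0, 1, 6, 4], 58, [719]),
    ([0, 1, 0, 2, 4, 1], 56, [1754]),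
    ([0, 2, 0, 7, 1, 0, 5], 58, [2758]),
    ([1, 3, 6, 6, 2], 56, [1327]),
    ([1, 5, 5, 6, 3, 1, 0], 58, [279]),
    ([1, 0, 5, 3, 2, 6, 1, 0, 0], 58, [1793]),
    ([4, 2, 0, 7, 3], 53, [1285]),
    ([2, 7, 3], 47, [1957]),
    ([0, 1, 0, 2, 6, 2, 6], 53, [2657]),
    ([0, 1, 0, 7, 3], 47, [692]),
    ([4, 4, 5, 5, 0, 1, 2], 58, [1761]),
    ([7, 0, 0, 5, 0, 1, 0, 2, 1], 56, [41]),
    ([1, 2, 5, 1, 2, 4, 2], 54, [1251]),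
    ([2, 0, 7, 1, 5, 5, 2, 1, 0], 58, [429]),
    ([2, 5, 1, 2, 0, 6, 1, 0], 61, [2232]),
    ([6, 0, 5, 4, 4, 3, 1], 56, [2318]),
    ([1, 0, 0, 7, 5, 3, 0], 61, [294]),
    ([5, 1, 2, 0, 0, 6, 3, 1, 0], 56, [2311]),
    ([5, 2, 0, 2, 6, 4], 58, [2535]),
    ([6, 6, 3], 18, [2052]),
    ([3, 0, 1, 5, 1, 2, 4, 1], 56, [2468]),
    ([0, 3, 2, 0, 6, 4, 0], 54, [949]),
    ([0, 6, 5, 1, 2, 5, 0, 0], 61, [759]),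
    ([1, 5, 2, 3], 47, [525]),
    ([0, 6, 6, 4, 3, 2, 0, 1, 0], 58, [227]),
    ([5, 6, 2, 6, 6, 1, 4], 58, [2169]),
    ([1, 6, 3, 0, 5, 4], 56, [2725]),
    ([6, 4, 0, 5, 5], 60, [1968]),
    ([5, 5, 6, 5, 0, 3], 60, [903]),
    ([0, 3, 2, 1, 4, 5, 0, 1], 54, [2843]),
    ([1, 0, 2, 0, 5, 0, 1, 0], 58, [401]),
    ([2, 0, 6, 1, 3, 0, 1], 61, [92]),
    ([3, 6, 4, 1, 4, 2, 0, 2], 56, [1251]),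
    ([0, 2, 1, 6, 3, 0, 2, 5, 0, 0], 56, [1575]),
    ([7, 1, 4, 0, 2, 0], 61, [2211]),
    ([6, 2, 5, 6, 3, 0], 53, [2240]),
    ([2, 5, 3, 0, 3], 53, [1051]),
    ([0, 7, 6, 5, 2, 1], 56, [868]),
    ([1, 4, 2, 0, 6, 5, 0], 56, [603]),
    ([0, 1, 3, 0, 1, 3, 1], 53, [33]),
    ([1, 2, 3, 5, 0, 6, 4, 1], 58, [2842]),
    ([5, 6, 2, 0, 5, 1], 56, [2407]),
    ([1, 4, 2, 4, 3, 0], 51, [1400]),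
    ([6, 1, 6, 3, 3, 2, 1], 54, [868]),
    ([0, 1, 0, 0, 0, 6, 5], 53, [1707]),
    ([4, 1, 7, 6], 47, [891]),
    ([5, 3, 0, 2, 4, 5, 5], 53, [455]),
    ([2, 4, 1, 4, 3, 0, 2], 56, [205]),
    ([2, 6, 6, 0, 3, 4, 0, 0], 53, [2108]),
    ([2, 5, 1, 5, 2, 6, 0, 1], 58, [265]),
    ([7, 5, 5, 4, 2, 1, 0], 54, [1493]),
    ([7, 0, 3, 2, 3, 1, 2, 1, 0, 0], 58, [1430]),
    ([3, 5, 1, 4, 4, 2], 56, [949]),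
    ([0, 3, 0, 3, 2, 0], 53, [1733]),
    ([2, 0, 1, 2, 3, 3, 5, 0], 56, [518]),
    ([0, 0, 5, 4, 0, 1, 2, 0, 1], 56, [1493]),
    ([5, 1, 6, 0, 7, 3, 2, 1], 58, [2847]),
    ([4, 1, 7, 5, 0, 2, 1], 54, [548]),
    ([2, 0, 0, 5, 5, 3, 1, 0, 0], 58, [2313]),
    ([4, 1, 5, 0, 1, 0, 0, 0], 56, [1906]),
    ([0, 1, 6, 4, 2, 4, 0], 58, [252]),
    ([5, 1, 6, 1, 4, 3], 54, [1636]),
    ([0, 2, 6, 1, 3, 1, 2, 0], 58, [2701]),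
    ([0, 5, 5, 1, 6, 4, 3], 56, [216]),
    ([0, 0, 6, 1, 2, 4, 0, 1], 58, [1200]),
    ([1, 5, 2, 1, 5, 4, 0, 1, 0], 54, [107]),
    ([3, 1, 4, 5, 5, 1], 54, [2311]),
    ([0, 5, 4, 1, 4, 3], 60, [1041]),
    ([6, 1, 0, 5, 0, 2, 5], 56, [1209]),
    ([3, 3, 2, 4, 1, 2, 0], 56, [2461]),
    ([1, 6, 0, 7, 1, 2, 5], 58, [1913]),
    ([6, 1, 0, 2, 4, 3, 1, 0, 0], 61, [2533]),
    ([0, 2, 1, 4, 2, 4], 51, [883]),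
    ([6, 4, 0, 7, 2, 3, 0], 56, [1478]),
    ([2, 1, 0, 7, 0, 5], 58, [1021]),
    ([4, 0, 6, 5, 0, 2, 1, 0], 61, [310]),
    ([3, 1, 4, 2, 3, 0, 1], 54, [804]),
    ([5, 3, 0, 1, 2, 6, 1, 0, 0, 0], 56, [428]),
    ([6, 1, 5, 4, 1, 2, 0], 53, [2673]),
    ([3, 3, 4, 0, 5, 1], 60, [181]),
    ([6, 6, 5, 0, 3, 1, 2], 61, [1174]),
    ([2, 6, 6, 3, 6, 1, 0], 61, [2768]),
    ([6, 5, 3, 1, 2, 0, 0], 61, [693]),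
    ([0, 3, 5, 0, 3, 0, 0, 0, 0], 58, [1480]),
    ([3, 0, 5, 2, 6, 3, 1], 56, [237]),
    ([7, 0, 1, 5, 1, 2], 53, [1903]),
    ([6, 4, 3, 6, 2, 0], 53, [51]),
    ([2, 0, 7, 1, 5, 2, 1], 61, [2265]),
    ([1, 5, 2, 1, 4, 5], 54, [848]),
    ([2, 0, 1, 5, 3, 3], 56, [342]),
    ([4, 1, 6, 5, 0, 5, 2, 1], 58, [4]),
    ([2, 6, 0, 6, 4, 4, 2, 1], 56, [548]),
    ([1, 2, 1, 6, 6, 0, 6, 1, 0], 54, [1478]),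
    ([4, 1, 0, 6, 4], 61, [2201]),
    ([3, 4, 1, 6, 0, 1], 54, [1778]),
    ([2, 0, 0, 3, 1, 4, 2, 0, 1], 58, [2545]),
    ([3, 2, 4, 3, 6, 4], 56, [1594]),
    ([4, 1, 4, 1, 6, 0], 58, [2103]),
    ([3, 2, 7, 1, 6, 0, 0, 0], 58, [1125]),
    ([0, 5, 2, 1, 0, 6, 1], 58, [2006]),
    ([2, 1, 0, 6, 0, 2, 0, 1, 4], 58, [1974]),
    ([1, 5, 0, 1, 4, 2, 1], 56, [2846]),
    ([2, 1, 7, 0, 3, 3, 2], 56, [2174]),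
    ([3, 1, 0, 6, 1, 7, 2, 0], 58, [827]),
    ([6, 6, 3, 3, 3, 2], 56, [2470]),
    ([1, 5, 2, 6, 1, 7], 53, [2815]),
    ([1, 3, 0, 5, 1, 3], 54, [2407]),
    ([0, 2, 7, 0, 5, 4], 56, [107]),
    ([7, 1, 4, 0, 6, 2, 0, 1, 0], 56, [1124]),
    ([1, 0, 5, 1, 3, 0, 2], 61, [437]),
    ([3, 0, 5, 2, 6, 3, 0, 1], 58, [61]),
    ([6, 3, 1, 3, 2, 0, 2], 61, [2624]),
    ([4, 2, 0, 1, 2, 6, 2, 0, 2], 61, [476]),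
    ([0, 5, 1, 6, 3, 2, 1, 0, 0, 0], 61, [394]),
    ([1, 2, 0, 7, 3, 1, 2], 56, [2843]),
    ([0, 1, 6, 0, 5, 6, 0, 2], 58, [2456]),
    ([5, 6, 5, 0, 5, 2, 1], 61, [782]),
    ([0, 1, 3, 0, 1, 3, 0, 2], 56, [927]),
    ([4, 1, 7, 3, 3], 51, [337]),
    ([3, 5, 3, 2, 0, 3], 54, [927]),
    ([4, 4, 1, 7, 4, 0], 56, [1428]),
    ([4, 1, 5, 1, 4, 0, 0], 58, [2739]),
    ([1, 6, 3, 3, 0, 1], 54, [1575]),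
    ([2, 6, 0, 1, 4, 1], 53, [531]),
    ([0, 1, 2, 4, 3, 2, 0, 2], 58, [789]),
    ([2, 6, 2, 1, 7, 0, 0, 0], 56, [1778]),
    ([6, 1, 0, 2, 5, 1, 2, 1], 58, [1427]),
    ([6, 2, 1, 5, 1, 0], 53, [2340]),
    ([2, 0, 2, 4, 2, 0, 3, 1, 0], 58, [95]),
    ([0, 5, 1, 6, 4, 4], 60, [295]),
    ([0, 1, 3, 3, 6, 0, 2], 58, [125]),
    ([6, 6, 4, 3], 61, [2192]),
    ([0, 7, 1, 5, 0, 1, 0, 0], 56, [673]),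
    ([1, 7, 6, 5, 0], 61, [897]),
    ([5, 0, 2, 4, 1, 2], 51, [1514]),
    ([3, 2, 0, 3, 4, 2, 0], 58, [806]),
    ([7, 3, 3, 5, 1, 0], 56, [848]),
    ([5, 0, 6, 5, 4, 4, 1], 56, [804]),
    ([4, 1, 0, 3, 4, 2, 0], 56, [1978]),
    ([6, 2, 3, 2, 5, 0, 2], 54, [1209]),
    ([2, 1, 5, 2, 6, 1, 6, 1, 0], 56, [1636]),
    ([1, 0, 7, 0, 5, 5, 0], 61, [677]),
    ([1, 2, 4, 2, 0, 6, 2, 1], 58, [497]),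
    ([2, 1, 5, 4, 0, 0], 58, [1308]),
    ([3, 4, 0, 0, 6, 3], 58, [2301]),
    ([7, 6, 2, 6, 5, 0, 2], 58, [2594]),
    ([3, 1, 2, 3, 6, 1], 54, [1428])]

end Cfsg.Lib.LyReal
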