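/-! Generated data: double cosets. -/

set_option autoImplicit false
set_option maxRecDepth 20000

namespace Cfsg.Lib.LyReal

/-- The translates of record 54. -/
def moveT54 : List (List Nat × Nat × List Nat) :=
  [([5, 1, 0, 6, 4, 0], 58, [2560]),
    ([7, 6, 3, 3, 1], 53, [1538]),
    ([3, 5, 5, 2, 3, 1], 56, [2502]),
    ([2, 0, 3, 4, 3, 4, 1], 53, [2843]),
    ([0, 7, 0, 0, 6, 6], 56, [594]),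
    ([5, 1, 0, 6, 2, 4, 0], 63, [1612]),
    ([6, 2, 1, 0, 5, 1, 2, 1, 0, 0], 58, [2357]),
    ([5, 2, 0, 6, 2, 3, 1], 63, [2571]),
    ([2, 1, 5, 6, 3, 3, 0], 56, [2474]),
    ([0, 0, 6, 0, 6, 1, 2, 0, 0], 58, [1541]),
    ([4, 5, 1, 4, 3, 4, 0], 53, [1908]),
    ([6, 3, 2, 0, 3, 1], 61, [2114]),
    ([2, 1, 5, 2, 0, 3, 4], 53, [807]),
    ([1, 2, 3, 0, 5], 55, [661]),
    ([0, 5, 1, 3, 0, 1, 0, 0], 55, [793]),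
    ([1, 6, 1, 6, 1, 6, 2], 49, [793]),
    ([0, 5, 0, 5, 4, 1], 58, [2529]),
    ([5, 5, 3, 5, 0, 1], 57, [1749]),
    ([1, 6, 1, 6, 1, 6, 0, 2, 1, 0], 58, [1424]),
    ([2, 1, 5, 2, 7, 0, 6, 1], 58, [1085]),
    ([3, 2, 3, 6, 4, 3], 53, [1430]),
    ([3, 6, 1, 5, 5, 3], 62, [1635]),
    ([1, 0, 5, 5, 0, 2, 0, 1], 54, [750]),
    ([0, 5, 0, 2, 1, 4, 0, 1, 2], 63, [661]),
    ([0, 7, 3, 1, 3, 4], 60, [325]),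
    ([5, 5, 0, 3, 6, 2, 1, 0], 55, [1612]),
    ([3, 2, 4, 0, 3, 1], 53, [571]),
    ([5, 6, 5, 1, 5, 3], 53, [946]),
    ([7, 6, 6, 1, 0, 2, 1], 56, [2368]),
    ([6, 4, 1, 2, 7, 1], 63, [0]),
    ([2, 7, 5, 1, 0, 2, 1], 48, [1623]),
    ([5, 1, 0, 7, 5, 0], 63, [543]),
    ([6, 4, 0, 3, 0, 2], 63, [356]),
    ([5, 0, 2, 6, 0], 52, [2534]),
    ([0, 6, 0, 3, 2, 6], 63, [352]),
    ([0, 1, 0, 6, 4, 2, 6, 1, 0, 0], 55, [948]),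
    ([3, 1, 5, 2, 1, 5, 1, 0], 56, [415]),
    ([4, 4, 1, 2, 4, 1], 55, [2393]),
    ([2, 6, 0, 7, 2, 0], 58, [425]),
    ([5, 3, 4, 2, 1, 5, 0], 54, [1341]),
    ([4, 1, 2, 0, 2, 5], 52, [782]),
    ([1, 2, 1, 0, 6, 0, 3, 0, 0], 58, [165]),
    ([2, 1, 6, 4, 1, 5], 60, [2399]),
    ([2, 1, 7, 0, 2, 5, 0], 57, [305]),
    ([1, 0, 2, 5, 0, 6, 5, 0], 56, [1116]),
    ([0, 1, 0, 5, 1, 4, 0, 1], 58, [306]),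
    ([0, 3, 5, 1, 0, 2], 63, [1972]),
    ([4, 5, 0, 2, 4, 1, 0, 0], 56, [1145]),
    ([2, 4, 0, 1, 2, 5, 1], 53, [1770]),
    ([0, 6, 2, 0, 3, 1, 0], 61, [2522]),
    ([6, 1, 5, 2, 3, 0, 0], 61, [1783]),
    ([1, 7, 6, 6, 3, 2, 1, 0], 56, [181]),
    ([0, 2, 0, 7, 6, 4], 48, [651]),
    ([6, 0, 2, 1, 7], 57, [651]),
    ([7, 0, 2, 5, 5, 0, 1, 0], 57, [621]),
    ([1, 5, 0, 6, 2, 1, 0, 0], 61, [2296]),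
    ([1, 6, 2, 3, 0, 0, 0, 0], 56, [2802]),
    ([2, 1, 6, 4, 0, 2, 5, 0], 48, [621]),
    ([0, 5, 5, 1, 2, 0, 2], 57, [512]),
    ([1, 3, 2, 7, 0, 2], 61, [128]),
    ([1, 6, 2, 6, 3, 1], 52, [0]),
    ([2, 5, 0, 1, 0, 2, 1, 6], 55, [1230]),
    ([3, 4, 0, 7, 6, 1], 62, [949]),
    ([2, 6, 4, 1], 59, [2345]),
    ([5, 1, 2, 5, 6, 0], 54, [895]),
    ([6, 6, 5, 1, 5, 2], 59, [2218]),
    ([5, 4, 1, 7], 48, [2661]),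
    ([2, 7, 0, 5, 0, 2, 0, 1, 0], 56, [895]),
    ([0, 3, 0], 54, [1903]),
    ([5, 4, 0, 0, 0, 6, 0], 53, [741]),
    ([5, 0, 1, 0, 2, 4, 1], 49, [490]),
    ([1, 3, 1, 7, 0, 0, 0], 61, [2155]),
    ([5, 4, 5, 2, 6, 4], 48, [1166]),
    ([0, 1, 5, 2, 0, 5, 3, 0], 58, [2340]),
    ([1, 2, 0, 2, 5, 1, 4, 2, 0], 58, [2544]),
    ([4, 3, 6, 1, 2, 5, 0, 2], 56, [977]),
    ([0, 3, 6, 4, 1, 3, 0], 63, [2622]),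
    ([0, 5, 6, 4, 0, 0, 0], 61, [2345]),
    ([0, 7, 0, 6, 2, 0, 0], 55, [1082]),
    ([4, 2, 6, 5, 0, 3, 0], 55, [1695]),
    ([7, 1, 0, 6, 3, 0], 63, [2534]),
    ([5, 0, 3, 6, 2, 0, 1, 0], 61, [350]),
    ([0, 2, 0, 6, 6, 1, 5, 0], 54, [2833]),
    ([1, 0, 5, 1, 2, 0, 1, 6], 55, [490]),
    ([2, 0, 3, 1, 0, 6, 0, 5], 55, [1851]),
    ([2, 4, 0, 6, 1, 3, 2, 0], 56, [151]),
    ([7, 1, 6, 5, 2, 1, 0, 0, 0], 56, [1903]),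
    ([1, 6, 0, 5, 6, 0, 2], 49, [855]),
    ([2, 7, 3, 1, 2, 0, 0, 0], 56, [1341]),
    ([5, 5, 5, 1, 6, 3, 2], 61, [2122]),
    ([0, 1, 2, 5, 4, 4], 48, [2041]),
    ([4, 4], 54, [936]),
    ([0, 0, 6, 5, 0, 5, 0, 0], 53, [280]),
    ([3, 3, 0, 1, 4, 0, 2], 54, [2368]),
    ([7, 0, 3, 3, 1, 2], 63, [1637]),
    ([2, 0, 2, 6, 5, 1, 2, 0], 52, [1483]),
    ([4, 1, 6, 2, 0, 7, 2], 49, [158]),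
    ([7, 1, 5, 5, 1, 3], 50, [2218]),
    ([2, 0, 0, 5, 4, 2, 0, 1], 58, [1941]),
    ([2, 1, 4, 2, 6, 2], 50, [1384]),
    ([1, 0, 3, 1, 5, 2], 57, [856]),
    ([4, 0, 2, 3, 5, 1, 2], 63, [1382]),
    ([2, 0, 1, 7, 5, 2, 0], 58, [1747]),
    ([2, 0, 6, 6, 2, 5, 2, 1], 54, [415]),
    ([0, 3, 5, 5, 3, 5, 2, 1], 58, [2007]),
    ([5, 1, 7, 6, 0, 1], 61, [2134]),
    ([1, 5, 2, 6, 2, 0, 0, 0, 0], 56, [2541]),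
    ([7, 1, 6, 1, 6, 0, 2, 1], 54, [1116]),
    ([2, 5, 5, 5, 1, 0, 3], 54, [181]),
    ([1, 5, 3, 4, 0, 0], 56, [2327]),
    ([6, 0, 1, 2, 4, 3, 0, 0, 0, 0], 58, [484]),
    ([7, 1, 2, 5, 5, 0, 1, 2], 54, [2502]),
    ([2, 1, 0, 6, 2, 1, 6, 0, 0], 63, [2205]),
    ([5, 0, 0, 6, 1, 2, 0, 1], 63, [2759]),
    ([4, 0, 1, 7], 55, [1910]),
    ([7, 1, 0, 5, 2, 6, 1, 0], 57, [1623]),
    ([5, 0, 2, 1, 5], 52, [2205]),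
    ([6, 2, 5, 2, 1, 0], 62, [2533]),
    ([1, 0, 2, 1, 6, 0, 0, 0], 63, [1752]),
    ([1, 3, 3, 2, 0, 2], 62, [32]),
    ([0, 1, 5, 1, 6, 2, 3, 1], 57, [1166]),
    ([0, 6, 1, 5, 3, 0, 0, 0, 0], 56, [750]),
    ([0, 7, 5, 3, 5, 1, 0], 57, [1057]),
    ([0, 5, 6, 6, 5], 48, [2692]),
    ([0, 2, 7, 4, 1, 0, 2, 1, 0, 0], 55, [1547]),
    ([6, 3, 2, 4, 0, 1, 0, 0], 58, [1675]),
    ([6, 0, 0, 0, 5, 0, 0], 58, [2499]),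
    ([0, 3, 2, 0, 3, 4], 48, [1551]),
    ([3, 5, 1, 0, 6], 59, [669]),
    ([6, 1, 2, 0, 0, 0, 0], 56, [1274]),
    ([2, 3, 1, 0, 7, 3, 0, 0, 0], 58, [1047]),
    ([7, 1, 2, 5, 2, 1], 62, [1851]),
    ([1, 3, 2, 5, 1, 0, 6, 0], 55, [1782]),
    ([6, 2, 6, 4, 0, 1, 0], 55, [2374]),
    ([0, 1, 4, 5, 6, 2, 0, 1], 56, [2833]),
    ([2, 0, 7, 0, 0, 6, 0, 1], 58, [326]),
    ([0, 1, 4, 3, 0, 1, 0, 0], 55, [158]),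
    ([2, 6, 1, 2, 4, 2], 58, [778]),
    ([0, 1, 2, 6, 1, 3, 0], 56, [621]),
    ([1, 4, 0, 3, 2, 3, 1, 2, 0, 0], 56, [936]),
    ([5, 2, 3, 6, 0, 1, 2, 0, 0, 0], 55, [855]),
    ([5, 2, 3, 5, 3, 5], 58, [1444]),
    ([7, 5, 1, 2, 6, 1], 61, [1320]),
    ([1, 6, 0, 2, 6, 0, 1], 56, [777]),
    ([2, 0, 3, 1, 5, 0, 5], 57, [2041]),
    ([0, 2, 7, 0, 1, 6, 2, 0, 1], 61, [2005]),
    ([2, 7, 4, 1, 6, 0], 60, [642]),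
    ([3, 1, 3, 5, 0, 2, 5], 57, [2775]),
    ([5, 2, 4, 0, 1, 6, 3], 58, [347]),
    ([4, 2, 7, 0, 5, 2, 1], 57, [2661])]

end Cfsg.Lib.LyReal
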