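import Cfsg.Agent.Lib.LyReal.ClosureDefs
import Cfsg.Agent.Lib.LyReal.DataMove50
import Cfsg.Agent.Lib.LyReal.DataMove51
import Cfsg.Agent.Lib.LyReal.DataMove52
import Cfsg.Agent.Lib.LyReal.DataMove53
import Cfsg.Agent.Lib.LyReal.DataMove54

/-!
# Translates of five records
-/

set_option autoImplicit false
set_option maxRecDepth 100000

namespace Cfsg.Lib.LyReal

theorem move50_ok : moveOK 50 moveT50 = true := by decide +kernel

theorem move51_ok : moveOK 51 moveT51 = true := by decide +kernel

theorem move52_ok : moveOK 52 moveT52 = true := by decide +kernel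

theorem move53_ok : moveOK 53 moveT53 = true := by decide +kernel

theorem move54_ok : moveOK 54 moveT54 = true := by decide +kernel

end Cfsg.Lib.LyReal
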