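/-! Generated data: double cosets. -/

set_option autoImplicit false
set_option maxRecDepth 20000

namespace Cfsg.Lib.LyReal

/-- The translates of record 60. -/
def moveT60 : List (List Nat × Nat × List Nat) :=
  [([1, 5, 3, 0, 3, 0], 53, [2212]),
    ([4, 1, 5, 0, 1, 2, 6, 1], 57, [2453]),
    ([7, 1, 0, 2, 5, 1, 2], 56, [1640]),
    ([3, 3, 2, 1, 5, 0, 7, 1], 54, [455]),
    ([1, 7, 6, 0, 0, 0], 53, [1438]),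
    ([3, 0, 1, 5, 3, 0], 54, [2189]),
    ([2, 7, 6, 1, 2, 0], 53, [870]),
    ([1, 7, 2, 6, 5, 1], 59, [1949]),
    ([1, 5, 0, 2, 6, 2, 0, 0], 56, [1710]),
    ([7, 2, 6, 4, 2, 1], 54, [2476]),
    ([7, 0, 5, 5], 57, [1952]),
    ([4, 0, 5, 4, 5, 5, 3], 59, [884]),
    ([1, 4, 3, 0, 2, 5], 57, [1069]),
    ([5, 2, 6, 4, 2, 0, 0, 0, 0], 58, [2237]),
    ([5, 6, 5, 0, 1, 6, 2, 0], 58, [2729]),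
    ([0, 1, 6, 3, 0, 0, 0, 0], 56, [1657]),
    ([3, 2, 1, 6, 0, 3, 5, 0], 58, [2747]),
    ([6, 6, 6, 1, 2, 6, 0, 1], 55, [2061]),
    ([0, 6, 0, 5, 2, 1, 0, 0], 48, [2738]),
    ([1, 5, 1, 6, 1, 4, 0], 59, [575]),
    ([0, 6, 5, 1, 4, 0, 2, 1, 0, 0, 0], 56, [455]),
    ([0, 2, 4, 0, 1, 4, 0], 58, [2519]),
    ([3, 1, 3, 1, 4, 1], 48, [314]),
    ([7, 1, 0, 0, 6, 0, 1], 54, [1449]),
    ([4, 0, 5, 6, 3, 5, 2], 56, [931]),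
    ([1, 2, 6, 1, 6, 1], 56, [1757]),
    ([5, 2, 0, 5, 6, 2, 0], 48, [1477]),
    ([2, 5, 4, 5, 0, 0], 58, [2100]),
    ([1, 5, 1, 5, 6, 0], 53, [2156]),
    ([0, 1, 4, 5, 2, 1, 4, 1, 0], 58, [57]),
    ([6, 1, 6, 6, 1], 55, [2509]),
    ([4, 4, 1], 61, [146]),
    ([6, 2, 7, 0, 5, 2, 0], 49, [486]),
    ([6, 1, 0, 2, 1, 0, 6, 5, 0], 55, [486]),
    ([5, 1, 6, 3, 0, 0], 60, [1814]),
    ([7, 5, 3, 0, 1, 4, 0], 54, [1524]),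
    ([1, 0, 3, 2, 1, 6, 0, 1, 2], 55, [647]),
    ([5, 4, 0, 7, 5, 1], 53, [2288]),
    ([3, 1, 0, 7, 6, 1, 0, 0], 56, [741]),
    ([1, 3, 2, 0, 5, 1, 2, 3], 58, [2448]),
    ([6, 1, 4, 1, 4, 1, 0], 50, [494]),
    ([1, 3, 1, 2, 5, 2, 5], 58, [384]),
    ([1, 5, 5, 6, 0, 2], 59, [2585]),
    ([3, 5, 1, 6, 0, 2, 4, 0], 56, [262]),
    ([1, 3, 4, 2, 3], 50, [610]),
    ([5, 1, 4, 1, 4, 2], 57, [314]),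
    ([6, 1, 7, 3, 0], 50, [2715]),
    ([5, 1, 2, 7, 5, 1, 0, 0], 56, [2066]),
    ([6, 0, 0, 3, 0], 48, [2719]),
    ([0, 1, 6, 2, 3, 1], 50, [1654]),
    ([3, 4, 1, 6, 2, 0, 1, 2, 0], 56, [2856]),
    ([0, 6, 1, 4, 3, 0, 2, 1, 0, 0], 58, [1229]),
    ([1, 2, 0, 1, 5, 6, 5], 58, [1293]),
    ([2, 4, 3, 0], 54, [1514]),
    ([6, 0, 2, 6, 2, 0, 1, 2], 56, [1514]),
    ([2, 0, 2, 1, 6, 3, 3], 58, [25]),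
    ([0, 3, 1, 0, 6, 0, 0, 0, 0], 56, [2636]),
    ([2, 7, 4, 1, 2, 0], 56, [1820]),
    ([0, 0, 0, 3, 0, 2, 1, 4], 58, [433]),
    ([2, 1, 0, 2, 6, 2, 6, 2], 58, [2527]),
    ([5, 6, 5, 5, 2, 0, 2, 1], 56, [2178]),
    ([0, 6, 2, 7, 3, 1, 0, 2], 56, [1524]),
    ([0, 6, 1, 3, 0, 3, 0], 59, [494]),
    ([2, 4, 0, 2, 7, 1], 61, [617]),
    ([7, 0, 0, 5, 3, 0, 0, 0, 0], 55, [139]),
    ([5, 1, 2, 7], 60, [2540]),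
    ([6, 5, 2, 0, 0, 6], 50, [1111]),
    ([4, 1, 7, 6, 0, 2, 1], 49, [139]),
    ([2, 1, 5, 6, 4, 3], 57, [1281]),
    ([4, 4, 5, 5, 4, 2, 0], 56, [1845]),
    ([7, 6, 1, 2, 5], 53, [1260]),
    ([3, 3, 6, 0, 1, 4], 59, [1433]),
    ([1, 6, 0, 7, 6, 0, 2, 0, 1], 58, [509]),
    ([2, 6, 3, 0, 5, 4, 1, 0], 48, [2787]),
    ([5, 1, 4, 4, 2], 59, [1351]),
    ([0, 1, 6, 2, 0, 3, 1], 57, [525]),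
    ([6, 3, 3, 2, 1, 6, 0], 58, [1139]),
    ([0, 2, 1, 7, 0, 6], 54, [2856]),
    ([0, 0, 0, 3, 4, 2, 4], 54, [1757]),
    ([2, 5, 2, 5, 5, 1, 2, 1], 54, [1984]),
    ([7, 4, 2, 3, 4, 0, 2, 0], 55, [2507]),
    ([7, 7, 4, 1, 3], 59, [2373]),
    ([3, 0, 5, 0, 5, 0], 50, [1354]),
    ([6, 3, 6, 0, 1, 2, 0], 53, [549]),
    ([5, 6, 4, 4, 3, 2], 53, [1317]),
    ([5, 5, 5, 6, 1, 0, 0], 50, [1109]),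
    ([0, 6, 1, 5, 2, 0, 3], 57, [485]),
    ([0, 5, 1, 4, 1, 5, 1], 56, [1769]),
    ([0, 7, 6, 5, 5, 2], 56, [2476]),
    ([0, 0, 5, 1, 6, 1, 0], 50, [884]),
    ([4, 0, 1, 4, 5, 1, 0], 49, [2509]),
    ([2, 6, 3, 0, 5, 4, 0], 57, [2787]),
    ([0, 6, 1, 6, 2, 7, 0, 1], 58, [1044]),
    ([1, 3, 6, 2, 3, 0, 1], 53, [151]),
    ([0, 2, 4, 0, 2, 1, 0], 56, [2189]),
    ([0, 3, 1, 0, 2, 4], 58, [774]),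
    ([1, 6, 4, 1, 6, 0], 58, [1259]),
    ([7, 5, 3, 0, 1, 2, 0, 1], 61, [799]),
    ([0, 1, 6, 3, 4, 2], 55, [2695]),
    ([5, 1, 6, 2, 6, 0, 0, 0], 61, [2049]),
    ([7, 5, 0, 6, 4, 1, 0], 59, [2154]),
    ([3, 2, 1, 5, 0], 59, [0]),
    ([7, 1, 3, 1, 2, 3, 0], 50, [227]),
    ([6, 0, 0, 7, 4, 0, 0], 55, [1192]),
    ([1, 6, 0, 7, 0, 6, 1], 49, [497]),
    ([2, 4, 4, 3, 4], 50, [725]),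
    ([2, 5, 1, 2, 5, 4, 0, 1, 0], 55, [497]),
    ([1, 0, 2, 3, 4, 2, 1], 59, [2461]),
    ([6, 5, 2, 7, 1, 0, 2], 58, [1592]),
    ([6, 2, 7, 1, 5, 2], 59, [199]),
    ([1, 4, 1, 5, 5, 3, 1], 48, [129]),
    ([7, 4, 1, 2, 5, 0, 1], 54, [1640]),
    ([1, 2, 0, 5, 2, 5, 1, 2, 1], 61, [692]),
    ([0, 2, 7, 6, 0, 1, 2, 0], 56, [1618]),
    ([4, 2, 5, 4, 2, 4], 53, [2717]),
    ([1, 2, 5, 0, 7, 1, 6], 55, [565]),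
    ([1, 4, 5, 5, 5, 2, 0], 61, [252]),
    ([3, 6, 2, 4, 1, 4, 0], 55, [2484]),
    ([7, 1, 3, 4, 0, 1, 0, 2], 55, [167]),
    ([5, 2, 5, 5, 3], 61, [1149]),
    ([3, 2, 5, 6, 2, 5], 54, [53]),
    ([2, 5, 1, 0, 6, 0, 0], 48, [858]),
    ([3, 3, 0, 2, 0, 1, 6], 58, [2683]),
    ([2, 5, 6, 6, 2, 0, 2], 59, [1715]),
    ([2, 4, 1, 7, 0, 5, 1, 2], 56, [1984]),
    ([4, 0, 7, 5, 2, 0, 1, 0], 55, [2035]),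
    ([2, 0, 2, 1, 0, 6, 2, 1], 58, [176]),
    ([0, 1, 7, 0, 0, 5, 0, 0], 56, [53]),
    ([2, 7, 0, 0, 0, 5, 1, 2], 61, [2411]),
    ([3, 2, 6, 5, 2], 48, [2456]),
    ([4, 4, 5, 5, 3, 1, 3], 54, [741]),
    ([5, 2, 6, 1, 4, 0, 1, 0], 56, [1449]),
    ([2, 0, 0, 6, 1, 3, 1], 56, [1288]),
    ([5, 2, 0, 2, 4, 1, 2], 58, [574]),
    ([3, 0, 0, 5, 5, 2, 1], 59, [2225]),
    ([0, 2, 1, 5, 0, 0, 5, 0], 57, [2456]),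
    ([1, 3, 0, 1, 2, 0, 5], 58, [1738]),
    ([6, 6, 6, 6, 1], 57, [858]),
    ([1, 0, 3, 4, 1, 5, 0], 57, [1479]),
    ([2, 0, 5, 3, 6, 1, 3, 2], 57, [1933]),
    ([1, 5, 2, 0, 1, 6, 0, 0, 0], 58, [1035]),
    ([6, 0, 2, 1, 5, 0, 1], 55, [2405]),
    ([3, 2, 0, 3, 6], 59, [1928]),
    ([5, 5, 6, 4, 0, 5, 1, 2], 55, [1363]),
    ([3, 0, 0, 7], 55, [2315]),
    ([1, 6, 6, 3, 4, 1], 59, [2172]),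
    ([0, 1, 2, 4, 5, 0, 1], 50, [1015]),
    ([4, 0, 2, 3, 4, 1, 0, 0], 50, [1037]),
    ([7, 6, 2, 0, 0], 59, [1378]),
    ([5, 2, 1, 4, 5, 1], 59, [2778])]

end Cfsg.Lib.LyReal
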