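/-! Generated data: double cosets. -/

set_option autoImplicit false
set_option maxRecDepth 20000

namespace Cfsg.Lib.LyReal

/-- The translates of record 61. -/
def moveT61 : List (List Nat × Nat × List Nat) :=
  [([2, 1, 5, 3, 0, 0, 0], 55, [2728]),
    ([2, 1, 7, 6, 0, 2], 57, [909]),
    ([0, 1, 4, 0, 2, 5, 2, 0], 58, [1720]),
    ([1, 0, 6, 5, 1, 0, 0, 0], 56, [2729]),
    ([1, 4, 3, 6, 1, 4], 55, [566]),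
    ([2, 0, 0, 0, 5, 1, 0, 3], 61, [1695]),
    ([0, 2, 5, 6, 2, 0, 2, 1, 0], 55, [299]),
    ([5, 0, 2, 3, 5, 1, 2, 0], 56, [2586]),
    ([0, 3, 6, 2, 0, 1, 2, 6], 56, [2248]),
    ([1, 5, 1, 0, 0, 5], 48, [732]),
    ([0, 2, 6, 5, 3, 1, 0], 57, [422]),
    ([7, 0, 1, 0, 2, 6, 1, 0, 0, 0], 56, [1517]),
    ([3, 1, 3, 1, 3, 4], 48, [427]),
    ([1, 0, 2, 4, 1, 0, 5, 0], 48, [1962]),
    ([2, 4, 1, 5, 0, 2, 4], 57, [2724]),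
    ([2, 0, 7, 1, 0], 48, [2724]),
    ([4, 1, 3, 4, 0, 2], 54, [2248]),
    ([2, 5, 1, 2, 7, 6, 3], 59, [738]),
    ([2, 4, 1, 2, 0, 5], 56, [2269]),
    ([1, 6, 0, 0, 3, 2, 0, 1, 0], 58, [602]),
    ([7, 0, 5, 1, 2, 3, 0], 58, [2447]),
    ([0, 1, 6, 5, 1, 3, 1], 61, [1929]),
    ([6, 1, 2, 3, 2, 3], 50, [2171]),
    ([1, 2, 0, 6, 1, 2, 0, 6, 0, 0], 56, [2863]),
    ([5, 3, 6, 0, 6, 5], 53, [2806]),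
    ([1, 2, 5, 1, 0, 3, 2], 55, [77]),
    ([5, 0, 1, 6, 4, 2, 0, 1], 57, [2230]),
    ([3, 0, 2, 7, 3, 0, 1, 0], 54, [2729]),
    ([1, 2, 1, 0, 3, 1, 0, 6], 55, [1035]),
    ([3, 3, 3, 2, 4], 61, [2322]),
    ([6, 2, 5, 0, 6, 1], 50, [1252]),
    ([4, 4, 1, 0, 2, 1, 0], 53, [2800]),
    ([2, 5, 0, 5, 4, 3, 2, 1], 56, [2073]),
    ([4, 1, 5, 6, 0], 56, [2569]),
    ([7, 2, 1, 0, 3], 53, [2192]),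
    ([4, 3, 1, 5, 0, 2, 3], 57, [1816]),
    ([1, 5, 2, 5, 0, 1, 3, 0, 0], 58, [1868]),
    ([5, 3, 2, 3, 5, 0, 1], 59, [790]),
    ([4, 5, 1, 7, 3, 2, 1, 0], 58, [2850]),
    ([2, 1, 5, 4, 4], 57, [806]),
    ([1, 7, 3, 5, 0, 2, 5, 1, 0], 58, [2494]),
    ([3, 1, 0, 3, 1, 0, 0, 0, 0], 56, [2422]),
    ([2, 1, 0, 2, 3, 4], 58, [469]),
    ([3, 4, 2, 1, 4, 0], 59, [1701]),
    ([4, 0, 1, 4, 1, 5], 58, [257]),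
    ([3, 4, 1, 3, 2, 3, 3], 59, [1904]),
    ([5, 0, 1, 2, 7, 6, 4], 54, [356]),
    ([5, 2, 5, 0, 0, 5, 1], 57, [701]),
    ([7, 0, 3, 2, 0, 1], 48, [1921]),
    ([0, 2, 6, 1, 3, 2, 0, 1], 56, [999]),
    ([5, 3, 6, 1, 4, 1], 53, [2044]),
    ([1, 3, 2, 0, 3, 0, 1, 0], 58, [1654]),
    ([5, 0, 1, 3, 5], 57, [2330]),
    ([0, 5, 5, 2, 6, 2, 0], 48, [2476]),
    ([7, 2, 1, 5, 3], 48, [1463]),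
    ([0, 6, 6, 2, 6, 4, 0], 53, [1634]),
    ([0, 2, 1, 5, 4, 1], 56, [1420]),
    ([2, 1, 5, 5, 4, 0, 1], 57, [2476]),
    ([1, 4, 3, 2, 1, 0], 57, [2508]),
    ([5, 1, 5, 2, 6, 2], 53, [1476]),
    ([6, 5, 0, 0, 6, 1], 60, [818]),
    ([2, 7, 3, 1, 0, 6, 2, 1], 57, [71]),
    ([6, 5, 1, 4, 4, 2, 0, 1], 58, [1088]),
    ([0, 2, 3, 5, 1, 2, 3, 1], 55, [698]),
    ([1, 5, 4, 3, 1, 2, 1, 0, 0, 0], 55, [1776]),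
    ([6, 4, 3, 4, 4], 55, [1780]),
    ([2, 0, 1, 5, 4, 1, 0], 61, [1262]),
    ([1, 6, 0, 1, 4, 5, 2, 0], 55, [306]),
    ([2, 1, 0, 7, 6, 6, 3], 58, [2459]),
    ([3, 0, 2, 6, 2, 5, 0, 0, 0], 58, [1524]),
    ([2, 4, 3, 0, 5, 1, 3], 59, [1215]),
    ([1, 2, 7, 5, 3], 50, [1556]),
    ([3, 6, 0, 1], 50, [560]),
    ([7, 1, 2, 6, 0, 1, 6], 58, [2593]),
    ([2, 0, 2, 1, 4, 5, 2, 5], 58, [1676]),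
    ([1, 0, 7, 5, 3, 0, 0], 59, [1318]),
    ([2, 7, 4, 1, 2, 3, 0], 58, [1392]),
    ([0, 1, 0, 7, 5, 3, 0], 53, [1980]),
    ([2, 5, 6, 2, 0, 0, 0, 0], 55, [58]),
    ([6, 4, 1, 2, 7], 50, [1895]),
    ([6, 1, 0, 6, 2, 1], 54, [2073]),
    ([7, 6, 2, 0, 1, 3, 0], 54, [1517]),
    ([2, 5, 6, 5, 5, 1, 0], 54, [1566]),
    ([6, 2, 7, 3, 6, 1], 59, [387]),
    ([6, 1, 7, 6, 0, 0], 50, [2294]),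
    ([2, 1, 6, 0, 1, 0, 6, 2, 0], 56, [1572]),
    ([6, 3, 4, 2, 0, 1, 0, 0], 56, [1680]),
    ([7, 2, 6, 4, 0], 59, [1170]),
    ([7, 1, 0, 3, 0], 57, [732]),
    ([0, 3, 1, 7, 4, 2, 0, 1], 58, [1957]),
    ([1, 5, 2, 7, 1, 0], 59, [1238]),
    ([0, 3, 2, 1, 0, 0], 56, [865]),
    ([2, 1, 4, 0, 1, 0, 0, 5, 2], 56, [874]),
    ([0, 1, 4, 1, 7, 0], 49, [1035]),
    ([3, 1, 5, 0, 2, 5], 61, [2176]),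
    ([1, 7, 0, 6, 1, 6, 2, 1], 58, [2124]),
    ([3, 5, 5, 2, 6, 1, 0], 55, [2076]),
    ([7, 2, 1, 0, 6, 5], 49, [1573]),
    ([3, 2, 3, 0, 5, 0, 1, 0, 0, 0], 55, [1489]),
    ([0, 1, 2, 5, 0, 6, 0], 55, [1573]),
    ([2, 4, 0, 3, 1, 0, 6], 61, [687]),
    ([1, 6, 2, 4, 0, 1, 0, 2, 0], 56, [356]),
    ([0, 1, 3, 2, 7, 0, 0], 54, [2436]),
    ([3, 1, 0, 5, 2, 0, 5], 56, [1415]),
    ([5, 1, 2, 1, 4, 0, 0, 0], 56, [2055]),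
    ([4, 4, 1, 0, 5], 50, [2182]),
    ([1, 6, 1, 3], 54, [2055]),
    ([4, 0, 2, 7, 5, 1, 4], 56, [301]),
    ([6, 1, 0, 5, 3, 2, 0, 0], 54, [1469]),
    ([1, 2, 3, 1, 2, 5, 1], 56, [2436]),
    ([6, 2, 1, 0, 6, 2, 3, 3], 56, [2576]),
    ([1, 3, 2, 4, 0, 1, 0, 2, 0], 58, [1388]),
    ([6, 0, 5, 1, 0, 0, 0, 0], 53, [2369]),
    ([3, 1, 4, 0, 2, 5], 54, [2863]),
    ([6, 1, 6, 0, 2, 1], 50, [1760]),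
    ([5, 5, 2, 3, 3, 6], 50, [1810]),
    ([3, 0, 2, 4, 5, 2], 53, [1568]),
    ([0, 2, 5, 1, 2, 6, 6, 1, 0], 58, [1877]),
    ([6, 5, 4, 3, 3, 3], 58, [1204]),
    ([4, 1, 2, 7, 1, 0, 6], 53, [1264]),
    ([6, 1, 5, 2, 3, 3, 1], 59, [2487]),
    ([0, 7, 6, 5, 4, 4], 50, [2468]),
    ([1, 0, 0, 0, 5], 50, [2845]),
    ([6, 0, 1, 7, 2, 6, 0, 1], 61, [2150]),
    ([1, 3, 0, 1, 2, 0], 59, [2142]),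
    ([3, 3, 4, 0, 5, 1, 2, 0], 58, [1367]),
    ([1, 5, 2, 0, 5, 1, 2, 1], 48, [806]),
    ([3, 4, 3, 3, 3, 2], 59, [1707]),
    ([7, 3, 0, 2, 0, 1, 3, 0], 55, [54]),
    ([0, 6, 1, 0, 5, 4], 54, [1680]),
    ([1, 2, 5, 0, 1, 0, 2, 6], 56, [1469]),
    ([0, 5, 4, 4, 3, 2], 56, [2334]),
    ([6, 1, 0, 2, 4, 5, 1, 0, 0], 55, [2521]),
    ([7, 3, 5, 5, 2, 3], 59, [339]),
    ([7, 0, 1, 3, 2, 6, 0, 1, 0, 0], 56, [1566]),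
    ([5, 6, 5, 2, 0, 2], 58, [1990]),
    ([3, 5, 0, 0, 3], 49, [77]),
    ([2, 0, 6, 0, 6, 1, 4], 59, [2468]),
    ([1, 5, 1, 4, 2, 1], 58, [814]),
    ([0, 0, 6, 0, 6, 2], 54, [865]),
    ([1, 6, 4, 0, 3, 5], 50, [339]),
    ([3, 0, 0, 0, 3, 0], 49, [2018]),
    ([3, 2, 1, 6, 5, 3, 0], 59, [267]),
    ([1, 2, 5, 0, 0, 0, 3, 1], 55, [2018]),
    ([3, 2, 3, 1, 5, 3, 0], 59, [1624]),
    ([1, 5, 1, 2, 3, 4], 59, [2182]),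
    ([7, 1, 3, 2, 1, 6], 59, [1126]),
    ([0, 3, 2, 1, 0, 0], 60, [169]),
    ([2, 0, 6, 1, 0, 5, 1], 58, [1273]),
    ([2, 6, 3, 0, 1, 3, 0, 0, 0], 61, [2783])]

end Cfsg.Lib.LyReal
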