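/-! Generated data: double cosets. -/

set_option autoImplicit false
set_option maxRecDepth 20000

namespace Cfsg.Lib.LyReal

/-- The translates of record 62. -/
def moveT62 : List (List Nat × Nat × List Nat) :=
  [([6, 3, 4, 2, 0, 6, 1], 54, [529]),
    ([3, 0, 2, 0, 1, 4], 63, [2705]),
    ([2, 7, 1, 5, 0, 5, 2], 49, [1062]),
    ([6, 1, 7, 3, 0, 3, 2], 55, [1335]),
    ([6, 5, 6, 1, 0, 0, 0, 0], 56, [648]),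
    ([4, 0, 6, 3, 6, 0], 52, [1602]),
    ([7, 1, 3, 3, 2, 4], 58, [2615]),
    ([1, 0, 2, 5, 6, 5], 56, [543]),
    ([5, 1, 0, 2, 0, 0, 5, 2, 1], 55, [1829]),
    ([2, 0, 5, 1, 2, 0, 2], 63, [833]),
    ([0, 1, 2, 1, 5], 63, [911]),
    ([1, 0, 5, 2, 0, 3, 0], 56, [262]),
    ([2, 3, 1, 2, 3, 1], 52, [2705]),
    ([1, 0, 3, 6, 3, 0, 0, 0], 58, [591]),
    ([1, 7, 0, 5, 4, 1], 58, [407]),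
    ([5, 1, 0, 3, 0, 1, 0], 56, [1404]),
    ([1, 7, 3, 2, 1, 4, 1, 0, 0], 55, [902]),
    ([1, 0, 7, 4, 1, 5, 2, 1, 0], 55, [904]),
    ([7, 3, 0, 1, 4, 0, 0, 0, 0], 55, [123]),
    ([1, 2, 0, 7, 4, 1, 0, 0], 56, [607]),
    ([7, 0, 5, 0, 3, 0], 49, [2813]),
    ([6, 0, 1, 3, 0], 62, [1597]),
    ([6, 3, 2, 0, 3, 1, 2], 56, [368]),
    ([4, 0, 2, 6, 1, 3], 55, [400]),
    ([3, 6, 3, 4, 3, 0, 2], 48, [1081]),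
    ([6, 6, 6, 1, 2, 1, 0], 63, [897]),
    ([0, 1, 7, 2, 1, 0, 6, 1, 0], 63, [200]),
    ([5, 2, 0, 3, 3, 1, 2, 0], 55, [0]),
    ([7, 0, 0, 3, 1, 0], 58, [1867]),
    ([6, 6, 3, 6, 0, 6], 63, [604]),
    ([0, 1, 7, 0, 2, 5, 2, 1], 55, [757]),
    ([0, 3, 1], 63, [2333]),
    ([0, 2, 5, 1, 6, 3, 6, 0], 56, [841]),
    ([1, 0, 2, 3, 4, 2, 6, 0, 0], 58, [2705]),
    ([2, 3, 3, 1, 5, 5], 63, [1461]),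
    ([1, 3, 0, 0, 5, 1, 0, 0], 56, [1821]),
    ([4, 3, 1, 5], 56, [1465]),
    ([1, 0, 3, 4, 0, 2, 0, 1], 57, [2107]),
    ([5, 1, 4, 3, 0, 3, 0], 56, [2852]),
    ([2, 6, 0, 2, 1, 0, 6, 2], 63, [2358]),
    ([0, 3, 2, 6, 4, 1], 54, [543]),
    ([1, 2, 6, 1, 6, 6, 1, 0], 55, [1062]),
    ([0, 3, 2, 6, 1, 5, 0, 0], 54, [262]),
    ([7, 3, 0, 0, 3, 1], 56, [2677]),
    ([1, 0, 5, 0, 2, 4], 52, [1790]),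
    ([5, 6, 1, 7, 2, 0, 0, 0, 0], 58, [604]),
    ([5, 5, 0, 5, 4, 3, 2, 1], 58, [725]),
    ([0, 0, 6], 52, [1980]),
    ([7, 1, 2, 1, 0, 6, 0], 62, [1020]),
    ([5, 0, 7, 2, 1, 0, 3, 0], 58, [2683]),
    ([1, 2, 6, 3, 3], 48, [399]),
    ([0, 2, 1, 6, 0, 6, 6, 0], 58, [2391]),
    ([4, 2, 7, 1, 0, 3, 0, 0], 56, [578]),
    ([6, 1, 0, 2, 7, 1, 0, 0, 0], 56, [1335]),
    ([5, 6, 3, 2, 1, 0, 2, 0], 58, [992]),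
    ([7, 7, 7, 3], 57, [1081]),
    ([4, 0, 2, 6, 6, 3, 1], 54, [2852]),
    ([2, 1, 0, 3, 6, 2, 1, 6], 54, [578]),
    ([1, 2, 6, 0, 3, 5, 5], 58, [154]),
    ([1, 7, 2, 0, 3, 1, 3, 0, 0], 57, [85]),
    ([0, 5, 3, 6, 1, 2, 0, 1], 63, [1815]),
    ([6, 5, 0, 1, 6, 3, 3], 54, [1404]),
    ([3, 2, 1, 0, 5, 1, 0, 2], 56, [137]),
    ([1, 3, 2, 5, 6, 1, 0, 0], 48, [1818]),
    ([0, 5, 6, 6, 0, 2, 0], 55, [2487]),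
    ([6, 6, 2, 0, 3, 5, 1], 57, [1001]),
    ([6, 2, 5, 2, 1, 4], 58, [1109]),
    ([6, 2, 0, 1, 4, 2, 0, 0], 55, [23]),
    ([0, 3, 2, 1, 0, 6, 0, 0], 58, [1882]),
    ([2, 0, 5, 2, 6, 3, 1, 0], 55, [2813]),
    ([2, 5, 6, 2, 6, 1, 2], 57, [298]),
    ([2, 1, 0, 5, 0, 0, 3, 0, 2], 58, [500]),
    ([1, 6, 1, 0, 2, 3, 1], 54, [863]),
    ([1, 3, 0, 2, 0], 55, [1011]),
    ([5, 0, 7, 1, 5, 5, 0, 2], 56, [1127]),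
    ([6, 0, 2, 0, 3, 0, 1, 4, 0], 56, [1573]),
    ([6, 0, 5, 5, 3, 5, 2], 55, [2621]),
    ([4, 1, 3, 4, 2, 0, 2], 57, [105]),
    ([2, 7, 6, 0, 1, 0, 3], 63, [998]),
    ([4, 5, 1, 0, 6, 0, 0], 58, [2378]),
    ([3, 5, 1, 2, 5, 4], 54, [1655]),
    ([4, 2, 6, 0, 1, 5, 5], 58, [509]),
    ([6, 5, 0, 1, 6, 6, 3], 54, [1127]),
    ([3, 2, 4, 5, 4, 0, 1], 48, [633]),
    ([2, 0, 0, 7, 0, 0], 48, [972]),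
    ([5, 3, 2, 6, 0, 1, 6, 2], 58, [1463]),
    ([0, 2, 5, 5, 0, 1, 5], 54, [1881]),
    ([1, 0, 5, 0, 0, 3, 0], 56, [2027]),
    ([6, 6, 2, 6, 0], 62, [1704]),
    ([0, 3, 0, 2, 4, 0, 1, 2], 56, [53]),
    ([5, 1, 6, 4, 0, 3, 0], 55, [1127]),
    ([2, 0, 5, 6, 0, 5, 1], 49, [2811]),
    ([0, 5, 2, 0, 3, 6], 55, [1666]),
    ([0, 5, 3, 0, 2, 0, 1, 0], 56, [529]),
    ([1, 0, 0, 0, 5, 2], 63, [1718]),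
    ([2, 3, 0, 2, 5, 3], 49, [2621]),
    ([0, 1, 6, 0, 1, 5, 2, 1, 0], 63, [1162]),
    ([4, 1, 6, 0, 5, 5], 48, [1183]),
    ([0, 6, 0, 2, 4], 49, [23]),
    ([0, 1, 4, 3, 6, 1, 2], 57, [2117]),
    ([6, 1, 0, 0, 6, 1, 2, 1], 56, [1062]),
    ([0, 2, 0, 0, 5, 4, 1], 58, [1614]),
    ([5, 0, 1, 5, 2, 3, 0], 63, [1790]),
    ([5, 0, 0, 3, 0, 1, 2, 1, 0], 58, [1082]),
    ([5, 0, 3, 3, 2, 1], 54, [3]),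
    ([2, 1, 5, 4, 2, 5, 0, 1], 54, [918]),
    ([0, 2, 6, 5, 1, 0, 0], 58, [2044]),
    ([1, 3, 2, 7, 1, 6, 0], 63, [739]),
    ([6, 2, 0, 1, 0, 3, 3], 56, [358]),
    ([2, 1, 0, 6, 3, 4, 1], 63, [384]),
    ([1, 2, 6, 0, 1, 5, 3, 0, 0, 0], 56, [23]),
    ([2, 1, 0, 5, 6, 2, 0, 0], 55, [1629]),
    ([2, 3, 6, 1, 3, 1], 62, [1502]),
    ([0, 1, 0, 2, 4, 2, 3, 1, 0], 55, [1307]),
    ([6, 3], 57, [2132]),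
    ([4, 2, 1, 4, 0, 2], 55, [2497]),
    ([4, 4, 3, 1, 3, 0], 52, [1461]),
    ([2, 7, 3, 1, 2, 3, 1], 58, [2358]),
    ([0, 2, 3, 1, 7, 2, 0, 0], 56, [1655]),
    ([4, 0, 2, 1, 0, 6, 0, 2], 63, [1659]),
    ([4, 0, 2, 6, 1, 0, 2], 58, [1790]),
    ([7, 1, 6, 0, 0, 5, 2], 54, [368]),
    ([2, 6, 0, 5, 3, 3, 1], 58, [2687]),
    ([0, 2, 3, 5, 1, 3, 2, 1, 0, 0], 56, [314]),
    ([2, 0, 7, 6, 3, 1, 0, 0, 0], 56, [242]),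
    ([2, 6, 5, 2, 1, 0, 0, 0, 0], 56, [3]),
    ([6, 6, 0, 7, 3, 1], 63, [1980]),
    ([5, 4, 3, 4, 1, 3], 56, [863]),
    ([7, 2, 6, 5, 1, 0], 57, [1818]),
    ([2, 1, 0, 7, 0, 6, 1, 2], 56, [1881]),
    ([7, 5, 2, 5, 0, 1, 0, 2, 0, 0], 58, [2053]),
    ([3, 0, 1, 0, 2, 1], 55, [1169]),
    ([1, 6, 1, 2, 6, 0], 62, [1870]),
    ([2, 1, 7, 0, 3, 0, 2, 1], 54, [2027]),
    ([0, 7, 6, 1, 6, 0, 2, 1, 0, 0, 0], 58, [2190]),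
    ([6, 4, 0, 2, 5, 4], 58, [1046]),
    ([6, 0, 1, 7, 2], 52, [897]),
    ([6, 2, 3, 1, 2, 3, 1], 58, [1924]),
    ([1, 2, 1, 5, 1, 4, 1], 55, [2811]),
    ([2, 1, 5, 1, 7, 2, 1, 0, 0], 55, [1404]),
    ([1, 0, 3, 2, 0, 5, 4], 58, [1546]),
    ([2, 5, 2, 6, 2, 0, 1, 3], 55, [537]),
    ([6, 2, 1, 0, 2, 3, 4, 1], 56, [1307]),
    ([1, 6, 2, 7, 0, 1, 2, 3, 0, 0], 55, [2690]),
    ([6, 1, 0, 5, 0, 7], 49, [2497]),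
    ([2, 4, 3, 6, 1, 3, 0], 56, [918]),
    ([2, 6, 6, 2, 1, 0, 3, 2], 58, [1236]),
    ([6, 4, 0, 3, 5], 54, [314]),
    ([1, 0, 5, 2, 7, 0, 1], 62, [474]),
    ([1, 0, 2, 6, 5, 1, 0, 2, 0, 0], 58, [1866])]

end Cfsg.Lib.LyReal
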