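/-! Generated data: double cosets. -/

set_option autoImplicit false
set_option maxRecDepth 20000

namespace Cfsg.Lib.LyReal

/-- The translates of record 64. -/
def moveT64 : List (List Nat × Nat × List Nat) :=
  [([6, 0, 1, 6, 0, 1, 0], 31, [338]),
    ([5, 1, 5, 1, 4, 2, 0, 0], 41, [517]),
    ([1, 2, 0, 5, 6, 4, 1, 0], 25, [136]),
    ([7, 0, 1, 5, 3, 2, 3, 0], 23, [866]),
    ([1, 0, 2, 3, 5, 1, 0], 23, [338]),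
    ([0, 2, 4, 1, 4, 0, 2], 35, [133]),
    ([2, 6, 0, 5, 4, 0], 41, [502]),
    ([2, 3, 1, 3, 5, 2, 1, 0], 28, [664]),
    ([6, 2, 4, 1, 0, 3, 0, 0, 0], 25, [577]),
    ([4, 5, 2, 5, 6, 5], 41, [324]),
    ([5, 3, 0, 1, 2, 4, 1, 0, 0], 31, [587]),
    ([4, 5, 2, 5, 2, 0, 1], 30, [517]),
    ([7, 0, 1, 5, 0, 5, 2, 0, 0], 23, [587]),
    ([5, 2, 0, 3, 6, 4, 1, 2], 24, [655]),
    ([7, 6, 1, 5, 4], 44, [122]),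
    ([0, 1, 3, 2, 3, 0, 5, 1, 0], 39, [508]),
    ([2, 4, 1, 3, 2, 3, 1, 0], 28, [174]),
    ([2, 7, 3, 0, 0, 5, 1, 0, 0], 25, [704]),
    ([6, 2, 1, 5, 2, 1, 0, 0], 32, [751]),
    ([2, 7, 6, 0, 5, 1, 0, 2, 0], 31, [784]),
    ([2, 5, 5, 3, 1, 5], 23, [751]),
    ([3, 3, 2, 0, 5, 1], 35, [50]),
    ([3, 4, 3, 0, 3, 1], 45, [189]),
    ([5, 0, 3, 0, 5, 0, 2], 39, [781]),
    ([6, 3, 1, 0, 5, 2, 0], 36, [784]),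
    ([2, 5, 2, 0, 3, 4], 23, [649]),
    ([1, 2, 6, 5, 3, 0, 1, 0, 0, 0], 23, [517]),
    ([0, 1, 5, 1, 6, 0, 1, 0, 0], 31, [866]),
    ([5, 0, 1, 3, 2, 3, 0, 0, 0], 23, [502]),
    ([0, 0, 6, 2, 3, 0, 2], 37, [814]),
    ([4, 3, 6, 2, 0, 2, 1], 34, [704]),
    ([5, 3, 0, 1, 2, 4, 1, 0, 0], 42, [231]),
    ([1, 2, 7, 3, 2, 3, 2, 0], 24, [745]),
    ([2, 6, 5, 2, 3, 1], 24, [959]),
    ([4, 0, 2, 1, 0, 3, 3], 42, [451]),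
    ([4, 1, 4, 4, 2, 7, 1], 39, [122]),
    ([6, 2, 1, 0, 0, 6, 2, 0, 0], 39, [574]),
    ([4, 0, 5, 4, 0, 1], 28, [890]),
    ([4, 1, 6, 0, 5, 6], 36, [324]),
    ([7, 2, 4, 0, 1, 2, 0, 0], 31, [887]),
    ([7, 5, 2, 1, 4], 25, [837]),
    ([5, 4, 0, 5, 0, 6, 2], 34, [136]),
    ([3, 6, 1, 5, 2], 32, [587]),
    ([5, 4, 4, 3, 1, 0], 32, [649]),
    ([5, 0, 5, 3, 0, 2, 1, 0, 0], 25, [818]),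
    ([2, 1, 0, 6, 3, 6, 2, 1], 37, [761]),
    ([6, 5, 2, 6, 1, 0, 0], 25, [940]),
    ([1, 2, 0, 1, 5, 5, 2, 1], 23, [887]),
    ([2, 4, 3, 0, 1, 4, 2], 31, [517]),
    ([6, 0, 1, 3, 0, 0, 0, 0], 30, [587]),
    ([3, 1, 0, 2, 7, 6, 3, 0], 32, [784]),
    ([1, 6, 2, 1, 6, 5, 0], 30, [324]),
    ([0, 7, 3, 6, 1, 0, 2], 43, [577]),
    ([6, 6, 2, 6, 5, 1], 43, [809]),
    ([1, 2, 6, 0, 5, 0, 1], 38, [874]),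
    ([5, 1, 2, 6, 6, 1, 0], 30, [784]),
    ([6, 6, 3, 0, 1], 30, [887]),
    ([1, 6, 5, 5, 5], 42, [614]),
    ([1, 4, 2, 0, 7], 42, [472]),
    ([7, 2, 4, 2, 1, 0, 0, 0], 32, [506]),
    ([1, 0, 6, 2, 1, 0, 5, 0, 0], 37, [50]),
    ([2, 1, 0, 0, 6, 2, 5, 1, 2], 24, [495]),
    ([5, 3, 3, 2, 0, 2, 1], 34, [940]),
    ([7, 1, 6, 5, 1, 0], 43, [704]),
    ([6, 5, 0, 1, 2, 0, 5], 25, [110]),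
    ([0, 7, 2, 6, 4], 38, [271]),
    ([0, 2, 3, 1, 0, 3, 5], 44, [697]),
    ([2, 6, 6, 4, 1], 25, [600]),
    ([6, 1, 0, 3, 6, 2, 1, 0], 37, [779]),
    ([0, 5, 3, 2, 1, 0, 2, 0], 31, [751]),
    ([7, 1, 5, 1, 2, 4], 34, [659]),
    ([3, 2, 1, 5, 2, 6], 39, [750]),
    ([1, 5, 0, 6, 0, 2], 32, [1006]),
    ([4, 1, 4, 2, 6, 2, 0], 32, [866]),
    ([4, 3, 4, 1, 0, 5, 1, 2], 23, [506]),
    ([1, 0, 6, 0, 0], 35, [593]),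
    ([5, 0, 0, 5, 4, 0, 2, 1, 0], 24, [250]),
    ([1, 6, 6, 3, 0, 3, 1, 0], 30, [506]),
    ([6, 6, 1, 4, 2, 0], 31, [649]),
    ([2, 3, 1, 5, 5, 4, 2, 0], 30, [338]),
    ([1, 5, 3, 2, 6, 1], 39, [8]),
    ([1, 0, 6, 4, 3, 3, 2, 0], 36, [587]),
    ([2, 7, 4, 1, 0, 0], 23, [784]),
    ([2, 5, 1, 0, 7, 2, 3, 1], 25, [809]),
    ([3, 5, 2, 0, 2], 25, [659]),
    ([5, 0, 6, 0, 2, 4, 0, 0], 41, [506]),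
    ([1, 6, 4, 3, 6, 4, 2], 35, [635]),
    ([2, 0, 1, 4, 3, 2, 3, 2], 36, [502]),
    ([2, 0, 1, 3, 0, 2, 5, 1, 2], 23, [324]),
    ([0, 6, 1, 3, 2, 6, 1, 0, 0, 0], 32, [517]),
    ([1, 0, 0, 6, 2, 1, 0, 3, 1], 25, [566]),
    ([2, 5, 2, 0, 0, 6, 2], 30, [751]),
    ([6, 3, 5, 3, 2, 0, 2, 1], 41, [866]),
    ([5, 0, 1, 5, 1, 2, 1, 0], 31, [502]),
    ([3, 2, 5, 6, 2, 0, 1], 45, [133]),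
    ([4, 4, 4, 5, 3, 1, 2, 0], 24, [527]),
    ([4, 4, 2, 0, 7, 3, 1, 2], 31, [1006]),
    ([4, 5, 3, 0, 1, 2, 0], 43, [110]),
    ([2, 0, 1, 6, 1, 5, 1, 0], 28, [434]),
    ([1, 7, 4], 42, [312]),
    ([0, 1, 7, 3, 2, 3, 1], 24, [640]),
    ([0, 0, 7, 6, 3, 1], 28, [256]),
    ([7, 1, 4, 1, 5, 1, 0, 0, 0, 0], 28, [156]),
    ([0, 2, 0, 5, 0, 6, 2, 0, 1], 24, [648]),
    ([1, 7, 0, 2, 4, 2, 1], 39, [179]),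
    ([1, 4, 3, 3, 3, 2, 0], 24, [585]),
    ([0, 2, 4, 1, 0, 2, 5, 0], 44, [179]),
    ([2, 5, 3, 0, 5, 0], 34, [698]),
    ([2, 0, 2, 1, 4, 2, 1, 0, 3], 32, [324]),
    ([5, 0, 6, 1, 5, 6, 0, 2], 25, [698]),
    ([3, 2, 0, 5, 0], 45, [548]),
    ([6, 1, 0, 2, 3, 1, 5, 1], 28, [884]),
    ([1, 6, 4, 0, 5, 2, 1, 0], 43, [940]),
    ([0, 2, 6, 6, 1, 0], 44, [781]),
    ([1, 5, 2, 5, 0, 7, 0, 0], 28, [536]),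
    ([0, 2, 0, 1, 0, 5, 1, 6], 28, [12]),
    ([7, 6, 0, 1, 6, 1], 43, [818]),
    ([0, 3, 1, 2, 7, 3, 0, 2], 39, [768]),
    ([2, 6, 0, 7, 3, 1, 0], 44, [8]),
    ([6, 0, 7, 2, 6], 38, [52]),
    ([3, 2, 1, 5, 5, 0, 2], 30, [1006]),
    ([6, 4, 0, 3, 2, 6, 2], 37, [189]),
    ([6, 5, 1, 4, 2], 36, [1006]),
    ([6, 2, 4, 1, 2, 0, 0], 39, [697]),
    ([6, 0, 7, 6, 1], 30, [502]),
    ([7, 5, 3, 1], 24, [642]),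
    ([5, 0, 7, 1, 2, 6, 1], 31, [324]),
    ([7, 2, 1, 6, 0, 2, 6, 0, 0], 30, [649]),
    ([3, 2, 1, 0, 5, 1, 0, 0], 42, [439]),
    ([5, 4, 4, 1, 5, 5, 0], 35, [691]),
    ([0, 0, 6, 0, 1, 0, 6, 1], 32, [887]),
    ([6, 1, 0, 6, 1, 2, 1, 0], 39, [194]),
    ([5, 3, 0, 2, 0, 1, 3], 23, [1006]),
    ([2, 6, 5, 2, 3, 1, 0], 32, [502]),
    ([5, 0, 2, 5, 0, 3, 0, 1, 0], 31, [506]),
    ([6, 5, 0, 6], 37, [548]),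
    ([7, 5, 2, 7], 41, [1006]),
    ([6, 1, 4, 3, 0, 5, 4], 35, [269]),
    ([0, 0, 6, 6, 0, 1, 3, 0, 0], 30, [866]),
    ([1, 6, 2, 5, 4], 36, [751]),
    ([1, 6, 4, 2, 4, 0, 0, 0, 0], 32, [338]),
    ([6, 3, 5, 3, 0, 2, 0], 34, [110]),
    ([6, 5, 1, 3, 0, 0], 24, [538]),
    ([3, 0, 0, 6, 1, 5, 2, 0], 28, [46]),
    ([6, 3, 1, 0, 2, 6, 0, 0], 28, [907]),
    ([3, 6, 0, 6, 1, 2, 0, 2], 39, [848]),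
    ([0, 0, 0, 5, 1, 2, 1], 44, [848]),
    ([2, 7, 1, 0, 0, 5, 1, 2, 1], 24, [754]),
    ([5, 1, 6, 5, 0, 2, 0, 0], 28, [690]),
    ([0, 7, 4, 1, 0, 2, 1, 0, 0, 0], 39, [164])]

end Cfsg.Lib.LyReal
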