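import Cfsg.Agent.Lib.LyReal.ClosureDefs
import Cfsg.Agent.Lib.LyReal.DataMove60
import Cfsg.Agent.Lib.LyReal.DataMove61
import Cfsg.Agent.Lib.LyReal.DataMove62
import Cfsg.Agent.Lib.LyReal.DataMove63
import Cfsg.Agent.Lib.LyReal.DataMove64

/-!
# Translates of five records
-/

set_option autoImplicit false
set_option maxRecDepth 100000

namespace Cfsg.Lib.LyReal

theorem move60_ok : moveOK 60 moveT60 = true := by decide +kernel

theorem move61_ok : moveOK 61 moveT61 = true := by decide +kernel

theorem move62_ok : moveOK 62 moveT62 = true := by decide +kernel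

theorem move63_ok : moveOK 63 moveT63 = true := by decide +kernel

theorem move64_ok : moveOK 64 moveT64 = true := by decide +kernel

end Cfsg.Lib.LyReal
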