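/-! Generated data: double cosets. -/

set_option autoImplicit false
set_option maxRecDepth 20000

namespace Cfsg.Lib.LyReal

/-- The translates of record 10. -/
def moveT10 : List (List Nat × Nat × List Nat) :=
  [([2, 1, 6, 5, 0, 3, 1, 2], 10, [4042]),
    ([2, 3, 1], 12, [2266]),
    ([6, 5, 1, 5, 4], 13, [5100]),
    ([4, 4, 3, 2, 3], 8, [4043]),
    ([0, 5, 2, 5, 1, 0, 5, 0, 0], 10, [1674]),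
    ([1, 0, 5, 4, 4, 2], 15, [471]),
    ([6, 0, 5, 1, 4, 4, 4], 10, [4156]),
    ([1, 3, 3, 3, 3, 5], 10, [2462]),
    ([4, 0, 6, 1, 2, 0, 2], 11, [5100]),
    ([0, 2, 1, 4, 2, 4, 2, 0, 2], 13, [2041]),
    ([1, 0, 0, 0, 0, 0, 5], 13, [2266]),
    ([4, 1, 0, 7, 2, 0, 6], 10, [4389]),
    ([2, 0, 1, 6, 1, 0, 5, 2], 13, [4520]),
    ([1, 3, 1, 0, 3, 0, 0], 13, [4647]),
    ([6, 1, 0, 5, 2, 7, 0, 0], 13, [1653]),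
    ([5, 2, 5, 6, 3, 0], 11, [1653]),
    ([1, 2, 0, 0, 5, 1, 2, 3], 13, [976]),
    ([1, 0, 5, 1, 7, 2, 1, 0, 0, 0], 13, [362]),
    ([5, 0, 6, 1, 2, 3, 0, 0], 10, [927]),
    ([1, 2, 4, 1, 0, 2, 4], 10, [364]),
    ([1, 4, 2, 4, 3, 1, 0], 8, [2895]),
    ([1, 2, 0, 7, 5, 1, 2], 10, [4356]),
    ([6, 3, 2, 6, 1, 5, 0, 2], 10, [4214]),
    ([1, 0, 6, 0, 0, 5, 0], 13, [3050]),
    ([0, 1, 6, 4, 2, 4], 10, [3319]),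
    ([5, 1, 4, 1, 3, 0, 0], 11, [83]),
    ([2, 0, 1, 2, 6, 0, 0], 11, [2266]),
    ([2, 1, 7, 4], 4, [1376]),
    ([3, 3, 0, 3, 2, 0, 6], 15, [0]),
    ([4, 4, 1, 6, 3, 2, 0], 10, [5500]),
    ([1, 2, 1, 6, 2, 0, 2, 4, 2], 13, [5182]),
    ([2, 7, 1, 5, 2, 3, 0, 1], 12, [3315]),
    ([4, 1, 2, 3, 2, 0], 12, [2953]),
    ([4, 3, 0, 3, 5], 11, [1707]),
    ([2, 0, 5, 4, 0, 3, 0, 1], 13, [3315]),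
    ([1, 5, 1, 4, 2, 0, 5], 12, [1653]),
    ([5, 5, 1, 2, 1, 5, 1], 13, [682]),
    ([0, 6, 1, 2, 3], 14, [4307]),
    ([5, 1, 2, 3, 2], 11, [1657]),
    ([6, 0, 1, 0, 2, 4, 2, 0, 0], 13, [3159]),
    ([2, 1, 4, 5, 3, 2, 0, 0, 0, 0], 10, [4135]),
    ([3, 5, 1, 6, 2, 5, 1, 0], 13, [3153]),
    ([6, 5, 5, 1, 4, 0], 15, [6001]),
    ([5, 3, 0, 5, 3, 2], 13, [2798]),
    ([5, 1, 0, 0, 0, 5, 1], 10, [357]),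
    ([6, 1, 6, 6, 0, 6, 2], 10, [112]),
    ([1, 4, 0, 5, 6, 0, 0], 10, [490]),
    ([5, 0, 1, 2, 1, 0, 6, 0, 0], 12, [1162]),
    ([0, 1, 2, 0, 5, 1, 0, 5], 13, [660]),
    ([5, 0, 1, 5, 5, 3, 0], 10, [5661]),
    ([0, 0, 3, 2, 3, 6, 1, 0, 0, 0], 10, [5910]),
    ([0, 1, 3, 4, 1, 0, 0, 0], 13, [946]),
    ([7, 0, 1, 0, 2, 5, 1], 12, [3687]),
    ([2, 3, 0, 2, 4, 0, 0], 13, [2287]),
    ([1, 0, 2, 1, 4, 5, 2], 13, [3687]),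
    ([1, 4, 5, 0, 2, 1, 0, 6, 0], 10, [2254]),
    ([3, 3, 6, 1, 2, 3], 13, [1657]),
    ([2, 7, 4, 1, 6, 2, 1, 0], 13, [1349]),
    ([6, 6, 4, 0, 2, 6], 11, [1349]),
    ([2, 0, 3, 4, 2, 3, 0], 10, [1917]),
    ([5, 4, 2, 3, 2, 0, 1, 0], 10, [2418]),
    ([2, 7, 1, 6, 4, 2, 0, 0, 0], 13, [5895]),
    ([3, 0, 1, 3, 0, 3, 2, 1, 0, 0], 10, [3894]),
    ([4, 2, 0, 1, 2, 0, 0, 6, 0], 10, [4999]),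
    ([3, 2, 0, 3, 2, 6], 12, [3765]),
    ([1, 4, 0, 0], 15, [5743]),
    ([5, 0, 1, 6, 0, 7, 2, 1, 0, 0], 10, [1258]),
    ([1, 0, 2, 3, 4, 2, 1, 0, 0], 13, [4896]),
    ([1, 6, 5], 9, [889]),
    ([0, 1, 6, 4, 0, 5], 8, [5638]),
    ([2, 6, 1, 6, 0, 2, 1], 17, [1395]),
    ([3, 4, 0, 2, 4, 0, 1], 11, [502]),
    ([0, 1, 0, 2, 1, 5, 2, 6], 13, [4688]),
    ([2, 1, 4, 0, 7], 15, [988]),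
    ([0, 3, 6, 6, 6, 4, 0], 10, [815]),
    ([3, 2, 0, 6, 2, 4, 1, 0], 10, [3708]),
    ([1, 5, 3, 4, 2, 3], 11, [767]),
    ([6, 2, 5, 4, 3, 2], 15, [2692]),
    ([1, 6, 2, 3, 5, 1], 13, [5209]),
    ([6, 1, 5, 0, 1, 4], 13, [1873]),
    ([0, 2, 0, 3, 6, 6, 2], 13, [2953]),
    ([2, 5, 2, 0, 5, 3, 1, 0, 0], 10, [834]),
    ([1, 0, 2, 1, 4, 1, 6, 1], 10, [4312]),
    ([5, 6, 1, 7, 0, 0, 0], 17, [4307]),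
    ([7, 2, 1, 0, 6, 0], 17, [3231]),
    ([1, 5, 6, 2, 5, 0, 1], 15, [4867]),
    ([5, 2, 4, 3], 16, [4483]),
    ([0, 1, 0, 6, 6, 1, 0], 11, [1480]),
    ([2, 6, 0, 6, 6, 4, 2], 11, [3159]),
    ([5, 3, 5, 0, 2, 5, 1, 2], 10, [702]),
    ([0, 0, 0, 6, 0, 5], 11, [5182]),
    ([0, 3, 0], 10, [3293]),
    ([5, 6, 1, 3, 0], 8, [2295]),
    ([1, 2, 1, 4, 0, 0, 0, 5, 0], 10, [1554]),
    ([1, 5, 6, 0, 6], 10, [2125]),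
    ([0, 2, 6, 3, 3, 0, 1], 13, [767]),
    ([6, 1, 3, 0, 5, 6], 13, [2311]),
    ([4, 3, 4, 4, 1, 0, 2], 10, [5278]),
    ([1, 2, 5, 6, 2, 5, 2, 0, 1], 13, [336]),
    ([3, 2, 3, 4, 0, 2, 1, 0], 10, [2140]),
    ([1, 2, 4, 3, 2, 0, 0], 10, [5589]),
    ([5, 0, 2, 5, 6, 4, 0], 15, [3228]),
    ([1, 5, 3, 4, 3, 3, 0], 10, [286]),
    ([4, 0, 1, 6, 5, 0, 1], 12, [717]),
    ([5, 3, 6, 3, 0, 3], 11, [2873]),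
    ([5, 2, 5, 0, 7, 1, 3, 2, 0], 13, [2150]),
    ([0, 1, 2, 1, 0, 6, 5, 1, 0, 0], 13, [2873]),
    ([5, 3, 6, 1, 2, 3, 0], 10, [4026]),
    ([3, 3, 6, 0, 3, 3], 12, [1657]),
    ([3, 6, 2, 5, 4, 0, 2], 15, [4919]),
    ([4, 0, 6, 4, 0], 16, [4570]),
    ([0, 7, 2, 4, 3, 1, 0], 12, [976]),
    ([2, 1, 5, 2, 6, 1, 6, 1], 13, [2598]),
    ([6, 2, 0, 1, 3, 6, 0], 12, [767]),
    ([2, 5, 5, 6, 0, 0], 17, [1885]),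
    ([5, 1, 2, 0, 1, 0, 5, 2, 1], 13, [330]),
    ([0, 1, 4, 1, 5, 0, 0, 0], 11, [1067]),
    ([2, 4, 1, 0, 2, 6, 1, 2, 0, 0], 13, [1707]),
    ([5, 1, 4, 2, 4, 0, 0], 13, [5709]),
    ([3, 0, 2, 6, 1, 2, 3, 1], 13, [1067]),
    ([1, 2, 3, 0, 1, 6, 1, 0], 12, [4688]),
    ([4, 0, 7, 0, 0], 15, [4316]),
    ([6, 5, 1, 5, 0, 6], 13, [4804]),
    ([7, 5, 4, 2, 5, 0, 5], 10, [4032]),
    ([0, 2, 4, 3, 5, 1], 12, [983]),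
    ([5, 3, 5, 1, 2, 3, 0, 1], 13, [717]),
    ([4, 0, 3, 6, 1, 2], 13, [1162]),
    ([7, 5, 2, 5, 1, 0], 11, [4688]),
    ([0, 2, 3, 4, 0], 10, [3379]),
    ([4, 0, 2, 4, 3, 2], 16, [5373]),
    ([5, 6, 0, 1, 5, 2, 0, 1, 0], 13, [1066]),
    ([3, 3, 5, 2, 5, 3], 13, [1283]),
    ([1, 3, 4, 0, 2, 1, 0, 0], 13, [83]),
    ([0, 2, 6, 3, 1, 5, 2, 0], 13, [1480]),
    ([0, 7, 1, 0, 2, 5, 4, 0], 10, [4369]),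
    ([1, 2, 7, 4, 0, 0], 16, [2348]),
    ([1, 3, 2, 7, 4, 2, 0, 0, 0], 12, [83]),
    ([5, 3, 1, 4, 4, 3, 2], 10, [2701]),
    ([1, 3, 5, 2, 0, 3, 4, 1], 10, [1104]),
    ([4, 3, 5, 0, 0], 10, [5149]),
    ([0, 2, 3, 1, 0, 5, 1], 13, [983]),
    ([1, 4, 2, 7, 0, 1, 6], 11, [336]),
    ([5, 3, 6, 2, 6, 0, 1], 12, [5948]),
    ([2, 1, 0, 3, 4, 1, 0, 2, 0], 13, [3765]),
    ([4, 4, 1, 5, 2, 0, 1], 12, [362]),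
    ([0, 2, 7, 0, 0, 5, 2, 1, 0], 13, [502]),
    ([3, 1, 5, 1, 2, 1, 0, 0, 0], 13, [5948]),
    ([0, 6, 0, 1, 5, 2, 0], 15, [1619]),
    ([4, 4, 1, 2, 4, 1, 0], 10, [3228]),
    ([3, 1, 5, 2, 0, 2, 4], 10, [2732])]

end Cfsg.Lib.LyReal
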