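/-! Generated data: double cosets. -/

set_option autoImplicit false
set_option maxRecDepth 20000

namespace Cfsg.Lib.LyReal

/-- The translates of record 13. -/
def moveT13 : List (List Nat × Nat × List Nat) :=
  [([2, 6, 0, 1, 2, 4, 3], 13, [234]),
    ([2, 4, 0, 3, 4, 1, 3], 10, [4333]),
    ([5, 0, 1, 0, 5, 3], 15, [1716]),
    ([0, 6, 1, 0, 3, 0, 1], 11, [3142]),
    ([3, 1, 7, 0, 6, 1, 0], 13, [5463]),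
    ([0, 6, 5, 2, 6, 1], 11, [5809]),
    ([6, 5, 2, 5, 1, 0, 2], 11, [5463]),
    ([6, 3, 5, 1, 4, 2, 3, 0], 10, [5313]),
    ([6, 1, 0, 3, 2, 1, 6, 0], 10, [5868]),
    ([4, 1, 3, 2, 1, 0, 3, 0], 10, [5486]),
    ([6, 3, 0, 2, 4, 5], 10, [1453]),
    ([2, 3, 2, 5, 4, 1, 0], 15, [3638]),
    ([0, 0, 0, 3, 0, 2], 10, [4966]),
    ([1, 6, 6, 5, 0], 11, [2392]),
    ([6, 2, 5, 1, 6, 2, 1, 0], 12, [2392]),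
    ([4, 1, 0, 7, 3, 2, 0, 0], 13, [1607]),
    ([0, 2, 6, 1, 2, 5, 6, 1, 0], 10, [3417]),
    ([0, 1, 2, 4, 0, 0, 0], 10, [3157]),
    ([0, 5, 2, 1, 0, 2, 6, 0], 10, [3895]),
    ([0, 0, 0, 3, 4], 15, [1461]),
    ([1, 5, 5, 3, 0, 2, 3, 0], 13, [1801]),
    ([4, 0, 5, 4, 2, 6], 12, [1009]),
    ([4, 3, 4, 2, 0, 1], 13, [942]),
    ([0, 2, 3, 1, 0, 3, 2], 11, [5171]),
    ([2, 5, 2, 5, 5, 1], 11, [2378]),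
    ([2, 1, 7, 5, 0, 6, 0], 17, [260]),
    ([2, 0, 3, 3, 2, 3], 15, [5643]),
    ([2, 0, 1, 2, 5, 2, 5, 0, 1], 12, [3142]),
    ([3, 5, 1, 2, 7, 0], 12, [222]),
    ([6, 6, 3, 4, 0], 13, [5809]),
    ([2, 6, 2, 3, 2, 5, 0], 15, [1980]),
    ([6, 0, 2, 6, 1], 12, [1823]),
    ([1, 5, 5, 0, 1, 2, 4, 1, 0], 10, [5219]),
    ([2, 7, 6, 0, 0, 5, 0, 0], 10, [82]),
    ([6, 0, 5, 6, 1, 5, 0], 13, [868]),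
    ([2, 0, 2, 5, 1, 3], 13, [2236]),
    ([5, 3, 1, 2, 6, 3, 1, 0], 10, [680]),
    ([4, 3, 2, 4, 3, 0, 1], 11, [619]),
    ([0, 3, 6, 1, 3, 2, 0, 2], 13, [2387]),
    ([6, 2, 3, 3, 0, 2, 1], 10, [2798]),
    ([2, 0, 3, 6, 2, 6], 15, [2988]),
    ([2, 5, 4, 2, 0, 1, 2, 0], 10, [5390]),
    ([0, 2, 1, 6, 5, 1, 2, 0, 1], 10, [1171]),
    ([3, 2, 0, 6, 6, 1, 2, 1, 0], 13, [3998]),
    ([0, 6, 2, 7, 3, 0, 1, 0], 12, [4399]),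
    ([0, 1, 2, 5, 6, 3, 1, 0, 0, 0], 12, [2376]),
    ([5, 2, 5, 2, 5, 0, 1], 10, [2024]),
    ([1, 0, 5, 4, 2, 4, 0], 15, [3940]),
    ([5, 2, 3, 0, 1, 3, 0], 10, [3111]),
    ([4, 4, 4, 1, 2, 1, 0], 10, [5563]),
    ([4, 0, 3, 2, 0, 7, 0], 13, [4100]),
    ([7, 5, 0, 2, 1, 4, 0, 0, 0], 11, [575]),
    ([7, 0, 6, 5, 0, 0, 0, 0], 17, [2204]),
    ([7, 5, 3, 6, 0], 14, [1472]),
    ([2, 6, 2, 0, 2, 1, 5], 17, [1714]),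
    ([3, 0, 0, 6, 6, 1, 0], 13, [2378]),
    ([7, 2, 0, 0, 0, 6, 1], 13, [575]),
    ([7, 6, 3, 6, 1], 17, [4085]),
    ([3, 4, 4, 2], 17, [5975]),
    ([2, 6, 0, 3, 2, 6, 0], 12, [4100]),
    ([0, 7, 1, 0, 5, 2, 1, 6], 13, [5598]),
    ([7, 0, 1, 2, 0, 6, 0, 0], 13, [2392]),
    ([0, 0, 0, 5, 4, 2, 1, 0, 2], 10, [1146]),
    ([1, 7, 3, 1, 2, 3, 0, 0], 13, [5017]),
    ([1, 2, 1, 6, 1, 0], 17, [1303]),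
    ([4, 0, 1, 3, 4, 4], 11, [5017]),
    ([2, 6, 5, 0, 0], 12, [3984]),
    ([3, 3, 6, 2, 4, 5], 17, [4318]),
    ([0, 3, 0, 1, 2, 0], 15, [3316]),
    ([0, 6, 0, 1, 6, 1], 13, [4589]),
    ([2, 6, 1, 4, 0, 1, 3], 13, [4408]),
    ([0, 1, 0, 7, 6, 3, 0], 13, [1389]),
    ([2, 1, 6, 2, 0, 6, 2, 1], 13, [2120]),
    ([0, 6, 6, 2, 6, 1, 0, 0], 10, [2463]),
    ([6, 1, 0, 5, 1, 6, 1, 0, 0], 10, [5950]),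
    ([0, 6, 5, 5, 1, 2, 4], 13, [2376]),
    ([1, 6, 2, 6, 1, 3, 0], 13, [5836]),
    ([3, 3, 1, 2, 3, 0, 1, 0, 0], 13, [4405]),
    ([5, 0, 5, 0, 0, 0], 14, [771]),
    ([7, 4, 0, 2, 0, 1, 5], 10, [1422]),
    ([2, 4, 0, 1, 5, 5, 0], 10, [18]),
    ([5, 1, 6, 5, 6, 2], 10, [4353]),
    ([3, 0, 2, 1, 0, 5, 1, 2], 10, [1356]),
    ([6, 0, 1, 0, 3, 4, 2, 1, 0, 0], 13, [4298]),
    ([3, 0, 5, 2, 6, 2], 13, [619]),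
    ([6, 1, 0, 5, 3, 4, 2], 10, [2649]),
    ([1, 0, 3, 6, 1, 2, 0, 1], 10, [4075]),
    ([1, 6, 2, 5, 1, 3, 2], 10, [4273]),
    ([2, 0, 1, 6, 1, 6, 1], 10, [2543]),
    ([5, 3, 0, 2, 5, 0, 0], 10, [5282]),
    ([2, 7, 0, 6, 5, 5, 2], 10, [3641]),
    ([7, 0, 3, 1, 0, 3], 10, [1890]),
    ([2, 6, 1, 4, 4, 4, 2], 13, [3142]),
    ([0, 0, 7, 6, 0], 13, [222]),
    ([1, 7, 4, 2, 0, 0, 0], 13, [1009]),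
    ([4, 1, 4, 0, 0, 5], 13, [1482]),
    ([6, 4, 1, 2, 3, 2], 17, [4519]),
    ([2, 6, 1, 2, 7, 0], 12, [5017]),
    ([4, 1, 4, 0, 7, 1, 0], 17, [4419]),
    ([6, 0, 1, 3, 2, 0], 13, [2432]),
    ([0, 7, 5, 2, 0, 5, 0, 1, 0], 13, [2147]),
    ([0, 2, 5, 3, 3, 2, 1, 0], 10, [3756]),
    ([4, 5, 2, 0, 3, 1, 0, 0], 13, [5925]),
    ([0, 1, 5, 0, 6, 0, 0], 10, [84]),
    ([6, 4, 3, 1, 3, 0, 3], 10, [5262]),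
    ([5, 2, 1, 5, 3, 3], 13, [1499]),
    ([4, 1, 3, 4, 2, 0], 10, [2560]),
    ([2, 6, 6, 2, 1, 6, 1, 0, 0], 11, [939]),
    ([3, 6, 6], 13, [3936]),
    ([7, 6, 1, 0, 0, 6, 2, 1], 13, [4399]),
    ([2, 6, 2, 5, 1, 5, 2, 0, 0], 10, [5295]),
    ([0, 2, 3, 6, 3, 2], 10, [1907]),
    ([5, 1, 2, 1, 5, 2, 0, 1, 2], 13, [3272]),
    ([0, 1, 0, 5, 4, 5], 12, [1482]),
    ([3, 2, 3, 3, 4, 0], 12, [4408]),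
    ([2, 0, 0, 0, 6, 0, 1, 5], 10, [4697]),
    ([3, 6, 6, 2, 1, 4, 3, 0], 13, [1823]),
    ([0, 2, 5, 1, 2, 5, 0, 0, 0], 10, [5837]),
    ([7, 0, 5, 5, 1, 2, 0], 15, [733]),
    ([1, 3, 4, 1, 3, 2, 1], 11, [868]),
    ([1, 0, 6, 2, 0, 1, 0, 5], 12, [1903]),
    ([6, 1, 3, 1, 0, 5, 0], 11, [2376]),
    ([5, 2, 3, 6, 0, 0], 11, [1903]),
    ([5, 5, 1, 7, 2, 6, 0, 1, 0], 13, [91]),
    ([2, 1, 7, 0, 2, 4, 1], 10, [2271]),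
    ([4, 3, 6, 2, 4, 3], 15, [82]),
    ([7, 1, 6, 2, 3, 3, 0], 10, [1870]),
    ([5, 6, 3, 5, 0, 1], 13, [1903]),
    ([0, 0, 0, 6, 0, 2, 6, 2, 1], 13, [5032]),
    ([2, 5, 0, 6], 10, [5690]),
    ([6, 5, 0, 2, 5, 0, 1, 0], 12, [2387]),
    ([7, 3, 0, 1, 3, 2, 0], 13, [5171]),
    ([4, 0, 7, 2, 4, 3, 1], 17, [771]),
    ([2, 0, 0, 3, 0], 15, [895]),
    ([5, 0, 2, 4, 2, 6, 1, 0, 0, 0], 10, [4779]),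
    ([1, 6, 0, 1, 2, 5, 1], 10, [1077]),
    ([4, 1, 3, 3, 5, 2, 1], 17, [1105]),
    ([0, 5, 6, 1, 3, 5, 0], 13, [4761]),
    ([1, 0, 2, 3, 1, 5, 2], 10, [4182]),
    ([1, 2, 7, 6, 3, 3, 0], 15, [274]),
    ([0, 1, 7, 5, 2, 5, 0], 10, [3060]),
    ([4, 5, 6, 1, 3, 4], 17, [5654]),
    ([4, 1, 5, 6, 2, 1, 0, 0], 11, [3949]),
    ([7, 3, 2, 4], 14, [5654]),
    ([3, 2, 7, 1, 0, 2, 5, 1], 10, [1572]),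
    ([7, 2, 0, 3, 3, 1, 2], 13, [3949]),
    ([4, 3, 0, 1, 0, 6, 0], 12, [1389]),
    ([3, 2, 7, 0, 0, 5], 13, [3984]),
    ([0, 7, 1, 5, 0, 0, 3, 2], 13, [939]),
    ([1, 6, 3, 6, 2, 1], 11, [2147])]

end Cfsg.Lib.LyReal
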