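/-! Generated data: double cosets. -/

set_option autoImplicit false
set_option maxRecDepth 20000

namespace Cfsg.Lib.LyReal

/-- The translates of record 14. -/
def moveT14 : List (List Nat × Nat × List Nat) :=
  [([2, 5, 1, 4, 5, 5], 10, [5779]),
    ([7, 0, 6, 6, 2, 0, 1], 10, [5195]),
    ([7, 0, 6, 6, 2, 0, 1], 10, [4300]),
    ([7, 0, 6, 6, 2, 0, 1], 10, [3276]),
    ([5, 6, 2, 6, 2, 0, 0, 0], 10, [3148]),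
    ([6, 4, 3, 4, 2, 0, 1, 2], 13, [2450]),
    ([2, 6, 5, 2, 6, 2, 1, 0, 0], 10, [760]),
    ([2, 6, 5, 2, 6, 2, 1, 0, 0], 10, [1075]),
    ([2, 6, 5, 2, 6, 2, 1, 0, 0], 10, [5709]),
    ([4, 2, 4, 5, 4, 3, 1], 13, [4727]),
    ([6, 3, 0, 0, 0], 10, [5576]),
    ([2, 1, 4, 3, 6, 6, 0, 2], 13, [1691]),
    ([2, 6, 5, 2, 6, 2, 1, 0, 0], 10, [3296]),
    ([1, 2, 3, 4, 1, 4], 11, [409]),
    ([3, 2, 1, 5, 5, 5], 13, [2856]),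
    ([0, 3, 6, 4, 1], 12, [5195]),
    ([2, 6, 5, 2, 6, 2, 1, 0, 0], 10, [4889]),
    ([2, 6, 5, 2, 6, 2, 1, 0, 0], 10, [3360]),
    ([0, 5, 4, 1, 5, 5], 12, [5451]),
    ([4, 2, 7], 11, [3360]),
    ([6, 3, 0, 0, 0], 10, [1091]),
    ([5, 0, 5, 1, 0, 3, 0], 13, [3276]),
    ([6, 1, 4, 0, 7, 2, 0, 0], 13, [217]),
    ([6, 1, 4, 0, 7, 2, 0, 0], 13, [5297]),
    ([6, 1, 4, 0, 7, 2, 0, 0], 13, [1997]),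
    ([4, 4, 2, 4, 4, 3], 12, [5576]),
    ([6, 0, 3, 0, 2, 1, 5], 10, [1107]),
    ([6, 0, 3, 0, 2, 1, 5], 10, [1563]),
    ([1, 2, 3, 0, 0, 5, 0, 1, 0], 10, [1407]),
    ([0, 5, 2, 0, 0, 6], 11, [2450]),
    ([6, 0, 3, 0, 2, 1, 5], 10, [1522]),
    ([6, 0, 2, 4, 1, 2], 13, [1707]),
    ([0, 5, 2, 7, 3, 0], 11, [4889]),
    ([0, 6, 1, 2, 0, 1, 3, 1], 13, [1425]),
    ([2, 0, 0, 6, 6, 0], 12, [1707]),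
    ([1, 6, 6, 4, 4, 3], 13, [409]),
    ([0, 5, 2, 0, 0, 6], 11, [3042]),
    ([0, 5, 2, 0, 0, 6], 11, [4342]),
    ([7, 0, 1, 0, 5, 1, 2, 1, 0], 13, [3112]),
    ([6, 5, 0, 2, 3, 1, 2, 0, 0], 13, [589]),
    ([3, 0, 3, 6], 10, [332]),
    ([3, 0, 3, 6], 10, [5986]),
    ([5, 5, 6, 3, 0, 2, 1, 0], 13, [1766]),
    ([2, 1, 0, 6, 0, 5, 1], 12, [5258]),
    ([2, 1, 0, 6, 0, 5, 1], 12, [3148]),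
    ([0, 3, 1, 2, 0, 1, 5, 4], 13, [332]),
    ([6, 0, 3, 0, 2, 1, 5], 10, [5208]),
    ([0, 5, 2, 7, 3, 0], 11, [1522]),
    ([3, 6, 2, 6, 1, 5, 1, 0], 15, [554]),
    ([2, 0, 0, 6, 3, 0, 5], 12, [1766]),
    ([0, 5, 2, 1, 0, 2, 4, 1, 0], 13, [1075]),
    ([0, 5, 2, 1, 0, 2, 4, 1, 0], 13, [2713]),
    ([5, 6, 6, 0, 2, 4, 0], 13, [1563]),
    ([1, 6, 1, 5, 1], 13, [2819]),
    ([6, 6, 5, 3, 6, 0, 2, 0], 12, [1563]),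
    ([5, 3, 0, 2, 5, 0, 0], 11, [1997]),
    ([5, 3, 0, 2, 5, 0, 0], 11, [3281]),
    ([2, 7, 1, 0, 6, 4, 2, 1, 0, 0], 13, [1943]),
    ([3, 2, 7, 4, 2, 0, 1], 11, [1563]),
    ([0, 6, 4, 1, 6, 1], 13, [3710]),
    ([0, 6, 4, 1, 6, 1], 13, [4066]),
    ([7, 0, 1, 0, 2, 1, 0, 0], 13, [5195]),
    ([6, 0, 3, 0, 2, 1, 5], 10, [2713]),
    ([6, 2, 4, 2, 4, 2, 0, 1, 0], 13, [2527]),
    ([1, 6, 5, 6, 0, 2], 13, [5561]),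
    ([0, 7, 5, 5, 1, 3, 0], 11, [2527]),
    ([7, 3, 2, 0, 2, 1, 4], 13, [1407]),
    ([1, 7, 6, 1, 4, 0], 13, [4466]),
    ([1, 2, 7, 5, 2, 5], 13, [4817]),
    ([2, 5, 0, 2, 5, 1, 0], 15, [4551]),
    ([7, 2, 6, 4, 0, 0, 0, 0], 13, [3296]),
    ([7, 2, 6, 4, 0, 0, 0, 0], 13, [5986]),
    ([7, 2, 6, 4, 0, 0, 0, 0], 13, [5258]),
    ([2, 6, 5, 4, 4, 1], 13, [1041]),
    ([2, 1, 4, 3, 6, 6, 0, 2], 13, [3360]),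
    ([7, 0, 6, 1, 2, 4, 0, 1], 12, [332]),
    ([7, 0, 6, 1, 2, 4, 0, 1], 12, [1091]),
    ([7, 0, 6, 1, 2, 4, 0, 1], 12, [1075]),
    ([4, 0, 6, 0, 1, 5, 0, 0], 13, [687]),
    ([6, 2, 4, 2, 4, 2, 0, 1, 0], 13, [2768]),
    ([6, 2, 4, 2, 4, 2, 0, 1, 0], 13, [149]),
    ([7, 6, 6, 6, 2], 11, [1691]),
    ([6, 2, 4, 2, 4, 2, 0, 1, 0], 13, [1785]),
    ([1, 0, 5, 5, 5, 1, 2], 13, [2052]),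
    ([2, 1, 0, 6, 6, 2, 4], 12, [3296]),
    ([5, 2, 5, 3, 0, 1, 0], 12, [5355]),
    ([0, 0, 6, 1, 0, 2, 1, 0], 13, [808]),
    ([2, 5, 5, 4, 0, 2, 5], 13, [5133]),
    ([3, 0, 5, 1, 0, 3, 2, 1], 13, [1522]),
    ([1, 2, 1, 6, 0, 1, 4, 0, 0], 13, [3068]),
    ([2, 5, 1, 4, 5, 5], 10, [1691]),
    ([7, 1, 2, 0, 2, 5, 2, 5], 13, [4561]),
    ([1, 4, 2, 4, 3, 0, 1, 0], 10, [5258]),
    ([3, 6, 2, 6, 1, 5, 1, 0], 15, [305]),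
    ([4, 5, 3, 1, 4, 4, 2, 0], 12, [4066]),
    ([2, 5, 1, 2, 4, 5, 0], 13, [1091]),
    ([2, 1, 0, 6, 2, 4, 0], 11, [687]),
    ([2, 0, 7, 5, 2, 0, 0], 13, [2440]),
    ([5, 2, 5, 0], 12, [5561]),
    ([1, 3, 0, 5, 1, 2, 5, 1], 13, [5779]),
    ([4, 3, 2, 6, 1, 2, 1], 11, [2954]),
    ([2, 0, 2, 4, 2, 4], 15, [5459]),
    ([3, 1, 0, 2, 1, 6, 0, 6], 13, [4983]),
    ([1, 6, 5, 6, 0, 2], 13, [3042]),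
    ([0, 2, 5, 4, 2, 5], 13, [2568]),
    ([1, 2, 0, 5, 3, 0], 11, [673]),
    ([7, 1, 3, 3, 4, 2, 0], 12, [2568]),
    ([5, 6, 6, 6, 4, 1], 13, [4528]),
    ([2, 0, 1, 2, 6, 4, 0, 0], 13, [3281]),
    ([5, 0, 6, 1, 7, 6], 11, [3148]),
    ([2, 5, 1, 2, 4, 5, 0], 13, [5208]),
    ([1, 2, 0, 0, 5, 1], 15, [1822]),
    ([2, 1, 0, 6, 2, 4, 0], 11, [1707]),
    ([2, 1, 0, 6, 2, 4, 0], 11, [5297]),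
    ([6, 1, 7, 0, 2, 5], 13, [4342]),
    ([6, 3, 2, 4, 0, 2, 5], 10, [5451]),
    ([2, 0, 6, 6, 6, 4, 2, 1], 13, [5709]),
    ([1, 2, 1, 6, 1, 4, 1, 0], 13, [4889]),
    ([1, 0, 2, 4, 3, 1, 2, 0], 12, [149]),
    ([0, 3, 2, 7, 5, 0, 1], 13, [2953]),
    ([3, 4, 5, 1, 4, 3], 13, [5524]),
    ([1, 6, 0, 0, 6, 1, 0], 13, [797]),
    ([3, 5, 5, 0, 6, 1], 11, [5258]),
    ([7, 2, 1, 6, 1, 4, 1, 0, 0], 13, [2954]),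
    ([1, 2, 3, 1, 0, 0, 0, 3], 12, [1107]),
    ([6, 1, 6, 1, 2], 13, [760]),
    ([5, 2, 0, 3, 0, 1, 2, 0], 12, [1522]),
    ([7, 6, 6, 0, 7, 3, 3], 13, [1327]),
    ([2, 1, 6, 2, 5, 0], 12, [5779]),
    ([1, 6, 5, 2, 5, 1, 0, 0], 12, [4817]),
    ([1, 6, 6, 5, 2, 0], 12, [3112]),
    ([3, 0, 2, 4, 2, 0, 0], 13, [3577]),
    ([4, 0, 7, 2, 0, 1], 13, [4205]),
    ([7, 4, 1, 2, 1, 0], 13, [1107]),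
    ([4, 2, 4, 5, 2, 0, 1, 2, 0], 13, [5355]),
    ([6, 6, 6, 6, 0, 1], 11, [5208]),
    ([7, 4, 1, 2, 1, 0], 13, [5576]),
    ([6, 5, 0, 6, 1, 5], 11, [332]),
    ([2, 0, 5, 4, 1, 0, 0], 11, [1041]),
    ([7, 2, 0, 6, 2, 5, 4, 1], 13, [5451]),
    ([2, 5, 4, 0, 7, 0, 0, 0], 11, [1107]),
    ([0, 5, 2, 0, 0, 6], 11, [5561]),
    ([2, 3, 2, 1, 6, 0, 0], 12, [673]),
    ([0, 0, 6, 4, 0, 1, 0, 2, 1], 13, [4300]),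
    ([5, 0, 6, 0, 5, 2, 0], 15, [5861]),
    ([2, 1, 6, 5, 0, 2, 1], 13, [673]),
    ([1, 6, 4, 3, 3], 13, [5527]),
    ([6, 0, 2, 4, 1, 2], 13, [2560]),
    ([0, 5, 0, 2, 3, 0, 0], 13, [3148]),
    ([4, 5, 1, 5, 0, 6, 1], 12, [2560])]

end Cfsg.Lib.LyReal
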