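import Cfsg.Agent.Lib.LyReal.ClosureDefs
import Cfsg.Agent.Lib.LyReal.DataMove10
import Cfsg.Agent.Lib.LyReal.DataMove11
import Cfsg.Agent.Lib.LyReal.DataMove12
import Cfsg.Agent.Lib.LyReal.DataMove13
import Cfsg.Agent.Lib.LyReal.DataMove14

/-!
# Translates of five records
-/

set_option autoImplicit false
set_option maxRecDepth 100000

namespace Cfsg.Lib.LyReal

theorem move10_ok : moveOK 10 moveT10 = true := by decide +kernel

theorem move11_ok : moveOK 11 moveT11 = true := by decide +kernel

theorem move12_ok : moveOK 12 moveT12 = true := by decide +kernel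

theorem move13_ok : moveOK 13 moveT13 = true := by decide +kernel

theorem move14_ok : moveOK 14 moveT14 = true := by decide +kernel

end Cfsg.Lib.LyReal
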