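/-! Generated data: double cosets. -/

set_option autoImplicit false
set_option maxRecDepth 20000

namespace Cfsg.Lib.LyReal

/-- The translates of record 15. -/
def moveT15 : List (List Nat × Nat × List Nat) :=
  [([2, 5, 5, 0, 1, 2, 4, 0, 0, 0], 13, [4804]),
    ([3, 0, 1, 6, 0], 17, [2808]),
    ([2, 6, 6, 3, 1, 0, 3], 12, [3938]),
    ([4, 4, 3, 2, 3, 0], 8, [5801]),
    ([0, 1, 7, 5, 0, 0, 0, 0, 0], 13, [2798]),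
    ([4, 2, 0, 7, 4, 0, 0], 10, [2418]),
    ([5, 5, 4, 1, 4, 3, 0, 2], 11, [4804]),
    ([2, 3, 2, 0, 3, 0, 0], 11, [3638]),
    ([6, 2, 6, 1, 5, 0], 11, [2723]),
    ([2, 1, 0, 2, 5, 6], 13, [5981]),
    ([7, 2, 3, 2, 6, 1], 17, [2274]),
    ([3, 1, 7, 2, 1, 0], 13, [4621]),
    ([3, 0, 1, 6, 0], 17, [5178]),
    ([1, 5, 6, 6, 1, 2, 0, 1, 0], 10, [4956]),
    ([5, 3, 4, 4, 1], 15, [4879]),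
    ([6, 6, 5, 3, 0, 5, 2, 0], 10, [1869]),
    ([1, 3, 1, 7, 2, 0, 6], 13, [3938]),
    ([0, 1, 0, 0, 5, 4, 2, 1, 0], 12, [1597]),
    ([1, 3, 2, 5, 0, 1, 6, 0, 0], 10, [1351]),
    ([6, 1, 5, 2, 3, 0, 1], 10, [4477]),
    ([1, 4, 2, 4, 3, 0], 8, [4840]),
    ([1, 0, 5, 4, 0, 3, 2, 0], 15, [471]),
    ([5, 5, 0, 1, 5, 2, 6, 1], 13, [2127]),
    ([0, 1, 0, 6, 2, 1, 6], 10, [1188]),
    ([2, 5, 2, 5, 5], 15, [4328]),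
    ([0, 1, 5, 1, 0, 3], 13, [83]),
    ([0, 6, 3, 3, 0], 17, [4347]),
    ([0, 1, 7, 4, 4], 8, [5294]),
    ([6, 3, 1, 5, 5, 0, 6], 12, [4688]),
    ([2, 5, 1, 0, 5, 2, 3, 0, 0], 10, [4356]),
    ([5, 5, 4, 1, 4, 3, 0, 2], 11, [4840]),
    ([2, 0, 6, 2, 1, 4, 5, 0], 10, [1850]),
    ([1, 7, 5, 2, 0, 6, 1], 12, [4620]),
    ([7, 2, 0, 0, 3, 1, 0], 11, [5002]),
    ([0, 6, 0, 2, 4, 2, 1, 0], 10, [4159]),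
    ([0, 0, 0, 5, 1, 5, 3, 0, 0, 0], 10, [1668]),
    ([5, 1, 7, 2, 5, 4, 1], 10, [4010]),
    ([5, 1, 6, 0, 1, 2, 5, 1, 0], 13, [498]),
    ([1, 2, 6, 0, 5, 0, 1], 11, [2866]),
    ([5, 0, 2, 4, 1, 4, 0], 13, [4881]),
    ([1, 5, 5, 6, 0, 2, 0], 13, [2124]),
    ([0, 1, 0, 6, 1, 0, 2], 13, [2195]),
    ([2, 1, 5, 6, 0, 3, 1], 13, [4150]),
    ([4, 1, 2, 0, 1, 3, 2, 3, 0], 13, [1873]),
    ([3, 4, 2, 1, 5, 0, 0, 0], 12, [4943]),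
    ([7, 1, 0, 6, 2, 0, 1], 11, [2127]),
    ([1, 3, 1, 7, 2, 0, 6], 13, [3638]),
    ([1, 5, 5, 1, 2, 4, 0], 12, [4881]),
    ([0, 5, 0, 3, 0], 14, [529]),
    ([1, 0, 6, 4, 1, 6, 0], 12, [4621]),
    ([0, 3, 5, 5, 3, 2, 0, 2], 10, [209]),
    ([5, 4, 2, 0, 1, 3, 0], 12, [2169]),
    ([0, 3, 2, 6, 0, 1, 5], 12, [2616]),
    ([7, 7, 6, 1], 11, [2616]),
    ([6, 0, 6, 0, 5, 1, 0], 13, [2616]),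
    ([2, 0, 3, 1, 2, 1, 5, 3], 10, [794]),
    ([2, 5, 6, 1, 0, 2, 3], 13, [1542]),
    ([0, 5, 0, 6, 0, 5, 2], 13, [2641]),
    ([1, 6, 2, 6, 0, 3, 1], 13, [921]),
    ([1, 4, 0, 1, 6, 6, 1, 2, 1], 10, [4145]),
    ([3, 1, 4, 5, 5, 2, 0, 2], 10, [2125]),
    ([5, 1, 4, 3, 2], 10, [3122]),
    ([0, 2, 0, 6, 6, 1, 5, 0], 12, [3638]),
    ([2, 5, 2, 0, 0, 5, 1], 11, [799]),
    ([0, 1, 5, 5, 4, 4, 2], 13, [77]),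
    ([0, 1, 5, 4, 1, 6, 0], 12, [542]),
    ([0, 3, 6, 1, 4, 2, 1], 10, [1165]),
    ([2, 6, 1, 4, 4, 2], 13, [4170]),
    ([0, 3], 9, [2240]),
    ([5, 4, 0, 6, 6], 4, [3346]),
    ([1, 4, 2, 3, 0, 2, 4], 13, [2081]),
    ([7, 2, 0, 5, 5, 0], 10, [1798]),
    ([6, 1, 0, 7, 6], 12, [983]),
    ([0, 1, 0, 7, 3, 0, 2], 10, [520]),
    ([3, 0, 1, 3, 2, 4, 5], 10, [5210]),
    ([3, 2, 0, 5, 6, 6, 2, 1], 13, [4852]),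
    ([3, 2, 0, 3, 6, 6, 1, 2], 10, [3711]),
    ([0, 5, 2, 0, 7, 6, 1, 0], 10, [2196]),
    ([2, 1, 4, 1, 3, 2, 0], 11, [5209]),
    ([2, 7, 6, 0, 2, 4, 1], 10, [0]),
    ([2, 5, 2, 0, 0, 5], 13, [5002]),
    ([2, 0, 6, 6, 2, 1, 0], 11, [4150]),
    ([7, 4, 2, 3, 4, 0, 2, 0], 15, [907]),
    ([2, 7, 6, 4, 4, 1, 0], 12, [498]),
    ([5, 5, 6, 6, 5], 11, [1458]),
    ([5, 5, 1, 6, 4, 3, 1], 10, [4046]),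
    ([2, 0, 0, 3, 6], 16, [342]),
    ([0, 2, 1, 6, 2, 5, 2, 0, 2], 10, [5463]),
    ([1, 5, 2, 1, 5, 0, 1, 0, 0], 13, [2707]),
    ([2, 1, 0, 7, 2, 5, 1, 4, 0, 0], 13, [3118]),
    ([0, 6, 6, 3, 2, 3], 13, [3906]),
    ([0, 3, 0], 15, [3624]),
    ([5, 6, 1, 3], 8, [56]),
    ([7, 0, 0, 0, 0, 5, 0, 0], 13, [4688]),
    ([0, 0, 6, 1, 0, 6, 2, 4], 10, [5500]),
    ([0, 1, 5, 1, 5, 5, 0, 1, 0], 10, [5957]),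
    ([7, 5, 4, 2, 5, 0, 1], 13, [2311]),
    ([6, 0, 6, 1, 6, 5, 2], 13, [1128]),
    ([1, 4, 0, 7, 5, 5], 12, [77]),
    ([5, 2, 0, 5, 4, 1], 13, [799]),
    ([4, 1, 4, 2, 5], 10, [2065]),
    ([0, 2, 7, 6, 2, 0], 13, [4336]),
    ([0, 1, 4, 2, 5, 3, 1, 2], 13, [1759]),
    ([1, 0, 7, 4, 1, 0, 0, 0], 10, [4906]),
    ([5, 0, 0, 7, 0, 6, 0, 1], 10, [4173]),
    ([0, 1, 5, 0, 2, 5, 0, 1, 0], 10, [5318]),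
    ([5, 6, 6, 1, 0, 2, 0], 10, [5680]),
    ([6, 5, 0, 6, 0, 5], 11, [5569]),
    ([5, 1, 5, 0, 6, 2, 4], 13, [2866]),
    ([7, 6, 2, 1, 0, 2, 0, 3], 13, [4943]),
    ([3, 0, 0, 0, 3], 16, [2808]),
    ([4, 2, 5, 2, 7], 13, [2723]),
    ([1, 7, 5, 4, 1, 0], 15, [785]),
    ([6, 5, 6, 4, 2], 15, [1869]),
    ([5, 2, 5, 6, 2, 5], 13, [1458]),
    ([5, 5, 1, 6, 3, 2], 13, [4840]),
    ([1, 3, 6, 0, 6, 5, 2], 10, [155]),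
    ([0, 2, 1, 6, 5, 0, 2, 1, 0, 0], 13, [4620]),
    ([6, 5, 1, 4, 0, 3, 2, 0], 13, [2197]),
    ([2, 5, 3, 1, 5, 0, 2], 10, [1477]),
    ([0, 1, 3, 0, 1, 3, 0, 1], 13, [983]),
    ([2, 4, 1, 4, 1, 0], 12, [2127]),
    ([5, 1, 5, 3, 0, 2], 11, [1480]),
    ([3, 2, 0, 2, 1], 15, [1798]),
    ([1, 4, 0, 5, 4, 0, 0], 15, [4214]),
    ([6, 0, 0, 0, 5, 0, 0], 15, [1629]),
    ([0, 1, 5, 3, 2, 0, 1], 11, [5981]),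
    ([3, 1, 7, 4, 0, 3], 13, [1480]),
    ([2, 0, 7, 6, 5], 13, [542]),
    ([2, 6, 2, 5, 0], 16, [462]),
    ([0, 1, 0, 7, 2, 4], 13, [2169]),
    ([4, 2, 5, 4, 0, 5], 10, [1396]),
    ([2, 0, 6, 0, 2, 6, 2, 1, 0], 12, [5209]),
    ([6, 6, 1, 6, 2, 7, 1], 10, [2745]),
    ([0, 3, 0, 1, 3, 1, 2, 1, 0], 10, [1433]),
    ([0, 0, 5, 1, 2, 0], 16, [352]),
    ([0, 5, 5, 5, 1, 6, 0], 13, [5209]),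
    ([6, 0, 5, 1, 3, 2, 3, 0], 13, [3162]),
    ([2, 3, 3, 3, 3, 2], 10, [1556]),
    ([1, 2, 4, 3, 1, 0, 2], 10, [2686]),
    ([0, 7, 0, 6, 1, 0, 5, 0], 10, [5188]),
    ([6, 2, 5, 0, 5, 4, 1], 13, [568]),
    ([0, 5, 2, 1, 7], 15, [3064]),
    ([7, 0, 1, 4, 5, 2, 0], 11, [4170]),
    ([0, 7, 1, 3, 2, 6], 13, [1597]),
    ([0, 2, 6, 3, 1, 5, 0, 0, 0], 10, [4382]),
    ([0, 1, 2, 4, 1, 4, 0, 1, 0, 0], 10, [2780]),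
    ([1, 2, 5, 3, 0, 5, 1, 2], 10, [2458]),
    ([5, 0, 1, 0, 2, 6, 0], 13, [5569]),
    ([0, 5, 1, 0, 2, 6, 2], 10, [5835])]

end Cfsg.Lib.LyReal
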