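/-! Generated data: double cosets. -/

set_option autoImplicit false
set_option maxRecDepth 20000

namespace Cfsg.Lib.LyReal

/-- The translates of record 16. -/
def moveT16 : List (List Nat × Nat × List Nat) :=
  [([1, 7, 4, 0, 3], 8, [578]),
    ([5, 1, 7, 6, 1, 0, 0], 10, [668]),
    ([5, 1, 7, 6, 1, 0, 0], 10, [1298]),
    ([5, 6, 6, 5], 8, [3356]),
    ([1, 0, 7, 6, 0, 3], 8, [4879]),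
    ([5, 1, 7, 2, 0, 6, 1, 0, 0], 10, [3804]),
    ([4, 2, 0, 2, 6, 0], 8, [4691]),
    ([4, 2, 0, 2, 6, 0], 8, [93]),
    ([7, 0, 1, 6, 0, 2, 0], 10, [2830]),
    ([1, 0, 3, 6, 1, 0, 2, 0, 0], 10, [2422]),
    ([1, 2, 5, 0, 1, 0, 3, 6, 0], 10, [78]),
    ([1, 2, 0, 0, 6, 1, 2, 6, 0], 10, [4597]),
    ([0, 0, 0, 0, 0, 6, 0], 15, [1320]),
    ([4, 5, 0, 0, 0, 0, 0, 0], 10, [3133]),
    ([5, 0, 1, 2, 6, 0, 0, 0, 0], 10, [3070]),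
    ([5, 4, 4, 1, 0, 2, 1], 10, [3818]),
    ([0, 0, 3, 1, 2, 0, 6, 1], 10, [1201]),
    ([0, 0, 3, 1, 2, 0, 6, 1], 10, [3663]),
    ([1, 2, 7, 6, 3, 0, 1], 10, [4573]),
    ([2, 6, 1, 0, 0, 5, 1, 2], 10, [2294]),
    ([2, 5, 0, 1, 4, 0, 3], 8, [4541]),
    ([1, 4, 0, 1, 5, 0, 6, 2], 10, [3205]),
    ([7, 1, 4, 2, 6, 0, 1, 6], 10, [2551]),
    ([7, 1, 4, 2, 6, 0, 1, 6], 10, [1490]),
    ([7, 6, 2, 1, 0, 6, 5], 10, [2704]),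
    ([0, 1, 6, 2, 3], 10, [1179]),
    ([7, 6, 1, 3, 2, 4, 0, 1], 10, [5256]),
    ([7, 7, 4, 1, 3], 4, [5710]),
    ([0, 1, 5, 2, 5], 4, [2167]),
    ([6, 0, 3, 5, 5, 0], 15, [5009]),
    ([7, 0, 2, 6, 3, 0, 2], 10, [5057]),
    ([2, 0, 2, 1, 6, 2], 15, [597]),
    ([0, 6, 1, 6, 5, 1, 0], 10, [4522]),
    ([3, 2, 1, 0, 7, 6], 15, [5272]),
    ([2, 6, 1, 0, 6, 2, 1, 0], 10, [3484]),
    ([4, 1, 3, 2, 5, 0, 1], 15, [5776]),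
    ([6, 0, 3, 5, 5, 0], 15, [258]),
    ([0, 3, 6, 0, 0, 0], 15, [2971]),
    ([0, 0, 5, 5, 3, 0], 8, [4930]),
    ([7, 5, 4, 1, 0, 2, 1], 15, [5930]),
    ([1, 6, 4, 2, 1, 4, 0], 8, [5014]),
    ([4, 4, 5, 6, 3], 15, [975]),
    ([2, 0, 7, 3, 6, 2, 0], 10, [3888]),
    ([5, 0, 7, 2, 5, 2, 0, 0, 0], 10, [1148]),
    ([5, 0, 7, 2, 5, 2, 0, 0, 0], 10, [4285]),
    ([0, 1, 6, 2, 4, 3], 15, [2332]),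
    ([3, 2, 6, 1, 4, 0], 8, [2067]),
    ([2, 3, 1, 0, 2, 6, 1, 3, 0], 10, [5920]),
    ([0, 2, 5, 2, 0, 0, 6, 1, 2], 10, [516]),
    ([4, 2, 1, 5, 2, 0, 2], 10, [2444]),
    ([1, 5, 4, 2, 0, 3, 1], 10, [2280]),
    ([6, 4, 3, 3, 3], 8, [5655]),
    ([5, 1, 5, 2, 6, 0], 8, [3503]),
    ([2, 6, 0, 1, 0, 6], 8, [4729]),
    ([2, 0, 2, 6, 0], 8, [352]),
    ([3, 0, 5, 1, 6, 2], 15, [2878]),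
    ([7, 7, 3, 3, 3], 4, [5253]),
    ([4, 1, 5, 1, 7, 0], 8, [2891]),
    ([2, 4, 1, 6], 4, [1339]),
    ([7, 6, 0, 5, 5, 1, 2], 10, [1976]),
    ([7, 6, 0, 5, 5, 1, 2], 10, [4446]),
    ([3, 0, 1, 7, 0, 6, 0, 1, 0], 10, [3784]),
    ([7, 7, 4, 1, 3], 4, [3095]),
    ([0, 6, 2, 4, 1, 3, 0, 1], 10, [3456]),
    ([5, 4, 2, 5, 1, 0, 0, 0], 15, [5502]),
    ([6, 3, 3, 0, 3, 1, 2], 10, [6014]),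
    ([0, 2, 4, 1, 0, 5], 8, [4558]),
    ([4, 1, 0, 2, 5, 5, 1], 10, [2156]),
    ([7, 3, 5, 1, 0, 2, 1, 0, 0], 10, [2126]),
    ([1, 7, 6, 4, 0], 8, [4424]),
    ([4, 2, 6, 3, 0, 2, 0], 10, [2713]),
    ([4, 2, 6, 3, 0, 2, 0], 10, [1487]),
    ([4, 5, 0, 0, 6, 2, 1, 0], 10, [1639]),
    ([3, 6, 3, 0, 3, 1, 2], 10, [1725]),
    ([1, 6, 0, 6, 2, 7, 1], 10, [740]),
    ([6, 0, 5, 1, 2, 5, 5], 10, [1266]),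
    ([6, 0, 5, 1, 2, 5, 5], 10, [5421]),
    ([1, 0, 0, 7, 5, 1], 10, [3592]),
    ([3, 2, 5, 4, 2], 15, [4189]),
    ([3, 5, 0, 1, 2, 1, 5, 1], 10, [2522]),
    ([3, 5, 0, 1, 2, 1, 5, 1], 10, [191]),
    ([4, 5, 5, 5, 3, 3, 3], 15, [4575]),
    ([3, 5, 0, 1, 2, 1, 5, 1], 10, [5821]),
    ([4, 2, 6, 1, 0, 2, 1, 0], 10, [1075]),
    ([2, 0, 1, 3, 2, 1, 4, 3], 10, [332]),
    ([2, 4, 5, 2, 5, 2, 1, 0], 10, [5198]),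
    ([4, 4, 5, 6, 3], 15, [1240]),
    ([5, 6, 4, 1, 0, 2, 1], 15, [570]),
    ([3, 2, 0, 5, 0, 2, 4], 10, [1007]),
    ([5, 2, 1, 0, 6, 0, 0], 10, [5889]),
    ([4, 1, 3, 5, 3, 3, 1], 15, [665]),
    ([6, 6, 5, 6, 3], 15, [5239]),
    ([5, 5, 6, 1, 0], 8, [335]),
    ([1, 3, 2, 6, 5, 0], 8, [5335]),
    ([0, 3, 3, 5, 5, 0], 10, [845]),
    ([2, 0, 7, 5, 4, 2, 0], 15, [1172]),
    ([2, 7, 0, 5, 4, 2, 0], 10, [4776]),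
    ([1, 2, 4, 1, 7, 5, 2, 0], 10, [3832]),
    ([1, 3, 2, 4, 3, 5, 0, 1], 10, [5525]),
    ([1, 7, 0, 6, 2, 1, 5], 15, [4893]),
    ([3, 2, 1, 5], 4, [5418]),
    ([7, 6, 6, 1, 5, 0], 8, [1734]),
    ([1, 0, 6, 3, 2, 1], 15, [3514]),
    ([0, 2, 0, 1, 3, 0, 3], 10, [1881]),
    ([0, 3, 1, 7, 4, 4, 2], 10, [2795]),
    ([6, 5, 1, 0, 2, 1], 15, [5679]),
    ([4, 0, 5, 5, 0], 10, [46]),
    ([1, 6, 0, 2, 4, 4, 4, 1], 10, [5684]),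
    ([6, 1, 2, 6, 6, 3], 8, [1048]),
    ([1, 0, 6, 3, 1, 0, 2, 0, 0], 10, [4443]),
    ([6, 3, 3, 1, 2, 0, 1], 10, [4639]),
    ([0, 3, 1, 0, 2, 1, 5, 2], 10, [5101]),
    ([2, 7, 0, 5, 4, 2, 0], 10, [1428]),
    ([7, 2, 0, 5, 0, 1, 4, 0], 10, [227]),
    ([3, 2, 3, 1, 0, 7], 10, [5208]),
    ([4, 1, 0, 5, 3, 2, 1, 0, 0], 10, [2529]),
    ([6, 2, 4, 1, 0, 3, 0, 0, 0, 0], 10, [1323]),
    ([6, 3, 6, 1, 2, 0, 1, 0, 0], 10, [5632]),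
    ([2, 4, 5, 6, 1, 0], 10, [1140]),
    ([2, 0, 7, 6, 3, 1, 2, 1], 10, [2503]),
    ([5, 4, 1, 0, 2, 1], 10, [4964]),
    ([0, 2, 0, 5, 1, 5, 5, 0], 10, [2566]),
    ([5, 6, 0, 1, 2, 0, 0, 0, 0], 10, [3929]),
    ([7, 5, 1, 2, 5, 0], 8, [4978]),
    ([2, 1, 6, 5, 4, 0], 10, [5896]),
    ([6, 2, 5, 2, 1, 5, 1], 10, [3773]),
    ([4, 0, 2, 0, 3, 2], 10, [4170]),
    ([4, 0, 2, 0, 6, 2, 6], 15, [4839]),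
    ([1, 0, 3, 4, 2, 1, 0, 0], 10, [4178]),
    ([4, 5, 0, 0, 6, 0, 0, 0, 0], 10, [4755]),
    ([1, 4, 3, 6, 0, 3], 8, [4157]),
    ([0, 2, 4, 0, 1, 4, 5, 0], 10, [5408]),
    ([1, 0, 5, 1, 3, 2, 0], 10, [4831]),
    ([1, 2, 0, 1, 3], 10, [2135]),
    ([0, 3, 3, 4, 0, 0, 0], 15, [5765]),
    ([0, 1, 0, 0, 5, 1, 5, 1, 2], 10, [2419]),
    ([0, 5, 4, 1, 6, 3, 2], 10, [611]),
    ([4, 0, 5, 0, 1, 2, 0, 1], 10, [2403]),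
    ([6, 6, 2, 3, 0, 2, 0], 10, [4207]),
    ([2, 5, 1, 0, 0, 0, 0, 0], 10, [5972]),
    ([3, 1, 7, 4, 1], 10, [3878]),
    ([0, 1, 4, 2, 5, 4, 0, 0, 0, 0], 10, [644]),
    ([2, 1, 0, 2, 5, 1, 3, 0], 10, [5071]),
    ([5, 2, 6, 2, 0, 0, 0, 0], 10, [2223]),
    ([6, 0, 6, 0, 0, 0], 10, [2822]),
    ([0, 1, 6, 1, 0, 6, 2, 1, 0], 10, [439]),
    ([6, 0, 1, 0, 3, 6, 2, 0], 10, [31]),
    ([1, 5, 5, 6], 8, [5161]),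
    ([7, 5, 2, 1, 0, 0, 0], 10, [3796]),
    ([1, 3, 5, 0, 3], 8, [5773])]

end Cfsg.Lib.LyReal
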