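/-! Generated data: double cosets. -/

set_option autoImplicit false
set_option maxRecDepth 20000

namespace Cfsg.Lib.LyReal

/-- The translates of record 18. -/
def moveT18 : List (List Nat × Nat × List Nat) :=
  [([0, 1, 2, 4, 5, 6, 0, 0, 0], 55, [1666]),
    ([3, 0, 0, 0, 6], 51, [2395]),
    ([0, 1, 5, 0, 2, 4, 3], 55, [1670]),
    ([0, 7, 5, 0, 3], 47, [164]),
    ([5, 4, 0, 2, 6, 6], 49, [0]),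
    ([6, 2, 6, 0, 6, 2], 55, [2750]),
    ([4, 2, 6, 0, 6, 2], 55, [0]),
    ([2, 6, 4, 1, 6, 0, 2, 1, 0, 0], 55, [934]),
    ([3, 5, 5, 5, 2, 6, 0], 49, [2562]),
    ([1, 2, 0, 1, 6, 0, 5], 51, [1878]),
    ([1, 0, 6, 1, 2], 51, [2337]),
    ([6, 2, 1, 0, 2, 3, 1], 51, [1749]),
    ([0, 7, 6, 3], 51, [130]),
    ([6, 2, 4, 4, 4, 3, 1], 55, [2755]),
    ([2, 4, 1, 2, 0, 1, 5, 0, 0], 55, [1157]),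
    ([4, 0, 5, 6, 5, 3], 55, [503]),
    ([6, 1, 5, 1, 7, 6, 0], 55, [33]),
    ([1, 6, 4, 1, 6, 0, 0, 0], 55, [2196]),
    ([2, 0, 6, 1, 6, 1, 0, 0], 53, [69]),
    ([1, 0, 3, 1, 3], 53, [2669]),
    ([0, 7, 5, 0, 3], 47, [631]),
    ([1, 2, 5, 4, 0, 1, 0], 55, [1101]),
    ([5, 2, 4, 1, 2], 18, [2664]),
    ([7, 3, 2, 1, 6], 55, [2776]),
    ([6, 1, 6, 6, 6, 2, 1], 53, [1698]),
    ([3, 6, 0, 5, 4, 2], 49, [2780]),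
    ([0, 6, 6, 4], 51, [144]),
    ([0, 5, 0, 3], 47, [1132]),
    ([7, 0, 1, 2, 5, 0, 0, 0], 55, [2813]),
    ([1, 5, 2, 7, 1, 0, 5, 1], 55, [2557]),
    ([0, 1, 2, 4, 5, 6, 0, 0, 0], 55, [1365]),
    ([2, 0, 7, 6, 0, 6, 0], 49, [2607]),
    ([0, 2, 5, 3, 2, 0, 0], 55, [1903]),
    ([3, 1, 7, 0, 3, 1], 49, [1903]),
    ([1, 0, 3, 2, 1, 0, 5, 4, 0, 0], 55, [2614]),
    ([7, 6, 1, 5, 1, 4, 0], 55, [2713]),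
    ([1, 4, 1, 2, 4, 0], 49, [1003]),
    ([3, 5, 5, 5, 2, 6, 0], 49, [2041]),
    ([5, 5, 3, 0, 1, 0, 2], 51, [556]),
    ([2, 3, 0, 3, 4], 18, [2553]),
    ([0, 5, 5, 4, 1, 2, 0], 55, [2361]),
    ([4, 2, 4, 1, 6, 0, 0], 55, [2562]),
    ([1, 6, 2, 1], 18, [2798]),
    ([2, 4, 5, 6, 0, 3, 2], 55, [2653]),
    ([4, 0, 0, 5, 0, 0, 0], 55, [2482]),
    ([2, 3, 0, 1, 2, 1, 0], 51, [895]),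
    ([2, 0, 2, 6, 1, 2, 0, 3], 55, [1358]),
    ([2, 4, 1, 7, 4], 51, [2801]),
    ([0, 7, 5, 2, 3], 18, [1893]),
    ([6, 3, 2, 1], 51, [1642]),
    ([3, 2, 4, 1, 0, 2, 0], 53, [2684]),
    ([0, 1, 2, 0, 5, 0, 0], 51, [2540]),
    ([3, 5, 1, 5, 2, 0, 1, 0, 0, 0], 55, [504]),
    ([0, 1, 5, 1, 6, 2, 3], 49, [2805]),
    ([4, 5, 1, 4, 0, 5, 1, 2], 55, [1834]),
    ([5, 0, 3, 6, 4, 4, 2], 53, [1301]),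
    ([6, 5, 4, 1, 2, 0, 1, 0], 51, [1999]),
    ([3, 0, 2, 6, 0, 2, 0], 55, [1186]),
    ([2, 6, 4, 1, 5], 55, [2805]),
    ([2, 1, 5, 0, 6, 2, 6, 0], 53, [2814]),
    ([2, 7, 0, 2, 5, 3], 55, [2734]),
    ([2, 6, 6, 0, 6, 5], 49, [1157]),
    ([5, 1, 7, 2, 4, 1], 49, [2361]),
    ([1, 3, 0, 2, 7, 1, 0, 0, 0], 55, [1051]),
    ([2, 3, 0, 2, 5, 2], 49, [1871]),
    ([1, 2, 5, 1, 2, 4, 0, 0], 55, [2575]),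
    ([2, 0, 5, 6, 0, 6, 0], 49, [2479]),
    ([0, 1, 2, 1, 4, 5, 0, 1, 2], 55, [1239]),
    ([0, 3, 0, 2, 0], 53, [1969]),
    ([2, 0, 6, 0, 3], 47, [228]),
    ([7, 4, 1, 5, 1, 0], 55, [2640]),
    ([4, 0, 6, 0, 2, 4, 0], 49, [2108]),
    ([0, 2, 3, 6, 3, 0, 5, 1], 55, [1155]),
    ([6, 6, 0, 5, 6, 2], 53, [1063]),
    ([1, 0, 3, 1, 3], 53, [493]),
    ([7, 6, 5, 0, 6], 51, [957]),
    ([1, 5, 1, 2, 6, 0, 2], 55, [1882]),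
    ([4, 1, 6, 3, 2, 3, 1], 53, [101]),
    ([0, 2, 6, 3, 0, 5, 4, 1], 55, [2780]),
    ([2, 4, 1, 3, 4, 3, 2], 49, [1697]),
    ([0, 3, 4, 1, 3, 2, 3, 0], 55, [653]),
    ([2, 3, 4, 3, 1], 51, [917]),
    ([4, 0, 2, 4, 1, 3, 1], 53, [2074]),
    ([0, 0, 6, 1, 2, 4, 0, 1, 0], 55, [1275]),
    ([4, 0, 3, 1, 0, 2, 5], 55, [2833]),
    ([0, 6, 1, 6, 0, 6], 53, [763]),
    ([4, 5, 2, 4, 0, 0, 0], 53, [2536]),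
    ([1, 3, 2, 3, 4, 0, 1, 0], 55, [97]),
    ([2, 6, 0, 1, 2, 1, 0], 51, [1321]),
    ([1, 0, 6, 1, 2, 0, 0], 51, [1227]),
    ([2, 6, 4, 1, 6, 0, 2, 1, 0, 0], 55, [936]),
    ([0, 0, 6, 6, 2, 0], 53, [1686]),
    ([0, 5, 0, 3], 47, [2001]),
    ([0, 7, 6, 4, 4, 2, 0, 1], 55, [1335]),
    ([0, 7, 5, 3, 2, 6], 49, [1101]),
    ([3, 2, 7, 3, 1, 4], 55, [1680]),
    ([6, 0, 3, 1, 2, 5, 0, 0, 0], 55, [2100]),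
    ([2, 0, 6, 3, 6, 2], 55, [2771]),
    ([1, 3, 2, 3, 4, 0, 1, 0], 55, [1871]),
    ([5, 0, 5, 2, 0, 3, 4, 1], 55, [1965]),
    ([1, 2, 4, 0, 1, 0, 5, 6], 55, [2479]),
    ([6, 0, 3, 2, 3, 2, 0, 0], 55, [32]),
    ([3, 1, 0, 3, 1, 5], 49, [2482]),
    ([0, 5, 0, 0, 6, 0, 2, 1], 55, [1003]),
    ([3, 6, 0, 5, 1, 4, 2, 0], 55, [1957]),
    ([1, 0, 6, 2, 5, 5, 3, 1, 0], 55, [2008]),
    ([7, 1, 6, 4, 1, 0, 0, 0], 55, [2574]),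
    ([1, 0, 2, 1, 6, 3, 0, 0, 0], 55, [87]),
    ([0, 6, 5, 2, 5], 18, [2791]),
    ([0, 5, 1, 7, 2, 3, 0], 55, [1757]),
    ([4, 0, 7, 6, 5, 2], 53, [1211]),
    ([2, 0, 5, 2, 7, 6, 1, 2, 0], 55, [1333]),
    ([0, 6, 2, 4, 2, 1, 4, 1], 55, [2095]),
    ([3, 5, 5, 5, 2, 6, 0], 49, [1882]),
    ([4, 1, 3, 2, 1, 4, 2], 55, [2041]),
    ([5, 4, 0, 2, 6, 6], 49, [2196]),
    ([1, 2, 1, 0, 6, 0, 6, 2], 55, [2607]),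
    ([1, 0, 0, 0, 3, 2, 3, 1, 0], 55, [2023]),
    ([1, 3, 1, 2, 7, 1, 0, 0], 55, [2004]),
    ([0, 6, 6, 5, 1, 2, 0], 55, [2102]),
    ([2, 1, 6, 2, 3, 0, 1], 55, [2715]),
    ([5, 6, 2, 6, 1], 51, [2790]),
    ([1, 5, 2, 0, 1, 2, 6, 1], 55, [532]),
    ([4, 1, 4, 0, 3, 2, 7, 1, 0], 55, [2838]),
    ([2, 6, 0, 7, 6, 2], 55, [2807]),
    ([7, 4, 2, 4, 2, 3, 0], 55, [2773]),
    ([6, 1, 0, 6, 1, 2], 51, [806]),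
    ([4, 3, 3, 0, 1, 4, 0], 49, [2715]),
    ([3, 2, 4, 5, 4, 0], 49, [2575]),
    ([5, 3, 5, 5, 3, 2, 0], 53, [1307]),
    ([7, 6, 5, 0, 6], 51, [1526]),
    ([7, 0, 1, 0, 2, 5], 55, [11]),
    ([0, 3, 2, 3, 4, 0, 6, 1], 55, [2370]),
    ([0, 5, 6, 6, 3, 1, 2, 0], 55, [1188]),
    ([2, 6, 4, 2, 4, 0, 2], 53, [1266]),
    ([5, 6, 5, 0, 1, 4, 0], 53, [1172]),
    ([0, 2, 5, 3, 2, 0, 0], 55, [208]),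
    ([4, 3, 3, 0, 5], 51, [2810]),
    ([0, 0, 6, 6, 2, 0], 53, [2586]),
    ([0, 3, 0, 2, 7, 0], 53, [1087]),
    ([1, 5, 0, 6, 2, 1, 0, 6, 0, 0], 55, [1697]),
    ([4, 3, 0, 5, 5, 1, 2, 0], 55, [2643]),
    ([4, 1, 3, 1, 7, 2, 1, 0, 0], 55, [2108]),
    ([0, 3, 0, 5, 6, 0, 0, 0], 55, [1886]),
    ([2, 0, 0, 5, 1, 5, 6, 0, 0], 55, [457]),
    ([6, 5, 5, 0, 3, 1, 2, 0], 55, [2021]),
    ([1, 3, 1, 4, 0, 3, 0, 0], 55, [231]),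
    ([0, 5, 4, 1, 4, 2, 0], 55, [3]),
    ([7, 3, 2, 1, 4, 0, 0, 0, 0], 55, [2821]),
    ([0, 5, 6, 6, 1, 2, 0], 55, [1756])]

end Cfsg.Lib.LyReal
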