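/-! Generated data: double cosets. -/

set_option autoImplicit false
set_option maxRecDepth 20000

namespace Cfsg.Lib.LyReal

/-- The translates of record 19. -/
def moveT19 : List (List Nat × Nat × List Nat) :=
  [([2, 6, 5, 2, 3, 6], 21, [72]),
    ([4, 3, 1, 3, 1, 0, 0, 0, 0], 21, [0]),
    ([1, 0, 0, 6, 4, 1], 21, [786]),
    ([2, 6, 5, 2, 3, 6], 21, [304]),
    ([2, 0, 6, 2, 1, 4, 2, 5], 21, [184]),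
    ([5, 2, 6, 5, 1, 0, 0, 0, 0], 40, [659]),
    ([2, 6, 5, 2, 3, 6], 21, [30]),
    ([5, 4, 1, 7, 3, 1], 21, [121]),
    ([4, 3, 1, 3, 1, 0, 0, 0, 0], 21, [240]),
    ([4, 0, 5, 4, 1, 2], 29, [713]),
    ([3, 0, 1, 3, 2, 7, 0, 0], 21, [97]),
    ([2, 3, 1, 0, 2, 4, 1, 2], 22, [726]),
    ([1, 0, 0, 6, 4, 1], 21, [248]),
    ([7, 5, 1, 5, 1], 29, [173]),
    ([7, 1, 4, 1, 0, 2, 1, 0], 27, [173]),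
    ([4, 3, 6, 3, 1, 2, 1], 22, [8]),
    ([4, 3, 1, 3, 1, 0, 0, 0, 0], 21, [778]),
    ([0, 2, 7, 3, 6, 0, 2], 21, [283]),
    ([6, 2, 1, 5, 2, 0, 2], 29, [615]),
    ([1, 0, 0, 5, 2, 0, 1, 2, 6], 33, [603]),
    ([2, 0, 6, 2, 1, 4, 2, 5], 21, [816]),
    ([0, 0, 3, 1, 2, 1, 0, 3], 33, [668]),
    ([1, 0, 3, 1, 0], 33, [626]),
    ([3, 2, 4, 0, 0, 5], 33, [145]),
    ([5, 2, 6, 5, 1, 0, 0, 0, 0], 40, [736]),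
    ([1, 5, 3, 2, 0, 1, 6, 1], 27, [47]),
    ([4, 3, 1, 3, 1, 0, 0, 0, 0], 21, [277]),
    ([2, 6, 5, 2, 3, 6], 21, [430]),
    ([3, 3, 5, 2, 5, 1, 0], 21, [217]),
    ([1, 5, 3, 2, 0, 1, 6, 1], 27, [129]),
    ([5, 4, 1, 7, 3, 1], 21, [58]),
    ([7, 2, 6, 5, 1, 0, 2, 0], 22, [164]),
    ([1, 0, 6, 0, 7, 2, 1, 0], 33, [750]),
    ([1, 2, 3, 1, 4, 0, 1, 0], 29, [243]),
    ([3, 4, 3, 0, 3, 1, 2, 0], 40, [390]),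
    ([1, 4, 1, 7, 2, 5, 0, 0], 33, [8]),
    ([1, 2, 5, 3, 6, 2, 1, 0], 40, [566]),
    ([4, 0, 5, 4, 1, 2], 29, [325]),
    ([5, 0, 1, 4, 0, 0, 0, 0, 0], 22, [891]),
    ([1, 4, 0, 2, 4, 1, 2, 0, 0], 33, [978]),
    ([1, 3, 0, 1, 5, 3, 2, 0], 21, [171]),
    ([3, 0, 1, 3, 2, 7, 0, 0], 21, [486]),
    ([4, 1, 2, 6, 1, 5, 2, 1], 33, [726]),
    ([0, 7, 4, 0, 5, 2, 0], 22, [791]),
    ([0, 1, 6, 5, 4, 2, 0, 1, 0, 0], 33, [829]),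
    ([1, 4, 2, 4, 3, 2, 1], 29, [233]),
    ([0, 2, 7, 3, 6, 0, 2], 21, [414]),
    ([5, 6, 2, 6, 0, 2], 40, [373]),
    ([2, 7, 1, 6, 1, 2], 46, [30]),
    ([5, 6, 6, 4, 1, 5], 27, [982]),
    ([0, 2, 5, 5, 3, 3, 1, 2], 27, [275]),
    ([7, 5, 1, 5, 1], 29, [757]),
    ([6, 6, 4, 3, 3, 1], 27, [340]),
    ([1, 7, 0, 2, 4, 1, 2], 33, [523]),
    ([0, 1, 5, 0, 7, 2, 0], 29, [340]),
    ([1, 2, 0, 3, 4, 1, 5], 29, [275]),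
    ([7, 1, 4, 1, 0, 2, 1, 0], 27, [757]),
    ([5, 1, 5, 2, 0, 1, 0], 40, [698]),
    ([0, 6, 3, 5, 3, 2, 3], 22, [523]),
    ([0, 1, 3, 2, 6, 0, 5, 2], 22, [1004]),
    ([1, 2, 3, 1, 0, 3, 4, 2], 29, [129]),
    ([2, 4, 1, 2, 0, 1, 3, 0, 0], 40, [533]),
    ([1, 3, 4, 1, 3, 0, 0], 21, [222]),
    ([6, 3, 4, 2, 0], 22, [662]),
    ([3, 5, 0, 1, 2, 3, 0, 2], 22, [215]),
    ([7, 3, 0, 1, 2, 4, 0, 0], 29, [363]),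
    ([5, 0, 7, 2, 5, 0], 33, [509]),
    ([1, 5, 4, 2, 3, 1, 0], 33, [215]),
    ([3, 6, 6, 0, 6, 1, 2, 0], 40, [705]),
    ([2, 3, 3, 5, 2], 46, [240]),
    ([4, 5, 5, 3, 3, 0], 40, [722]),
    ([2, 3, 0, 2, 3, 1, 2, 0], 40, [875]),
    ([1, 0, 0, 5, 2, 0, 1, 2, 6], 33, [791]),
    ([2, 1, 5, 2, 1, 0, 6], 27, [615]),
    ([0, 7, 4, 0, 5, 2, 0], 22, [603]),
    ([0, 5, 1, 0, 6, 2], 40, [643]),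
    ([2, 1, 0, 6, 6, 5], 29, [114]),
    ([0, 0, 3, 1, 2, 1, 0, 3], 33, [1004]),
    ([3, 1, 0, 0, 6, 5, 1, 0], 40, [236]),
    ([5, 2, 6, 5, 1, 0, 0, 0, 0], 40, [185]),
    ([0, 5, 1, 7, 6, 3, 0], 22, [750]),
    ([5, 6, 0, 5], 40, [819]),
    ([7, 2, 3, 1, 0, 2, 4, 1], 40, [867]),
    ([2, 3, 3, 0, 1, 7, 2], 27, [325]),
    ([2, 6, 2, 0, 6, 4, 1, 0], 22, [179]),
    ([0, 2, 5, 2, 0, 0, 6, 1, 2], 29, [676]),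
    ([1, 0, 7, 4, 2, 5, 0, 1], 22, [717]),
    ([7, 0, 1, 4, 2, 0, 1, 0, 0], 33, [194]),
    ([5, 0, 1, 4, 0, 0, 0, 0, 0], 22, [978]),
    ([1, 4, 2, 4, 3, 2, 1], 29, [982]),
    ([0, 2, 7, 3, 6, 0, 2], 21, [974]),
    ([3, 6, 6, 0, 6, 1, 2, 0], 40, [782]),
    ([3, 3, 5, 2, 5, 1, 0], 21, [6]),
    ([6, 2, 6, 1, 6, 0], 46, [248]),
    ([0, 6, 4, 1, 0, 2, 1, 0], 22, [668]),
    ([0, 2, 1, 0, 3, 6, 4, 0, 0], 27, [114]),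
    ([2, 3, 6, 6, 1, 0, 2, 0], 22, [122]),
    ([0, 1, 3, 6, 2, 0, 6], 40, [251]),
    ([0, 5, 1, 7, 2, 5, 0, 0, 0, 0], 29, [147]),
    ([4, 3, 2, 0, 2, 6, 1], 33, [662]),
    ([1, 2, 6, 3, 5, 0, 1, 0, 0], 29, [997]),
    ([3, 3, 2, 1, 0], 46, [974]),
    ([0, 1, 6, 0, 7, 1, 0, 0, 0], 27, [155]),
    ([1, 0, 2, 1, 5, 2, 0], 22, [75]),
    ([5, 1, 2, 6, 1, 3, 1, 0], 27, [764]),
    ([2, 0, 1, 6, 3, 4, 0], 27, [738]),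
    ([3, 5, 2], 33, [75]),
    ([2, 3, 0, 0, 0, 3, 5], 22, [829]),
    ([1, 4, 1, 7, 2, 5, 0, 0], 33, [891]),
    ([2, 1, 0, 7, 2, 6, 1, 0, 0], 40, [600]),
    ([1, 5, 3, 2, 0, 1, 6, 1], 27, [878]),
    ([0, 1, 2, 7, 3, 0, 0], 46, [6]),
    ([5, 5, 2, 6, 4, 0, 2, 1], 33, [164]),
    ([5, 0, 1, 4, 0, 0, 0, 0, 0], 22, [145]),
    ([1, 4, 0, 2, 4, 1, 2, 0, 0], 33, [179]),
    ([1, 3, 0, 1, 5, 3, 2, 0], 21, [130]),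
    ([6, 0, 2, 7, 6, 1, 0], 27, [11]),
    ([0, 1, 3, 2, 7, 1, 6, 0, 0], 27, [243]),
    ([2, 4, 0, 6, 5, 0, 1, 0, 0], 40, [855]),
    ([6, 5, 3], 29, [11]),
    ([5, 1, 3, 0, 5, 2, 1, 0, 0, 0], 40, [136]),
    ([1, 4, 3, 6, 2, 1, 0, 0], 22, [626]),
    ([0, 2, 0, 0, 5, 4, 2, 0, 1], 27, [100]),
    ([6, 6, 5, 0, 6, 3], 40, [323]),
    ([2, 3, 1, 0, 3, 1, 2, 0], 27, [656]),
    ([4, 3, 4, 0, 1, 2, 0, 0], 29, [764]),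
    ([1, 7, 6, 0, 2, 6, 4], 27, [713]),
    ([0, 2, 0, 1, 3, 2, 0, 6, 2], 29, [100]),
    ([0, 0, 5, 1, 5, 4], 27, [363]),
    ([1, 2, 6, 2, 7, 0, 1, 0], 33, [717]),
    ([1, 2, 0, 5, 1, 5, 2, 1], 40, [897]),
    ([2, 4, 0, 2, 7, 4], 40, [837]),
    ([5, 6, 3, 5, 2, 0, 2, 1], 33, [122]),
    ([1, 2, 0, 3, 4, 1, 5], 29, [656]),
    ([1, 6, 0, 7, 3, 0, 0, 0], 27, [676]),
    ([7, 0, 0, 0, 0, 6, 3, 0, 0], 29, [878]),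
    ([1, 2, 0, 3, 4, 1, 5], 29, [47]),
    ([6, 2, 3, 5, 0, 1, 2], 27, [233]),
    ([4, 5, 0, 2, 0, 6], 33, [592]),
    ([0, 1, 0, 0, 5, 2, 0, 1, 0], 22, [592]),
    ([0, 1, 3, 2, 6, 0, 5, 2], 22, [194]),
    ([4, 0, 1, 4, 2, 5, 3, 1], 27, [147]),
    ([2, 1, 5, 2, 1, 6, 2, 1], 29, [738]),
    ([3, 5, 2, 4, 1, 0, 0], 40, [948]),
    ([4, 5, 4, 4, 4], 46, [171]),
    ([3, 0, 0, 0, 3, 1, 0, 0], 33, [653]),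
    ([5, 1, 2, 1, 0, 0, 5, 0, 0], 22, [653]),
    ([0, 0, 5, 1, 4, 2, 0, 1, 2, 0], 22, [509]),
    ([0, 5, 1, 7, 2, 5, 0, 0, 0, 0], 29, [155]),
    ([0, 2, 1, 5, 3, 2, 0, 2], 27, [997])]

end Cfsg.Lib.LyReal
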