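import Cfsg.Agent.Lib.LyReal.ClosureDefs
import Cfsg.Agent.Lib.LyReal.DataMove15
import Cfsg.Agent.Lib.LyReal.DataMove16
import Cfsg.Agent.Lib.LyReal.DataMove17
import Cfsg.Agent.Lib.LyReal.DataMove18
import Cfsg.Agent.Lib.LyReal.DataMove19

/-!
# Translates of five records
-/

set_option autoImplicit false
set_option maxRecDepth 100000

namespace Cfsg.Lib.LyReal

theorem move15_ok : moveOK 15 moveT15 = true := by decide +kernel

theorem move16_ok : moveOK 16 moveT16 = true := by decide +kernel

theorem move17_ok : moveOK 17 moveT17 = true := by decide +kernel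

theorem move18_ok : moveOK 18 moveT18 = true := by decide +kernel

theorem move19_ok : moveOK 19 moveT19 = true := by decide +kernel

end Cfsg.Lib.LyReal
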