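/-! Generated data: double cosets. -/

set_option autoImplicit false
set_option maxRecDepth 20000

namespace Cfsg.Lib.LyReal

/-- The translates of record 20. -/
def moveT20 : List (List Nat × Nat × List Nat) :=
  [([1, 2, 4, 2, 1, 0, 3, 0], 21, [895]),
    ([6, 0, 3, 2, 0, 5, 2], 21, [698]),
    ([1, 2, 4, 2, 1, 0, 3, 0], 21, [596]),
    ([1, 2, 4, 2, 1, 0, 3, 0], 21, [359]),
    ([7, 0, 6, 1, 3, 2, 0, 0], 21, [600]),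
    ([2, 5, 2, 0, 0, 5], 29, [185]),
    ([1, 2, 4, 2, 1, 0, 3, 0], 21, [739]),
    ([6, 0, 3, 2, 0, 5, 2], 21, [838]),
    ([6, 0, 3, 2, 0, 5, 2], 21, [688]),
    ([4, 3, 2, 4, 0, 2, 1, 0], 22, [681]),
    ([5, 0, 1, 2, 5, 1, 4, 1, 0, 0], 21, [491]),
    ([7, 0, 1, 0, 5, 2, 0, 0], 40, [217]),
    ([1, 2, 4, 2, 1, 0, 3, 0], 21, [315]),
    ([3, 2, 4, 2, 0, 2, 5], 22, [243]),
    ([6, 6, 5, 1, 0, 3, 0], 27, [742]),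
    ([2, 0, 1, 7, 5, 2, 0, 1, 2], 40, [3]),
    ([6, 0, 3, 2, 0, 5, 2], 21, [679]),
    ([1, 2, 4, 2, 1, 0, 3, 0], 21, [710]),
    ([1, 2, 3, 3, 4, 0, 1, 0, 0, 0], 40, [561]),
    ([1, 7, 5, 2, 6, 0, 1, 2, 0], 22, [722]),
    ([7, 0, 6, 1, 3, 2, 0, 0], 21, [951]),
    ([1, 2, 1, 0, 5, 4, 0], 22, [691]),
    ([0, 1, 6, 4, 2, 4, 0, 0], 29, [653]),
    ([2, 5, 2, 0, 0, 5], 29, [772]),
    ([2, 5, 2, 0, 0, 5], 29, [454]),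
    ([5, 4, 0, 6, 6, 0, 1], 27, [398]),
    ([6, 0, 3, 2, 0, 5, 2], 21, [898]),
    ([1, 2, 4, 2, 1, 0, 3, 0], 21, [958]),
    ([6, 1, 5, 1, 2, 4, 1, 0, 0, 0], 21, [937]),
    ([5, 4, 0, 6, 6, 0, 1], 27, [185]),
    ([6, 0, 3, 2, 0, 5, 2], 21, [977]),
    ([0, 3, 0, 2, 1, 0, 0, 0], 29, [901]),
    ([2, 4, 1, 0, 2, 1, 5], 40, [794]),
    ([1, 2, 0, 7, 6, 1, 2], 33, [923]),
    ([1, 2, 0, 1, 0, 0, 6, 2, 0], 22, [341]),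
    ([2, 0, 0, 6, 2, 0, 6, 0], 29, [742]),
    ([4, 3, 2, 4, 0, 2, 1, 0], 22, [236]),
    ([4, 3, 2, 4, 0, 2, 1, 0], 22, [855]),
    ([0, 5, 6, 0, 6, 0], 40, [11]),
    ([4, 1, 2, 0, 6, 1, 4], 29, [111]),
    ([5, 0, 1, 2, 5, 1, 4, 1, 0, 0], 21, [387]),
    ([5, 0, 1, 2, 5, 1, 4, 1, 0, 0], 21, [331]),
    ([0, 1, 3, 0, 1, 3, 0, 1], 29, [752]),
    ([0, 1, 3, 4, 1, 0, 2], 33, [980]),
    ([7, 0, 1, 0, 5, 2, 0, 0], 40, [62]),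
    ([4, 2, 5, 4, 0, 5], 22, [987]),
    ([1, 2, 4, 2, 1, 0, 3, 0], 21, [906]),
    ([0, 6, 5, 0, 6, 0, 1], 33, [681]),
    ([6, 1, 4, 4, 5, 2, 0, 1], 46, [331]),
    ([3, 0, 3, 2, 1, 0, 2, 3, 0], 27, [752]),
    ([6, 0, 2, 6, 1, 4, 0, 0, 0], 27, [454]),
    ([3, 2, 4, 2, 0, 2, 5], 22, [269]),
    ([4, 0, 2, 1, 0, 6, 2, 0], 27, [371]),
    ([6, 1, 0, 2, 7, 1, 0, 0], 29, [371]),
    ([0, 1, 7, 2, 6, 2, 0, 0, 0], 22, [706]),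
    ([6, 0, 1, 6, 4, 2, 0, 0, 0], 40, [605]),
    ([6, 6, 5, 1, 0, 3, 0], 27, [390]),
    ([2, 5, 1, 4, 5, 0, 2, 0, 0], 33, [706]),
    ([7, 3, 6, 2, 4, 1], 40, [79]),
    ([0, 1, 6, 5, 6, 3, 3], 33, [847]),
    ([2, 0, 1, 7, 5, 2, 0, 1, 2], 40, [656]),
    ([6, 4, 4, 1, 2, 1, 0], 33, [243]),
    ([0, 3, 5, 5, 0], 21, [497]),
    ([2, 5, 2, 0, 0, 5], 29, [810]),
    ([0, 1, 5, 5, 4, 4, 2], 29, [533]),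
    ([1, 4, 5, 3, 0, 1, 0], 33, [87]),
    ([2, 7, 6, 6, 1, 5], 40, [171]),
    ([1, 2, 3, 3, 4, 0, 1, 0, 0, 0], 40, [173]),
    ([0, 3, 0, 1, 0, 2, 1], 29, [684]),
    ([1, 2, 3, 3, 0, 5, 1], 46, [1001]),
    ([1, 0, 7, 0, 0, 5, 1, 0], 33, [855]),
    ([1, 7, 5, 2, 6, 0, 1, 2, 0], 22, [554]),
    ([1, 7, 5, 2, 6, 0, 1, 2, 0], 22, [980]),
    ([3, 1, 0, 0, 6, 3], 27, [67]),
    ([0, 1, 3, 4, 1, 0, 2], 33, [722]),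
    ([0, 1, 3, 2, 0, 6, 1], 33, [987]),
    ([1, 2, 1, 0, 5, 4, 0], 22, [608]),
    ([1, 2, 1, 0, 5, 4, 0], 22, [847]),
    ([4, 0, 6, 5, 1, 2], 29, [398]),
    ([2, 5, 2, 0, 0, 5], 29, [820]),
    ([0, 1, 6, 4, 2, 4, 0, 0], 29, [206]),
    ([1, 0, 0, 0, 5, 1, 5, 0], 33, [934]),
    ([7, 4, 2, 3, 4, 1, 0], 29, [944]),
    ([0, 7, 0, 6, 6, 1, 0, 2], 27, [295]),
    ([7, 6, 0, 3], 40, [272]),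
    ([7, 7, 6, 6, 6, 4, 0], 40, [812]),
    ([0, 2, 7, 3, 0, 1, 4, 2, 0], 33, [578]),
    ([1, 2, 0, 3, 5, 3, 1, 2, 0], 22, [868]),
    ([0, 5, 6, 0, 6, 0], 40, [102]),
    ([4, 2, 5, 4, 0, 5], 22, [934]),
    ([1, 2, 4, 2, 1, 0, 3, 0], 21, [1001]),
    ([0, 3, 0, 1, 0, 2, 1], 29, [67]),
    ([6, 1, 5, 1, 2, 4, 1, 0, 0, 0], 21, [708]),
    ([6, 1, 4, 4, 5, 2, 0, 1], 46, [387]),
    ([2, 0, 7, 5, 1, 2, 0, 1, 0], 33, [691]),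
    ([5, 4, 0, 6, 6, 0, 1], 27, [772]),
    ([4, 2, 1, 0, 2, 4, 3, 0, 0], 33, [126]),
    ([6, 0, 1, 2, 7, 0, 1, 0, 0, 0], 22, [87]),
    ([1, 0, 0, 0, 5, 1, 5, 0], 33, [133]),
    ([6, 4, 1, 6, 1, 0], 40, [758]),
    ([7, 4, 1, 2, 0, 6, 1, 2], 33, [400]),
    ([1, 7, 2, 0, 6, 1, 0, 0], 46, [739]),
    ([1, 2, 6, 1, 2, 5, 0, 1], 27, [223]),
    ([1, 5, 4, 3, 2, 0, 1], 29, [922]),
    ([0, 5, 1, 6, 2, 4, 1], 27, [922]),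
    ([3, 5, 3, 1, 3, 0, 2], 27, [717]),
    ([2, 4, 3, 1, 0, 6, 0], 40, [916]),
    ([2, 6, 2, 0, 0, 3, 0, 0], 29, [223]),
    ([2, 0, 0, 6, 2, 0, 6, 0], 29, [390]),
    ([1, 2, 1, 4, 2, 5, 2, 0, 0], 22, [47]),
    ([5, 4, 0, 6, 6, 0, 1], 27, [684]),
    ([0, 2, 0, 1, 3, 0], 46, [898]),
    ([0, 5, 6, 0, 6, 0], 40, [377]),
    ([0, 5, 6, 0, 6, 0], 40, [35]),
    ([4, 1, 2, 0, 6, 1, 4], 29, [295]),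
    ([5, 0, 1, 2, 5, 1, 4, 1, 0, 0], 21, [659]),
    ([1, 2, 0, 6], 27, [901]),
    ([1, 0, 3, 0, 3, 5, 0, 0], 27, [206]),
    ([6, 2, 4, 3, 0], 22, [923]),
    ([6, 0, 3, 5, 2, 3, 0], 33, [341]),
    ([2, 1, 0, 2, 3, 4, 2], 29, [978]),
    ([2, 1, 6, 0, 3, 2, 1, 5], 40, [215]),
    ([6, 1, 0, 7, 2, 0, 0], 27, [978]),
    ([0, 5, 1, 0, 2, 6, 2], 22, [400]),
    ([2, 1, 5, 6, 3, 0, 1], 27, [820]),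
    ([0, 6, 5, 0, 6, 0, 1], 33, [236]),
    ([4, 2, 0, 1, 3, 3, 4, 0], 27, [111]),
    ([2, 6, 5, 1, 2, 0, 1, 4], 40, [726]),
    ([6, 0, 2, 6, 1, 4, 0, 0, 0], 27, [810]),
    ([0, 5, 0, 5, 4, 0, 1, 0], 22, [578]),
    ([1, 2, 1, 5, 0, 1, 2, 0], 33, [269]),
    ([7, 4, 1, 6, 0, 1, 0], 33, [608]),
    ([0, 1, 7, 2, 6, 2, 0, 0, 0], 22, [126]),
    ([6, 0, 1, 6, 4, 2, 0, 0, 0], 40, [843]),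
    ([5, 1, 0, 7, 5, 3, 2], 27, [944]),
    ([6, 6, 0, 7, 2, 0, 1], 40, [863]),
    ([6, 0, 1, 6, 4, 2, 0, 0, 0], 40, [240]),
    ([1, 4, 4, 5, 0, 2, 0, 0], 27, [653]),
    ([4, 0, 2], 22, [325]),
    ([1, 5, 0, 1, 2, 4, 5, 1], 33, [325]),
    ([0, 1, 6, 5, 6, 3, 3], 33, [868]),
    ([5, 4, 0, 6, 6, 0, 1], 27, [533]),
    ([2, 0, 1, 7, 5, 1, 0], 33, [554]),
    ([0, 2, 4, 2, 5, 2, 5], 22, [133]),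
    ([0, 1, 5, 4, 1, 0, 0, 0], 46, [359]),
    ([3, 5, 5, 0, 6], 40, [1004]),
    ([5, 1, 2, 7, 1, 4, 2, 0], 29, [717]),
    ([0, 3, 0, 1, 0, 2, 1], 29, [82]),
    ([1, 0, 0, 0, 5, 1, 5, 0], 33, [47]),
    ([1, 4, 4, 5, 0, 2, 0, 0], 27, [82])]

end Cfsg.Lib.LyReal
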