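/-! Generated data: double cosets. -/

set_option autoImplicit false
set_option maxRecDepth 20000

namespace Cfsg.Lib.LyReal

/-- The translates of record 21. -/
def moveT21 : List (List Nat × Nat × List Nat) :=
  [([1, 0, 5, 1, 2, 0, 0], 32, [164]),
    ([4, 2, 6, 2, 1, 0], 44, [345]),
    ([6, 2, 7, 4, 0], 21, [282]),
    ([1, 6, 0, 1, 5, 5, 2, 1], 33, [978]),
    ([1, 4, 2, 0, 6, 1, 0, 2, 0, 0], 32, [981]),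
    ([1, 2, 7, 5, 1, 5, 0, 0, 0, 0], 21, [473]),
    ([2, 0, 6, 2, 3, 3], 30, [981]),
    ([2, 7, 6, 1, 3, 0], 38, [52]),
    ([1, 6, 0, 0, 5, 2, 0, 1, 0], 21, [18]),
    ([1, 5, 0, 2, 1, 4, 2, 1], 32, [829]),
    ([0, 5, 3, 2, 3, 1], 39, [345]),
    ([1, 2, 0, 1, 4, 5, 0], 21, [606]),
    ([2, 0, 3, 0, 1, 4, 3, 0], 24, [57]),
    ([0, 5, 1, 0, 3, 0], 36, [169]),
    ([4, 0, 5, 3, 5, 1, 0, 2], 30, [691]),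
    ([0, 2, 1, 6, 3, 0, 2, 5, 0], 30, [169]),
    ([1, 5, 2, 5, 2], 46, [559]),
    ([1, 5, 1, 2, 5, 1, 3], 32, [750]),
    ([0, 6, 6, 6, 1, 6, 2], 29, [757]),
    ([5, 1, 2, 0, 7, 1, 6, 2], 33, [726]),
    ([7, 6, 5, 5, 0, 2], 22, [978]),
    ([0, 1, 4, 1, 4, 1], 46, [532]),
    ([2, 5, 6, 6, 0], 42, [300]),
    ([3, 0, 2, 1, 4, 3, 0, 2, 0, 0], 42, [747]),
    ([7, 0, 1, 0, 0, 6, 2, 0, 1], 33, [626]),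
    ([1, 2, 5, 2], 30, [902]),
    ([2, 1, 5, 1, 2, 5, 0, 0], 24, [581]),
    ([0, 2, 6, 5, 6, 5, 0, 1], 40, [373]),
    ([5, 5, 3, 5, 5, 1], 30, [164]),
    ([5, 1, 7, 0, 0, 0, 0, 0, 0], 21, [226]),
    ([6, 5, 0, 6, 4, 0, 0], 36, [595]),
    ([0, 3, 0, 2, 1], 45, [498]),
    ([5, 2, 3, 3, 5, 1, 0], 43, [722]),
    ([1, 7, 0, 5, 1, 2, 0], 43, [896]),
    ([3, 5, 5, 0, 1], 35, [35]),
    ([3, 1, 4, 0, 6, 0, 2, 1, 0, 0], 32, [691]),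
    ([1, 7, 4, 0, 1, 2, 1, 0, 0], 35, [546]),
    ([3, 4, 2, 1, 5, 3], 30, [219]),
    ([7, 1, 2, 6, 2, 0, 2, 1, 0], 32, [789]),
    ([1, 3, 2, 1, 0, 0, 0, 6, 1, 2], 32, [520]),
    ([7, 5, 3, 6, 0], 42, [451]),
    ([2, 1, 0, 5, 5, 2, 5], 21, [591]),
    ([1, 2, 1, 4, 0, 0, 0, 5], 21, [986]),
    ([1, 2, 1, 0, 3, 1, 2], 43, [768]),
    ([5, 4, 0, 2, 4], 46, [428]),
    ([4, 3, 3, 0, 1, 3, 0], 43, [632]),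
    ([6, 0, 5, 3, 3, 0], 43, [698]),
    ([2, 7, 5, 1, 0, 3, 1, 2, 0], 30, [829]),
    ([1, 6, 1, 3, 2, 0, 1], 39, [872]),
    ([5, 5, 2, 3, 1, 7, 0, 2], 46, [168]),
    ([6, 5, 1, 0, 2, 1, 5, 0], 40, [643]),
    ([5, 5, 1, 0, 2, 5], 30, [789]),
    ([5, 6, 4, 1, 4, 2, 0, 1], 24, [685]),
    ([2, 3, 1, 7, 4, 2, 1], 39, [204]),
    ([1, 0, 0, 0, 0, 6, 0, 6], 39, [392]),
    ([0, 2, 1, 6, 2, 3, 3, 1], 29, [233]),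
    ([3, 1, 2, 7, 0, 1, 5, 0], 30, [635]),
    ([2, 1, 7, 5, 4, 0, 1, 0], 44, [204]),
    ([1, 4, 1, 0, 0, 0, 0, 5], 24, [971]),
    ([2, 4, 2, 1, 0, 3, 4, 0], 27, [233]),
    ([3, 3, 3, 3, 2], 21, [399]),
    ([5, 5, 5, 2, 5, 0, 2], 32, [169]),
    ([1, 7, 0, 3, 1, 4, 2, 0], 43, [837]),
    ([1, 2, 5, 4, 5], 42, [611]),
    ([2, 0, 1, 5, 4, 0, 2], 39, [76]),
    ([2, 3, 3, 3, 3, 2, 1], 43, [127]),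
    ([2, 1, 6, 0, 3, 1, 2, 0], 21, [247]),
    ([2, 0, 1, 7, 6, 0, 1, 0, 0], 24, [111]),
    ([6, 0, 2, 1, 4, 5, 0], 7, [28]),
    ([0, 6, 1, 7, 0, 3, 2, 0], 29, [713]),
    ([2, 0, 0, 0, 0, 6, 1, 4], 32, [75]),
    ([3, 5, 3, 1, 4, 0, 2, 1, 0], 36, [956]),
    ([6, 1, 0, 5, 0, 5], 38, [515]),
    ([0, 6, 1, 0, 2, 3, 1, 0, 0], 33, [891]),
    ([6, 2, 3, 0, 5, 5, 6], 22, [726]),
    ([1, 0, 2, 7, 4, 2], 42, [987]),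
    ([5, 6, 1, 0, 0], 38, [494]),
    ([5, 2, 1, 4, 1, 4, 0], 22, [626]),
    ([1, 3, 2, 5, 4, 1, 0, 0], 32, [596]),
    ([2, 6, 6, 2, 1, 5, 0, 0, 0], 39, [199]),
    ([1, 4, 1, 2, 1], 42, [413]),
    ([0, 5, 4, 2, 1, 0, 5], 21, [880]),
    ([2, 1, 4, 0, 0, 3, 2, 0, 1], 40, [819]),
    ([3, 2, 3, 6, 1, 5, 2], 32, [219]),
    ([5, 5, 5, 6, 4, 0], 36, [219]),
    ([4, 0, 2, 1, 5, 4, 2, 1], 29, [982]),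
    ([0, 1, 0, 6, 6, 3], 19, [248]),
    ([2, 6, 1, 0, 6, 5, 1, 2], 39, [79]),
    ([2, 0, 5, 2, 5], 30, [520]),
    ([7, 3, 4, 4, 4, 2, 0], 21, [49]),
    ([1, 0, 3, 2, 6, 3, 3], 30, [750]),
    ([1, 5, 1, 7, 0, 3, 1, 0, 0, 0], 22, [891]),
    ([5, 2, 0, 7, 5, 5, 1, 2], 27, [713]),
    ([2, 3, 4, 0, 6, 0], 36, [164]),
    ([6, 0, 2, 7, 5, 3, 0, 1], 21, [278]),
    ([0, 2, 0, 1, 6, 2, 3], 43, [598]),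
    ([6, 2, 4, 2, 0, 5, 1], 36, [902]),
    ([7, 4, 0, 1, 0, 5], 42, [565]),
    ([5, 3, 0, 2, 5, 4, 1], 44, [492]),
    ([0, 3, 1, 0, 0, 5, 2, 0, 1, 0], 43, [767]),
    ([5, 6, 2, 0, 2, 6], 46, [183]),
    ([1, 2, 1, 0, 0, 0, 6, 1], 42, [466]),
    ([3, 0, 1, 0, 2, 6, 2, 1], 21, [224]),
    ([1, 2, 3, 5, 0, 1, 5, 2, 0], 37, [583]),
    ([6, 6, 6, 6, 3, 0], 45, [583]),
    ([5, 0, 3, 1, 5, 1], 32, [412]),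
    ([0, 2, 0, 0, 5, 5], 37, [546]),
    ([6, 1, 6, 0, 1, 2, 0, 1, 0], 21, [484]),
    ([0, 2, 4, 5, 3, 2, 1], 36, [789]),
    ([3, 1, 7, 0, 5, 2, 0], 21, [238]),
    ([6, 0, 2, 1, 0, 5], 19, [816]),
    ([0, 6, 4, 1, 6, 1, 2, 1, 0], 21, [810]),
    ([6, 5, 1, 2, 1, 0], 35, [498]),
    ([7, 1, 4, 2, 0, 3], 43, [260]),
    ([2, 4, 0, 7, 6, 4, 1, 0], 30, [75]),
    ([5, 5, 6, 6, 0, 3, 3], 30, [595]),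
    ([0, 0, 0, 6, 1, 0, 3], 37, [811]),
    ([2, 0, 5, 1, 2, 6, 1, 0], 42, [919]),
    ([2, 7, 6, 4, 2, 0, 0], 38, [546]),
    ([2, 1, 6, 5, 5, 4, 2], 37, [35]),
    ([6, 0, 1, 6, 0, 7, 0, 0], 42, [568]),
    ([1, 4, 0, 2, 7, 0, 0], 43, [513]),
    ([2, 3, 3, 3, 0, 3, 1, 0], 43, [98]),
    ([7, 0, 2, 5, 2, 5, 1, 0, 0], 21, [38]),
    ([4, 1, 0, 0, 5, 4, 1, 0, 0], 24, [966]),
    ([1, 7, 4, 0, 1, 2, 1], 35, [583]),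
    ([5, 2, 3, 3, 0, 2, 1, 4], 36, [829]),
    ([7, 2, 3, 0, 1, 6], 42, [525]),
    ([3, 1, 4, 0, 6, 4], 38, [704]),
    ([3, 2, 1, 5, 0, 6], 19, [283]),
    ([1, 7, 6, 0, 1, 3, 0, 0], 32, [635]),
    ([0, 1, 6, 0, 0, 6, 0], 42, [623]),
    ([1, 0, 3, 1, 3, 2, 6], 30, [596]),
    ([7, 3, 1, 0, 2, 1, 0, 5, 0], 24, [808]),
    ([1, 6, 1, 6, 1], 27, [982]),
    ([5, 1, 4, 5, 1, 0], 20, [269]),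
    ([6, 2, 7, 4, 0, 1, 2, 1, 0], 32, [902]),
    ([5, 1, 6, 0, 5, 5], 38, [253]),
    ([7, 5, 3, 6, 1], 27, [757]),
    ([6, 1, 2, 5, 5, 0, 6, 1, 0], 40, [897]),
    ([2, 0, 5, 1, 2, 6, 0], 44, [199]),
    ([0, 1, 0, 3, 0, 2, 5], 24, [807]),
    ([0, 1, 0, 7, 0, 6, 0, 0, 0], 32, [956]),
    ([4, 0, 6, 6, 2, 3, 1], 39, [492]),
    ([0, 6, 6, 4, 2, 5], 32, [595]),
    ([1, 2, 1, 6, 1, 0, 5, 1, 0], 30, [956]),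
    ([1, 2, 6, 2, 3, 0, 2], 30, [412]),
    ([6, 2, 5, 5, 0, 6, 2], 21, [96]),
    ([0, 1, 3, 1, 3, 4, 2, 1], 21, [123]),
    ([0, 1, 2, 1, 0, 6, 5, 1, 0, 0], 21, [564])]

end Cfsg.Lib.LyReal
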