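/-! Generated data: double cosets. -/

set_option autoImplicit false
set_option maxRecDepth 20000

namespace Cfsg.Lib.LyReal

/-- The translates of record 22. -/
def moveT22 : List (List Nat × Nat × List Nat) :=
  [([0, 1, 0, 0, 6, 0, 1, 3, 1], 27, [560]),
    ([7, 6, 2, 0, 2, 6, 0], 46, [147]),
    ([3, 2, 0, 1, 7, 5], 28, [790]),
    ([4, 0, 6, 2, 0, 5, 1], 28, [975]),
    ([3, 3, 4, 2, 3, 0, 1], 29, [560]),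
    ([5, 0, 7, 6, 1, 6, 0, 0], 22, [273]),
    ([5, 3, 1, 5, 2, 1, 0, 0, 0], 40, [778]),
    ([5, 1, 0, 2, 3, 5, 1, 2], 29, [145]),
    ([0, 2, 1, 6, 1, 4, 2, 0], 34, [233]),
    ([2, 1, 0, 2, 4, 2, 5, 2], 33, [17]),
    ([5, 0, 2, 5, 4, 0, 2], 21, [996]),
    ([3, 1, 5, 2, 7, 0, 1], 19, [1004]),
    ([5, 0, 1, 2, 0, 0], 21, [726]),
    ([2, 3, 1, 2, 6, 6, 0, 1], 24, [27]),
    ([1, 0, 5, 0, 7, 0, 0], 39, [57]),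
    ([6, 2, 4, 3, 3, 0, 1], 24, [758]),
    ([0, 1, 0, 2, 5, 6, 0], 25, [233]),
    ([5, 0, 1, 6, 5, 5], 42, [984]),
    ([6, 3, 2, 4, 0, 2, 5, 1], 25, [375]),
    ([1, 4, 4, 4, 5, 4], 36, [931]),
    ([0, 2, 1, 5, 5, 2, 3], 34, [193]),
    ([5, 2, 1, 6, 2, 3, 3], 29, [500]),
    ([4, 1, 0, 2, 7, 1, 6, 2], 33, [293]),
    ([4, 2, 4, 5, 0, 2, 1], 32, [668]),
    ([4, 0, 1, 6, 5, 4], 27, [663]),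
    ([0, 7, 6, 3, 1, 0, 0, 0, 0], 40, [716]),
    ([4, 1, 5, 2, 0, 1, 4, 0, 0], 21, [723]),
    ([4, 0, 1, 5, 0, 0, 0, 0], 25, [792]),
    ([6, 2, 7, 3, 0, 3], 33, [242]),
    ([1, 0, 2, 7, 4, 2, 0, 1], 40, [596]),
    ([0, 1, 0, 7, 5, 1], 43, [970]),
    ([1, 2, 3, 5, 0, 0, 3, 0], 32, [164]),
    ([1, 5, 5, 1, 3, 1, 2], 28, [515]),
    ([4, 4, 2, 0, 3, 2, 3, 0], 34, [680]),
    ([0, 6, 2, 1, 4, 2, 4, 2], 30, [164]),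
    ([5, 1, 0, 6, 4, 1, 2, 0, 0], 39, [910]),
    ([4, 4, 3, 1, 2, 3, 1], 31, [460]),
    ([0, 3, 1, 0, 6, 2, 0, 0], 27, [23]),
    ([5, 5, 5, 4, 3, 2], 33, [361]),
    ([0, 2, 5, 1, 5, 0, 2, 0], 27, [450]),
    ([1, 0, 7, 2, 4, 2, 3, 0], 40, [523]),
    ([0, 2, 4, 3, 2, 0, 3], 28, [668]),
    ([4, 4, 5, 6, 4], 20, [784]),
    ([4, 0, 5, 4, 3, 2, 1, 0], 23, [417]),
    ([4, 5, 5, 5, 2, 6, 0, 2], 39, [761]),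
    ([7, 1, 2, 0, 1, 5, 0], 40, [491]),
    ([0, 7, 2, 6, 1, 0, 3, 0], 27, [145]),
    ([6, 0, 7, 5, 3, 0], 29, [450]),
    ([2, 0, 5, 0, 2, 1, 5, 1], 21, [628]),
    ([1, 6, 5, 6, 5], 7, [887]),
    ([1, 6, 6, 3, 2, 5, 0, 2], 40, [765]),
    ([0, 1, 2, 4, 1, 5, 5, 1], 29, [578]),
    ([5, 2, 3, 5, 0, 1, 2, 0, 0, 0], 23, [118]),
    ([4, 3, 2, 5, 3, 0, 1], 31, [118]),
    ([0, 6, 1, 4, 2, 6, 3, 1], 41, [118]),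
    ([5, 2, 5, 0, 7, 1, 3, 0], 33, [612]),
    ([3, 4, 2, 5, 4, 0], 22, [361]),
    ([2, 1, 6, 0, 6, 5, 2, 0], 31, [18]),
    ([3, 2, 7, 0, 2, 1, 5, 0], 23, [18]),
    ([1, 4, 3, 2, 1, 0, 2], 22, [612]),
    ([3, 5, 5, 4, 1, 3, 0], 33, [273]),
    ([3, 2, 7, 0, 6, 2], 44, [57]),
    ([5, 3, 6, 2, 3, 0, 2], 22, [959]),
    ([3, 4, 1, 2, 5, 3, 0], 23, [770]),
    ([0, 1, 5, 5, 4, 4, 2], 27, [645]),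
    ([2, 1, 5, 1, 7, 4, 1], 41, [770]),
    ([6, 4, 1, 3, 5, 0], 33, [290]),
    ([7, 1, 2, 1, 0], 22, [761]),
    ([0, 5, 1, 4, 5, 2], 35, [413]),
    ([6, 1, 6, 2, 6, 0, 0, 0], 25, [193]),
    ([0, 6, 1, 0, 2, 3], 33, [806]),
    ([0, 6, 2, 1, 5, 2, 6, 0, 0], 22, [771]),
    ([2, 6, 1, 7, 5, 4], 31, [598]),
    ([0, 6, 5, 4, 3, 4], 28, [409]),
    ([0, 2, 1, 6, 2, 4, 1, 0, 0], 30, [931]),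
    ([5, 4, 5, 0, 2, 3], 22, [293]),
    ([1, 2, 4, 0, 5, 0, 0, 0], 30, [201]),
    ([2, 3, 0, 3, 4, 1, 2, 0, 0], 29, [663]),
    ([6, 5, 1, 4, 0, 0], 22, [586]),
    ([1, 6, 3, 0, 2, 1, 0, 0], 42, [740]),
    ([2, 0, 3, 4, 1, 4, 4], 25, [353]),
    ([5, 6, 3, 5, 0], 19, [512]),
    ([0, 5, 4, 1, 2, 5, 0, 0], 32, [931]),
    ([1, 5, 6, 2, 0, 3, 2], 22, [806]),
    ([2, 6, 1, 5, 2, 0, 1, 0, 0], 29, [23]),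
    ([0, 2, 0, 1, 6, 5, 0], 30, [662]),
    ([6, 2, 7, 0, 1, 3, 0], 37, [180]),
    ([1, 0, 6, 0, 3, 6, 2], 43, [774]),
    ([2, 6, 1, 0, 2, 3, 1, 2], 22, [17]),
    ([1, 2, 3, 3, 4], 19, [352]),
    ([3, 0, 1, 3, 3, 6, 2], 42, [460]),
    ([7, 0, 2, 6, 4, 3], 28, [737]),
    ([1, 0, 6, 2, 0, 5, 5, 1], 28, [696]),
    ([1, 2, 6, 3, 0, 5], 22, [242]),
    ([6, 0, 3, 4, 3, 0], 27, [500]),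
    ([2, 6, 3, 3, 1, 2, 1, 0], 32, [201]),
    ([1, 6, 4, 1, 0, 2, 3, 1], 29, [433]),
    ([5, 0, 6, 2, 4, 5, 1, 0], 23, [793]),
    ([4, 0, 6, 0], 40, [202]),
    ([5, 3, 2, 3, 1, 5], 31, [770]),
    ([2, 6, 4, 1, 6, 2, 0, 2], 40, [484]),
    ([0, 1, 2, 1, 5, 3, 6, 1], 33, [959]),
    ([5, 4, 0, 7, 0, 0, 0, 0], 24, [1001]),
    ([5, 4, 0, 1, 5, 2, 1, 0], 23, [108]),
    ([6, 0, 5, 5, 5, 1, 0], 23, [460]),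
    ([3, 0, 5, 1, 6, 2, 0, 1, 0, 0], 40, [1000]),
    ([1, 0, 5, 2, 0, 5, 6], 41, [460]),
    ([7, 1, 0, 6, 2, 5, 0, 0], 39, [225]),
    ([5, 6, 3, 0, 5, 1, 2, 0], 40, [847]),
    ([0, 0, 0, 7, 3, 1, 2, 1, 0], 24, [878]),
    ([6, 5, 4, 0, 3, 2, 0], 37, [977]),
    ([2, 3, 2, 0, 2, 1, 6], 25, [756]),
    ([0, 1, 3, 0, 5, 2, 6, 0], 36, [981]),
    ([2, 4, 3, 1, 2, 5], 30, [668]),
    ([4, 0, 5, 6, 3, 5, 2], 40, [336]),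
    ([2, 5, 1, 0, 2, 0, 3, 0], 43, [281]),
    ([2, 0, 2, 1, 0, 5, 2, 5, 1], 32, [981]),
    ([0, 0, 6, 2, 5, 1, 3, 0], 25, [680]),
    ([1, 6, 2, 6, 2, 3, 1, 0, 0], 28, [981]),
    ([3, 4, 0, 1, 3, 0], 30, [981]),
    ([2, 0, 5, 0, 6, 2, 0], 41, [417]),
    ([4, 4, 4, 1, 7, 3], 27, [805]),
    ([2, 1, 4, 0, 7, 1, 2, 0], 23, [598]),
    ([5, 6, 6], 27, [287]),
    ([2, 4, 1, 3, 0, 3, 2], 42, [379]),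
    ([5, 3, 2, 0, 6, 1, 2, 0], 31, [108]),
    ([4, 0, 1, 5, 2, 6, 0, 0, 0], 40, [806]),
    ([4, 0, 7, 2, 6, 0, 1], 31, [417]),
    ([1, 3, 0, 2, 1, 4, 0, 0, 0], 31, [793]),
    ([1, 4, 2, 1, 0, 3, 1, 0, 0], 35, [534]),
    ([3, 1, 0, 0, 0, 3, 0], 27, [578]),
    ([4, 5, 1, 6, 5, 1], 36, [668]),
    ([2, 5, 1, 2, 0, 5, 4, 0], 33, [586]),
    ([1, 0, 6, 1, 2, 6, 1, 0, 0], 43, [436]),
    ([0, 2, 5, 2, 0, 2, 1, 5, 0], 32, [662]),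
    ([0, 6, 2, 1, 5, 0, 0], 45, [413]),
    ([3, 2, 1, 0, 6, 2, 3, 0], 27, [433]),
    ([3, 5, 5, 0, 2, 0, 1, 0], 29, [805]),
    ([5, 5, 5, 0, 2, 5, 1, 0], 25, [86]),
    ([3, 1, 2, 0, 5, 3, 3], 34, [86]),
    ([7, 2, 5, 1, 5], 38, [188]),
    ([7, 0, 1, 2, 5, 1, 2, 0, 2], 33, [761]),
    ([2, 0, 7, 6, 2, 1, 4, 0], 27, [888]),
    ([1, 7, 5, 2, 6, 2, 0, 1, 0, 0], 29, [645]),
    ([1, 7, 5, 2, 3, 1, 0], 38, [958]),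
    ([3, 1, 0, 2, 6, 6, 0, 1], 33, [771]),
    ([2, 7, 5, 0, 1, 3, 0, 0], 29, [888]),
    ([0, 6, 5, 2, 6, 3], 29, [287]),
    ([4, 2, 5, 0, 5, 4, 2, 1], 44, [761]),
    ([2, 4, 1, 7, 4, 0, 2, 0, 0], 22, [290])]

end Cfsg.Lib.LyReal
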