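/-! Generated data: double cosets. -/

set_option autoImplicit false
set_option maxRecDepth 20000

namespace Cfsg.Lib.LyReal

/-- The translates of record 24. -/
def moveT24 : List (List Nat × Nat × List Nat) :=
  [([5, 2, 0, 7, 6, 3, 2, 0], 39, [128]),
    ([4, 5, 2, 7, 3, 0, 2, 1, 0], 24, [1006]),
    ([0, 2, 4, 4, 1, 2, 3, 0], 27, [800]),
    ([0, 1, 2, 0, 0, 6, 1, 3], 21, [818]),
    ([2, 1, 5, 6, 2, 5, 0, 0, 0], 39, [731]),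
    ([6, 3, 2, 0, 5, 6, 0], 23, [374]),
    ([7, 3, 4, 2, 4, 0], 44, [731]),
    ([7, 0, 3, 1, 3, 0, 2, 0], 36, [264]),
    ([4, 0, 0, 3, 0, 0], 33, [149]),
    ([3, 0, 1, 5, 2, 0, 5, 1], 24, [975]),
    ([0, 2, 7, 5, 0, 3, 0], 44, [906]),
    ([4, 1, 0, 5, 0, 7, 2, 1, 0], 31, [471]),
    ([0, 1, 2, 6, 2, 3, 2, 0, 1], 24, [879]),
    ([4, 4, 3, 2, 3, 1, 0, 2], 32, [40]),
    ([2, 3, 1, 0, 6, 2, 3, 1, 0], 36, [40]),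
    ([0, 1, 0, 2, 4, 1, 3, 0, 0, 0], 30, [40]),
    ([3, 2, 7, 4, 1, 2, 0, 0, 0], 29, [800]),
    ([1, 4, 2, 5, 1, 2, 0, 1], 42, [936]),
    ([5, 2, 6, 5, 0, 1, 2, 0, 0], 21, [151]),
    ([2, 3, 6, 1, 3, 5], 36, [623]),
    ([5, 6, 5, 1, 5], 46, [421]),
    ([2, 1, 0, 5, 4, 0, 5, 0], 23, [483]),
    ([0, 6, 2, 7, 0, 5, 3], 31, [399]),
    ([0, 2, 5, 0, 3, 5, 0], 34, [998]),
    ([4, 4, 5, 5, 4, 3, 1], 38, [751]),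
    ([0, 3, 0, 5, 2, 5], 23, [753]),
    ([1, 3, 3, 2, 5, 0, 1], 39, [116]),
    ([2, 0, 2, 4, 3, 1, 0, 2, 1, 0], 21, [383]),
    ([0, 0, 0, 7, 0, 6, 2], 24, [107]),
    ([2, 4, 1, 5, 3, 3, 0], 41, [374]),
    ([6, 3, 2, 1, 6, 2], 38, [361]),
    ([3, 5, 1, 2, 1, 4], 34, [447]),
    ([0, 1, 5, 6, 5, 4, 2, 0], 29, [150]),
    ([6, 0, 3, 5, 1, 2, 5, 0], 27, [150]),
    ([1, 5, 2, 0, 7, 2], 25, [447]),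
    ([2, 5, 2, 1, 5, 3, 0, 2], 32, [926]),
    ([7, 0, 1, 2, 0, 0, 5, 1, 0], 31, [871]),
    ([2, 7, 3, 2, 3, 2, 0], 40, [982]),
    ([5, 2, 6, 0, 6, 2, 1], 23, [439]),
    ([7, 2, 5, 4, 1, 0], 39, [254]),
    ([0, 3, 6, 2, 3, 1, 0, 0], 30, [350]),
    ([2, 1, 0, 5, 1, 4, 4], 40, [597]),
    ([1, 2, 4, 1, 0, 5, 3, 2], 41, [765]),
    ([4, 0, 1, 2, 3, 0, 5, 1, 0, 0], 23, [731]),
    ([3, 1, 7, 0, 0, 0], 27, [689]),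
    ([5, 3, 0, 0, 0, 0, 0, 0], 41, [906]),
    ([2, 5, 5, 6, 2, 1, 0, 0], 32, [350]),
    ([6, 1, 3, 0, 1, 5], 24, [441]),
    ([1, 0, 2, 3, 4, 1, 2, 0, 0], 39, [906]),
    ([2, 0, 3, 5, 0, 2], 31, [765]),
    ([6, 2, 3, 0, 2, 1, 0], 42, [670]),
    ([2, 0, 5, 4, 0, 2], 31, [439]),
    ([1, 6, 0, 6, 5, 0, 0], 23, [851]),
    ([3, 5, 0, 1, 6, 0, 2, 1, 0], 31, [296]),
    ([5, 1, 7, 0, 3, 2, 0], 31, [851]),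
    ([1, 4, 3, 0, 1, 0, 2, 1, 0], 42, [982]),
    ([7, 6, 3, 1, 5, 2, 1], 41, [344]),
    ([3, 2, 3, 6, 0], 23, [296]),
    ([0, 7, 2, 6, 2, 0, 1], 41, [851]),
    ([2, 7, 6, 0, 6, 1, 0], 43, [279]),
    ([2, 7, 1, 6, 0, 2, 4], 31, [483]),
    ([3, 0, 2, 1, 0, 5, 2, 0, 0], 30, [926]),
    ([7, 1, 2, 0, 5, 1, 0, 2, 0, 0], 30, [264]),
    ([2, 0, 3, 0, 1, 4, 0, 2, 1], 25, [647]),
    ([6, 4, 3, 4, 3, 2, 0], 39, [795]),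
    ([2, 7, 1, 6, 5, 4, 0, 2], 34, [994]),
    ([4, 4, 5, 2, 1], 64, [16]),
    ([0, 3, 2, 7, 6, 1, 0, 2, 1, 0, 0], 39, [663]),
    ([3, 0, 1, 2, 0, 0, 5, 0], 32, [372]),
    ([5, 2, 5, 6, 0, 2], 21, [327]),
    ([5, 0, 2, 5, 1, 2, 0, 0, 0], 22, [874]),
    ([1, 6, 2, 0, 5, 6], 28, [2]),
    ([3, 2, 0, 2, 1, 5, 2], 23, [405]),
    ([6, 1, 4, 0, 1, 2], 46, [198]),
    ([1, 4, 0, 7, 1, 2, 5, 0, 0], 32, [229]),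
    ([2, 0, 0, 6, 4, 4, 1, 0], 31, [906]),
    ([5, 2, 0, 5, 4, 1, 3, 2, 0], 25, [998]),
    ([5, 2, 0, 0, 0, 5, 1, 2, 0, 1], 43, [210]),
    ([6, 1, 2, 1, 5, 2, 6, 0], 23, [523]),
    ([0, 7, 1, 2, 5, 0, 1, 0, 0], 24, [15]),
    ([7, 5, 2, 5, 0, 1, 0, 0], 22, [900]),
    ([7, 6, 0, 6, 5, 0], 23, [471]),
    ([0, 1, 4, 0, 5, 2, 1, 0], 32, [623]),
    ([1, 4, 2, 3, 0, 1, 3, 0], 27, [819]),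
    ([4, 0, 1, 0, 6, 0, 1], 33, [874]),
    ([2, 1, 6, 2, 7, 0, 2, 1], 30, [229]),
    ([2, 6, 1, 6, 0, 7, 0], 30, [481]),
    ([1, 0, 3, 2, 6, 1, 4, 0, 0], 39, [391]),
    ([2, 7, 1, 5, 0, 5], 44, [254]),
    ([5, 0, 1, 2, 0, 0, 0, 5, 1], 23, [765]),
    ([1, 4, 0, 7, 5, 2], 42, [24]),
    ([2, 0, 1, 3, 2, 3, 0, 1, 0, 0], 21, [57]),
    ([2, 3, 1, 3, 0, 1, 2, 1, 0], 21, [159]),
    ([7, 1, 3, 0, 1, 3], 24, [600]),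
    ([1, 2, 0, 2, 5, 2, 5, 1], 31, [374]),
    ([5, 1, 2, 3, 2, 0, 2, 1], 25, [93]),
    ([2, 6, 5, 6, 5, 1, 0], 41, [753]),
    ([2, 7, 3, 0, 0, 5, 1], 25, [994]),
    ([1, 6, 3, 2, 5, 0], 24, [1002]),
    ([6, 3, 4, 1, 4, 0, 2], 28, [14]),
    ([7, 1, 6, 6, 6], 26, [73]),
    ([0, 2, 1, 6, 2, 0, 1, 0, 5], 32, [264]),
    ([7, 7, 7, 7, 5], 33, [542]),
    ([2, 3, 5, 1, 6, 0, 1], 41, [871]),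
    ([1, 2, 1, 7, 3, 0, 0], 23, [684]),
    ([0, 3, 6, 3, 1, 3, 0, 2], 25, [876]),
    ([6, 2, 0, 5, 3, 4, 1], 23, [871]),
    ([3, 4, 0, 6, 1, 0, 0], 29, [689]),
    ([4, 2, 6, 3, 3], 31, [344]),
    ([5, 1, 2, 0, 7, 4, 1, 0], 22, [542]),
    ([6, 6, 5, 3, 1, 2, 0], 30, [372]),
    ([2, 3, 1, 0, 2, 1, 4, 5], 22, [149]),
    ([0, 6, 6, 5, 3, 1, 2], 28, [264]),
    ([0, 2, 1, 5, 2, 1, 0, 6, 0], 28, [40]),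
    ([6, 0, 1, 6, 6, 0, 2], 29, [819]),
    ([0, 7, 5, 2, 5, 0, 1], 43, [876]),
    ([6, 1, 7, 6, 1], 25, [59]),
    ([3, 3, 2, 1, 6, 0, 3, 0], 33, [900]),
    ([1, 5, 1, 4, 0, 2, 3], 40, [586]),
    ([7, 2, 0, 6, 1, 5, 0, 0], 28, [416]),
    ([5, 6, 2, 5, 6, 3, 3], 31, [405]),
    ([0, 1, 6, 2, 0, 5, 0, 0, 0], 23, [399]),
    ([0, 7, 0, 6, 2, 1, 0, 0, 0], 31, [731]),
    ([1, 4, 0, 5, 5, 2, 0], 64, [173]),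
    ([0, 1, 0, 2, 6, 1, 3, 2], 44, [391]),
    ([3, 3, 1, 2, 1, 0, 5, 0], 31, [684]),
    ([4, 5, 2, 7, 6], 39, [439]),
    ([5, 1, 2, 6, 6, 0, 1], 41, [731]),
    ([4, 2, 3, 4, 0, 5, 1, 2], 28, [782]),
    ([1, 6, 2, 1, 6, 2, 3], 36, [481]),
    ([3, 1, 7, 0, 5, 0, 2, 0, 1], 23, [344]),
    ([1, 7, 0, 0, 6, 0, 0, 0], 28, [591]),
    ([1, 2, 1, 5, 1, 3, 0, 1], 31, [753]),
    ([4, 3, 0, 1, 0, 2, 1], 39, [374]),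
    ([1, 2, 4, 1, 2, 0, 5, 0], 30, [623]),
    ([0, 2, 4, 5, 1, 2, 0, 1], 32, [481]),
    ([2, 0, 2, 6, 3, 1, 5], 31, [523]),
    ([3, 0, 3, 0, 5, 2, 0, 0], 23, [906]),
    ([6, 5, 6, 0, 6, 3], 21, [973]),
    ([5, 0, 1, 4, 3, 4], 21, [127]),
    ([1, 2, 4, 1, 6], 24, [450]),
    ([0, 5, 0, 6, 1, 0, 5, 2], 44, [663]),
    ([3, 3, 3, 0, 5, 2, 0, 1], 25, [231]),
    ([0, 1, 2, 0, 6, 0, 6, 1], 24, [400]),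
    ([1, 5, 0, 3, 0, 2, 0, 1, 0], 43, [231]),
    ([5, 4, 5, 3, 1, 3], 28, [939]),
    ([5, 1, 2, 7, 1, 4, 2, 1], 34, [876]),
    ([0, 2, 7, 5, 4, 1, 0], 26, [656]),
    ([4, 0, 6, 3, 4, 2, 1, 0], 40, [462]),
    ([3, 4, 4, 4, 3, 1], 64, [11])]

end Cfsg.Lib.LyReal
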