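import Cfsg.Agent.Lib.LyReal.ClosureDefs
import Cfsg.Agent.Lib.LyReal.DataMove20
import Cfsg.Agent.Lib.LyReal.DataMove21
import Cfsg.Agent.Lib.LyReal.DataMove22
import Cfsg.Agent.Lib.LyReal.DataMove23
import Cfsg.Agent.Lib.LyReal.DataMove24

/-!
# Translates of five records
-/

set_option autoImplicit false
set_option maxRecDepth 100000

namespace Cfsg.Lib.LyReal

theorem move20_ok : moveOK 20 moveT20 = true := by decide +kernel

theorem move21_ok : moveOK 21 moveT21 = true := by decide +kernel

theorem move22_ok : moveOK 22 moveT22 = true := by decide +kernel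

theorem move23_ok : moveOK 23 moveT23 = true := by decide +kernel

theorem move24_ok : moveOK 24 moveT24 = true := by decide +kernel

end Cfsg.Lib.LyReal
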