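/-! Generated data: double cosets. -/

set_option autoImplicit false
set_option maxRecDepth 20000

namespace Cfsg.Lib.LyReal

/-- The translates of record 25. -/
def moveT25 : List (List Nat × Nat × List Nat) :=
  [([4, 4, 1, 0, 7, 3, 2, 1], 30, [847]),
    ([3, 2, 5, 1, 4, 0, 1], 35, [77]),
    ([2, 6, 1, 2, 5, 5], 38, [890]),
    ([0, 3, 3, 1, 3, 0], 31, [653]),
    ([3, 4, 2, 5, 6, 2], 30, [288]),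
    ([0, 1, 0, 3, 6, 6, 2, 1, 0], 28, [10]),
    ([2, 3, 3, 1, 0, 5, 5], 32, [847]),
    ([4, 5, 1, 5, 0, 2, 1, 0], 24, [847]),
    ([1, 0, 0, 0, 5, 2, 1, 5, 0], 43, [715]),
    ([1, 0, 3, 2, 7, 6, 1, 2, 0, 0], 28, [673]),
    ([3, 4, 3, 4, 2, 0], 35, [0]),
    ([1, 3, 0, 2, 4, 1, 0, 2], 25, [474]),
    ([2, 5, 1, 0, 7, 5, 1, 0], 37, [817]),
    ([4, 3, 6, 3, 1], 24, [831]),
    ([1, 6, 2, 5, 0, 5, 3], 24, [589]),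
    ([6, 3, 0, 3, 1, 4, 2, 1], 44, [62]),
    ([0, 2, 6, 1, 2, 0, 6, 2], 42, [980]),
    ([3, 6, 0, 1, 2, 3, 4], 22, [19]),
    ([4, 5, 1, 7, 3, 2], 30, [797]),
    ([4, 0, 3, 4, 0, 2, 1], 29, [677]),
    ([2, 0, 3, 0, 1, 2, 0, 0], 23, [653]),
    ([2, 1, 6, 2, 5, 4, 1, 0], 25, [875]),
    ([3, 0, 0, 3], 37, [474]),
    ([2, 4, 0, 6, 3, 1, 2, 0, 0], 24, [550]),
    ([5, 4, 3, 4, 0, 2, 3, 0, 1], 22, [120]),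
    ([2, 6, 1, 7, 5, 0, 2], 37, [519]),
    ([2, 3, 1, 0, 6, 3, 4], 45, [77]),
    ([3, 1, 0, 3, 6, 2, 0], 31, [435]),
    ([1, 2, 3, 5, 2], 36, [288]),
    ([5, 2, 6, 0, 3, 6, 2], 28, [970]),
    ([2, 6, 4, 3, 0, 1, 0, 2], 40, [319]),
    ([4, 1, 6, 2, 4, 0, 1, 2, 0, 0, 0], 31, [237]),
    ([2, 3, 1, 4, 5, 2, 1, 0, 0], 22, [470]),
    ([7, 7, 5, 0, 3], 27, [999]),
    ([1, 6, 6, 3, 0], 23, [155]),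
    ([6, 5, 4, 2, 6, 0], 39, [62]),
    ([1, 3, 5, 0, 6, 1, 2, 1], 32, [945]),
    ([1, 6, 5, 6, 2, 0], 26, [553]),
    ([0, 3, 6, 2, 0, 1, 2, 6], 35, [288]),
    ([3, 0, 5, 0, 5, 0], 34, [288]),
    ([7, 0, 6, 5, 2, 6, 1], 24, [492]),
    ([1, 3, 1, 2, 0, 1, 0], 42, [265]),
    ([0, 2, 1, 5, 5, 5, 1], 25, [463]),
    ([1, 4, 2, 7, 4, 0, 0, 0], 29, [710]),
    ([2, 0, 5, 6, 0, 3, 2, 0], 22, [446]),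
    ([1, 2, 5, 6, 0, 2], 37, [576]),
    ([7, 1, 5, 1, 5, 3, 0], 39, [395]),
    ([2, 6, 0, 5, 4], 25, [370]),
    ([3, 5, 3, 2, 1, 0], 37, [715]),
    ([1, 0, 3, 0, 5, 1, 0], 34, [474]),
    ([0, 2, 1, 6, 2, 4, 3, 1], 33, [120]),
    ([2, 4, 2, 3, 1, 2], 37, [94]),
    ([4, 1, 7, 5, 2, 0], 28, [17]),
    ([4, 0, 7, 3, 0, 2, 0, 0], 34, [689]),
    ([0, 2, 5, 4, 0, 5, 1], 25, [245]),
    ([5, 1, 7, 6, 0, 0, 0, 0], 40, [234]),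
    ([7, 4, 1, 0, 5, 2, 1, 0, 0], 37, [370]),
    ([7, 3, 3, 3, 4, 1], 28, [848]),
    ([1, 2, 5, 2, 0, 1, 2, 4], 25, [689]),
    ([6, 0, 3, 5, 1, 0, 2, 1], 29, [649]),
    ([2, 3, 2, 0, 1, 4, 0, 0], 25, [230]),
    ([6, 6, 0, 5, 5, 3, 2], 39, [675]),
    ([3, 2, 0, 5, 1, 4, 2, 0, 0], 39, [551]),
    ([0, 1, 6, 4, 2, 4, 0, 0], 32, [463]),
    ([3, 0, 2, 3, 6, 0], 37, [227]),
    ([2, 1, 5, 2, 1, 6, 0], 36, [110]),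
    ([2, 3, 1, 5, 2, 3, 0, 0], 28, [364]),
    ([2, 0, 3, 5, 1, 2, 1, 0], 35, [753]),
    ([4, 1, 2, 0, 0, 6, 0, 0], 24, [965]),
    ([2, 7, 3, 0, 1, 6, 0, 0], 23, [435]),
    ([0, 0, 6, 5, 0], 64, [553]),
    ([1, 0, 2, 5, 4, 0, 0], 29, [801]),
    ([3, 2, 3, 2, 0, 0, 0, 0], 22, [331]),
    ([2, 0, 1, 6, 0, 0, 3, 2], 32, [797]),
    ([2, 6, 1, 4, 2, 0, 1, 2, 0, 0], 40, [896]),
    ([1, 0, 5, 0, 7, 2, 1], 35, [463]),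
    ([5, 1, 2, 0, 1, 3, 2, 0, 0, 0], 39, [959]),
    ([0, 6, 3, 2, 1, 0, 2, 0, 0], 27, [649]),
    ([2, 0, 6, 1, 0, 5, 2, 0], 37, [907]),
    ([0, 1, 4, 4, 3, 1, 2, 1, 0], 29, [935]),
    ([4, 1, 6, 2, 5, 0, 7, 1, 0], 33, [470]),
    ([3, 2, 4, 5, 6, 4], 28, [710]),
    ([7, 2, 5, 5, 3, 1], 27, [677]),
    ([2, 6, 2, 5, 1, 0], 64, [175]),
    ([5, 5, 1, 7, 6, 2], 64, [546]),
    ([6, 0, 1, 3, 3, 0, 2], 33, [768]),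
    ([6, 0, 1, 2, 3, 3, 0], 24, [110]),
    ([2, 0, 2, 1, 4, 0, 2, 1, 4], 27, [935]),
    ([4, 0, 1, 4, 1, 6, 1], 28, [801]),
    ([1, 2, 1, 5, 0, 0, 3, 0], 28, [504]),
    ([1, 4, 2, 6, 5, 2, 0, 0], 29, [452]),
    ([4, 0, 1, 0, 3, 3], 36, [797]),
    ([4, 3, 0, 3, 0, 1, 0, 0], 41, [435]),
    ([0, 1, 3, 5, 0, 2, 0], 32, [288]),
    ([4, 5, 5, 1, 2, 0], 34, [875]),
    ([0, 2, 3, 1, 5, 3, 4, 0], 44, [959]),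
    ([7, 1, 2, 4, 5, 0, 0], 45, [259]),
    ([1, 5, 2, 0, 1, 0, 6, 5, 0], 32, [110]),
    ([2, 6, 6, 6, 1, 4, 0], 35, [823]),
    ([3, 6, 6, 6, 4, 3], 30, [463]),
    ([2, 1, 5, 5, 3, 2, 1], 34, [858]),
    ([3, 2, 6, 6, 3, 1], 44, [551]),
    ([7, 6, 0, 1, 2, 3, 1], 40, [799]),
    ([7, 0, 3, 6, 1, 2], 36, [945]),
    ([3, 1, 7, 3, 0, 2], 32, [686]),
    ([3, 0, 1, 3, 2, 0, 6, 1, 0, 0], 27, [801]),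
    ([6, 5, 2, 7, 6, 0, 1], 30, [686]),
    ([6, 2, 4, 1, 7, 0, 5, 2], 29, [498]),
    ([2, 1, 6, 1, 0, 3, 4], 45, [370]),
    ([5, 1, 5, 6, 4, 0, 2, 0], 27, [498]),
    ([1, 7, 6, 1, 5, 1, 0, 2], 39, [489]),
    ([0, 2, 4, 0, 2, 0], 43, [0]),
    ([0, 6, 5, 2, 6, 0, 0], 23, [237]),
    ([5, 4, 1, 7, 4, 0, 2], 24, [369]),
    ([1, 3, 3, 5, 3], 26, [985]),
    ([1, 4, 5, 2, 6, 0, 1, 2], 27, [452]),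
    ([4, 4, 1, 4, 2, 6, 2], 41, [155]),
    ([2, 1, 5, 3, 4, 0, 2, 0], 40, [937]),
    ([7, 2, 0, 2, 1, 5, 1], 29, [999]),
    ([0, 0, 0, 3, 0, 3, 1, 2], 31, [155]),
    ([1, 4, 4, 4, 4, 3], 33, [331]),
    ([1, 0, 7, 3, 2, 3], 35, [576]),
    ([5, 0, 1, 2, 3, 5, 1, 0], 40, [94]),
    ([5, 5, 6, 2, 0, 2, 1, 4], 25, [858]),
    ([2, 0, 5, 1, 2, 1, 5, 1], 33, [671]),
    ([3, 6, 2, 3, 1, 0, 2, 0], 30, [945]),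
    ([0, 1, 2, 1, 0, 3, 4, 1, 0, 0], 25, [288]),
    ([2, 3, 4, 1, 4, 1, 0, 0], 27, [710]),
    ([1, 6, 1, 6, 4, 2, 1, 0], 30, [110]),
    ([1, 2, 6, 5, 0, 1, 2], 44, [216]),
    ([1, 6, 0, 3, 6, 0], 35, [836]),
    ([0, 5, 6, 5, 2, 3], 39, [223]),
    ([0, 3, 0, 3, 4, 0, 0], 35, [907]),
    ([6, 1, 2, 0, 0, 6], 40, [735]),
    ([2, 1, 5, 0, 0, 0, 3, 1, 2], 22, [768]),
    ([3, 5, 3, 0, 1, 2, 3, 0], 39, [216]),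
    ([4, 5, 6, 6, 2, 1], 35, [519]),
    ([7, 2, 6, 1, 0, 5], 45, [135]),
    ([1, 3, 2, 0, 2, 1, 0], 32, [113]),
    ([5, 0, 5, 6, 2], 30, [113]),
    ([0, 1, 6, 4, 2, 0, 5, 0], 22, [671]),
    ([4, 1, 5, 2, 3, 0, 0], 45, [823]),
    ([7, 2, 5, 2, 1, 0, 3, 0], 33, [274]),
    ([4, 1, 0, 3, 2, 0, 0], 37, [823]),
    ([2, 6, 1, 4, 0, 1, 2, 0], 33, [19]),
    ([5, 3, 4, 0, 0], 22, [274]),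
    ([2, 0, 3, 4, 4, 1, 2, 0], 40, [135]),
    ([0, 7, 0, 0, 5], 28, [447]),
    ([6, 1, 2, 0, 3, 5, 1], 33, [446]),
    ([3, 6, 4, 1, 4, 0, 0], 25, [919])]

end Cfsg.Lib.LyReal
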