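/-! Generated data: double cosets. -/

set_option autoImplicit false
set_option maxRecDepth 20000

namespace Cfsg.Lib.LyReal

/-- The translates of record 27. -/
def moveT27 : List (List Nat × Nat × List Nat) :=
  [([5, 5, 1, 3, 2, 3, 0], 25, [990]),
    ([1, 4, 2, 0, 1, 6, 3], 40, [37]),
    ([7, 6, 3, 1, 0, 0, 0, 0, 0], 27, [603]),
    ([6, 1, 7, 0, 6], 43, [432]),
    ([2, 4, 5, 6, 1, 0, 0, 0, 0], 28, [612]),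
    ([5, 6, 1, 5, 4, 5], 34, [382]),
    ([5, 4, 0, 2, 3, 1], 34, [187]),
    ([1, 2, 4, 2, 0, 6, 1, 0, 0], 31, [210]),
    ([3, 5, 5, 5, 2, 6, 5], 29, [603]),
    ([5, 0, 1, 6, 0, 3, 0, 0, 0], 22, [357]),
    ([1, 6, 5, 6, 5, 0, 2, 0], 33, [623]),
    ([2, 5, 4, 2, 1, 0, 3, 0], 23, [538]),
    ([5, 6, 6, 5, 3], 27, [389]),
    ([5, 2, 1, 5, 0, 7], 28, [807]),
    ([6, 0, 3, 1, 7, 0], 34, [374]),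
    ([4, 1, 4, 2, 0, 3, 1, 0, 0], 25, [168]),
    ([2, 1, 0, 3, 3, 5, 0], 22, [913]),
    ([0, 6, 6, 0, 5, 1], 27, [763]),
    ([0, 0, 5, 5, 0, 1, 0], 33, [55]),
    ([0, 7, 4, 1, 0, 6, 0, 2], 27, [32]),
    ([7, 6, 1, 2, 4, 1, 0], 43, [426]),
    ([3, 1, 2, 1, 5, 1, 2, 0, 1], 28, [937]),
    ([2, 0, 3, 4, 5, 1, 2, 0, 0, 0], 29, [860]),
    ([1, 4, 0, 1, 4, 0, 2, 1], 39, [376]),
    ([6, 1, 4, 0, 2, 1, 4, 1], 23, [221]),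
    ([6, 3, 1, 0, 2, 4, 1, 0, 0], 30, [194]),
    ([5, 2, 5, 1, 4, 2], 29, [389]),
    ([0, 6, 4, 1, 3, 4], 42, [736]),
    ([4, 2, 4, 2, 0, 7, 1], 25, [187]),
    ([5, 4, 2, 1, 0, 5, 0], 28, [635]),
    ([1, 2, 1, 5, 4, 1, 2, 1], 29, [763]),
    ([0, 7, 1, 6, 1, 5, 0, 0], 29, [614]),
    ([0, 2, 4, 1, 3, 3, 2, 0], 28, [379]),
    ([1, 0, 0, 5, 0, 2, 1], 25, [243]),
    ([2, 4, 3, 5, 1, 0, 2, 1], 33, [849]),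
    ([1, 3, 0, 3, 5, 0, 0], 28, [59]),
    ([4, 0, 6, 0, 1, 5, 0], 30, [470]),
    ([6, 1, 6, 3, 3, 2, 1], 36, [726]),
    ([1, 0, 5, 1, 2, 3, 1], 43, [1001]),
    ([2, 4, 4, 5, 1, 2, 0, 0], 29, [660]),
    ([1, 7, 3, 2, 4, 4, 1], 23, [210]),
    ([2, 0, 0, 5, 5, 1, 5, 0], 33, [913]),
    ([1, 3, 2, 1, 6, 0, 5, 1], 31, [538]),
    ([0, 2, 4, 1, 0, 6], 37, [607]),
    ([1, 6, 4, 1, 6, 0], 24, [746]),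
    ([7, 0, 5, 5, 2, 1, 0], 22, [223]),
    ([1, 3, 5, 3, 0, 2, 0], 41, [210]),
    ([0, 7, 1, 5, 0, 2, 0], 27, [660]),
    ([1, 0, 5, 1, 2, 1, 5], 22, [623]),
    ([1, 0, 5, 2, 0, 1, 0, 3, 1], 31, [562]),
    ([4, 2, 1, 0, 2, 3, 1], 31, [443]),
    ([4, 0, 7, 5, 3, 0], 42, [496]),
    ([4, 4, 5, 5, 1, 3, 0], 23, [863]),
    ([1, 2, 5, 3, 0, 1, 4, 2, 0, 0, 0], 31, [496]),
    ([2, 5, 4, 1, 6, 2, 1, 0, 0], 31, [863]),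
    ([0, 0, 0, 7, 4, 4], 31, [221]),
    ([4, 0, 1, 3, 2, 4, 0], 38, [939]),
    ([0, 6, 3, 0, 0, 5, 2], 23, [496]),
    ([2, 4, 5, 3, 2, 1], 41, [863]),
    ([3, 4, 0, 2, 3, 0, 1], 41, [221]),
    ([1, 0, 6, 5, 2, 0, 6, 0], 25, [382]),
    ([5, 0, 0, 3, 4, 0, 2, 1], 25, [374]),
    ([4, 1, 2, 3, 0, 0, 0, 0], 31, [630]),
    ([1, 2, 0, 7, 0, 5, 1, 0], 33, [286]),
    ([1, 3, 5, 3, 2, 1], 22, [879]),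
    ([6, 2, 1, 6, 2, 0, 1, 0], 29, [570]),
    ([0, 7, 2, 6, 0, 2], 46, [655]),
    ([0, 5, 1, 7, 0, 3, 0, 2, 0], 40, [339]),
    ([0, 3, 0, 1, 2, 0], 22, [48]),
    ([3, 6, 2, 3, 2, 0], 38, [422]),
    ([3, 1, 7, 4, 2, 0, 2, 1], 30, [807]),
    ([4, 2, 6, 2, 1, 0], 19, [859]),
    ([0, 6, 2, 7, 3, 1], 45, [465]),
    ([6, 2, 0, 6, 0, 3, 0, 0], 40, [816]),
    ([2, 7, 0, 2, 1, 5, 2], 40, [975]),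
    ([6, 2, 5, 1, 2, 0, 0, 0, 0], 27, [860]),
    ([6, 3, 6, 4, 2, 1], 24, [128]),
    ([4, 2, 4, 2, 4, 1], 23, [443]),
    ([0, 5, 0, 7, 1, 4, 1], 30, [144]),
    ([0, 6, 2, 1, 0, 3, 0, 2], 29, [692]),
    ([2, 0, 2, 5, 2, 0, 1, 0, 3], 28, [509]),
    ([1, 6, 2, 3, 3, 6, 0], 23, [562]),
    ([2, 0, 6, 0, 2, 0, 3, 1, 0], 29, [32]),
    ([7, 7, 5, 1, 2, 3], 30, [726]),
    ([2, 0, 3, 3, 1, 4, 2, 0, 0], 32, [726]),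
    ([7, 0, 5, 3, 1, 2, 1, 0], 33, [407]),
    ([2, 1, 7, 0, 5, 1, 2, 1, 0, 0], 27, [833]),
    ([4, 0, 2, 7, 3, 3, 1], 40, [687]),
    ([5, 2, 0, 2, 5, 0], 40, [564]),
    ([0, 3, 1, 4, 1, 4], 41, [562]),
    ([3, 2, 5, 6, 1, 0, 2, 0, 0], 33, [830]),
    ([7, 6, 1, 2, 0, 0], 29, [835]),
    ([2, 5, 0, 2, 0], 42, [513]),
    ([2, 3, 1, 4, 5, 2, 0, 0, 0, 0], 28, [442]),
    ([2, 1, 4, 5, 1, 5], 25, [639]),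
    ([6, 1, 4, 5, 1, 0], 39, [357]),
    ([5, 2, 1, 6, 4, 0, 0, 0], 32, [194]),
    ([5, 1, 3, 6, 6], 27, [570]),
    ([1, 0, 0, 7, 5, 4, 0, 2], 27, [154]),
    ([4, 1, 2, 0, 5, 3, 1, 0], 40, [413]),
    ([6, 4, 3, 2, 1, 5, 0], 21, [200]),
    ([4, 0, 6, 2, 3, 1, 0, 0], 23, [630]),
    ([3, 4, 1, 0, 2, 5], 39, [517]),
    ([0, 6, 3, 2, 0, 1, 2, 0], 32, [509]),
    ([2, 0, 6, 5, 3, 3, 1, 0], 32, [470]),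
    ([2, 5, 0, 1, 7, 3], 7, [69]),
    ([5, 3, 0, 1, 2, 0, 1, 0], 30, [509]),
    ([3, 0, 1, 5, 0, 2, 6], 44, [517]),
    ([6, 2, 6, 0, 7, 0], 42, [282]),
    ([1, 0, 6, 1, 5, 0, 1], 39, [9]),
    ([7, 4, 2, 1, 0, 2, 5, 0], 33, [48]),
    ([2, 5, 3, 2, 5, 1, 0, 2], 40, [592]),
    ([3, 2, 1, 6, 2, 7, 0, 0], 40, [930]),
    ([6, 5, 2, 3, 1], 44, [376]),
    ([4, 3, 5, 0, 2, 4, 0], 32, [807]),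
    ([1, 2, 0, 0, 6, 5, 1, 0, 0], 22, [830]),
    ([4, 5, 1, 6, 2, 6, 3], 22, [849]),
    ([4, 3, 4, 1, 0, 5, 2, 0], 25, [214]),
    ([0, 3, 2, 6, 3, 0, 1, 0], 34, [243]),
    ([2, 5, 2, 1, 4, 3, 1, 0], 27, [614]),
    ([0, 7, 2, 4, 2, 1, 0, 0], 37, [938]),
    ([1, 0, 3, 1, 7, 3], 33, [223]),
    ([5, 3, 1, 3, 0, 2, 1, 0], 35, [261]),
    ([0, 3, 2, 1, 4, 2, 0, 2, 1], 21, [556]),
    ([2, 0, 3, 0, 1, 4, 0, 0, 0], 22, [216]),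
    ([0, 7, 3, 0, 0, 0], 36, [509]),
    ([0, 3, 2, 6, 1, 0, 2, 6], 33, [357]),
    ([5, 6, 3, 5, 2, 3, 1, 0], 35, [607]),
    ([1, 2, 7, 6, 0, 2, 5, 1], 22, [286]),
    ([1, 6, 0, 5, 6, 3], 29, [833]),
    ([0, 0, 3, 2, 0, 5, 1, 0, 2], 43, [174]),
    ([5, 2, 7, 6, 2, 1, 0], 24, [114]),
    ([7, 1, 2, 0, 5], 36, [194]),
    ([3, 0, 0, 5, 0, 1], 27, [692]),
    ([5, 1, 6, 6, 2, 3, 1, 0], 22, [407]),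
    ([1, 2, 0, 7, 0, 6, 1, 0], 40, [63]),
    ([4, 2, 5, 1, 0, 6], 32, [144]),
    ([1, 2, 0, 0, 6, 0, 1, 2], 40, [313]),
    ([0, 2, 3, 4, 3, 1, 4, 0], 22, [55]),
    ([1, 5, 2, 1, 7, 0, 3, 0, 0, 0], 27, [835]),
    ([3, 0, 2, 3, 1, 5, 0], 33, [216]),
    ([6, 5, 4, 2, 5, 2], 29, [154]),
    ([5, 3, 5, 3, 2, 1], 19, [642]),
    ([0, 7, 5, 4, 1, 3], 33, [879]),
    ([0, 1, 2, 4, 0, 1, 2, 0], 40, [849]),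
    ([0, 1, 5, 6, 3, 5], 19, [324]),
    ([3, 2, 0, 3, 3, 1, 0], 20, [96]),
    ([7, 1, 0, 3, 3, 0, 2, 0, 1], 21, [829]),
    ([0, 1, 5, 2, 1, 5, 0], 24, [689]),
    ([1, 2, 5, 6, 0, 1, 0, 0], 21, [120])]

end Cfsg.Lib.LyReal
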