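/-! Generated data: double cosets. -/

set_option autoImplicit false
set_option maxRecDepth 20000

namespace Cfsg.Lib.LyReal

/-- The translates of record 28. -/
def moveT28 : List (List Nat × Nat × List Nat) :=
  [([1, 2, 6, 1, 2, 3, 2], 25, [187]),
    ([0, 1, 6, 5, 0, 2, 0, 0], 28, [720]),
    ([2, 6, 1, 5, 0, 3, 0, 0], 35, [509]),
    ([0, 3, 1, 2, 1, 0, 5, 4], 24, [264]),
    ([0, 5, 6, 2, 6, 4, 0, 1], 34, [187]),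
    ([6, 1, 3, 0, 3], 37, [25]),
    ([3, 6, 1, 4, 2, 0, 1, 2, 0], 25, [990]),
    ([1, 0, 6, 3, 6], 22, [190]),
    ([2, 4, 3, 1], 35, [813]),
    ([3, 1, 0, 5, 0, 3, 2, 0], 33, [281]),
    ([1, 4, 2, 6, 2], 25, [993]),
    ([7, 2, 4, 1, 0, 5, 1], 29, [495]),
    ([5, 2, 3, 5, 3, 5], 25, [83]),
    ([1, 2, 6, 1, 2, 0, 0, 5, 0], 22, [547]),
    ([4, 0, 2, 3, 4, 2, 1, 0, 0], 27, [612]),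
    ([3, 0, 2, 0, 7, 3, 0, 1, 0], 33, [547]),
    ([3, 3, 2, 3, 3, 3], 37, [813]),
    ([6, 0, 2, 0, 7, 6, 3, 1], 25, [952]),
    ([3, 3, 6, 3, 1, 3, 0], 27, [719]),
    ([4, 1, 4, 4, 4, 1, 2], 32, [0]),
    ([6, 1, 5, 4, 1, 0], 24, [37]),
    ([1, 7, 0, 2, 1, 4, 3, 1], 35, [25]),
    ([2, 0, 3, 0, 2, 0, 1], 37, [934]),
    ([7, 2, 0, 5, 6, 2, 0], 22, [600]),
    ([6, 0, 5, 5, 2, 1], 41, [294]),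
    ([6, 2, 5, 6, 1, 0, 2, 0], 25, [87]),
    ([0, 1, 2, 5, 2, 0, 0, 0, 5], 28, [824]),
    ([7, 5, 1, 4, 2, 0, 1, 2], 44, [511]),
    ([0, 3, 1, 4, 2, 7, 0, 1, 0, 0], 28, [442]),
    ([0, 2, 4, 4, 5], 45, [822]),
    ([3, 6, 0, 1], 34, [952]),
    ([0, 1, 2, 7, 6, 2], 29, [300]),
    ([3, 4, 2, 6, 4, 0, 0, 0], 31, [93]),
    ([1, 4, 0, 2, 1, 6, 0, 2, 0, 0], 23, [93]),
    ([0, 3, 2, 7, 1, 5, 3, 0], 40, [383]),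
    ([5, 5, 5, 5, 1, 5], 29, [612]),
    ([2, 4, 2, 4, 1], 32, [916]),
    ([6, 6, 0, 7, 1, 2, 4], 32, [278]),
    ([6, 1, 2, 5, 0, 3, 1], 32, [187]),
    ([0, 6, 1, 5, 0, 1, 0], 29, [803]),
    ([5, 1, 3, 0, 2, 3, 1, 0], 29, [965]),
    ([7, 3, 3, 1, 3, 3, 3], 37, [509]),
    ([2, 5, 1, 7, 0, 3, 3, 2], 27, [495]),
    ([2, 7, 5, 1, 0, 2, 0], 35, [990]),
    ([2, 1, 0, 7, 5, 1, 2, 0, 0], 24, [631]),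
    ([3, 3, 4, 3, 0, 1, 2], 35, [226]),
    ([3, 1, 2, 1, 7, 0, 3, 1], 33, [190]),
    ([0, 1, 4, 3, 5, 0, 2, 1], 27, [803]),
    ([0, 6, 1, 2, 1, 4, 0, 0], 34, [993]),
    ([5, 0, 2, 0, 6, 1, 6, 0], 22, [465]),
    ([3, 1, 0, 5, 0, 3, 0, 0, 0], 31, [850]),
    ([0, 2, 1, 5, 4, 2, 5], 36, [37]),
    ([3, 0, 0, 5, 5, 1, 2, 0], 25, [492]),
    ([6, 1, 2, 0, 7, 0, 0, 0], 34, [701]),
    ([5, 3, 0, 3, 3, 2, 0, 1], 28, [769]),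
    ([5, 0, 5, 1, 0, 2, 1, 0, 0, 0], 23, [294]),
    ([4, 2, 4, 1, 0, 6, 2, 1, 0], 30, [37]),
    ([7, 0, 1, 0, 2, 6, 1, 0], 28, [467]),
    ([0, 3, 6, 2, 5, 4, 0], 25, [701]),
    ([0, 3, 0, 0, 0, 5, 1, 2], 23, [850]),
    ([4, 3, 2, 4, 5, 0], 35, [822]),
    ([0, 2, 4, 1, 4, 2, 5, 0, 0, 0], 40, [731]),
    ([1, 3, 1, 2, 1, 0, 0, 6], 27, [965]),
    ([1, 7, 2, 1], 38, [341]),
    ([0, 5, 3, 2, 5, 1, 0], 24, [782]),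
    ([7, 1, 0, 5, 0], 42, [825]),
    ([1, 5, 3, 0, 3, 0, 0], 64, [62]),
    ([6, 0, 3, 6, 0, 1], 44, [411]),
    ([2, 0, 6, 3, 2], 33, [852]),
    ([1, 6, 6, 0, 7, 2], 39, [700]),
    ([5, 1, 2, 7, 6, 6, 0], 36, [278]),
    ([0, 1, 6, 2, 0, 6, 0, 2, 0], 39, [946]),
    ([2, 3, 4, 2, 3, 4], 37, [990]),
    ([6, 5, 0, 1, 5, 5, 3], 29, [719]),
    ([7, 6, 6, 1, 4, 4], 32, [189]),
    ([5, 1, 0, 5, 5, 2, 1, 0], 35, [78]),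
    ([1, 7, 4, 0, 2], 29, [958]),
    ([4, 2, 0], 31, [294]),
    ([6, 6, 1, 6, 1, 2, 1], 34, [87]),
    ([7, 6, 3, 0, 0], 37, [87]),
    ([5, 3, 5, 1, 2, 6], 23, [215]),
    ([3, 1, 4, 0, 5, 2, 0], 40, [728]),
    ([2, 5, 1, 0, 5, 2, 3, 0], 30, [0]),
    ([7, 6, 5, 1, 3, 0, 2, 1], 30, [278]),
    ([6, 4, 0, 6, 0, 6], 30, [87]),
    ([0, 6, 0, 2, 1, 5, 0], 36, [0]),
    ([6, 1, 3, 2, 7, 4, 0, 2], 22, [852]),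
    ([5, 0, 5, 1, 0, 2, 1, 4, 0], 35, [87]),
    ([2, 1, 5, 6, 0, 2, 4, 2], 22, [281]),
    ([3, 5, 1, 4, 2, 3, 0], 33, [465]),
    ([1, 0, 3, 2, 1, 5, 4, 0], 25, [293]),
    ([2, 7, 0, 2, 6, 2, 0, 1], 22, [147]),
    ([0, 6, 1, 3, 2, 0, 5], 39, [511]),
    ([3, 3, 3, 2, 6, 5], 28, [612]),
    ([5, 0, 1, 2, 5, 6], 37, [932]),
    ([4, 5, 0, 2, 5, 1, 0, 2, 0], 33, [600]),
    ([1, 0, 6, 1, 3, 2, 1, 0], 25, [144]),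
    ([4, 1, 5, 2, 0, 1, 0, 0, 0], 43, [293]),
    ([1, 5, 0, 7, 6, 0, 0, 0], 24, [923]),
    ([5, 6, 6, 6, 3, 0], 43, [822]),
    ([1, 5, 2, 6, 4, 2], 64, [3]),
    ([1, 0, 5, 1, 6, 0, 0], 40, [947]),
    ([2, 0, 7, 6, 2, 3], 39, [513]),
    ([7, 1, 4, 2, 4, 1, 0, 0], 30, [963]),
    ([0, 0, 3, 2, 0, 6, 0], 32, [963]),
    ([0, 6, 5, 2, 3, 1, 0], 44, [1005]),
    ([2, 1, 0, 5, 4, 1, 0, 2, 0], 30, [916]),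
    ([4, 1, 6, 3, 1, 0, 0, 0], 24, [278]),
    ([7, 2, 5, 1, 5, 0, 0, 0, 0, 0], 30, [187]),
    ([7, 3, 2, 0, 2, 1, 6], 44, [513]),
    ([6, 3, 1, 5, 0, 1, 2], 29, [818]),
    ([5, 0, 6, 0, 1, 0], 45, [509]),
    ([3, 6, 6, 3, 6], 33, [270]),
    ([5, 6, 5, 4, 0, 6, 1], 27, [958]),
    ([2, 0, 5, 3, 3, 0, 1, 0], 32, [87]),
    ([2, 5, 0, 6, 5, 1, 0], 28, [817]),
    ([4, 1, 6, 2, 7, 3, 0, 1, 0], 22, [270]),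
    ([6, 5, 1, 4, 5, 3, 0], 31, [215]),
    ([3, 1, 5, 3, 5, 2, 0], 41, [215]),
    ([7, 5, 1, 0, 0, 0], 27, [300]),
    ([4, 1, 0, 0, 6, 6, 0], 37, [728]),
    ([6, 2, 0, 7, 6, 1], 45, [226]),
    ([1, 3, 0, 2, 5, 4], 35, [119]),
    ([6, 0, 3, 0, 2, 1, 5], 64, [41]),
    ([1, 6, 5, 0, 0, 5, 0], 37, [361]),
    ([3, 0, 1, 2, 7], 36, [963]),
    ([0, 2, 4, 1, 0, 2, 6, 4], 40, [640]),
    ([6, 2, 4, 5, 1, 0], 45, [728]),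
    ([1, 2, 6, 3, 6, 0], 42, [362]),
    ([1, 2, 0, 7, 1, 5, 3, 0], 27, [818]),
    ([2, 3, 1, 0, 3, 2, 1, 0], 32, [37]),
    ([1, 2, 5, 1, 2, 0, 6, 1, 2], 40, [968]),
    ([1, 0, 0, 0, 6, 1, 2, 6, 1], 28, [412]),
    ([0, 7, 1, 4, 2, 0, 0], 45, [731]),
    ([3, 0, 2, 6, 2, 5, 1, 2, 1, 0], 30, [189]),
    ([2, 0, 5, 2, 7, 1, 0], 40, [842]),
    ([0, 1, 0, 6, 2, 1, 6], 28, [495]),
    ([2, 0, 1, 3, 2, 4], 37, [718]),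
    ([4, 2, 3, 4, 0, 1, 0], 40, [382]),
    ([1, 0, 5, 0, 3, 1], 33, [147]),
    ([5, 1, 2, 6, 0, 0, 0], 35, [731]),
    ([0, 2, 3, 3], 39, [411]),
    ([2, 6, 1, 4, 3, 0, 2, 0], 39, [1005]),
    ([2, 1, 6, 0, 1, 2, 3, 1, 0, 0], 39, [530]),
    ([3, 3, 1, 2, 0, 5, 5], 28, [4]),
    ([3, 5, 1, 4, 4, 2, 0], 24, [254]),
    ([5, 3, 5, 3, 3, 3, 1], 24, [809]),
    ([4, 2, 6, 2, 3, 3], 26, [3]),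
    ([3, 0, 5, 0, 5, 1, 0, 2], 39, [275]),
    ([6, 1, 4, 0, 7, 0], 26, [308])]

end Cfsg.Lib.LyReal
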