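import Cfsg.Agent.Lib.LyReal.ClosureDefs
import Cfsg.Agent.Lib.LyReal.DataMove25
import Cfsg.Agent.Lib.LyReal.DataMove26
import Cfsg.Agent.Lib.LyReal.DataMove27
import Cfsg.Agent.Lib.LyReal.DataMove28
import Cfsg.Agent.Lib.LyReal.DataMove29

/-!
# Translates of five records
-/

set_option autoImplicit false
set_option maxRecDepth 100000

namespace Cfsg.Lib.LyReal

theorem move25_ok : moveOK 25 moveT25 = true := by decide +kernel

theorem move26_ok : moveOK 26 moveT26 = true := by decide +kernel

theorem move27_ok : moveOK 27 moveT27 = true := by decide +kernel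

theorem move28_ok : moveOK 28 moveT28 = true := by decide +kernel

theorem move29_ok : moveOK 29 moveT29 = true := by decide +kernel

end Cfsg.Lib.LyReal
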