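/-! Generated data: double cosets. -/

set_option autoImplicit false
set_option maxRecDepth 20000

namespace Cfsg.Lib.LyReal

/-- The translates of record 30. -/
def moveT30 : List (List Nat × Nat × List Nat) :=
  [([2, 0, 7, 1, 5, 2, 5, 0, 0], 31, [189]),
    ([0, 5, 1, 2, 4, 3, 1, 0], 24, [264]),
    ([0, 6, 3, 4, 4, 2, 0], 21, [852]),
    ([0, 3, 6, 4, 1, 3, 2, 0, 1], 27, [673]),
    ([0, 3, 1, 5, 4, 5, 2, 0], 23, [0]),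
    ([2, 0, 3, 4, 2, 4], 37, [416]),
    ([5, 3, 4, 0, 6, 6, 3], 23, [189]),
    ([1, 0, 2, 5, 1, 4, 2, 6, 0, 0, 0], 23, [540]),
    ([0, 2, 1, 0, 6, 4], 21, [469]),
    ([0, 5, 5, 2, 6, 0, 2], 25, [822]),
    ([2, 7, 6, 2, 0], 24, [37]),
    ([7, 0, 2, 6, 4, 1, 2, 0], 22, [852]),
    ([2, 7, 6, 1, 0, 2, 1], 39, [511]),
    ([5, 5, 4, 5, 4, 4], 24, [560]),
    ([5, 1, 6, 2, 0, 1, 0, 0], 24, [420]),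
    ([5, 3, 6, 0, 2, 1, 5], 44, [230]),
    ([6, 5, 2, 7, 0, 2, 1, 0], 21, [516]),
    ([6, 6, 6, 3, 1], 43, [147]),
    ([0, 1, 7, 5, 2, 0, 0], 35, [720]),
    ([5, 1, 7, 3, 2, 3, 1, 0], 25, [474]),
    ([7, 1, 6, 5, 1, 0, 0, 0, 0], 22, [259]),
    ([1, 7, 2, 6, 5], 35, [416]),
    ([1, 6, 3, 0, 1, 0, 2, 0], 22, [147]),
    ([2, 0, 5, 5, 5, 1, 6, 0], 21, [708]),
    ([2, 0, 6, 2, 1, 4, 2, 1], 25, [93]),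
    ([0, 2, 1, 6, 5, 4, 0, 0], 36, [425]),
    ([1, 3, 2, 0, 1, 2, 3], 44, [511]),
    ([5, 6, 0, 2, 1, 0, 6], 29, [673]),
    ([1, 2, 1, 6, 2, 3, 1, 2, 1], 31, [0]),
    ([1, 4, 5, 1, 2], 45, [693]),
    ([7, 1, 0, 2, 5, 1, 0, 2], 43, [419]),
    ([5, 6, 3, 3, 1], 40, [971]),
    ([6, 5, 3, 2, 1, 0, 0, 0], 28, [189]),
    ([6, 2, 0, 5, 1, 6, 2, 0, 0, 0], 28, [263]),
    ([2, 0, 5, 1, 7, 2, 4, 1], 33, [421]),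
    ([5, 2, 6, 4, 0, 6, 1], 39, [897]),
    ([7, 4, 1, 6, 0, 6, 0], 39, [316]),
    ([1, 2, 1, 6, 0, 5, 3, 1, 0, 0], 30, [169]),
    ([0, 7, 1, 2, 5, 2, 0, 1], 23, [850]),
    ([4, 0, 5, 1, 0, 2, 0, 3], 28, [0]),
    ([3, 1, 0, 6, 2, 7], 41, [332]),
    ([2, 3, 5, 1, 2, 3, 0, 1], 21, [219]),
    ([6, 5, 0, 1, 3, 2, 6, 0], 33, [852]),
    ([0, 5, 4, 2, 6, 0, 6, 1], 23, [425]),
    ([0, 1, 0, 7, 2, 5], 29, [726]),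
    ([1, 6, 1, 2, 6, 4, 0, 0], 29, [719]),
    ([1, 6, 3, 5, 5, 2], 31, [332]),
    ([2, 0, 3, 0, 5, 0, 1, 0, 2], 28, [963]),
    ([0, 1, 2, 4, 2, 0, 1, 5, 0], 39, [700]),
    ([0, 6, 0, 6, 0, 2], 40, [842]),
    ([2, 4, 2, 0, 3, 1, 0], 28, [40]),
    ([7, 4, 1, 3, 4, 0], 31, [850]),
    ([1, 2, 3, 4, 5], 42, [426]),
    ([4, 1, 2, 0, 2, 6], 38, [73]),
    ([2, 0, 0, 0, 6, 1, 2, 0, 1], 42, [807]),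
    ([3, 2, 6, 2, 1, 4, 2, 1, 0], 25, [998]),
    ([0, 2, 0, 7, 0, 6, 1, 2, 0, 1], 23, [294]),
    ([4, 0, 0, 5, 1, 2, 1], 43, [594]),
    ([3, 2, 4, 5, 2, 1], 43, [906]),
    ([1, 4, 2, 5, 4, 0, 1, 0, 0, 0], 28, [591]),
    ([7, 5, 4, 2, 1, 0, 0], 37, [693]),
    ([4, 2, 6, 3, 0, 1], 39, [230]),
    ([4, 2, 4, 5, 0, 2, 1, 0], 31, [540]),
    ([6, 1, 5, 2, 3, 3, 1, 0], 21, [902]),
    ([2, 0, 1, 6, 3, 3, 0], 30, [632]),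
    ([2, 5, 1, 2, 4, 2, 0, 1], 21, [412]),
    ([6, 1, 7, 5, 4, 0, 2, 1], 24, [203]),
    ([2, 3, 4, 0, 1, 0, 2, 1], 32, [951]),
    ([6, 0, 7, 6, 3, 0], 22, [466]),
    ([0, 1, 3, 2, 5, 4, 1, 0], 40, [817]),
    ([1, 2, 7, 6, 5, 2], 30, [691]),
    ([5, 0, 6, 2, 5, 6, 0, 1], 21, [352]),
    ([1, 3, 4, 0, 1, 2, 3, 0, 0], 23, [938]),
    ([1, 2, 3, 6, 4, 0], 45, [193]),
    ([2, 0, 7, 5, 4, 1, 0, 2, 0], 25, [463]),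
    ([4, 3, 6, 1, 3, 2, 0, 0, 0], 40, [382]),
    ([5, 1, 0, 6, 2, 1, 4, 0], 21, [951]),
    ([7, 4, 1, 5, 3, 3], 34, [93]),
    ([7, 0, 2, 5, 1, 5, 2, 0], 32, [938]),
    ([6, 5, 3, 2, 5, 1], 26, [441]),
    ([4, 1, 3, 0, 1, 0, 0], 34, [703]),
    ([6, 3, 3, 0, 2, 0, 1], 27, [818]),
    ([2, 4, 2, 1, 6], 34, [463]),
    ([0, 5, 4, 1, 0, 2, 0, 0], 32, [691]),
    ([7, 5, 1, 5, 0, 1, 2, 1, 0, 0, 0], 32, [169]),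
    ([1, 3, 2, 1, 6, 6, 0, 1], 28, [504]),
    ([1, 0, 5, 6, 0, 0, 0], 33, [466]),
    ([6, 2, 6, 0, 2, 1, 0], 64, [239]),
    ([0, 2, 6, 1, 5, 2, 0, 3], 25, [932]),
    ([6, 5, 2, 4, 0, 6, 2], 29, [818]),
    ([7, 2, 3, 3, 0, 1], 42, [572]),
    ([4, 5, 5, 1, 6], 37, [720]),
    ([2, 5, 5, 3, 0, 3, 1, 2], 33, [259]),
    ([2, 0, 2, 5, 3, 1, 3], 41, [0]),
    ([2, 6, 0, 1, 0, 2, 6, 0, 0], 35, [693]),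
    ([0, 1, 4, 1, 3, 0, 2], 21, [359]),
    ([3, 2, 6, 1, 0, 6, 2], 30, [938]),
    ([0, 2, 6, 1, 0, 0, 6, 2, 0, 1], 21, [789]),
    ([3, 6, 0, 1, 2, 0, 1], 36, [632]),
    ([0, 1, 2, 3, 0, 0, 0, 3], 21, [169]),
    ([2, 4, 4, 1, 0, 5, 1, 0], 39, [157]),
    ([2, 4, 1, 4, 2, 7, 1, 0, 0], 23, [332]),
    ([1, 6, 0, 1, 2, 4, 3], 27, [726]),
    ([5, 3, 1, 2, 6, 0, 1, 0], 39, [289]),
    ([0, 1, 2, 4, 1, 5, 2, 3], 24, [559]),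
    ([0, 6, 0, 1, 0, 0, 5], 21, [780]),
    ([7, 2, 1, 4, 0, 6, 0], 44, [316]),
    ([6, 0, 2, 0, 1, 3, 4], 33, [770]),
    ([1, 5, 0, 2, 3, 5, 0], 41, [294]),
    ([0, 3, 2, 7, 4, 1, 0, 0], 22, [770]),
    ([5, 1, 6, 6, 0, 3, 4], 40, [593]),
    ([7, 1, 0, 2, 5, 5], 46, [588]),
    ([0, 2, 1, 6, 4, 2, 0], 27, [353]),
    ([2, 0, 0, 5], 46, [1001]),
    ([5, 5, 1, 3, 0, 2, 1, 0], 36, [169]),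
    ([0, 0, 5, 0, 1, 6, 0], 42, [288]),
    ([5, 6, 2, 1], 22, [421]),
    ([6, 1, 7, 5, 3, 0, 2, 1], 25, [386]),
    ([1, 7, 6, 2, 0, 3, 0, 0, 0], 25, [703]),
    ([4, 1, 5, 5, 2, 0, 1, 2], 29, [353]),
    ([2, 1, 5, 2, 6, 2, 0, 1], 31, [938]),
    ([0, 3, 2, 3, 0, 3, 1, 0], 33, [147]),
    ([0, 2, 4, 0, 7, 5], 41, [938]),
    ([5, 5, 3, 4, 3, 3, 3], 24, [464]),
    ([6, 0, 1, 4, 5], 64, [34]),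
    ([4, 2, 6, 5, 2, 0], 24, [739]),
    ([5, 5, 6, 6, 2, 1, 0], 34, [822]),
    ([0, 7, 2, 1, 6, 0, 3], 31, [425]),
    ([4, 4, 3, 2, 4, 3, 1], 46, [861]),
    ([0, 1, 2, 4, 1, 5, 0, 1, 0], 27, [747]),
    ([2, 6, 0, 5, 4, 0, 0], 31, [294]),
    ([1, 2, 7, 6, 5, 1], 21, [958]),
    ([3, 0, 0, 6, 0, 1, 0, 0], 30, [425]),
    ([5, 0, 3, 3, 2, 4], 26, [39]),
    ([5, 2, 5, 0, 2, 1, 0, 3], 28, [710]),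
    ([1, 0, 5, 6, 3, 5, 2], 29, [747]),
    ([4, 1, 2, 4, 0, 7, 0, 0, 0], 32, [425]),
    ([2, 0, 1, 5, 5, 2, 5, 0], 27, [719]),
    ([1, 7, 0, 2, 6, 6, 1, 0], 35, [193]),
    ([6, 0, 6, 5, 4, 3, 1], 37, [193]),
    ([0, 7, 2, 6, 4, 0, 0], 64, [39]),
    ([4, 2, 4, 1], 30, [951]),
    ([2, 1, 4, 4, 1, 2, 0], 46, [802]),
    ([7, 0, 6, 1, 5, 2, 0], 32, [632]),
    ([7, 3, 5, 5, 1, 0], 38, [722]),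
    ([5, 4, 4, 4, 3, 2, 0], 21, [982]),
    ([4, 3, 2, 4, 4], 21, [770]),
    ([7, 0, 2, 1, 0, 0], 44, [812]),
    ([3, 2, 1, 6, 3, 6, 1, 0], 40, [978]),
    ([5, 2, 4, 3, 3, 3, 0, 1], 39, [812])]

end Cfsg.Lib.LyReal
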