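import Cfsg.Agent.Lib.LyReal.ClosureDefs
import Cfsg.Agent.Lib.LyReal.DataMove30
import Cfsg.Agent.Lib.LyReal.DataMove31
import Cfsg.Agent.Lib.LyReal.DataMove32
import Cfsg.Agent.Lib.LyReal.DataMove33
import Cfsg.Agent.Lib.LyReal.DataMove34

/-!
# Translates of five records
-/

set_option autoImplicit false
set_option maxRecDepth 100000

namespace Cfsg.Lib.LyReal

theorem move30_ok : moveOK 30 moveT30 = true := by decide +kernel

theorem move31_ok : moveOK 31 moveT31 = true := by decide +kernel

theorem move32_ok : moveOK 32 moveT32 = true := by decide +kernel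

theorem move33_ok : moveOK 33 moveT33 = true := by decide +kernel

theorem move34_ok : moveOK 34 moveT34 = true := by decide +kernel

end Cfsg.Lib.LyReal
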