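/-! Generated data: double cosets. -/

set_option autoImplicit false
set_option maxRecDepth 20000

namespace Cfsg.Lib.LyReal

/-- The translates of record 37. -/
def moveT37 : List (List Nat × Nat × List Nat) :=
  [([0, 6, 3, 0, 5, 2, 1, 0, 0, 0], 30, [671]),
    ([6, 1, 0, 5, 3], 21, [253]),
    ([3, 2, 5, 4, 4, 4], 30, [872]),
    ([2, 0, 3, 4, 4, 2, 1], 28, [673]),
    ([2, 5, 1, 4, 3, 2, 1, 0], 36, [671]),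
    ([7, 3, 5, 1, 5, 4], 25, [901]),
    ([6, 1, 3, 2, 4, 0, 3, 1], 30, [19]),
    ([0, 5, 1, 6, 1, 0, 0], 34, [5]),
    ([5, 1, 7, 3, 2, 0, 0], 32, [872]),
    ([0, 1, 3, 2, 1, 4, 0, 1], 37, [8]),
    ([2, 3, 0, 2, 4, 2, 3, 1], 21, [567]),
    ([2, 3, 2, 0, 5, 0], 38, [902]),
    ([0, 2, 5, 1, 5, 6, 3], 21, [103]),
    ([2, 6, 0, 1, 4, 2, 1, 0], 23, [790]),
    ([2, 3, 1, 0, 0, 0, 3, 1], 31, [790]),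
    ([6, 0, 2, 0, 1, 6], 23, [872]),
    ([5, 1, 2, 0, 0, 0, 0], 36, [790]),
    ([5, 2, 5, 1, 0, 2, 3], 27, [737]),
    ([5, 3, 1, 2, 0, 1, 6, 0, 0], 37, [288]),
    ([6, 5, 6, 0, 5, 2, 0, 1], 34, [474]),
    ([0, 6, 0, 2, 3, 1, 2, 0], 28, [801]),
    ([0, 5, 6, 3, 2, 5], 28, [126]),
    ([0, 5, 6, 2, 6, 2, 0], 38, [715]),
    ([0, 2, 7, 6, 1, 6, 2], 31, [631]),
    ([1, 6, 6, 6, 2, 7, 1], 35, [474]),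
    ([6, 0, 2, 4, 0, 2, 1], 33, [618]),
    ([3, 2, 1, 4, 4, 1, 0], 46, [78]),
    ([4, 0, 5, 1, 3, 1, 2], 25, [288]),
    ([1, 2, 3, 0, 5, 1, 3], 32, [19]),
    ([2, 6, 1, 7, 5, 2, 0, 0, 0], 25, [972]),
    ([1, 0, 0, 6, 1, 6, 1, 0, 0], 33, [462]),
    ([0, 3, 1, 0, 0], 28, [733]),
    ([4, 1, 0, 2, 5, 1, 0, 2], 35, [7]),
    ([2, 0, 0, 3, 4, 0, 1], 37, [929]),
    ([2, 6, 5, 6, 1, 0, 0], 34, [77]),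
    ([1, 5, 5, 5, 0, 1, 0], 41, [872]),
    ([0, 5, 2, 0, 0], 45, [5]),
    ([5, 5, 6, 6, 3, 0, 1], 30, [841]),
    ([0, 7, 6, 2, 1, 0, 5, 2, 0, 0], 21, [315]),
    ([0, 0, 6, 4, 2, 4, 0], 37, [512]),
    ([5, 6, 5, 5, 0, 2, 0], 28, [657]),
    ([6, 4, 4, 1, 6, 0], 32, [790]),
    ([2, 7, 1, 0], 43, [874]),
    ([3, 2, 0, 7, 6, 2, 1], 25, [31]),
    ([6, 0, 1, 2, 3, 3, 0, 1], 28, [361]),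
    ([0, 0, 5, 0, 1, 0, 2, 6], 42, [96]),
    ([2, 6, 1, 3, 2, 0, 1, 2], 25, [5]),
    ([3, 2, 0, 2, 4], 45, [1002]),
    ([0, 0, 6, 4, 3, 1, 0], 21, [214]),
    ([4, 0, 6, 1, 6, 2, 0], 42, [404]),
    ([5, 1, 7, 6, 2, 0], 35, [135]),
    ([4, 3, 4, 1, 5, 2, 0, 2], 21, [491]),
    ([0, 7, 2, 6], 64, [688]),
    ([2, 4, 5, 3, 1, 4], 26, [418]),
    ([7, 3, 2, 1, 4, 1, 0], 26, [688]),
    ([5, 4, 1, 4, 1], 37, [474]),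
    ([6, 0, 7, 1, 0, 0, 0], 46, [331]),
    ([2, 5, 1, 6, 0, 7, 2], 64, [418]),
    ([1, 3, 5, 5, 5, 1], 64, [951]),
    ([3, 6, 0, 1, 4, 2, 3], 45, [135]),
    ([1, 2, 0, 3, 1, 0, 0, 0], 28, [241]),
    ([1, 0, 3, 0, 3, 0, 2], 31, [872]),
    ([2, 1, 6, 4, 2, 0, 6, 0], 25, [988]),
    ([1, 3, 1, 0, 5, 4, 1], 25, [116]),
    ([2, 0, 6, 2, 6, 1, 0], 28, [38]),
    ([5, 5, 3, 0, 2, 1, 4], 34, [116]),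
    ([4, 2, 0, 7, 1, 4, 0], 36, [467]),
    ([4, 0, 1, 6, 6, 2, 1], 25, [630]),
    ([4, 0, 1, 3, 6, 2, 0, 1], 28, [945]),
    ([2, 0, 2, 6, 1, 2, 3, 0, 2], 25, [370]),
    ([2, 6, 2, 0, 6, 1, 0, 0], 30, [631]),
    ([1, 6, 4, 0, 7, 6], 40, [639]),
    ([0, 1, 7, 2, 4, 1, 2, 0], 25, [826]),
    ([2, 6, 1, 4, 0, 5], 45, [836]),
    ([0, 6, 2, 1, 6, 1, 2, 1, 0], 25, [463]),
    ([3, 2, 7, 1, 0, 5], 43, [199]),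
    ([1, 2, 0, 3, 1, 3, 2, 1], 23, [841]),
    ([4, 3, 1, 0, 3, 5], 37, [576]),
    ([4, 0, 6, 5, 1, 2, 1, 0], 40, [713]),
    ([5, 0, 2, 1, 0, 5, 0, 0], 33, [391]),
    ([2, 1, 7, 4, 0, 6], 37, [827]),
    ([0, 1, 2, 3, 4, 5, 0, 0], 43, [41]),
    ([5, 0, 0, 5, 0, 6, 1, 0, 0], 28, [710]),
    ([6, 6, 5, 5, 5, 0, 2, 1], 36, [631]),
    ([2, 0, 3, 3, 6, 1, 2, 0, 0, 0], 32, [841]),
    ([1, 2, 4, 1, 0, 0, 6], 25, [474]),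
    ([5, 5, 5, 5, 0, 2, 0], 28, [113]),
    ([5, 3, 5, 0, 6, 3, 2, 0], 27, [938]),
    ([1, 0, 6, 6, 1, 6, 0], 35, [8]),
    ([6, 6, 1, 0, 2, 1, 0], 42, [592]),
    ([6, 1, 0, 2, 5, 5, 1], 22, [462]),
    ([0, 3, 2, 1, 0, 2, 0], 35, [836]),
    ([6, 2, 0, 7, 3, 2, 6], 34, [288]),
    ([1, 2, 5, 2, 0, 5, 0, 1], 32, [671]),
    ([3, 2, 0, 1, 4, 5, 2, 0], 34, [972]),
    ([5, 2, 5, 6, 2, 0], 23, [631]),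
    ([3, 4, 2, 4, 1, 2, 0], 27, [373]),
    ([6, 5, 5, 4, 0, 2, 0, 1], 28, [719]),
    ([4, 0, 1, 2, 3, 1, 3, 1, 0], 28, [861]),
    ([1, 2, 1, 4, 4, 1, 0], 25, [206]),
    ([2, 3, 6, 3, 1, 0, 0, 0], 32, [467]),
    ([1, 6, 2, 0, 6, 6, 1, 2], 28, [759]),
    ([2, 0, 1, 4, 5, 2, 0, 1, 0, 0], 25, [827]),
    ([0, 2, 1, 4, 0, 2, 1, 4, 1], 37, [129]),
    ([2, 4, 2, 5, 0, 2], 35, [988]),
    ([2, 0, 2, 1, 6, 5], 27, [402]),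
    ([0, 1, 2, 1, 5, 6, 1], 37, [988]),
    ([2, 5, 2, 0, 0, 3, 4, 0], 34, [7]),
    ([5, 3, 1, 2, 0, 2, 6], 21, [698]),
    ([7, 4, 0, 2, 5, 0], 28, [659]),
    ([0, 1, 3, 0, 2, 5, 2], 25, [715]),
    ([1, 6, 1, 0, 3, 1, 0, 0], 30, [790]),
    ([1, 3, 0, 5, 2, 5, 0, 1], 25, [77]),
    ([3, 6, 2, 4, 0, 2, 1], 41, [631]),
    ([1, 5, 0, 6, 2, 4, 0], 32, [631]),
    ([6, 1, 2, 1, 0, 3, 1, 2, 1], 40, [727]),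
    ([1, 0, 7, 5, 2, 6, 0, 1, 0], 28, [760]),
    ([2, 6, 0, 7, 1, 6, 2], 35, [299]),
    ([3, 3, 3, 3, 5], 45, [299]),
    ([0, 6, 4, 1, 4, 3, 0], 25, [817]),
    ([6, 0, 6, 5, 5, 3], 28, [908]),
    ([6, 1, 6, 6, 1, 2, 1], 42, [337]),
    ([1, 6, 3, 2, 3, 1], 28, [620]),
    ([2, 0, 6, 2, 5, 4, 3, 0], 30, [467]),
    ([0, 1, 2, 5, 2, 5, 2, 1], 29, [938]),
    ([2, 6, 0, 0, 0, 6, 1, 2], 35, [129]),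
    ([2, 5, 1, 6, 1, 3], 35, [1002]),
    ([2, 4, 2, 1, 4, 5, 0, 0], 34, [826]),
    ([0, 3, 0, 1, 5, 2, 5, 1], 28, [868]),
    ([4, 3, 3, 0, 5, 0, 2, 0], 25, [0]),
    ([4, 4, 3, 4, 1, 5, 2], 21, [898]),
    ([7, 0, 2, 0, 5, 0, 1, 4, 0], 31, [841]),
    ([7, 6, 0, 6, 1, 2, 0, 0], 22, [618]),
    ([5, 5, 1, 2, 6, 1, 2, 0], 22, [391]),
    ([2, 6, 4, 1, 2, 0], 28, [504]),
    ([5, 0, 2, 4, 5, 2], 34, [0]),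
    ([5, 5, 0, 1, 5, 2, 1], 29, [373]),
    ([6, 2, 5, 4, 1, 0, 0, 0], 43, [597]),
    ([7, 5, 0, 1, 6, 6, 0], 35, [370]),
    ([1, 2, 6, 6, 4], 37, [94]),
    ([1, 4, 3, 5, 0, 0, 0], 40, [889]),
    ([4, 1, 0, 0, 6, 4], 34, [630]),
    ([4, 3, 2, 7, 5, 1, 0], 22, [280]),
    ([5, 0, 2, 4, 0, 7, 1, 2, 0], 25, [931]),
    ([2, 0, 5, 1, 4, 0, 3], 29, [737]),
    ([5, 6, 2, 0, 1, 2, 0, 5, 0], 29, [402]),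
    ([2, 4, 1, 0, 3, 1, 4, 0, 0], 33, [280]),
    ([5, 1, 0, 2, 4, 5, 1], 32, [34]),
    ([6, 6, 0, 6, 6, 2, 4], 25, [7]),
    ([2, 4, 1, 6, 5, 4, 0], 30, [34])]

end Cfsg.Lib.LyReal
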