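/-! Generated data: double cosets. -/

set_option autoImplicit false
set_option maxRecDepth 20000

namespace Cfsg.Lib.LyReal

/-- The translates of record 38. -/
def moveT38 : List (List Nat × Nat × List Nat) :=
  [([3, 2, 0, 2, 5, 3, 3, 0], 40, [547]),
    ([1, 3, 2, 1, 5, 2, 0, 1], 44, [110]),
    ([6, 5, 1, 2, 4, 0], 22, [122]),
    ([0, 5, 1, 5, 1, 0], 43, [597]),
    ([5, 0, 1, 2, 5, 0, 5, 1], 22, [311]),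
    ([0, 1, 3, 5, 2, 0, 6, 1, 0], 33, [635]),
    ([5, 0, 6, 1, 4, 2, 3], 27, [571]),
    ([3, 3, 2, 3, 1, 3], 32, [62]),
    ([3, 1, 0, 2, 4, 1, 2], 40, [236]),
    ([3, 6, 1, 0, 2, 3, 0, 1], 39, [149]),
    ([7, 1, 0, 5, 5, 2, 5], 24, [361]),
    ([1, 3, 1, 2, 5, 2, 0], 25, [874]),
    ([1, 5, 0, 1, 0, 0, 5], 39, [110]),
    ([0, 1, 2, 0, 5, 6, 4, 1, 0, 0, 0], 33, [86]),
    ([2, 0, 3, 2, 3, 6, 1], 40, [984]),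
    ([6, 4, 0, 2, 0, 6, 0], 27, [809]),
    ([0, 2, 0, 5, 1, 4, 0, 2, 0], 27, [47]),
    ([4, 1, 0, 6, 1, 6], 32, [963]),
    ([3, 4, 2, 4, 5], 35, [8]),
    ([2, 0, 2, 4, 2, 6, 0], 35, [715]),
    ([5, 1, 2, 6, 2, 0, 2, 1], 43, [812]),
    ([7, 6, 0, 2, 6, 6], 27, [236]),
    ([6, 1, 0, 5, 1, 0], 26, [491]),
    ([1, 6, 6, 2, 7, 4, 0], 23, [548]),
    ([1, 2, 5, 0, 1, 0, 5, 2, 1], 21, [253]),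
    ([1, 0, 2, 3, 4, 5, 0, 0], 22, [213]),
    ([0, 1, 0, 5, 2, 1, 4, 0], 39, [722]),
    ([2, 5, 4, 1, 6, 3], 42, [337]),
    ([0, 2, 5, 2, 1, 0, 0, 6, 0], 29, [571]),
    ([1, 4, 2, 0, 1, 4, 2], 40, [47]),
    ([3, 4, 5, 2, 0, 6, 1, 2], 30, [916]),
    ([5, 2, 6, 5, 3, 0], 21, [157]),
    ([4, 1, 6, 6, 2, 5, 0, 0], 44, [617]),
    ([0, 1, 0, 3, 0, 5, 2, 0, 0], 24, [612]),
    ([3, 3, 2, 6, 3], 21, [305]),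
    ([0, 7, 5, 3, 2, 6, 1, 0], 22, [86]),
    ([0, 7, 2, 4, 3, 0, 1], 36, [527]),
    ([6, 6, 0, 1, 2, 7], 40, [762]),
    ([0, 2, 5, 1, 5, 0, 6], 28, [551]),
    ([1, 4, 4, 4], 24, [276]),
    ([6, 3, 2, 3, 3, 0, 2, 1], 36, [62]),
    ([5, 2, 3, 1, 4, 0, 2, 0], 33, [122]),
    ([6, 2, 7, 1, 0, 6, 1, 2, 0], 28, [584]),
    ([6, 0, 1, 2, 7, 6, 0], 31, [375]),
    ([3, 2, 0, 6, 3, 1, 2], 46, [180]),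
    ([0, 5, 0, 6, 3], 26, [137]),
    ([6, 2, 4, 0, 3, 6, 0, 1], 30, [996]),
    ([1, 3, 0, 0], 24, [504]),
    ([0, 0, 7, 5, 1, 0, 2], 24, [165]),
    ([6, 2, 3, 0, 3, 4, 1, 2], 28, [477]),
    ([7, 6, 0, 0, 5, 1, 0], 21, [567]),
    ([4, 0, 0, 6, 5, 0], 25, [863]),
    ([1, 4, 4, 5, 1], 40, [247]),
    ([0, 5, 2, 6, 2, 0, 0, 0], 27, [232]),
    ([0, 3, 2, 1, 4, 3, 2, 0, 1, 0], 22, [625]),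
    ([4, 5, 1, 3, 2, 1], 46, [189]),
    ([7, 2, 0, 2, 6, 1, 5], 34, [41]),
    ([2, 6, 2, 0, 6, 0, 1, 0], 33, [625]),
    ([3, 2, 0, 7], 29, [232]),
    ([0, 2, 6, 1, 6, 4], 21, [214]),
    ([0, 2, 1, 4, 3, 0, 3, 0], 29, [236]),
    ([6, 2, 0, 1, 0, 6, 0], 29, [809]),
    ([5, 1, 4, 3, 0, 2], 30, [62]),
    ([6, 0, 5, 2, 1, 0], 21, [823]),
    ([1, 2, 1, 6, 2, 3, 2, 1], 39, [857]),
    ([1, 3, 2, 3, 6, 1, 0, 0, 0, 0], 21, [79]),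
    ([7, 2, 3, 1, 2, 3, 0, 1, 0, 0], 32, [380]),
    ([1, 2, 3, 3, 0, 5, 1, 0, 0], 24, [459]),
    ([0, 2, 1, 6, 4, 2, 0, 0, 0], 21, [698]),
    ([0, 5, 5, 3, 4], 42, [96]),
    ([0, 2, 0, 6, 5, 0, 6, 1], 33, [366]),
    ([7, 2, 0, 5, 3, 2], 21, [972]),
    ([0, 1, 0, 5, 2, 6, 0, 1], 23, [484]),
    ([5, 3, 4, 3, 3, 0], 45, [902]),
    ([3, 5, 5, 5, 0], 45, [715]),
    ([6, 2, 4, 5, 4, 1], 64, [1001]),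
    ([0, 6, 0, 7, 3, 1, 0, 0], 23, [816]),
    ([4, 4, 1, 4, 0, 3, 2, 0], 21, [103]),
    ([3, 3, 4, 1, 2, 1, 0], 40, [809]),
    ([0, 1, 5, 0, 7, 0, 0, 0], 22, [25]),
    ([0, 2, 7, 1, 5, 0, 1], 24, [943]),
    ([0, 2, 7, 0, 1, 0, 5, 2, 1], 25, [605]),
    ([1, 3, 0, 1, 4, 2, 1], 35, [77]),
    ([1, 6, 5, 6, 2, 6, 0, 1], 27, [933]),
    ([4, 5, 3, 3, 2, 3], 22, [366]),
    ([2, 0, 7, 5, 0, 0], 37, [817]),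
    ([4, 4, 1, 7, 5, 0], 21, [491]),
    ([0, 2, 1, 5, 2, 0, 1, 4], 29, [426]),
    ([4, 1, 6, 4, 2, 0], 44, [325]),
    ([0, 2, 3, 0, 5, 5, 3], 34, [874]),
    ([4, 3, 0, 1, 0, 2, 6], 32, [916]),
    ([1, 2, 5, 1, 6, 0, 0, 0], 35, [1002]),
    ([1, 6, 1, 5, 5], 38, [715]),
    ([0, 2, 5, 5, 1, 5, 0, 2, 0, 0], 33, [311]),
    ([6, 1, 7, 0, 5, 1, 2, 0, 1], 22, [635]),
    ([0, 2, 7, 3, 0, 1, 4], 31, [816]),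
    ([5, 1, 7, 2, 3, 1], 27, [984]),
    ([0, 3, 1, 0, 7, 3, 2], 21, [445]),
    ([5, 2, 4, 1, 0], 24, [198]),
    ([5, 0, 5, 4, 4, 2, 0], 46, [568]),
    ([0, 0, 6, 5, 0, 2, 4, 1, 0], 30, [380]),
    ([0, 0, 5, 2, 0, 3], 32, [996]),
    ([2, 6, 1, 4, 4, 2, 1, 0], 21, [562]),
    ([3, 4, 1, 3, 0, 1, 2], 32, [899]),
    ([0, 2, 4, 4, 5, 3, 1, 0], 30, [899]),
    ([2, 3, 2, 0, 5, 1, 0, 0, 0], 21, [803]),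
    ([1, 5, 6, 0, 2, 4, 1, 2, 0], 32, [527]),
    ([0, 1, 4, 2, 1, 6, 1, 0], 21, [244]),
    ([7, 1, 6, 1, 6, 1, 0, 2], 28, [347]),
    ([6, 0, 1, 2, 3, 0, 1, 0, 0, 0], 21, [35]),
    ([1, 3, 2, 6, 4, 4], 21, [315]),
    ([2, 0, 1, 7, 0, 6, 0], 29, [47]),
    ([1, 2, 1, 6, 1, 5, 4], 46, [570]),
    ([6, 6, 6, 4, 2, 1], 31, [548]),
    ([7, 6, 1, 4, 0, 1], 29, [933]),
    ([0, 1, 6, 2, 0, 0, 5, 0], 30, [963]),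
    ([0, 2, 0, 1, 4, 3, 3], 21, [116]),
    ([4, 0, 2, 0, 5, 0, 3, 1], 39, [82]),
    ([0, 1, 6, 1, 2, 5, 1, 2, 0], 39, [617]),
    ([0, 3, 0, 1, 2, 6, 2, 0, 0], 21, [84]),
    ([5, 1, 6, 2, 1, 4, 2, 0, 0], 31, [484]),
    ([1, 0, 3, 5, 3, 0, 0], 64, [567]),
    ([2, 0, 1, 7, 5, 0, 5], 23, [375]),
    ([3, 6, 4, 0, 2, 0, 3], 36, [380]),
    ([7, 0, 2, 0, 1, 0], 40, [797]),
    ([0, 5, 1, 0, 0, 0, 3, 2], 30, [527]),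
    ([7, 4, 1, 5, 2, 1], 39, [325]),
    ([6, 1, 6, 2, 7, 0, 1, 0], 41, [375]),
    ([3, 3, 6, 1, 2, 1, 0], 21, [190]),
    ([4, 0, 6, 0, 0, 6, 2], 46, [679]),
    ([6, 1, 7, 6, 2, 3, 0, 1, 0], 25, [41]),
    ([5, 2, 5, 1, 5, 0, 0], 41, [548]),
    ([1, 6, 0, 2, 4, 2, 1, 0, 0], 33, [213]),
    ([5, 2, 5, 6, 0, 1, 4], 33, [25]),
    ([1, 2, 7, 5, 0, 1, 0, 2, 0, 0], 37, [715]),
    ([5, 1, 6, 4, 2, 6], 21, [898]),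
    ([0, 3, 5, 2, 3, 1, 5], 29, [984]),
    ([2, 7, 4, 0, 1, 3, 0], 64, [954]),
    ([0, 6, 5, 2, 7, 5], 37, [512]),
    ([1, 6, 2, 0, 1, 6, 2, 0, 0, 0], 37, [8]),
    ([6, 2, 1, 5, 0, 5], 27, [426]),
    ([1, 6, 4, 2, 5, 0, 2], 39, [810]),
    ([7, 0, 2, 0, 5, 0, 1, 2], 21, [949]),
    ([5, 0, 2, 5, 6, 6, 1], 44, [857]),
    ([4, 1, 5, 2, 0, 1, 4, 0], 36, [963]),
    ([5, 5, 3, 3, 2, 0, 2, 1], 21, [364]),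
    ([7, 5, 1, 6, 5], 46, [355]),
    ([0, 6, 2, 0, 3, 0, 2], 30, [42]),
    ([0, 1, 2, 0, 5, 3, 5, 1, 0, 0], 21, [93]),
    ([4, 5, 1, 3, 1, 2, 0], 32, [42])]

end Cfsg.Lib.LyReal
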