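import Cfsg.Agent.Lib.LyReal.ClosureDefs
import Cfsg.Agent.Lib.LyReal.DataMove35
import Cfsg.Agent.Lib.LyReal.DataMove36
import Cfsg.Agent.Lib.LyReal.DataMove37
import Cfsg.Agent.Lib.LyReal.DataMove38
import Cfsg.Agent.Lib.LyReal.DataMove39

/-!
# Translates of five records
-/

set_option autoImplicit false
set_option maxRecDepth 100000

namespace Cfsg.Lib.LyReal

theorem move35_ok : moveOK 35 moveT35 = true := by decide +kernel

theorem move36_ok : moveOK 36 moveT36 = true := by decide +kernel

theorem move37_ok : moveOK 37 moveT37 = true := by decide +kernel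

theorem move38_ok : moveOK 38 moveT38 = true := by decide +kernel

theorem move39_ok : moveOK 39 moveT39 = true := by decide +kernel

end Cfsg.Lib.LyReal
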