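/-! Generated data: double cosets. -/

set_option autoImplicit false
set_option maxRecDepth 20000

namespace Cfsg.Lib.LyReal

/-- The translates of record 40. -/
def moveT40 : List (List Nat × Nat × List Nat) :=
  [([7, 0, 1, 2, 6, 5], 40, [672]),
    ([4, 2, 4, 0, 3, 4, 1, 3], 27, [161]),
    ([5, 6, 6, 2, 6, 0], 22, [675]),
    ([4, 0, 2, 1, 6, 4, 4], 29, [40]),
    ([7, 5, 3, 5, 0, 1, 0], 29, [58]),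
    ([3, 3, 1, 0, 7, 5, 3], 29, [313]),
    ([3, 0, 5, 6, 0, 6, 2], 22, [786]),
    ([1, 3, 1, 2, 1, 0, 6], 32, [679]),
    ([0, 1, 6, 2, 0, 5, 4], 40, [275]),
    ([1, 0, 6, 2, 1, 6, 0, 0, 0], 24, [829]),
    ([0, 7, 5, 1, 6, 2, 0], 22, [336]),
    ([0, 3, 4, 3, 2, 1, 6], 23, [994]),
    ([0, 1, 0, 6, 0, 3, 2, 0, 1], 29, [161]),
    ([3, 4, 3, 3, 2, 1, 0], 46, [119]),
    ([0, 1, 3, 6, 4, 0, 2, 0], 21, [323]),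
    ([2, 5, 2, 5, 6], 21, [261]),
    ([0, 0, 3, 0, 2, 5, 1, 2], 27, [736]),
    ([0, 1, 2, 4, 0, 6, 3, 0, 0], 33, [275]),
    ([7, 0, 1, 6, 6], 43, [616]),
    ([3, 1, 7, 2], 29, [880]),
    ([0, 1, 2, 7, 5, 2, 0, 2, 1], 40, [456]),
    ([1, 3, 3, 3, 5, 2, 0], 22, [385]),
    ([2, 0, 1, 0, 0, 6, 0, 6, 2], 30, [723]),
    ([2, 3, 0, 1, 5, 0, 3], 27, [145]),
    ([2, 5, 1, 6, 6], 41, [429]),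
    ([2, 0, 0, 6, 2, 5, 2], 22, [437]),
    ([2, 0, 1, 4, 0, 3, 0, 0], 40, [24]),
    ([0, 2, 6, 6, 3, 6], 33, [484]),
    ([1, 2, 7, 5, 1, 5, 1, 0, 0], 33, [786]),
    ([6, 6, 5, 6, 2, 5], 40, [860]),
    ([3, 2, 7, 5, 1, 0, 2, 1], 29, [802]),
    ([0, 3, 1], 37, [200]),
    ([1, 6, 1, 2, 4, 1, 2, 0, 0], 28, [759]),
    ([0, 1, 3, 4, 5, 0, 0], 25, [5]),
    ([4, 0, 2, 4, 1, 4], 45, [153]),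
    ([1, 7, 0, 2, 0, 0, 5, 1], 21, [652]),
    ([0, 2, 5, 1, 6, 2, 0, 2, 1], 22, [143]),
    ([0, 1, 0, 2, 1, 4, 0, 0], 33, [998]),
    ([0, 6, 6, 2, 1, 0, 2], 25, [803]),
    ([0, 2, 6, 0, 0, 6, 1], 24, [761]),
    ([2, 1, 5, 4, 0, 2, 6, 2], 30, [679]),
    ([2, 3, 3, 3, 0, 3, 2, 0], 29, [736]),
    ([0, 1, 3, 0, 1, 3, 1], 31, [282]),
    ([0, 7, 4, 1, 0, 2, 1, 0, 0], 43, [174]),
    ([5, 5, 4, 1, 0, 2, 0, 0], 25, [967]),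
    ([4, 2, 4, 3, 6, 4], 32, [411]),
    ([5, 5, 2, 6, 5, 6, 1, 0], 30, [817]),
    ([0, 0, 0, 0, 6, 0], 39, [437]),
    ([6, 0, 7, 6, 6, 1, 2], 33, [336]),
    ([6, 4, 2, 0, 7, 6, 1], 31, [994]),
    ([3, 3, 1, 0, 6, 2], 23, [429]),
    ([2, 1, 6, 3, 6, 0], 25, [377]),
    ([1, 4, 2, 6, 0], 19, [858]),
    ([5, 1, 6, 4, 2, 1, 0], 20, [726]),
    ([7, 6, 2, 1, 6], 19, [546]),
    ([5, 1, 0, 5, 2, 7, 1, 0], 31, [936]),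
    ([0, 6, 5, 0, 5, 0, 0, 0, 0], 34, [377]),
    ([6, 0, 5, 3, 6, 1], 19, [553]),
    ([3, 2, 3, 0, 1, 4], 7, [35]),
    ([1, 3, 3, 6, 3, 3], 23, [936]),
    ([1, 2, 4, 0, 2, 3, 1, 3], 33, [385]),
    ([2, 1, 0, 7, 6, 4, 0, 0], 21, [128]),
    ([4, 0, 6, 3, 2, 6, 1, 0], 36, [679]),
    ([0, 3, 1, 0, 2, 5, 4, 0], 36, [452]),
    ([1, 5, 4, 3, 0], 31, [678]),
    ([2, 6, 1, 2, 4, 5, 1, 0], 32, [327]),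
    ([7, 2, 0, 0, 0, 3], 34, [532]),
    ([1, 6, 6, 3, 2, 4, 0], 41, [678]),
    ([2, 7, 4, 4, 1, 0, 3], 40, [155]),
    ([7, 6, 5, 5, 0, 1, 0], 27, [40]),
    ([1, 0, 2, 5, 5, 1, 3, 1], 27, [462]),
    ([1, 3, 4, 1, 5, 2], 44, [292]),
    ([3, 4, 2, 1, 4, 3], 38, [199]),
    ([1, 5, 2, 6, 5, 0, 0], 43, [10]),
    ([1, 7, 0, 2, 5, 1, 2, 0], 33, [619]),
    ([3, 3, 2, 1, 4, 0, 3], 36, [411]),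
    ([3, 4, 0, 1, 0, 0], 33, [959]),
    ([0, 2, 7, 1, 4, 1, 2], 31, [429]),
    ([3, 1, 3, 2, 3, 3, 0, 1], 40, [909]),
    ([0, 0, 6, 0, 0, 3, 3, 0], 31, [181]),
    ([2, 7, 0, 5, 1, 0, 0, 0], 25, [988]),
    ([0, 7, 2, 6, 1, 0], 41, [994]),
    ([5, 4, 0, 1, 3, 1, 2], 27, [880]),
    ([1, 0, 2, 4, 5, 1, 4], 29, [462]),
    ([0, 2, 4, 0, 1, 4, 5], 40, [689]),
    ([0, 1, 0, 3, 1, 3, 0, 0, 0], 22, [619]),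
    ([4, 0, 5, 6, 2, 3, 1], 33, [359]),
    ([2, 0, 1, 6, 2, 0, 6, 0], 23, [181]),
    ([5, 0, 1, 7, 4, 0, 2, 0, 1], 39, [907]),
    ([3, 0, 0, 3, 2, 6, 0], 23, [282]),
    ([4, 1, 5, 0, 2, 0, 1], 40, [138]),
    ([4, 0, 3, 6, 1], 38, [386]),
    ([7, 6, 6, 3, 1, 0, 2], 22, [484]),
    ([0, 0, 3, 1, 2, 0, 1, 4], 27, [58]),
    ([3, 4, 1, 5, 2, 1, 0, 0], 27, [313]),
    ([5, 4, 5, 1, 2, 0, 1, 0, 0, 0], 40, [523]),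
    ([2, 0, 6, 5, 4, 1, 5, 3], 33, [437]),
    ([1, 0, 2, 6, 6, 0], 30, [327]),
    ([6, 0, 3, 1, 2, 1, 0], 23, [678]),
    ([5, 0, 1, 6, 3, 3, 3], 32, [452]),
    ([7, 1, 2, 0, 2, 6, 5], 25, [532]),
    ([5, 4, 0, 1, 3, 3, 2], 32, [817]),
    ([2, 3, 6, 1, 4, 4, 1], 25, [265]),
    ([0, 6, 2, 6, 1, 7, 0, 0, 0], 33, [143]),
    ([0, 2, 6, 2, 0, 6, 1, 0], 40, [692]),
    ([6, 6, 5, 0, 2, 5, 0, 1], 39, [292]),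
    ([0, 1, 0, 0, 0, 6, 3, 0], 27, [687]),
    ([2, 6, 1, 7, 0, 0], 28, [851]),
    ([1, 6, 1, 2, 1, 0, 3, 0, 0], 28, [411]),
    ([6, 0, 2, 4, 0, 1, 2, 1], 34, [265]),
    ([7, 6, 5, 2, 3], 22, [359]),
    ([2, 4, 0, 5, 4, 5, 2, 1], 33, [675]),
    ([4, 0, 6, 1, 5, 6, 2], 35, [935]),
    ([0, 1, 2, 4, 0, 0, 5, 0, 1, 0], 22, [959]),
    ([0, 1, 6, 1, 2, 4], 22, [998]),
    ([2, 4, 1, 4, 0, 7, 2, 1], 27, [802]),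
    ([7, 2, 1, 4, 2, 0, 1], 35, [335]),
    ([7, 0, 5, 3, 2, 1, 6], 34, [5]),
    ([4, 1, 4, 0, 0, 5, 1, 0], 28, [657]),
    ([0, 3, 2, 7, 6, 1, 0], 37, [935]),
    ([1, 2, 4, 0, 1, 5, 3], 42, [762]),
    ([5, 0, 1, 0, 0, 5, 0, 1, 0], 32, [723]),
    ([5, 6, 0, 2, 1, 0, 0], 43, [804]),
    ([6, 1, 5, 2, 3, 0, 2], 28, [581]),
    ([1, 2, 3, 2, 6, 6], 23, [667]),
    ([2, 1, 0, 5, 1, 2, 3, 2], 29, [687]),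
    ([0, 5, 4, 3, 1, 5, 0, 2], 44, [907]),
    ([6, 0, 1, 3], 42, [373]),
    ([1, 6, 2, 0, 2, 4, 1], 30, [452]),
    ([2, 4, 1, 4, 2, 5, 0, 0], 29, [600]),
    ([1, 3, 2, 3, 5], 28, [712]),
    ([1, 5, 0, 6, 0, 1], 29, [145]),
    ([7, 2, 3, 1, 3, 2], 29, [131]),
    ([7, 5, 5, 0, 2, 0, 1], 41, [181]),
    ([3, 2, 0, 2, 4, 1, 5], 40, [315]),
    ([2, 5, 6, 3, 1, 0, 0, 0], 27, [600]),
    ([1, 2, 6, 0, 5, 1, 2, 1, 0], 27, [131]),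
    ([6, 5, 2, 0, 2, 6, 1, 0], 30, [411]),
    ([1, 5, 1, 5, 0, 1, 0, 2, 1], 42, [11]),
    ([0, 1, 7, 6, 4, 2, 0, 0], 42, [748]),
    ([5, 2, 7, 1, 0, 2, 3, 3, 1], 31, [667]),
    ([2, 0, 1, 6, 6, 1, 4], 31, [258]),
    ([0, 5, 3, 3, 1, 2, 3, 1], 39, [980]),
    ([1, 6, 0, 1, 0, 6, 2, 0, 1, 0], 23, [258]),
    ([0, 1, 6, 2, 7, 5, 1, 0, 0, 0], 22, [275]),
    ([5, 1, 7, 3, 0], 24, [413]),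
    ([6, 0, 2, 5, 3, 0, 1], 24, [666]),
    ([6, 3, 1, 3, 0, 3, 2, 1], 28, [452]),
    ([1, 2, 5, 6, 0, 6, 1, 2, 0], 28, [90]),
    ([4, 1, 2, 4, 3, 0, 1, 0, 0], 25, [80])]

end Cfsg.Lib.LyReal
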