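/-! Generated data: double cosets. -/

set_option autoImplicit false
set_option maxRecDepth 20000

namespace Cfsg.Lib.LyReal

/-- The translates of record 41. -/
def moveT41 : List (List Nat × Nat × List Nat) :=
  [([3, 0, 0, 3, 4, 1, 0], 36, [189]),
    ([1, 6, 2, 5, 1, 3, 0, 1, 0], 23, [259]),
    ([2, 0, 2, 6, 0, 2, 0], 33, [844]),
    ([1, 2, 3, 2, 3, 4, 2, 1], 44, [3]),
    ([0, 7, 4, 4, 4, 1, 3], 30, [189]),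
    ([1, 2, 3, 0, 3, 1, 0], 26, [71]),
    ([6, 2, 7, 0, 6, 1], 32, [0]),
    ([4, 5, 0, 0, 5, 3, 0], 29, [455]),
    ([2, 0, 5, 4, 0, 3, 0, 1], 29, [704]),
    ([7, 7, 0, 6, 0, 3], 39, [323]),
    ([0, 5, 0, 0, 5, 3, 0], 31, [601]),
    ([3, 0, 2, 6, 2, 7, 0], 23, [931]),
    ([6, 6, 4, 0, 6, 1, 0], 41, [259]),
    ([7, 0, 2, 0, 3, 0, 1], 33, [610]),
    ([7, 1, 5, 0, 2, 0, 6, 1], 29, [661]),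
    ([0, 1, 5, 4, 5, 4], 22, [610]),
    ([0, 2, 3, 3, 4, 4, 1, 0], 22, [844]),
    ([3, 2, 5, 1, 6, 0, 1, 0], 30, [61]),
    ([2, 4, 1, 5, 0, 2, 4], 23, [3]),
    ([0, 2, 5, 2, 1, 4, 0, 0, 0], 24, [50]),
    ([3, 5, 2, 1, 6, 0, 2], 24, [999]),
    ([3, 5, 2, 6], 64, [243]),
    ([6, 6, 6, 0, 7, 2], 24, [503]),
    ([0, 2, 5, 3, 0, 1, 4, 0], 40, [289]),
    ([7, 4, 2, 3, 4, 0], 24, [143]),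
    ([7, 0, 2, 5, 6, 0, 1, 6], 23, [425]),
    ([6, 5, 0, 6, 3, 6, 2, 0], 23, [601]),
    ([6, 2, 6, 0, 2, 3, 1, 0], 24, [365]),
    ([7, 6, 5, 5, 0, 1, 2, 1, 0], 32, [189]),
    ([3, 2, 7, 6, 3, 3, 0], 26, [39]),
    ([4, 3, 6, 2, 4, 0], 30, [709]),
    ([3, 2, 7, 3, 1, 0, 0], 24, [64]),
    ([1, 2, 5, 1, 2, 5, 1, 2], 25, [622]),
    ([0, 2, 4, 0, 6, 0, 3, 1], 28, [110]),
    ([3, 0, 5, 6, 3, 3], 44, [253]),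
    ([1, 2, 0, 6, 6, 1, 6], 40, [511]),
    ([2, 6, 1, 5, 4, 0, 2, 0], 30, [84]),
    ([3, 2, 0, 0, 5, 0, 1, 2], 22, [164]),
    ([2, 6, 3, 6, 6, 3], 39, [662]),
    ([5, 2, 1, 0, 3, 3, 5, 2], 39, [601]),
    ([1, 6, 4, 0, 2, 3, 3, 0], 22, [460]),
    ([6, 3, 0, 1, 4, 0, 2, 1], 40, [740]),
    ([6, 6, 6, 2, 6, 1, 0, 2], 31, [931]),
    ([7, 0, 3, 0, 1, 2, 0, 0], 32, [425]),
    ([2, 7, 5, 4, 4, 1], 22, [18]),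
    ([5, 2, 1, 0, 7, 2], 39, [189]),
    ([2, 0, 5, 5, 3, 3, 2], 33, [460]),
    ([1, 5, 0, 6, 1, 0], 24, [927]),
    ([0, 2, 0, 1, 3, 2, 0, 3], 31, [259]),
    ([0, 0, 5, 2, 7, 1, 6, 2, 0], 23, [662]),
    ([6, 2, 0, 0, 6, 1, 0, 2], 39, [0]),
    ([7, 0, 1, 5, 0, 1, 0, 2, 1], 24, [399]),
    ([4, 0, 7, 0, 3, 0, 0], 42, [181]),
    ([1, 6, 2, 1, 7, 0, 3], 38, [331]),
    ([4, 3, 5, 0, 2, 0], 43, [744]),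
    ([2, 1, 4, 0, 6, 0, 3, 2, 0], 24, [826]),
    ([7, 5, 3, 0, 1, 0, 2, 1], 24, [987]),
    ([0, 2, 7, 6, 5, 1, 2, 0], 43, [139]),
    ([7, 0, 1, 4, 4, 3], 42, [664]),
    ([3, 3, 4, 1, 4, 2, 1], 44, [0]),
    ([2, 3, 2, 0, 6, 4, 2], 64, [47]),
    ([1, 4, 1, 5, 5, 3], 27, [661]),
    ([3, 4, 0, 5, 3, 2, 0, 0], 40, [606]),
    ([2, 1, 0, 5, 5, 3, 0, 0, 0, 0], 33, [845]),
    ([3, 0, 1, 5, 0, 6, 4, 2], 39, [490]),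
    ([4, 5, 4, 4, 1, 2, 0], 40, [957]),
    ([0, 3, 0, 1, 2, 6, 0, 0], 25, [155]),
    ([1, 0, 2, 4, 1, 3, 2, 3], 44, [490]),
    ([5, 5, 4, 1, 3, 2, 1, 0], 31, [68]),
    ([5, 5, 2, 5, 1, 2, 0], 39, [3]),
    ([0, 7, 6, 4, 2, 0, 5], 40, [390]),
    ([6, 2, 0, 7, 3, 2, 1, 0], 40, [369]),
    ([5, 2, 0, 6, 2, 5, 1], 30, [938]),
    ([5, 0, 1, 3, 4, 0, 2, 0], 41, [3]),
    ([5, 0, 6, 3, 3, 2], 44, [12]),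
    ([0, 0, 3, 3, 4], 39, [423]),
    ([2, 4, 1, 2, 3, 2, 3, 0], 27, [459]),
    ([2, 1, 4, 1, 7, 2, 0, 0], 39, [824]),
    ([0, 3, 3, 0, 2, 7, 0, 1, 0], 31, [938]),
    ([1, 7, 5, 5, 5, 1, 0], 37, [416]),
    ([6, 0, 0, 3, 1, 0], 25, [857]),
    ([4, 5, 2, 5, 1, 2, 0, 1, 0], 31, [662]),
    ([6, 0, 5, 6, 1, 0, 2, 0], 39, [847]),
    ([4, 0, 6, 3, 2, 6], 33, [164]),
    ([0, 0, 5, 1, 7, 4, 0, 0, 0], 29, [11]),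
    ([5, 2, 5, 1, 5, 1, 0, 0], 39, [12]),
    ([6, 0, 5, 3, 1, 0, 0, 0, 0], 23, [12]),
    ([0, 0, 3, 0, 2, 1, 4, 2, 0], 35, [416]),
    ([6, 1, 4, 1, 4], 44, [323]),
    ([4, 0, 0, 5, 3], 41, [662]),
    ([2, 0, 5, 1, 0, 6], 32, [61]),
    ([4, 0, 1, 7, 5, 0, 2, 1], 31, [466]),
    ([0, 5, 1, 2, 6, 0, 6, 0], 39, [874]),
    ([3, 0, 5, 4, 3, 2, 0], 30, [0]),
    ([5, 6, 5, 6, 4, 4], 64, [426]),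
    ([7, 6, 0, 0, 3, 1, 0], 33, [762]),
    ([3, 2, 6, 1, 0, 2], 41, [425]),
    ([3, 3, 5, 1, 4, 2, 3], 27, [528]),
    ([2, 0, 7, 2, 1, 5, 1], 24, [968]),
    ([5, 1, 3, 0, 2, 0, 1, 0], 29, [528]),
    ([1, 2, 5, 0, 7, 1, 4], 28, [709]),
    ([6, 5, 1, 5, 1, 0], 27, [455]),
    ([0, 6, 1, 2, 7, 5, 0, 1], 29, [451]),
    ([0, 2, 6, 1, 2, 5, 0, 0, 0], 30, [363]),
    ([1, 0, 2, 7, 6, 2, 0, 0, 0], 32, [363]),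
    ([0, 6, 0, 2, 1, 4, 0, 2, 1], 27, [796]),
    ([7, 2, 5, 1, 6, 0], 36, [84]),
    ([0, 1, 3, 2, 5, 4, 1, 0], 27, [451]),
    ([1, 2, 0, 3, 5, 3, 1, 0, 0], 39, [196]),
    ([0, 6, 1, 5, 0, 2, 3, 0], 33, [18]),
    ([7, 4, 0, 1, 4, 2], 31, [12]),
    ([1, 4, 5, 2, 0, 3, 2, 1], 27, [704]),
    ([0, 0, 0, 0, 6, 1, 0, 5], 24, [545]),
    ([0, 1, 2, 4, 1, 5, 0, 1, 0, 0], 29, [459]),
    ([5, 5, 0, 6, 1, 0, 0, 0], 27, [11]),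
    ([6, 1, 0, 6, 5, 1, 0, 0, 0], 32, [709]),
    ([5, 1, 2, 1, 0, 6, 0, 2], 39, [837]),
    ([4, 1, 7, 6, 0, 1, 0, 2, 0, 0], 28, [84]),
    ([2, 0, 1, 7, 2, 6, 5, 1], 34, [622]),
    ([6, 4, 2, 4, 5, 0, 1, 2], 39, [253]),
    ([2, 6, 2, 3, 5, 1, 0], 32, [938]),
    ([7, 4, 2, 1, 0], 44, [423]),
    ([2, 1, 0, 2, 3, 0, 5, 0], 30, [425]),
    ([5, 4, 0, 1, 5, 0], 34, [155]),
    ([2, 4, 1, 0, 6, 2], 45, [825]),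
    ([0, 1, 3, 5, 2, 3, 3, 0, 1], 32, [84]),
    ([4, 0, 1, 6, 0, 2, 1, 0], 24, [752]),
    ([1, 0, 3, 5, 3, 0, 0], 36, [425]),
    ([5, 6, 1, 4, 0, 1, 2, 0, 0], 22, [845]),
    ([4, 1, 5, 1, 7, 0, 0, 0, 0], 23, [68]),
    ([7, 4, 1, 2, 0, 6, 3, 1], 44, [196]),
    ([1, 5, 2, 6, 2, 0, 1, 0], 22, [762]),
    ([6, 1, 5, 3, 3, 0, 2], 31, [425]),
    ([2, 0, 1, 5, 2, 6, 0, 1, 2], 37, [825]),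
    ([0, 7, 3, 2, 0, 5], 24, [657]),
    ([1, 5, 0, 1, 4, 5], 41, [68]),
    ([3, 4, 0, 6, 5], 23, [938]),
    ([1, 0, 7, 3, 1, 5, 0], 24, [275]),
    ([0, 3, 0, 1, 4, 1, 5, 0, 0], 31, [3]),
    ([1, 0, 2, 1, 4, 3, 3], 23, [466]),
    ([7, 1, 6, 0, 6, 3], 35, [693]),
    ([6, 1, 5, 0, 6, 2, 3, 0], 24, [871]),
    ([0, 0, 0, 6, 0, 6, 1, 0], 22, [256]),
    ([2, 5, 1, 6, 0, 3, 1, 0, 0], 39, [217]),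
    ([0, 7, 5, 4, 1, 6, 0], 36, [61]),
    ([0, 2, 7, 1, 6, 1, 2], 33, [256]),
    ([5, 1, 2, 7, 1, 4, 0, 1], 29, [796]),
    ([1, 5, 0, 1, 2, 5, 0, 1, 0], 28, [215]),
    ([4, 1, 5, 5, 3], 40, [624]),
    ([5, 2, 5, 1, 3, 0, 3], 25, [571])]

end Cfsg.Lib.LyReal
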