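/-! Generated data: double cosets. -/

set_option autoImplicit false
set_option maxRecDepth 20000

namespace Cfsg.Lib.LyReal

/-- The translates of record 42. -/
def moveT42 : List (List Nat × Nat × List Nat) :=
  [([1, 0, 7, 0, 0, 6, 2, 1], 40, [154]),
    ([1, 6, 5, 0, 2, 4, 1, 0], 30, [362]),
    ([1, 3, 2, 1, 4, 0, 1, 0, 0], 42, [155]),
    ([2, 0, 7, 5, 0, 0, 0], 22, [837]),
    ([4, 1, 2, 6, 5, 0, 0, 0, 0], 33, [522]),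
    ([0, 0, 3, 4, 1, 5, 0], 29, [606]),
    ([2, 5, 1, 3, 0, 2, 0], 29, [339]),
    ([0, 6, 5, 2, 3, 6], 21, [142]),
    ([2, 4, 2, 3, 0, 0], 38, [826]),
    ([6, 6, 0, 6, 1], 46, [675]),
    ([6, 0, 7, 1, 6, 2, 0, 1], 36, [474]),
    ([5, 1, 3, 1, 0], 30, [818]),
    ([3, 1, 0, 5, 3, 3, 0], 30, [474]),
    ([1, 2, 3, 0, 1, 3, 2, 0, 0], 35, [31]),
    ([3, 0, 3, 2, 0, 6, 0], 37, [826]),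
    ([0, 1, 0, 2, 4, 5, 1, 0], 37, [810]),
    ([2, 0, 5, 1, 2, 4, 1, 0], 42, [645]),
    ([4, 4, 1, 3, 2, 0, 1, 0], 25, [735]),
    ([3, 1, 0, 3, 2, 7], 23, [14]),
    ([0, 1, 5, 0, 2, 1, 5, 5, 0], 27, [455]),
    ([1, 3, 3, 2, 5, 0, 1], 40, [985]),
    ([1, 2, 5, 4, 1, 5, 1, 0], 22, [477]),
    ([0, 1, 2, 3, 1, 4], 21, [61]),
    ([5, 2, 0, 6, 1, 3, 2, 0, 0, 0], 21, [919]),
    ([2, 5, 2, 5, 5, 0, 1], 40, [417]),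
    ([6, 1, 2, 1, 6, 0, 1, 2], 33, [102]),
    ([4, 0, 6, 1, 2, 0, 1, 0, 0, 0], 32, [362]),
    ([2, 6, 6, 6, 5, 0, 1], 33, [837]),
    ([1, 2, 1, 0, 6, 2, 5], 27, [339]),
    ([1, 4, 1, 2], 40, [455]),
    ([2, 7, 1, 0, 0, 0, 0, 5], 25, [678]),
    ([4, 2, 5, 0, 1, 2, 4, 0, 0], 30, [751]),
    ([1, 0, 2, 3, 1, 2, 5, 0, 0], 21, [85]),
    ([4, 2, 1, 0, 0, 6, 2, 0, 1, 2], 21, [405]),
    ([1, 7, 2, 5, 1, 2, 0, 0], 32, [751]),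
    ([6, 2, 1, 0, 2, 4, 5], 35, [810]),
    ([0, 1, 3, 2, 6, 0, 6], 32, [45]),
    ([4, 2, 4, 1, 6, 0, 0], 45, [579]),
    ([0, 1, 6, 3, 0, 1, 0, 0], 39, [184]),
    ([3, 3, 4, 2, 0, 1, 0, 0, 0], 21, [767]),
    ([0, 0, 6, 2, 7, 1], 21, [942]),
    ([2, 6, 1, 5, 5, 4, 0], 43, [209]),
    ([2, 1, 6, 2, 5, 0, 1], 32, [969]),
    ([0, 5, 1, 2, 3, 1, 0, 0], 23, [62]),
    ([4, 5, 0, 1, 5, 2], 24, [761]),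
    ([2, 6, 2, 0, 6, 1, 0, 0, 0], 21, [165]),
    ([4, 1, 3, 6, 0, 1, 2, 1], 21, [612]),
    ([6, 2, 5, 4, 2, 0, 1], 21, [819]),
    ([2, 6, 1, 0, 6, 2, 1, 0, 0], 32, [474]),
    ([1, 4, 0, 1, 0, 5, 0, 0, 0], 32, [818]),
    ([5, 5, 1, 2], 29, [261]),
    ([3, 1, 7, 5, 0, 0, 0], 39, [943]),
    ([7, 4, 4, 1, 0, 5], 21, [831]),
    ([0, 2, 0, 7, 6, 1, 2], 46, [924]),
    ([3, 5, 2, 6, 0, 1, 0, 0], 21, [629]),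
    ([3, 2, 5, 5, 3, 4, 0], 27, [261]),
    ([2, 4, 2, 1, 6, 1, 4], 24, [785]),
    ([1, 2, 0, 3, 0], 21, [210]),
    ([0, 1, 0, 7, 5, 0, 2, 1, 0], 21, [462]),
    ([1, 2, 5, 0, 7, 1, 0, 2], 33, [776]),
    ([5, 6, 3, 0, 1, 0], 33, [477]),
    ([7, 0, 6, 5, 2, 0, 1], 45, [31]),
    ([6, 4, 4, 2, 1, 0, 2], 46, [507]),
    ([0, 5, 4, 1, 4, 3], 26, [662]),
    ([4, 1, 0, 2, 1, 0, 5], 25, [558]),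
    ([5, 4, 1, 7, 4, 0], 64, [210]),
    ([6, 1, 5, 0, 7, 0], 24, [440]),
    ([1, 0, 5, 1, 4, 0], 34, [558]),
    ([0, 7, 6, 1, 6, 1, 0, 0, 0], 40, [695]),
    ([4, 3, 3, 1, 4, 0, 2, 1], 27, [188]),
    ([1, 6, 3, 3, 2, 1, 0], 35, [257]),
    ([2, 0, 0, 0, 0, 5, 1, 4, 2], 39, [141]),
    ([6, 4, 2, 4, 2, 0, 0, 0], 41, [996]),
    ([3, 6, 1, 5, 4, 5], 23, [740]),
    ([3, 0, 3, 3, 2, 6, 3], 33, [460]),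
    ([2, 5, 3, 1, 0, 2], 46, [19]),
    ([1, 7, 0, 2, 6, 0], 21, [662]),
    ([3, 6, 3, 1, 4], 22, [776]),
    ([5, 2, 0, 7, 6, 4], 27, [417]),
    ([5, 0, 5, 6, 1, 0], 29, [744]),
    ([2, 0, 1, 5, 2, 1, 0, 3], 21, [194]),
    ([6, 0, 6, 2, 7, 0], 36, [969]),
    ([6, 0, 3, 0, 5, 1, 0], 29, [455]),
    ([1, 5, 1, 2, 4, 0], 37, [216]),
    ([6, 1, 5, 1, 0, 2, 0], 35, [802]),
    ([0, 7, 0, 6, 2, 1, 0, 2], 40, [606]),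
    ([3, 2, 6, 2, 3], 27, [513]),
    ([1, 0, 2, 7, 1, 5, 4, 2], 22, [300]),
    ([4, 2, 5, 1, 4, 0, 0, 0, 0], 21, [696]),
    ([3, 3, 3, 0, 1, 7, 2, 1], 30, [969]),
    ([5, 5, 5, 5, 1, 2, 0], 28, [146]),
    ([2, 5, 1, 3, 5, 0, 0], 31, [740]),
    ([1, 4, 2, 1, 4, 3], 29, [188]),
    ([0, 3, 6, 3, 1], 22, [522]),
    ([2, 5, 4, 1, 2, 0, 0, 0, 0], 27, [606]),
    ([0, 1, 4, 5, 2, 1, 4, 0], 21, [712]),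
    ([1, 0, 6, 5, 1, 2, 1], 40, [261]),
    ([6, 5, 3, 0], 64, [677]),
    ([5, 5, 2, 5, 6, 1], 25, [9]),
    ([7, 6, 4, 4, 1, 4], 64, [950]),
    ([5, 1, 2, 7, 4, 0], 44, [822]),
    ([4, 1, 3, 2, 3, 2], 21, [978]),
    ([2, 1, 4, 0, 1, 6, 0], 39, [907]),
    ([1, 5, 4, 3, 2, 0, 1, 2, 0], 32, [681]),
    ([1, 3, 2, 1, 7, 5, 2], 36, [681]),
    ([6, 1, 3, 0, 3, 4, 2], 24, [511]),
    ([4, 2, 5, 1, 6, 3], 30, [681]),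
    ([2, 6, 0, 1, 5, 2, 0, 0, 0], 39, [437]),
    ([4, 4, 1, 6, 2, 3], 44, [184]),
    ([6, 6, 5, 3, 1, 5, 0], 44, [907]),
    ([2, 5, 1, 3, 6, 2], 29, [513]),
    ([3, 4, 0, 1, 3, 2, 0, 0], 43, [278]),
    ([0, 2, 0, 6, 5, 0, 6], 32, [866]),
    ([0, 6, 6, 5, 1, 0], 46, [716]),
    ([1, 5, 3, 5, 0, 1, 0, 0], 37, [802]),
    ([6, 0, 1, 2, 5, 0, 1], 34, [678]),
    ([7, 5, 0, 1, 3, 0, 2], 30, [866]),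
    ([1, 3, 4, 3, 3, 0], 46, [63]),
    ([1, 5, 0, 5, 0, 3, 0, 2], 21, [449]),
    ([6, 0, 1, 0, 7, 0], 36, [751]),
    ([0, 1, 6, 6, 3, 4, 0, 2], 31, [996]),
    ([2, 1, 6, 5, 1, 2, 0, 1], 21, [408]),
    ([2, 6, 3, 6, 6, 1], 31, [62]),
    ([0, 1, 0, 2, 4, 2, 0, 6, 0], 39, [580]),
    ([2, 6, 0, 3, 1, 0, 2, 0, 0], 33, [300]),
    ([5, 2, 6, 4, 0, 6, 1, 2], 30, [45]),
    ([0, 2, 5, 2, 1, 0], 21, [379]),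
    ([5, 5, 3, 0, 2, 1, 4, 2], 23, [996]),
    ([2, 5, 4, 2, 3], 26, [365]),
    ([4, 5, 1, 2, 3, 3, 0, 2], 33, [181]),
    ([1, 3, 0, 2, 1, 4, 3, 0, 0], 24, [921]),
    ([5, 0, 0, 0, 6, 2, 5, 1], 21, [979]),
    ([5, 0, 2, 1, 4, 2, 0, 0], 22, [102]),
    ([3, 0, 1, 0, 2, 4, 0], 40, [538]),
    ([7, 0, 0, 5, 1, 2, 0], 22, [460]),
    ([0, 5, 1, 4, 5, 5, 0, 2, 1], 22, [181]),
    ([3, 2, 4, 0, 1, 4, 2, 0], 29, [417]),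
    ([1, 7, 0, 2, 5, 1, 4, 0], 21, [560]),
    ([0, 6, 6, 6, 4, 3], 31, [14]),
    ([6, 6, 0, 1, 2, 0, 5, 3], 41, [740]),
    ([5, 6, 5, 0, 1, 2, 0, 0], 27, [744]),
    ([2, 5, 0, 3, 5, 1, 0, 0, 0], 28, [456]),
    ([0, 1, 0, 0, 5, 1, 0, 3, 1], 24, [138]),
    ([7, 6, 2, 3, 0, 3, 1, 2], 28, [660]),
    ([0, 2, 5, 0, 0, 6, 1, 0], 28, [872]),
    ([3, 1, 0, 3, 1, 7, 0, 0], 39, [427]),
    ([4, 0, 2, 1, 0, 5], 44, [141]),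
    ([4, 1, 3, 2, 3, 5, 1], 39, [822]),
    ([6, 2, 6, 2, 3, 2, 1, 0], 24, [829]),
    ([0, 2, 7, 4, 1, 0, 5], 24, [552])]

end Cfsg.Lib.LyReal
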