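/-! Generated data: double cosets. -/

set_option autoImplicit false
set_option maxRecDepth 20000

namespace Cfsg.Lib.LyReal

/-- The translates of record 43. -/
def moveT43 : List (List Nat × Nat × List Nat) :=
  [([6, 0, 7, 3, 5, 3, 2], 33, [696]),
    ([2, 4, 2, 7, 3, 2, 1], 36, [165]),
    ([1, 4, 4, 4, 3], 28, [17]),
    ([1, 5, 4, 5, 4, 3, 0], 21, [714]),
    ([1, 5, 1, 5, 1, 4, 0, 0, 0], 29, [874]),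
    ([5, 1, 6, 5, 0, 7], 33, [541]),
    ([1, 6, 4, 1, 0, 2, 1, 0], 22, [696]),
    ([6, 1, 6, 2, 0, 2, 1, 5], 29, [229]),
    ([2, 6, 0, 1, 0, 2, 0], 28, [848]),
    ([0, 2, 1, 5, 3, 4, 1], 32, [536]),
    ([0, 1, 7, 6, 2, 0, 5], 32, [982]),
    ([1, 7, 0, 5, 0, 3], 21, [565]),
    ([5, 0, 5, 6, 1, 2, 0, 0, 0], 30, [165]),
    ([0, 1, 3, 6, 1, 4], 64, [119]),
    ([1, 2, 0, 7, 3], 26, [985]),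
    ([7, 1, 2, 5, 0, 0, 0], 64, [562]),
    ([5, 4, 5, 0, 3], 25, [689]),
    ([1, 4, 5, 3, 3, 0, 2, 0], 39, [505]),
    ([5, 5, 1, 3, 2, 3, 1], 37, [367]),
    ([0, 3, 0, 2, 0, 1, 3, 2, 0], 21, [546]),
    ([2, 1, 0, 3, 1, 5, 3, 0], 21, [175]),
    ([1, 0, 5, 5, 1, 4, 0, 1, 0], 40, [461]),
    ([2, 0, 1, 2, 6, 1, 6, 1, 0], 39, [153]),
    ([5, 2, 0, 1, 6, 5, 6, 0], 24, [831]),
    ([1, 4, 2, 6, 5, 1], 37, [174]),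
    ([0, 2, 1, 6, 1, 4, 1, 0, 2, 1], 29, [423]),
    ([2, 5, 1, 7, 2, 0, 6, 0], 32, [165]),
    ([0, 6, 0, 2, 4, 0], 46, [833]),
    ([3, 3, 2, 1, 4, 1, 0, 0], 40, [250]),
    ([3, 2, 1, 0, 5, 2, 0, 0], 22, [541]),
    ([2, 0, 0, 5, 1, 0, 5], 24, [651]),
    ([4, 0, 1, 2, 3, 0, 0, 0], 31, [725]),
    ([3, 2, 0, 3, 1], 29, [250]),
    ([3, 5, 0, 2, 3, 1, 2], 22, [646]),
    ([6, 2, 3, 4, 4, 2, 0], 41, [725]),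
    ([4, 0, 2, 4, 3, 1, 0], 26, [119]),
    ([2, 4, 3, 1, 0, 5, 0, 2], 27, [561]),
    ([6, 1, 6, 3, 0, 5, 2], 24, [369]),
    ([1, 0, 0, 0, 6, 1, 4, 2, 1, 0], 21, [632]),
    ([5, 1, 2, 5, 3, 1, 2, 0, 0], 32, [419]),
    ([1, 2, 4, 5, 6, 1, 0, 0, 0], 22, [39]),
    ([3, 0, 3, 4, 1, 4], 34, [689]),
    ([3, 6, 0, 6, 3, 2], 21, [928]),
    ([3, 2, 0, 1, 5, 4, 2], 23, [492]),
    ([4, 2, 0, 3, 2, 1], 22, [355]),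
    ([0, 0, 6, 2, 7, 0, 1], 39, [500]),
    ([0, 0, 7, 6, 5, 2, 1, 0], 27, [229]),
    ([0, 3, 2, 1, 0, 3, 0, 0], 30, [419]),
    ([2, 0, 1, 7, 6, 3, 2], 30, [982]),
    ([4, 0, 2, 7, 6, 5, 0], 46, [76]),
    ([5, 0, 6, 1, 7, 4, 0], 37, [890]),
    ([0, 6, 2, 0, 2, 1], 21, [941]),
    ([5, 4, 1, 5, 5, 0, 2], 28, [945]),
    ([3, 3, 3, 2, 3, 6], 34, [715]),
    ([6, 2, 4, 1, 4, 0, 0], 25, [0]),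
    ([0, 0, 5, 5, 3, 0, 1], 35, [1001]),
    ([6, 6, 2, 7, 1, 4, 4], 21, [610]),
    ([1, 2, 5, 3, 2, 0, 0], 28, [113]),
    ([0, 6, 1, 7, 2, 3, 0, 0, 0], 25, [715]),
    ([6, 1, 0, 5, 0, 2, 1, 0], 35, [890]),
    ([0, 1, 4, 0, 6, 4, 0, 0], 29, [866]),
    ([7, 6, 1, 4, 3, 2], 64, [175]),
    ([2, 5, 6, 5, 1, 2, 1, 0, 0], 33, [39]),
    ([5, 2, 3, 0, 5, 4, 2], 30, [201]),
    ([5, 6, 1, 2, 3, 0, 1, 0, 0, 0], 21, [427]),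
    ([6, 1, 4, 3, 2, 1], 32, [201]),
    ([1, 5, 2, 1, 6, 0, 1], 30, [50]),
    ([0, 2, 6, 0, 1, 4], 46, [619]),
    ([0, 0, 5, 2, 6, 2], 38, [236]),
    ([4, 1, 2, 0, 5, 0, 5], 21, [377]),
    ([5, 1, 3, 4, 2, 0], 24, [550]),
    ([0, 6, 3, 0, 1, 6], 46, [786]),
    ([5, 4, 2, 7, 5, 0, 2], 41, [895]),
    ([0, 3, 0, 2, 1, 6], 45, [796]),
    ([5, 1, 7, 5, 5, 0, 2, 0], 21, [899]),
    ([4, 1, 0, 7, 4], 44, [500]),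
    ([0, 0, 6, 0, 2, 1, 4, 2], 24, [589]),
    ([0, 3, 6, 0, 3, 2, 1], 45, [298]),
    ([5, 5, 4, 4, 1, 0, 2, 1], 27, [423]),
    ([7, 5, 5, 2, 0, 1, 2], 22, [325]),
    ([1, 4, 2, 0, 0, 0, 3, 0, 1], 33, [646]),
    ([2, 6, 4, 0, 6, 0, 0, 0], 21, [101]),
    ([5, 2, 6, 2, 1, 7, 0], 21, [522]),
    ([1, 2, 7, 5, 4, 2], 44, [223]),
    ([0, 6, 3, 4, 4, 2], 39, [223]),
    ([6, 0, 7, 2, 4], 46, [643]),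
    ([0, 1, 6, 5, 0, 2, 4, 0, 0], 42, [591]),
    ([2, 1, 5, 1, 0, 3], 27, [67]),
    ([1, 0, 2, 3, 3, 4, 1, 0], 36, [536]),
    ([4, 0, 0, 6, 3, 3, 0], 21, [251]),
    ([0, 6, 0, 1, 2, 3, 0, 0], 44, [529]),
    ([0, 3, 1, 2, 0, 1, 0, 0, 0], 37, [796]),
    ([3, 2, 1, 5, 2, 1, 0, 0], 21, [807]),
    ([7, 1, 3, 4, 0, 2, 0, 1], 27, [874]),
    ([7, 0, 1, 0, 2, 6, 3, 0], 27, [866]),
    ([5, 5, 2, 5, 6, 1, 2], 39, [675]),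
    ([1, 5, 0, 5, 4, 1, 0], 22, [22]),
    ([0, 7, 5, 1, 3, 4, 2, 0], 32, [668]),
    ([1, 0, 6, 1, 2, 3, 1, 0, 0], 21, [176]),
    ([5, 1, 2, 4, 1, 5, 2], 36, [201]),
    ([4, 0, 1, 2, 5, 3, 2], 36, [70]),
    ([7, 0, 1, 4, 0, 2, 4, 0], 40, [83]),
    ([1, 6, 2, 6, 1, 2, 0, 0, 0], 27, [953]),
    ([1, 2, 5, 4, 1, 2, 0, 1], 22, [701]),
    ([2, 6, 0, 1, 6, 2, 5, 0], 29, [561]),
    ([3, 3, 2, 0, 7, 2], 21, [816]),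
    ([2, 4, 0, 2, 3, 5, 1, 0], 33, [701]),
    ([3, 1, 2, 0, 5, 0, 1, 0, 0], 29, [953]),
    ([1, 3, 2, 0, 5, 5], 46, [506]),
    ([3, 3, 2, 5, 5, 1, 0], 40, [18]),
    ([3, 2, 1, 6, 0, 2, 6, 1], 42, [225]),
    ([2, 1, 4, 1, 2, 5, 0], 25, [245]),
    ([1, 2, 4, 1, 2, 6, 0, 1], 23, [725]),
    ([6, 1, 0, 7, 2, 0, 3, 1], 39, [62]),
    ([4, 0, 5, 5, 5, 1, 0], 39, [959]),
    ([5, 0, 1, 3, 2, 3, 5], 24, [348]),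
    ([5, 0, 2, 0, 7, 6, 1], 31, [965]),
    ([3, 0, 1, 2, 5, 0, 1, 5, 0, 0], 40, [874]),
    ([6, 1, 0, 2, 4, 2, 1, 0, 0], 27, [250]),
    ([6, 0, 6, 1, 5, 2, 3, 1], 23, [965]),
    ([5, 2, 6, 0, 2, 3, 1, 2, 0], 31, [895]),
    ([7, 6, 2, 1, 6, 0, 0, 0], 24, [308]),
    ([2, 1, 6, 0, 0], 31, [492]),
    ([0, 6, 0, 3, 6, 1, 2, 0], 30, [70]),
    ([0, 7, 2, 6, 6, 1, 4], 29, [67]),
    ([6, 0, 3, 6, 1, 3, 2, 0, 1], 40, [67]),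
    ([0, 2, 0, 7, 6, 6, 1], 30, [536]),
    ([7, 2, 6, 0, 6, 1, 0, 2, 0], 23, [895]),
    ([2, 6, 4, 2, 1, 4, 0, 0, 0, 0], 30, [668]),
    ([3, 0, 5, 1, 5, 3, 2], 43, [313]),
    ([2, 4, 0, 5, 5, 0], 21, [680]),
    ([7, 0, 6, 0, 3, 1, 0, 2], 44, [675]),
    ([2, 0, 1, 6, 0, 1, 0, 0], 40, [183]),
    ([4, 2, 4, 1, 3, 0, 2, 0], 33, [325]),
    ([0, 2, 6, 6, 1, 4], 21, [854]),
    ([2, 6, 1, 2, 6, 2, 0], 43, [275]),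
    ([2, 1, 0, 6, 1, 2, 0, 3, 0], 33, [22]),
    ([6, 2, 5, 1, 0], 24, [451]),
    ([1, 5, 5, 0, 7, 1, 0], 35, [236]),
    ([1, 2, 6, 1, 0, 2, 6, 2], 35, [666]),
    ([0, 7, 1, 3, 3, 0, 2, 1], 40, [561]),
    ([0, 2, 4, 1, 2, 6, 2, 0], 21, [808]),
    ([7, 3, 3, 1, 0, 3, 1], 21, [430]),
    ([6, 2, 7, 1, 4, 0, 2, 0], 21, [513]),
    ([1, 0, 5, 4], 39, [529]),
    ([2, 7, 3, 0, 3, 1, 2], 21, [6]),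
    ([6, 4, 0, 5, 5, 1], 21, [304]),
    ([0, 0, 0, 7, 6, 3], 32, [70]),
    ([5, 0, 2, 1, 5, 5, 4], 33, [355]),
    ([0, 1, 5, 0, 2, 1, 6, 0, 0, 0], 32, [50])]

end Cfsg.Lib.LyReal
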