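/-! Generated data: double cosets. -/

set_option autoImplicit false
set_option maxRecDepth 20000

namespace Cfsg.Lib.LyReal

/-- The translates of record 44. -/
def moveT44 : List (List Nat × Nat × List Nat) :=
  [([5, 0, 1, 3, 4], 32, [936]),
    ([5, 1, 6, 1, 5, 4], 41, [0]),
    ([1, 2, 1, 6, 6, 1, 6], 41, [35]),
    ([3, 2, 0, 2, 1, 0, 6, 2, 1], 39, [998]),
    ([6, 5, 1, 0, 2, 6, 0], 30, [429]),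
    ([6, 4, 3, 6, 4, 4], 34, [663]),
    ([1, 5, 5, 4, 5, 0, 2], 32, [429]),
    ([1, 6, 4, 3, 6], 43, [478]),
    ([1, 0, 2, 5, 3, 5, 0], 31, [30]),
    ([2, 6, 0, 7, 3, 2, 1], 39, [3]),
    ([0, 6, 3, 4, 3, 1, 2], 23, [189]),
    ([1, 0, 2, 7, 4, 4, 4, 1], 23, [466]),
    ([0, 1, 4, 3, 2, 3, 0, 1, 0, 0], 31, [189]),
    ([0, 2, 0, 1, 3, 2, 3, 5], 30, [74]),
    ([2, 4, 3, 6, 1, 0], 36, [74]),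
    ([1, 2, 5, 0, 3, 1, 2, 0, 1], 30, [529]),
    ([0, 2, 1, 6, 1, 6, 1, 2, 0, 1], 23, [35]),
    ([2, 0, 6, 3], 38, [27]),
    ([0, 1, 2, 6, 1, 5, 1], 31, [998]),
    ([3, 5, 0, 1, 3], 31, [643]),
    ([1, 4, 0, 1, 2, 1, 5, 0, 0], 24, [534]),
    ([5, 2, 6, 2, 1, 6, 1, 0, 0], 28, [936]),
    ([7, 2, 3, 0, 3, 0], 31, [68]),
    ([1, 0, 0, 5, 1, 2, 4, 1], 29, [557]),
    ([0, 1, 4, 0, 7, 2, 0], 41, [824]),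
    ([5, 6, 0, 2, 5, 0, 5], 29, [53]),
    ([7, 2, 1, 5, 6, 0, 2, 4], 23, [0]),
    ([5, 6, 4, 4, 4, 4], 39, [585]),
    ([0, 5, 4, 1, 2, 0, 2], 36, [429]),
    ([3, 5, 3, 5, 0, 3, 2, 1], 28, [513]),
    ([5, 5, 1, 4, 4], 42, [252]),
    ([7, 6, 6, 6, 4, 1], 30, [298]),
    ([3, 0, 5, 0, 5, 0], 30, [652]),
    ([2, 3, 0, 5, 0, 1, 2, 0, 0], 32, [652]),
    ([7, 2, 4, 0, 2], 30, [230]),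
    ([4, 2, 4, 1, 0, 2, 3], 32, [74]),
    ([3, 1, 0, 2, 7, 1, 4, 1], 21, [378]),
    ([0, 1, 5, 0, 0, 0, 3, 1], 28, [523]),
    ([0, 3, 1, 4, 1, 0], 39, [847]),
    ([1, 2, 0, 1, 3, 2, 6, 2], 39, [874]),
    ([2, 5, 3, 1, 3, 2, 3], 43, [407]),
    ([5, 0, 6, 1, 7, 0, 2, 1, 0], 31, [35]),
    ([5, 0, 2, 0, 5, 0, 2, 0], 31, [3]),
    ([4, 5, 3, 0, 2, 5, 1], 22, [586]),
    ([0, 6, 0, 1, 2, 3, 3, 0], 21, [447]),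
    ([6, 0, 7, 6, 5, 4, 0], 41, [12]),
    ([2, 5, 5, 0, 3], 42, [72]),
    ([2, 6, 6, 1, 0, 2], 24, [999]),
    ([0, 6, 1, 4, 2, 0, 0], 31, [0]),
    ([6, 1, 0, 5, 1, 6, 0, 0], 41, [466]),
    ([1, 7, 0, 2, 1, 5, 5], 23, [156]),
    ([6, 5, 0, 3, 1, 5], 39, [12]),
    ([3, 2, 6, 0, 5, 4, 2], 22, [57]),
    ([7, 7, 6, 1, 2], 27, [775]),
    ([7, 1, 6, 0, 6, 2, 0, 1, 0], 29, [775]),
    ([1, 2, 1, 0, 6, 2, 5, 2], 23, [824]),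
    ([0, 1, 5, 0, 2, 4, 1, 0, 0, 0], 24, [50]),
    ([4, 1, 2, 0, 6, 1, 4, 0, 0], 33, [57]),
    ([2, 4, 0, 6, 1, 0, 2, 0], 40, [558]),
    ([2, 7, 0, 1, 5, 1, 0, 2], 31, [824]),
    ([4, 1, 5, 0, 6, 4], 25, [241]),
    ([2, 0, 1, 6, 6, 2, 5], 32, [529]),
    ([2, 0, 3, 1, 0, 3, 0], 42, [716]),
    ([2, 5, 0, 1, 0, 2, 1, 6], 39, [92]),
    ([4, 3, 0, 3, 5, 1], 26, [518]),
    ([7, 2, 3, 0, 1, 4, 0, 0, 0], 24, [216]),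
    ([6, 0, 3, 2, 0, 6, 5], 34, [664]),
    ([4, 4, 5, 4, 1, 0], 64, [941]),
    ([7, 1, 5, 0, 1, 0, 0, 0, 0], 24, [907]),
    ([0, 6, 3, 2, 0, 1, 2], 24, [2]),
    ([4, 3, 2, 3, 0, 3, 1], 25, [615]),
    ([5, 1, 2, 0, 1, 0, 3], 25, [888]),
    ([0, 6, 0, 2, 4, 1, 0, 0], 33, [586]),
    ([0, 1, 2, 0, 6, 1, 0, 0, 6], 31, [699]),
    ([1, 0, 3, 0, 0, 6, 4, 2, 1], 23, [643]),
    ([3, 0, 2, 5, 1, 0, 3, 1], 31, [12]),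
    ([3, 0, 1, 4, 2, 0, 3, 1, 0], 40, [116]),
    ([0, 6, 5, 3, 1, 4], 31, [156]),
    ([2, 3, 1, 7, 0, 5, 5], 33, [531]),
    ([0, 2, 4, 1, 5, 0, 2], 31, [105]),
    ([2, 5, 2, 0, 0, 5, 1], 30, [434]),
    ([5, 4, 2, 0, 3, 5, 2, 1], 31, [466]),
    ([0, 5, 5, 3, 0, 0, 0, 0, 0], 31, [1001]),
    ([1, 7, 0, 6, 2, 1, 5], 25, [360]),
    ([0, 3, 5, 1, 3, 0, 0, 0], 34, [615]),
    ([3, 4, 1, 6, 0, 1, 2, 0], 41, [1001]),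
    ([7, 0, 5, 1, 4, 3, 2], 39, [306]),
    ([1, 6, 5, 4, 2, 0, 3], 41, [105]),
    ([2, 1, 0, 7, 5, 2, 0], 24, [365]),
    ([6, 6, 3, 2, 4], 23, [3]),
    ([1, 0, 0, 0, 5, 1, 6, 2], 43, [806]),
    ([4, 4, 2, 0, 2, 1], 23, [998]),
    ([2, 1, 4, 2, 4, 0, 5, 2], 44, [585]),
    ([0, 3, 2, 3, 2, 1, 0], 30, [936]),
    ([0, 5, 0, 0, 3, 3, 0], 25, [663]),
    ([4, 2, 3, 2, 0, 0, 0], 27, [557]),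
    ([4, 0, 1, 6, 0, 1, 3, 0, 0], 27, [53]),
    ([2, 6, 0, 7, 1, 0], 44, [361]),
    ([3, 1, 0, 2, 1, 0, 0, 0], 64, [747]),
    ([2, 6, 5, 6, 6, 2, 1], 24, [354]),
    ([7, 6, 2, 4, 0, 2], 25, [664]),
    ([5, 1, 7, 0, 6], 38, [742]),
    ([0, 1, 4, 2, 0, 1, 6, 1], 21, [192]),
    ([1, 5, 0, 5, 1, 2, 3, 1, 0, 0], 21, [236]),
    ([5, 1, 4, 5, 0, 1, 2, 1, 0, 0, 0], 21, [869]),
    ([2, 1, 0, 5, 2, 5], 34, [806]),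
    ([2, 7, 3, 6, 3], 46, [593]),
    ([0, 1, 2, 4, 2, 6, 2, 0, 1], 21, [81]),
    ([5, 5, 2, 5], 24, [657]),
    ([1, 4, 1, 6, 2, 0, 0], 46, [256]),
    ([2, 1, 0, 3, 0, 5, 2, 0], 24, [819]),
    ([4, 1, 0, 2, 5, 2], 23, [30]),
    ([4, 4, 2, 1, 6, 1], 36, [298]),
    ([3, 6, 0, 0, 0, 6, 0, 0], 33, [115]),
    ([4, 5, 5, 4, 1, 2, 0, 1], 28, [74]),
    ([1, 6, 0, 1, 6, 5, 2], 43, [888]),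
    ([3, 2, 6, 3, 3, 1, 2], 32, [230]),
    ([2, 3, 6, 1, 3, 2, 0, 1], 32, [434]),
    ([0, 1, 3, 4, 5, 1, 0, 0], 36, [652]),
    ([4, 5, 5, 1, 5, 0, 2, 1, 0], 32, [298]),
    ([2, 4, 0, 2, 1, 0, 6, 2], 27, [433]),
    ([7, 0, 6, 1, 2], 23, [68]),
    ([2, 7, 3, 3, 3, 0], 40, [716]),
    ([3, 6, 3, 1, 2, 0], 28, [989]),
    ([0, 5, 6, 0, 2, 0, 3, 1], 23, [105]),
    ([7, 6, 3, 3, 2, 1], 21, [482]),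
    ([3, 3, 1, 2, 1, 5, 0, 0], 44, [3]),
    ([6, 1, 2, 1, 0, 3, 0, 2], 29, [433]),
    ([2, 3, 3, 0, 3], 39, [361]),
    ([6, 2, 6, 0, 0, 3], 39, [1001]),
    ([5, 0, 5, 3, 1, 5, 0], 44, [12]),
    ([1, 0, 2, 5, 1, 4, 2, 0, 1], 22, [115]),
    ([3, 2, 0, 1, 2, 6, 0, 1, 2], 22, [531]),
    ([1, 2, 3, 1, 5, 0, 5, 0], 23, [854]),
    ([2, 1, 0, 7, 0, 6, 2, 0], 23, [1001]),
    ([1, 4, 1, 4, 4, 3], 44, [306]),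
    ([4, 0, 1, 4, 2, 5, 1, 0, 0], 40, [292]),
    ([7, 3, 3, 5, 2, 5], 23, [12]),
    ([7, 6, 6, 5, 0, 2], 41, [699]),
    ([6, 0, 2, 1, 4, 0, 1], 23, [699]),
    ([5, 1, 5, 3, 2, 0, 2, 1], 31, [854]),
    ([5, 5, 1, 6, 0, 2, 0], 64, [512]),
    ([0, 6, 0, 6, 5, 0], 25, [806]),
    ([1, 3, 2, 4, 1, 0], 26, [941]),
    ([6, 0, 2, 1, 0, 6], 42, [260]),
    ([1, 3, 1, 3, 4, 0, 2, 1, 0], 28, [842]),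
    ([0, 1, 7, 6, 5, 5, 2, 1], 28, [514]),
    ([2, 5, 5, 5, 1], 25, [491]),
    ([1, 5, 2, 0, 1, 6, 2, 0, 0, 0], 21, [825]),
    ([2, 0, 6, 4, 1, 2, 3, 0, 0], 28, [461])]

end Cfsg.Lib.LyReal
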