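import Cfsg.Agent.Lib.LyReal.ClosureDefs
import Cfsg.Agent.Lib.LyReal.DataMove40
import Cfsg.Agent.Lib.LyReal.DataMove41
import Cfsg.Agent.Lib.LyReal.DataMove42
import Cfsg.Agent.Lib.LyReal.DataMove43
import Cfsg.Agent.Lib.LyReal.DataMove44

/-!
# Translates of five records
-/

set_option autoImplicit false
set_option maxRecDepth 100000

namespace Cfsg.Lib.LyReal

theorem move40_ok : moveOK 40 moveT40 = true := by decide +kernel

theorem move41_ok : moveOK 41 moveT41 = true := by decide +kernel

theorem move42_ok : moveOK 42 moveT42 = true := by decide +kernel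

theorem move43_ok : moveOK 43 moveT43 = true := by decide +kernel

theorem move44_ok : moveOK 44 moveT44 = true := by decide +kernel

end Cfsg.Lib.LyReal
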