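/-! Generated data: double cosets. -/

set_option autoImplicit false
set_option maxRecDepth 20000

namespace Cfsg.Lib.LyReal

/-- The translates of record 46. -/
def moveT46 : List (List Nat × Nat × List Nat) :=
  [([7, 6, 1, 5, 1, 4, 0], 21, [393]),
    ([4, 1, 2, 0, 6, 1, 0], 42, [730]),
    ([4, 3, 1, 4, 2, 1], 43, [459]),
    ([0, 7, 1, 0, 2, 4, 1, 4, 0, 0], 33, [668]),
    ([2, 0, 1, 0, 3, 0, 3, 2], 21, [549]),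
    ([6, 5, 0, 6, 6, 3], 32, [396]),
    ([1, 6, 4, 3, 4, 0], 46, [697]),
    ([0, 5, 1, 4, 2, 0, 2], 32, [119]),
    ([2, 1, 0, 0, 0, 5, 1, 6, 2], 42, [405]),
    ([2, 1, 5, 0, 2, 5, 0, 0], 35, [269]),
    ([0, 2, 6, 5, 0, 1, 0], 38, [593]),
    ([4, 5, 0, 1, 5, 5, 0, 2], 42, [608]),
    ([5, 0, 0, 6, 1, 2, 0, 1], 43, [948]),
    ([1, 5, 1, 5, 6, 2, 1, 0], 24, [751]),
    ([0, 1, 0, 3, 2, 0, 1, 5, 0], 39, [936]),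
    ([7, 0, 5, 5, 1, 4, 2], 24, [144]),
    ([1, 6, 2, 4, 1], 42, [62]),
    ([4, 1, 5, 0, 1, 2, 6, 0, 0], 30, [187]),
    ([2, 1, 5, 0, 5, 4], 19, [778]),
    ([7, 2, 5, 1, 2, 5, 0, 1], 40, [185]),
    ([0, 6, 5, 2, 1, 6, 1], 22, [668]),
    ([0, 1, 3, 0, 1, 4, 2, 1, 0], 30, [874]),
    ([0, 3, 2, 7, 3], 37, [86]),
    ([5, 2, 3, 0, 1, 0, 0], 46, [848]),
    ([3, 0, 1, 2, 6, 3, 0, 0], 29, [47]),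
    ([6, 6, 4, 2, 6, 4, 0, 1], 39, [108]),
    ([1, 7, 0, 2, 1, 4, 2, 1], 42, [680]),
    ([7, 6, 2, 5, 5, 1], 40, [659]),
    ([4, 0, 5, 3, 1, 0, 2, 1, 0, 0, 0], 21, [677]),
    ([0, 5, 2, 0, 6, 1], 36, [874]),
    ([7, 6, 2, 1, 0, 2, 3, 0], 32, [187]),
    ([4, 1, 0, 5, 6], 38, [570]),
    ([3, 1, 4, 0, 6, 1, 0], 36, [1004]),
    ([2, 3, 2, 5, 0, 2], 32, [939]),
    ([3, 6, 1, 2, 0, 0], 42, [131]),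
    ([7, 5, 2, 3, 0, 1, 0, 0], 44, [161]),
    ([0, 2, 1, 7, 0, 3, 0, 2, 1], 24, [487]),
    ([6, 6, 5, 1, 5], 30, [592]),
    ([3, 5, 0, 2, 4, 0, 0], 46, [123]),
    ([6, 0, 1, 7, 6, 0, 0], 35, [761]),
    ([6, 1, 4, 2, 3, 4, 0], 30, [246]),
    ([1, 2, 4, 2], 38, [228]),
    ([4, 2, 1, 4, 5], 42, [534]),
    ([7, 1, 0, 5, 2, 1, 6, 0], 30, [348]),
    ([4, 3, 3, 3, 0, 3], 21, [661]),
    ([3, 1, 3, 1, 4, 0], 45, [620]),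
    ([5, 3, 6, 0, 6], 30, [119]),
    ([0, 6, 3, 4, 0, 2, 1], 45, [593]),
    ([5, 5, 3, 5], 43, [660]),
    ([2, 5, 6, 0, 2, 0], 38, [359]),
    ([0, 3, 4, 0, 3, 0, 2], 22, [122]),
    ([2, 0, 1, 0, 3, 3, 0], 21, [4]),
    ([1, 2, 4, 0, 5, 1, 0, 5], 30, [618]),
    ([0, 1, 0, 5, 1, 6, 1], 32, [618]),
    ([4, 0, 1, 0, 7, 6, 2, 1], 36, [95]),
    ([5, 1, 2, 5, 2, 6], 27, [47]),
    ([0, 1, 4, 2, 7, 5, 1, 0, 0, 0], 21, [285]),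
    ([3, 1, 4, 1, 7, 3, 0], 32, [95]),
    ([1, 3, 0, 3, 2], 30, [95]),
    ([1, 2, 1, 0, 6, 0, 3, 0, 1], 40, [236]),
    ([0, 5, 2, 1, 0], 30, [396]),
    ([2, 3, 2, 1, 7, 0, 6, 0, 0], 39, [161]),
    ([4, 0, 7, 6, 5, 1, 0, 2], 32, [246]),
    ([2, 5, 2, 0, 0, 5, 1, 2], 39, [43]),
    ([2, 6, 1, 2, 0, 1, 5, 2, 0, 0], 43, [170]),
    ([4, 2, 6, 1, 4, 2, 0, 1, 0], 24, [462]),
    ([4, 2, 4, 3, 4, 4, 1], 21, [350]),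
    ([7, 2, 0, 6, 1, 2, 0], 42, [777]),
    ([3, 0, 1, 3, 1, 4, 1, 2, 0, 0], 29, [100]),
    ([6, 0, 6, 6, 4, 3, 1, 2], 29, [129]),
    ([1, 5, 3, 2, 3, 6, 0, 1, 0], 30, [293]),
    ([7, 0, 6, 0, 0], 36, [929]),
    ([4, 4, 4, 4, 2, 0, 6, 2], 32, [603]),
    ([1, 2, 5, 5, 1, 0], 7, [4]),
    ([7, 7, 5, 1, 4], 27, [656]),
    ([4, 3, 5, 0, 6, 2, 0], 35, [620]),
    ([2, 3, 2, 7, 0, 1, 0, 0, 0], 21, [732]),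
    ([5, 4, 0, 1, 3, 2, 0, 1], 33, [122]),
    ([2, 6, 1, 3, 5, 0], 24, [506]),
    ([3, 2, 6, 2, 0, 2, 1], 42, [642]),
    ([1, 3, 5, 0, 6, 1, 2], 30, [939]),
    ([1, 2, 1, 0, 5, 2, 5], 43, [388]),
    ([0, 1, 5, 0, 2, 5, 2, 0, 2], 29, [656]),
    ([2, 5, 1, 6, 4, 4, 4], 32, [592]),
    ([0, 2, 6, 2, 5, 1, 2, 0], 36, [293]),
    ([0, 5, 5, 5, 2, 5], 22, [194]),
    ([4, 0, 0, 6, 5, 2, 0], 22, [791]),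
    ([7, 1, 2, 3, 2], 43, [786]),
    ([0, 6, 2, 6, 2, 3, 2], 37, [761]),
    ([5, 4, 1, 2, 0, 1, 0, 0], 43, [323]),
    ([2, 4, 4, 5, 3, 0, 2], 32, [37]),
    ([5, 3, 3, 1, 0, 6], 20, [744]),
    ([7, 2, 3, 0, 1, 2, 0, 0], 27, [129]),
    ([0, 6, 2, 3, 1, 0, 2, 1, 0], 21, [799]),
    ([4, 1, 0, 2, 3, 1, 2, 0], 32, [874]),
    ([5, 4, 4, 1, 4, 2, 0, 1, 2], 21, [772]),
    ([4, 3, 1, 0, 2, 5, 1], 24, [358]),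
    ([2, 4, 1, 5, 0], 24, [201]),
    ([7, 5, 4, 4, 2, 0], 42, [686]),
    ([3, 3, 4, 2, 6, 6, 0, 1], 39, [639]),
    ([6, 3, 1, 5, 4, 2, 0], 46, [366]),
    ([4, 1, 2, 0, 5, 1, 4, 2], 36, [246]),
    ([0, 1, 6, 5, 5, 4, 0], 21, [711]),
    ([0, 2, 6, 1, 7, 5, 2, 0, 0, 0], 39, [922]),
    ([6, 2, 5, 5, 1, 2, 0, 2], 24, [845]),
    ([0, 2, 6, 0, 2, 1], 30, [717]),
    ([2, 1, 4, 5, 3, 2, 1], 44, [922]),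
    ([5, 6, 6, 2, 0, 1, 2], 21, [1006]),
    ([3, 0, 2, 4, 3, 1, 2, 0, 0, 0], 21, [428]),
    ([3, 3, 6, 1, 0, 0], 46, [731]),
    ([0, 1, 5, 6, 5, 6, 2, 0], 40, [136]),
    ([0, 2, 3, 1, 7, 5, 0], 43, [486]),
    ([2, 5, 1, 2, 4, 5], 43, [73]),
    ([1, 0, 2, 5, 6, 4, 2, 0, 0, 0], 21, [616]),
    ([2, 6, 1, 4, 2, 3], 32, [293]),
    ([5, 6, 5, 2, 5], 36, [37]),
    ([5, 3, 5, 1, 5], 43, [240]),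
    ([0, 2, 1, 6, 3, 0, 2, 0], 30, [1004]),
    ([5, 3, 1, 3, 1, 2, 1, 0, 0], 32, [1004]),
    ([1, 0, 6, 1, 7, 3, 2, 1, 0], 42, [530]),
    ([0, 1, 3, 2, 3, 3, 0, 1], 36, [603]),
    ([0, 7, 4, 1, 2, 5, 0, 1], 35, [375]),
    ([2, 3, 3, 0, 2, 1, 4, 0], 32, [348]),
    ([6, 1, 0, 0, 0, 3, 0, 0, 0], 21, [502]),
    ([6, 6, 1, 3, 2, 6, 1], 42, [491]),
    ([2, 1, 5, 0, 3, 1, 2], 39, [178]),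
    ([3, 2, 3, 1, 2, 6], 37, [269]),
    ([1, 6, 0, 5, 0, 3], 30, [603]),
    ([1, 5, 1, 2, 0, 6, 1], 44, [43]),
    ([1, 5, 0, 1, 7, 6, 1, 0], 27, [100]),
    ([3, 3, 1, 0, 5, 6], 21, [326]),
    ([4, 3, 0, 0, 0, 5, 0, 0], 21, [718]),
    ([1, 0, 6, 2, 7, 4, 0], 39, [679]),
    ([1, 2, 7, 0, 5, 5], 38, [408]),
    ([0, 1, 2, 0, 1, 3, 6, 0, 0], 33, [194]),
    ([6, 5, 6, 0, 1, 3, 2, 0, 1], 33, [791]),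
    ([4, 0, 2, 1, 4, 3], 44, [108]),
    ([2, 3, 0, 0, 0, 6], 37, [359]),
    ([0, 5, 0, 3, 1], 19, [121]),
    ([3, 1, 0, 6, 1, 4], 19, [30]),
    ([2, 4, 3, 5, 3, 0], 43, [378]),
    ([6, 4, 4, 1, 6], 38, [774]),
    ([3, 4, 0, 5, 4], 30, [929]),
    ([1, 6, 2, 4, 1, 0, 2, 1], 43, [778]),
    ([0, 1, 3, 4, 2, 5, 1], 30, [37]),
    ([3, 1, 7, 0, 6, 0, 2, 1], 32, [929]),
    ([5, 2, 7, 1, 0, 2, 4, 1, 0, 0], 32, [717]),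
    ([2, 0, 7, 1, 3, 1], 21, [842]),
    ([5, 0, 1, 5, 3, 3], 21, [745]),
    ([5, 5, 0, 1, 5, 4], 21, [648])]

end Cfsg.Lib.LyReal
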