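/-! Generated data: double cosets. -/

set_option autoImplicit false
set_option maxRecDepth 20000

namespace Cfsg.Lib.LyReal

/-- The translates of record 47. -/
def moveT47 : List (List Nat × Nat × List Nat) :=
  [([5, 5, 2, 5, 0, 1, 2], 51, [784]),
    ([5, 5, 2, 5, 0, 1, 2], 51, [977]),
    ([5, 5, 2, 5, 0, 1, 2], 51, [520]),
    ([5, 5, 2, 5, 0, 1, 2], 51, [1268]),
    ([4, 1, 2, 0, 3], 51, [1759]),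
    ([4, 0, 6, 0, 2, 4, 0], 53, [2083]),
    ([5, 5, 2, 5, 0, 1, 2], 51, [511]),
    ([5, 5, 2, 5, 0, 1, 2], 51, [1488]),
    ([5, 5, 2, 5, 0, 1, 2], 51, [1341]),
    ([2, 0, 6, 6, 3], 53, [15]),
    ([4, 1, 2, 0, 3], 51, [2272]),
    ([0, 2, 5, 3, 6, 3], 53, [453]),
    ([5, 5, 2, 5, 0, 1, 2], 51, [2718]),
    ([7, 5, 5, 2, 0], 53, [2611]),
    ([2, 0, 5, 6, 4], 53, [231]),
    ([2, 3, 4, 0, 3], 53, [1608]),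
    ([5, 5, 2, 5, 0, 1, 2], 51, [1986]),
    ([5, 5, 2, 5, 0, 1, 2], 51, [2717]),
    ([6, 2, 0, 5, 6], 53, [947]),
    ([0, 5, 5, 4, 3, 2], 53, [1788]),
    ([4, 1, 2, 0, 3], 51, [2457]),
    ([7, 0, 0, 5, 6, 2, 0], 53, [1093]),
    ([4, 0, 6, 0, 2, 4, 0], 53, [37]),
    ([4, 0, 6, 0, 2, 4, 0], 53, [154]),
    ([4, 0, 6, 0, 2, 4, 0], 53, [2861]),
    ([2, 0, 6, 6, 3], 53, [1084]),
    ([5, 5, 2, 5, 0, 1, 2], 51, [1289]),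
    ([5, 5, 2, 5, 0, 1, 2], 51, [1182]),
    ([1, 4, 5, 5, 4], 51, [458]),
    ([2, 0, 6, 6, 3], 53, [276]),
    ([5, 5, 2, 5, 0, 1, 2], 51, [250]),
    ([3, 1, 4, 4, 2, 1], 53, [952]),
    ([1, 5, 0, 1, 7, 0, 0], 53, [2463]),
    ([0, 5, 4, 5, 0, 2, 0], 53, [1211]),
    ([3, 2, 6, 1, 6, 2], 53, [241]),
    ([4, 0, 6, 6, 4, 3, 2], 53, [1711]),
    ([2, 0, 6, 6, 3], 53, [2076]),
    ([2, 0, 6, 6, 3], 53, [186]),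
    ([1, 3, 2, 1, 4], 53, [1170]),
    ([2, 0, 7, 6, 4, 4], 53, [1637]),
    ([4, 1, 2, 0, 3], 51, [1404]),
    ([4, 1, 2, 0, 3], 51, [2688]),
    ([0, 2, 4, 4, 5, 3], 53, [2715]),
    ([0, 2, 5, 3, 6, 3], 53, [1840]),
    ([0, 2, 5, 3, 6, 3], 53, [2609]),
    ([2, 0, 6, 3, 6, 0, 0], 53, [2021]),
    ([5, 5, 2, 5, 0, 1, 2], 51, [2404]),
    ([1, 5, 0, 1, 7, 0, 0], 53, [2813]),
    ([5, 3, 5, 5], 18, [1763]),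
    ([1, 2, 0, 5, 2, 1], 53, [1470]),
    ([7, 5, 5, 2, 0], 53, [503]),
    ([7, 5, 5, 2, 0], 53, [2023]),
    ([4, 1, 2, 1, 6, 6], 53, [1858]),
    ([4, 1, 3, 2, 3, 5, 1], 53, [2743]),
    ([0, 0, 5, 6, 0, 2], 53, [1746]),
    ([2, 0, 5, 6, 4], 53, [1860]),
    ([2, 0, 5, 6, 4], 53, [395]),
    ([0, 7, 2, 4, 3, 0, 0], 53, [980]),
    ([5, 1, 2, 7, 1, 6], 53, [2734]),
    ([2, 3, 4, 0, 3], 53, [1651]),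
    ([2, 3, 4, 0, 3], 53, [2187]),
    ([7, 4, 2, 4, 0, 3], 53, [1295]),
    ([5, 5, 2, 5, 0, 1, 2], 51, [586]),
    ([4, 0, 6, 0, 2, 4, 0], 53, [858]),
    ([2, 5, 6, 0, 6, 5], 53, [1118]),
    ([2, 0, 2, 6, 2], 53, [2833]),
    ([1, 6, 2, 3, 1], 53, [867]),
    ([6, 2, 0, 5, 6], 53, [934]),
    ([3, 1, 4, 4, 2, 1], 53, [2776]),
    ([1, 5, 1], 18, [2391]),
    ([0, 5, 5, 4, 3, 2], 53, [2121]),
    ([0, 5, 5, 4, 3, 2], 53, [2108]),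
    ([0, 5, 5, 4, 3, 2], 53, [2507]),
    ([0, 7, 1, 4, 0, 3], 53, [457]),
    ([0, 2, 5, 3, 6, 3], 53, [352]),
    ([7, 0, 0, 5, 6, 2, 0], 53, [1923]),
    ([7, 0, 0, 5, 6, 2, 0], 53, [1188]),
    ([7, 0, 0, 5, 6, 2, 0], 53, [199]),
    ([0, 6, 1, 6, 0, 3], 53, [1748]),
    ([4, 0, 6, 0, 2, 4, 0], 53, [1775]),
    ([4, 0, 6, 0, 2, 4, 0], 53, [1172]),
    ([0, 2, 3, 5, 5], 53, [108]),
    ([4, 0, 6, 0, 2, 4, 0], 53, [2008]),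
    ([0, 3, 6, 3, 2, 6], 53, [624]),
    ([5, 3, 0, 2, 4, 3], 53, [2607]),
    ([3, 0, 3, 3, 2, 6], 53, [2521]),
    ([7, 2, 0, 2, 6, 1, 0], 53, [1834]),
    ([0, 2, 3, 5, 5], 53, [2476]),
    ([1, 3, 2, 1, 4], 53, [1112]),
    ([2, 0, 6, 3, 6, 0, 0], 53, [1680]),
    ([5, 5, 2, 5, 0, 1, 2], 51, [2539]),
    ([3, 1, 4, 4, 2, 1], 53, [2004]),
    ([1, 4, 5, 5, 4], 51, [543]),
    ([5, 3, 5, 5], 18, [121]),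
    ([7, 4, 0, 1, 0, 6], 53, [913]),
    ([2, 0, 6, 6, 3], 53, [11]),
    ([1, 3, 2, 1, 4], 53, [559]),
    ([4, 1, 2, 1, 6, 6], 53, [2816]),
    ([0, 2, 3, 5, 5], 53, [1886]),
    ([6, 3, 1, 4, 2, 3, 1], 53, [51]),
    ([1, 4, 1, 2, 3, 4, 0], 53, [1763]),
    ([1, 2, 0, 3, 1], 18, [1358]),
    ([3, 4, 0, 2, 6, 5], 53, [2531]),
    ([2, 5, 6, 0, 6, 5], 53, [1087]),
    ([6, 4, 3, 3, 3, 2, 0], 53, [1063]),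
    ([0, 5, 4, 5, 0, 2, 0], 53, [2815]),
    ([5, 3, 2, 0, 6, 4], 53, [2586]),
    ([6, 0, 5, 4, 4, 3, 2], 53, [890]),
    ([4, 0, 6, 6, 4, 3, 2], 53, [2196]),
    ([0, 2, 6, 4, 4, 3, 3], 53, [369]),
    ([2, 0, 6, 6, 3], 53, [2173]),
    ([0, 0, 5, 4], 18, [2484]),
    ([1, 3, 2, 1, 4], 53, [2508]),
    ([1, 3, 2, 1, 4], 53, [2163]),
    ([2, 0, 7, 6, 4, 4], 53, [2771]),
    ([4, 1, 2, 0, 3], 51, [2565]),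
    ([0, 3, 4, 2, 7, 6, 0, 0], 53, [2133]),
    ([0, 1, 0, 2, 5, 2], 53, [1236]),
    ([3, 5, 0, 0, 5, 2, 0], 53, [1732]),
    ([2, 1, 4, 2, 3, 4], 53, [1649]),
    ([0, 2, 4, 4, 5, 3], 53, [2114]),
    ([1, 4, 4, 4, 1, 2, 0], 53, [2875]),
    ([3, 5, 0, 2, 3], 53, [504]),
    ([0, 2, 5, 3, 6, 3], 53, [2651]),
    ([2, 0, 6, 3, 6, 0, 0], 53, [872]),
    ([1, 5, 0, 1, 7, 0, 0], 53, [2577]),
    ([6, 1, 3, 1, 2, 5, 0], 53, [1994]),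
    ([1, 2, 0, 5, 2, 1], 53, [2653]),
    ([7, 5, 5, 2, 0], 53, [791]),
    ([7, 4, 0, 2, 4, 3], 53, [1101]),
    ([6, 0, 1, 0, 6, 5], 53, [432]),
    ([6, 1, 5, 0, 1, 0, 0], 53, [400]),
    ([0, 0, 5, 6, 0, 2], 53, [2832]),
    ([2, 0, 5, 6, 4], 53, [1358]),
    ([5, 6, 5, 2, 0, 0, 0], 53, [585]),
    ([5, 4, 3, 4, 0, 2, 3], 53, [444]),
    ([2, 0, 5, 6, 4], 53, [1365]),
    ([5, 4, 3, 0, 2, 3], 53, [1494]),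
    ([0, 7, 2, 4, 3, 0, 0], 53, [2698]),
    ([5, 1, 2, 7, 1, 6], 53, [2616]),
    ([2, 3, 4, 0, 3], 53, [999]),
    ([2, 0, 6, 6, 3], 53, [1207]),
    ([0, 6, 5, 4, 2, 5], 53, [1250]),
    ([5, 6, 5, 0, 1, 0], 53, [2105]),
    ([6, 1, 3, 1], 18, [2672]),
    ([4, 0, 5, 6, 5, 2], 53, [2340]),
    ([0, 3, 5, 3, 2, 6, 5], 53, [1733]),
    ([3, 1, 4, 4, 2, 1], 53, [158]),
    ([0, 2, 3, 5, 5], 53, [1660]),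
    ([5, 4, 3, 0, 2, 3], 53, [1178])]

end Cfsg.Lib.LyReal
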