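/-! Generated data: double cosets. -/

set_option autoImplicit false
set_option maxRecDepth 20000

namespace Cfsg.Lib.LyReal

/-- The translates of record 48. -/
def moveT48 : List (List Nat × Nat × List Nat) :=
  [([2, 1, 6, 5, 3, 4], 56, [1065]),
    ([7, 5, 3, 1, 2, 5], 63, [2749]),
    ([1, 2, 6, 0, 6, 4, 1], 48, [1300]),
    ([2, 3, 0, 5, 2, 5, 2, 0], 58, [2459]),
    ([6, 3, 2, 3, 0, 2, 4, 0], 56, [317]),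
    ([0, 1, 2, 4, 1, 0, 2], 58, [731]),
    ([5, 5, 6, 5, 4, 1], 58, [795]),
    ([1, 2, 0, 5, 1, 0, 2, 0, 0], 63, [995]),
    ([5, 1, 2, 0, 6, 0, 0], 48, [1217]),
    ([0, 7, 6, 1, 2, 3, 1], 55, [2749]),
    ([5, 1, 3, 1, 3, 1], 62, [1665]),
    ([5, 0, 1, 5, 2, 3, 0, 1], 55, [618]),
    ([1, 5, 2, 1, 0, 5, 1, 0], 63, [2601]),
    ([5, 6, 2, 5, 1, 2, 5], 56, [2137]),
    ([2, 6, 1, 6, 1, 7], 58, [2158]),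
    ([2, 0, 6, 2, 5, 4, 1, 0], 56, [1088]),
    ([6, 5, 4, 0, 5], 57, [586]),
    ([6, 2, 1, 5, 6, 0, 0], 50, [264]),
    ([2, 6, 4, 4, 1, 0, 3, 2], 58, [1635]),
    ([4, 2, 6, 4, 0, 3], 60, [1613]),
    ([3, 4, 3, 1, 4, 0, 2], 54, [1680]),
    ([1, 6, 5, 1, 4, 2, 0], 58, [2285]),
    ([1, 2, 0, 7, 1, 4], 56, [2383]),
    ([4, 5, 6, 6, 3], 50, [1619]),
    ([0, 1, 7, 2, 0, 0], 48, [2]),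
    ([2, 7, 0, 6, 0, 0, 6, 0], 55, [1124]),
    ([6, 1, 2, 0, 3, 0, 1], 63, [24]),
    ([2, 5, 4, 1, 5, 2, 0, 0, 0], 58, [1990]),
    ([0, 2, 6, 5, 2, 1, 0, 0, 0], 58, [1399]),
    ([2, 6, 4, 4, 2, 0], 54, [967]),
    ([6, 3, 0, 3, 4], 50, [933]),
    ([2, 3, 0, 0, 0, 0, 5, 1], 49, [1682]),
    ([2, 1, 4, 3, 0, 1, 2, 4, 0], 55, [2336]),
    ([6, 1, 4, 1, 4, 0, 1], 49, [2336]),
    ([2, 3, 6, 3, 0, 1, 0, 0], 55, [643]),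
    ([2, 7, 0, 1, 6, 2], 54, [1088]),
    ([5, 3, 0, 3, 6, 1, 2, 0], 56, [995]),
    ([4, 1, 0, 2, 1, 4, 3, 1], 54, [1835]),
    ([6, 6, 0, 2, 1, 0, 6, 2, 0], 58, [2499]),
    ([0, 2, 3, 1, 5, 3, 4], 55, [8]),
    ([3, 6, 0, 0, 3, 0, 0], 63, [2843]),
    ([4, 1, 4, 0, 2, 1, 6, 1], 57, [293]),
    ([4, 2, 0, 1, 6, 2, 5], 55, [1405]),
    ([4, 1, 4, 0, 3, 0], 55, [2289]),
    ([0, 2, 1, 4, 3, 2, 0, 1], 58, [1596]),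
    ([0, 3, 1, 2, 0, 5], 54, [2383]),
    ([7, 5, 0, 0, 5, 1, 0], 63, [2336]),
    ([2, 7, 6, 4, 2, 1], 49, [1857]),
    ([7, 0, 2, 4], 52, [24]),
    ([0, 1, 2, 0, 1, 0, 6, 3], 55, [586]),
    ([6, 6, 5, 0, 5, 3], 57, [376]),
    ([6, 2, 4, 0, 2, 4, 0], 56, [1341]),
    ([7, 2, 1, 6, 2, 0, 1], 61, [2213]),
    ([7, 1, 2, 1, 4, 0, 0], 61, [2351]),
    ([6, 0, 5, 6, 0, 0], 61, [2575]),
    ([1, 7, 6, 1, 5, 1], 57, [2]),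
    ([3, 0, 2, 0, 3, 0], 58, [1541]),
    ([1, 0, 7, 4, 1, 3], 61, [810]),
    ([1, 6, 4, 2, 1], 60, [2398]),
    ([0, 2, 1, 6, 0, 1, 5], 48, [656]),
    ([4, 5, 0, 1, 4, 3, 3, 2], 56, [967]),
    ([5, 0, 0, 5, 1, 2, 1, 0], 58, [356]),
    ([1, 2, 0, 6, 5, 1, 0], 52, [2843]),
    ([2, 3, 1, 0, 2, 1, 0, 0], 61, [1577]),
    ([2, 6, 2, 0, 0, 5, 0, 1, 0], 56, [1296]),
    ([2, 4, 5, 4, 1, 0], 60, [2186]),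
    ([0, 1, 2, 5, 1, 0, 5, 1, 0, 0], 56, [2388]),
    ([1, 0, 3, 1, 2, 5, 1, 0, 0], 58, [2171]),
    ([5, 5, 2, 3, 3, 1], 59, [459]),
    ([7, 3, 0, 1, 4, 3, 0], 56, [1680]),
    ([1, 4, 2, 5, 1, 4], 56, [1835]),
    ([0, 0, 5, 1, 0, 2, 4, 1], 48, [930]),
    ([3, 4, 3, 2, 5], 49, [2289]),
    ([0, 2, 0, 3, 0, 3, 2, 1], 58, [2691]),
    ([0, 6, 2, 3, 2, 1, 0, 2], 61, [1966]),
    ([0, 1, 5, 2, 0, 5, 4, 0, 0], 56, [24]),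
    ([5, 1, 5], 59, [783]),
    ([4, 3, 1, 2, 6, 0, 1, 0], 57, [410]),
    ([1, 3, 6, 1, 0, 2, 4, 1], 49, [201]),
    ([3, 2, 3, 3, 2, 5], 62, [535]),
    ([0, 5, 2, 7, 5, 0, 0], 55, [376]),
    ([2, 5, 6, 1, 0, 3, 0], 49, [586]),
    ([3, 1, 2, 5, 0, 1, 0, 2, 0, 0], 61, [365]),
    ([4, 3, 0, 0, 0, 5, 1], 58, [424]),
    ([3, 4, 0, 2, 1, 4, 1], 56, [1912]),
    ([5, 2, 1, 6, 0, 6, 0], 61, [1257]),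
    ([0, 1, 0, 5, 6, 4, 1], 59, [1826]),
    ([1, 5, 1, 6, 1, 0, 2, 1], 63, [152]),
    ([6, 1, 0, 6, 1, 6, 0, 0], 55, [410]),
    ([1, 4, 5, 6, 0], 55, [1689]),
    ([1, 0, 0, 5, 4, 4, 2], 59, [2716]),
    ([7, 2, 4, 0, 2, 1, 4, 0], 56, [946]),
    ([0, 1, 4, 1, 2, 6], 56, [2576]),
    ([3, 2, 0, 7, 6, 5, 2], 54, [317]),
    ([1, 5, 5, 0, 5, 0, 1, 0], 56, [391]),
    ([0, 1, 3, 2, 3, 0], 59, [2879]),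
    ([5, 2, 0, 5, 0, 1, 2], 55, [2720]),
    ([0, 5, 4, 2, 6, 0, 1], 61, [2661]),
    ([2, 7, 1, 4, 0, 3, 2], 58, [1808]),
    ([2, 5, 1, 3, 6, 1, 0], 61, [2310]),
    ([1, 0, 2, 6, 1, 0, 2, 0], 58, [372]),
    ([7, 7, 1, 6, 6, 6], 62, [2200]),
    ([7, 1, 6, 0, 1, 2, 5], 56, [433]),
    ([4, 2, 3, 0, 5, 2, 1], 54, [995]),
    ([5, 1, 0, 2, 1, 5, 3, 0, 0], 56, [2231]),
    ([5, 2, 0, 3, 1, 0, 0, 0], 57, [249]),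
    ([1, 5, 0, 1, 5, 2, 6, 1, 0], 58, [1414]),
    ([2, 3, 0, 1, 4, 2, 3], 58, [1514]),
    ([0, 1, 6, 5, 4, 2, 0, 1], 54, [1145]),
    ([1, 5, 2, 0, 6, 1, 0, 6, 0], 56, [883]),
    ([1, 6, 6, 6, 3], 59, [1213]),
    ([2, 6, 1, 5, 1], 57, [2768]),
    ([5, 5, 2, 6, 0, 1, 2, 0, 0], 55, [1473]),
    ([1, 7, 6, 6, 6], 50, [2245]),
    ([0, 1, 5, 0, 2, 4, 1, 5], 58, [727]),
    ([5, 2, 5, 1, 5, 4], 59, [264]),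
    ([5, 0, 1, 7, 2, 0, 1, 0, 0], 55, [1520]),
    ([0, 6, 1, 3, 1, 2, 1], 55, [968]),
    ([1, 0, 0, 0, 5, 1, 2, 5, 1], 55, [626]),
    ([2, 7, 0, 0, 5, 3, 0], 55, [1682]),
    ([2, 6, 1, 0, 2, 0, 6], 55, [2354]),
    ([0, 0, 5, 1, 3, 0, 1, 2, 1, 0], 58, [1556]),
    ([2, 5, 5, 5, 5, 0, 2, 1], 55, [279]),
    ([3, 0, 3, 3, 0, 2, 0], 56, [2208]),
    ([6, 0, 1, 2, 3, 4, 1, 0], 63, [2303]),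
    ([5, 6, 2, 7, 0, 5, 1, 0], 58, [2728]),
    ([2, 5, 4, 4, 3, 3], 55, [1857]),
    ([5, 5, 1, 4, 0, 3], 55, [535]),
    ([1, 2, 0, 7, 0, 5, 1], 61, [1701]),
    ([5, 2, 4, 0, 2], 50, [109]),
    ([3, 3, 2, 1, 5, 5], 56, [1145]),
    ([6, 1, 6, 2, 0], 59, [2129]),
    ([1, 2, 4, 1, 0, 5, 0, 1], 55, [201]),
    ([3, 6, 6, 0, 1, 0], 52, [391]),
    ([3, 0, 5, 4, 2], 61, [1436]),
    ([6, 6, 3, 6, 4, 1, 5], 50, [2009]),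
    ([1, 6, 3, 2, 5, 4, 0], 55, [2303]),
    ([1, 2, 4, 3, 1, 2, 0, 1], 58, [2831]),
    ([1, 5, 3, 3, 0, 1, 2, 1, 0], 56, [1878]),
    ([0, 1, 2, 3, 3, 5, 1], 54, [946]),
    ([6, 0, 1, 0, 7, 6], 63, [391]),
    ([2, 1, 5, 0, 7, 2, 4, 0], 56, [1070]),
    ([3, 4, 2, 7, 0, 6, 1, 0], 48, [2790]),
    ([5, 1, 2, 0, 3, 5], 54, [1296]),
    ([5, 4, 0, 2, 1, 5], 59, [1431]),
    ([1, 0, 6, 1, 3, 4, 2], 57, [1682]),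
    ([3, 2, 4, 1, 5, 6, 0, 2], 57, [2790]),
    ([7, 4, 0, 2, 1, 0, 5], 54, [2388]),
    ([7, 3, 0, 3, 1, 0, 0], 54, [433]),
    ([1, 0, 5, 4, 3, 1, 2, 1], 58, [2869])]

end Cfsg.Lib.LyReal
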