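import Cfsg.Agent.Lib.LyReal.ClosureDefs
import Cfsg.Agent.Lib.LyReal.DataMove45
import Cfsg.Agent.Lib.LyReal.DataMove46
import Cfsg.Agent.Lib.LyReal.DataMove47
import Cfsg.Agent.Lib.LyReal.DataMove48
import Cfsg.Agent.Lib.LyReal.DataMove49

/-!
# Translates of five records
-/

set_option autoImplicit false
set_option maxRecDepth 100000

namespace Cfsg.Lib.LyReal

theorem move45_ok : moveOK 45 moveT45 = true := by decide +kernel

theorem move46_ok : moveOK 46 moveT46 = true := by decide +kernel

theorem move47_ok : moveOK 47 moveT47 = true := by decide +kernel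

theorem move48_ok : moveOK 48 moveT48 = true := by decide +kernel

theorem move49_ok : moveOK 49 moveT49 = true := by decide +kernel

end Cfsg.Lib.LyReal
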