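import Cfsg.Agent.Lib.LyReal.StabCount
import Cfsg.Agent.Lib.LyReal.MovePart0
import Cfsg.Agent.Lib.LyReal.MovePart1
import Cfsg.Agent.Lib.LyReal.MovePart2
import Cfsg.Agent.Lib.LyReal.MovePart3
import Cfsg.Agent.Lib.LyReal.MovePart4
import Cfsg.Agent.Lib.LyReal.MovePart5
import Cfsg.Agent.Lib.LyReal.MovePart6
import Cfsg.Agent.Lib.LyReal.MovePart7
import Cfsg.Agent.Lib.LyReal.MovePart8
import Cfsg.Agent.Lib.LyReal.MovePart9
import Cfsg.Agent.Lib.LyReal.MovePart10
import Cfsg.Agent.Lib.LyReal.MovePart11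
import Cfsg.Agent.Lib.LyReal.MovePart12

/-!
# Every element of the letters' subgroup lies in a recorded double coset
-/

set_option autoImplicit false
set_option maxRecDepth 100000

open scoped IsMulCommutative

namespace Cfsg.Lib.LyReal

/-- The word of a letter in the eight generators and the extra one. -/
def gw9 : List ℕ → List ℕ
  | [] => []
  | i :: w => (if i < 8 then getL [] c6 i else gWord) ++ gw9 w

/-- The orders of the six letters. -/
def letOrd : List ℕ := [8, 5, 5, 4, 2, 5]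

theorem trans_ok : transOK = true := by decide +kernel

theorem letters_ok : ((List.range 6).all fun x => eqW [x] (gw9 (getL [] letW x)) &&
    eqW [x + 6] (List.replicate (getL 0 letOrd x - 1) x)) = true := by decide +kernel

theorem start_ok : ((List.range 4).all fun k =>
    landOK (k + 1) (BigMat.one 7) (getL ([], 0, []) startT k)) = true := by decide +kernel

theorem lit_ok : litOK = true := by decide +kernel

theorem rec_count : repM.length = 150 := by decide +kernel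

theorem rep_zero : getL [] repsT 0 = [] := by decide +kernel

theorem recT_len : recT.length = 65 := by decide +kernel

theorem cOK_append {a b : List ℕ} (ha : cOK a = true) (hb : cOK b = true) :
    cOK (a ++ b) = true := by
  induction a with
  | nil => simpa using hb
  | cons x a ih =>
    simp only [cOK, Bool.and_eq_true, List.cons_append] at ha ⊢
    exact ⟨ha.1, ih ha.2⟩

theorem cw_append : ∀ a b : List ℕ, cw (a ++ b) = cw a ++ cw b
  | [], b => rfl
  | x :: a, b => by simp [cw, cw_append a b]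

theorem moves_key : ∀ n < 65, ∃ M, moveOK n M = true := by
  intro n hn
  interval_cases n
  · exact ⟨moveT0, move0_ok⟩
  · exact ⟨moveT1, move1_ok⟩
  · exact ⟨moveT2, move2_ok⟩
  · exact ⟨moveT3, move3_ok⟩
  · exact ⟨moveT4, move4_ok⟩
  · exact ⟨moveT5, move5_ok⟩
  · exact ⟨moveT6, move6_ok⟩
  · exact ⟨moveT7, move7_ok⟩
  · exact ⟨moveT8, move8_ok⟩
  · exact ⟨moveT9, move9_ok⟩
  · exact ⟨moveT10, move10_ok⟩
  · exact ⟨moveT11, move11_ok⟩
  · exact ⟨moveT12, move12_ok⟩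
  · exact ⟨moveT13, move13_ok⟩
  · exact ⟨moveT14, move14_ok⟩
  · exact ⟨moveT15, move15_ok⟩
  · exact ⟨moveT16, move16_ok⟩
  · exact ⟨moveT17, move17_ok⟩
  · exact ⟨moveT18, move18_ok⟩
  · exact ⟨moveT19, move19_ok⟩
  · exact ⟨moveT20, move20_ok⟩
  · exact ⟨moveT21, move21_ok⟩
  · exact ⟨moveT22, move22_ok⟩
  · exact ⟨moveT23, move23_ok⟩
  · exact ⟨moveT24, move24_ok⟩
  · exact ⟨moveT25, move25_ok⟩
  · exact ⟨moveT26, move26_ok⟩
  · exact ⟨moveT27, move27_ok⟩
  · exact ⟨moveT28, move28_ok⟩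
  · exact ⟨moveT29, move29_ok⟩
  · exact ⟨moveT30, move30_ok⟩
  · exact ⟨moveT31, move31_ok⟩
  · exact ⟨moveT32, move32_ok⟩
  · exact ⟨moveT33, move33_ok⟩
  · exact ⟨moveT34, move34_ok⟩
  · exact ⟨moveT35, move35_ok⟩
  · exact ⟨moveT36, move36_ok⟩
  · exact ⟨moveT37, move37_ok⟩
  · exact ⟨moveT38, move38_ok⟩
  · exact ⟨moveT39, move39_ok⟩
  · exact ⟨moveT40, move40_ok⟩
  · exact ⟨moveT41, move41_ok⟩
  · exact ⟨moveT42, move42_ok⟩
  · exact ⟨moveT43, move43_ok⟩
  · exact ⟨moveT44, move44_ok⟩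
  · exact ⟨moveT45, move45_ok⟩
  · exact ⟨moveT46, move46_ok⟩
  · exact ⟨moveT47, move47_ok⟩
  · exact ⟨moveT48, move48_ok⟩
  · exact ⟨moveT49, move49_ok⟩
  · exact ⟨moveT50, move50_ok⟩
  · exact ⟨moveT51, move51_ok⟩
  · exact ⟨moveT52, move52_ok⟩
  · exact ⟨moveT53, move53_ok⟩
  · exact ⟨moveT54, move54_ok⟩
  · exact ⟨moveT55, move55_ok⟩
  · exact ⟨moveT56, move56_ok⟩
  · exact ⟨moveT57, move57_ok⟩
  · exact ⟨moveT58, move58_ok⟩
  · exact ⟨moveT59, move59_ok⟩
  · exact ⟨moveT60, move60_ok⟩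
  · exact ⟨moveT61, move61_ok⟩
  · exact ⟨moveT62, move62_ok⟩
  · exact ⟨moveT63, move63_ok⟩
  · exact ⟨moveT64, move64_ok⟩

/-- A matrix of an element of the group on six generators. -/
def Mat7 (ψ : Cfsg.Lib.CosetEnum.LyG2.SixGroup →* GL (Fin 7) (ZMod 5)) (A : ℕ)
    (s : Cfsg.Lib.CosetEnum.LyG2.SixGroup) : Prop :=
  BigMat.IsMat 7 A ∧ (ψ s : Matrix (Fin 7) (Fin 7) (ZMod 5)) = BigMat.toMat 7 A

variable {ψ : Cfsg.Lib.CosetEnum.LyG2.SixGroup →* GL (Fin 7) (ZMod 5)}

theorem mat7_mul {A B : ℕ} {s t : Cfsg.Lib.CosetEnum.LyG2.SixGroup} (ha : Mat7 ψ A s)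
    (hb : Mat7 ψ B t) : Mat7 ψ (mul7 A B) (s * t) := by
  have h := BigMat.toMat_mul (n := 7) (by norm_num) (by norm_num) ha.1 hb.1
  rw [Mat7, mul7_eq, map_mul, Units.val_mul, ha.2, hb.2]
  exact ⟨h.1, h.2.symm⟩

theorem mat7_inj (hψ : Function.Injective ψ) {A : ℕ} {s t : Cfsg.Lib.CosetEnum.LyG2.SixGroup}
    (ha : Mat7 ψ A s) (hb : Mat7 ψ A t) : s = t :=
  hψ (Units.ext (ha.2.trans hb.2.symm))

theorem six_append (a b : List ℕ) : six (a ++ b) = six a * six b := by
  simp [six, List.map_append, List.prod_append]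

theorem mat7_cw (hψ : ∀ w, (∀ g ∈ w, g < 12) →
      (ψ (six w) : Matrix (Fin 7) (Fin 7) (ZMod 5)) = BigMat.toMat 7 (pw w) ∧
        BigMat.IsMat 7 (pw w)) : ∀ {c : List ℕ}, cOK c = true →
    lettersOK (cw c) = true ∧ Mat7 ψ (pw7 cMat c) (six (cw c))
  | [], _ => by
    refine ⟨rfl, ?_⟩
    rw [pw7, show six (cw []) = 1 from rfl, Mat7, map_one, Units.val_one]
    exact ⟨BigMat.isMat_one.1, BigMat.isMat_one.2.symm⟩
  | i :: c, h => by
    simp only [cOK, Bool.and_eq_true, Nat.blt_eq] at h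
    obtain ⟨ih1, ih2⟩ := mat7_cw hψ h.2
    have hl : ∀ i < 8, lettersOK (getL [] c6 i) = true := by decide +kernel
    have hlit := lit_ok
    simp only [litOK, Bool.and_eq_true] at hlit
    have hm := List.all_eq_true.1 hlit.1.1.1.1 i (List.mem_range.2 h.1)
    simp only [Bool.and_eq_true, Nat.beq_eq] at hm
    refine ⟨lettersOK_iff.2 fun g hg => ?_, ?_⟩
    · rw [cw, List.mem_append] at hg
      rcases hg with hg | hg
      · exact lettersOK_iff.1 (hl i h.1) g hg
      · exact lettersOK_iff.1 ih1 g hg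
    · rw [cw, six_append, pw7, CosetEnum.force_eq]
      refine mat7_mul ?_ ih2
      have := hψ _ (lettersOK_iff.1 (hl i h.1))
      rw [hm.1]
      exact ⟨this.2, this.1⟩

theorem rec_spec {n : ℕ} (hn : n < 65) :
    (getL nilFct envS (getL 0 recT n)).zf = true ∧
    (getL nilFct envS (getL 0 recT n)).j = getL 0 recJ n ∧
    lettersOK (getL nilFct envS (getL 0 recT n)).w = true ∧
    getL 0 recM n = pw (getL nilFct envS (getL 0 recT n)).w ∧
    0 < getL 0 recJ n ∧ getL 0 recJ n < 5 := by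
  have hlit := lit_ok
  simp only [litOK, Bool.and_eq_true] at hlit
  have h := List.all_eq_true.1 hlit.2 n (List.mem_range.2 hn)
  simp only [Bool.and_eq_true, Nat.beq_eq, Nat.blt_eq] at h
  obtain ⟨⟨⟨⟨⟨h1, h2⟩, h3⟩, h4⟩, h5⟩, h6⟩ := h
  exact ⟨h1, h2, h3, h4, h2 ▸ h5, h2 ▸ h6⟩

theorem moveFrom_spec {j W : ℕ} : ∀ {Rs : List ℕ} {ts : List (List ℕ × ℕ × List ℕ)},
    moveFrom j W Rs ts = true → ∀ i < Rs.length, ∃ t,
      landOK j (mul7 gMat (mul7 (getL 0 Rs i) W)) t = true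
  | [], [], _, i, hi => by simp at hi
  | R :: Rs, t :: ts, h, i, hi => by
    simp only [moveFrom, Bool.and_eq_true] at h
    cases i with
    | zero => exact ⟨t, h.1⟩
    | succ i => exact moveFrom_spec h.2 i (by simpa using hi)
  | [], _ :: _, h, _, _ => by simp [moveFrom] at h
  | _ :: _, [], h, _, _ => by simp [moveFrom] at h

namespace Sys

variable {Γ : Type*} [Group Γ] (S : Sys Γ)

theorem ev_one (hη : ∀ k < 14, S.η k = 1) (a : List ℤ) : S.ev a = 1 := by
  have h : S.evC a = 1 := Finset.prod_eq_one fun i hi => by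
    rw [hη i (Finset.mem_range.1 hi), one_zpow]
  rw [ev, h, Subgroup.coe_one]

/-- The word of a record. -/
def recW (n : ℕ) : List ℕ := (getL nilFct envS (getL 0 recT n)).w

/-- A coset lies in a record of an orbit. -/
def InRec (j : ℕ) (h : Γ) : Prop :=
  ∃ c n, cOK c = true ∧ n < 65 ∧ getL 0 recJ n = j ∧
    S.R (h * S.P j) (S.v (cw c) * (S.v (recW n) * S.P j))

theorem right_coset : ∀ c : List ℕ, cOK c = true → ∃ d d' i, i < 150 ∧ cOK d = true ∧
    cOK d' = true ∧ S.v (cw c) = S.v (cw d) * S.v (cw (getL [] repsT i)) ∧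
    S.v gWord * S.v (cw d) = S.v (cw d') * S.v gWord := by
  intro c
  induction c using List.reverseRecOn with
  | nil =>
    intro _
    exact ⟨[], [], 0, by norm_num, rfl, rfl, by simp [rep_zero, cw], by simp [cw]⟩
  | append_singleton c x ih =>
    intro hc
    have hx : x < 8 := cOK_iff hc x (by simp)
    have hc' : cOK c = true := by
      clear ih
      induction c with
      | nil => rfl
      | cons a c ihc =>
        simp only [cOK, List.cons_append, Bool.and_eq_true] at hc ⊢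
        exact ⟨hc.1, ihc hc.2⟩
    obtain ⟨d, d', i, hi, hd, hd', h1, h2⟩ := ih hc'
    have ht := List.all_eq_true.1 (List.all_eq_true.1 trans_ok i (List.mem_range.2 hi)) x
      (List.mem_range.2 hx)
    generalize getL (0, [], []) (getL [] transT i) x = t at ht
    simp only [trOne, Bool.and_eq_true, Nat.blt_eq] at ht
    obtain ⟨⟨⟨⟨hk, ht1⟩, ht2⟩, he1⟩, he2⟩ := ht
    have e1 := S.v_eq he1
    have e2 := S.v_eq he2
    rw [cw_append, v_append, v_append] at e1
    rw [v_append, v_append] at e2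
    refine ⟨d ++ t.2.1, d' ++ t.2.2, t.1, hk, cOK_append hd ht1, cOK_append hd' ht2, ?_, ?_⟩
    · rw [cw_append, cw_append, v_append, v_append, h1, mul_assoc, e1, mul_assoc]
    · rw [cw_append, cw_append, v_append, v_append, ← mul_assoc, h2, mul_assoc, e2, mul_assoc]

theorem kMat_sound (hη : ∀ a, S.ev a = 1)
    (hψ : ∀ w, (∀ g ∈ w, g < 12) →
      (ψ (six w) : Matrix (Fin 7) (Fin 7) (ZMod 5)) = BigMat.toMat 7 (pw w) ∧
        BigMat.IsMat 7 (pw w)) {j K : ℕ} {ks : List ℕ} (h : kMat j ks = some K) :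
    ∃ s ∈ S.Stab j, Mat7 ψ K s := by
  unfold kMat at h
  split at h
  · split_ifs at h with hc
    obtain rfl := Option.some.inj h
    obtain ⟨-, hm⟩ := mat7_cw hψ hc
    refine ⟨_, ?_, hm⟩
    clear h hm
    induction ks with
    | nil => exact one_mem _
    | cons i ks ih =>
      simp only [cOK, Bool.and_eq_true, Nat.blt_eq] at hc
      rw [cw, six_append]
      refine mul_mem ?_ (ih hc.2)
      show S.R (S.hom _ * S.P 1) (S.P 1)
      have hl : ∀ i < 8, lettersOK (getL [] c6 i) = true := by decide +kernel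
      rw [S.hom_six (hl i hc.1)]
      have hs := S.seedK_sound hc.1
      simpa [Holds, hη] using hs
  · split_ifs at h with hc
    obtain rfl := Option.some.inj h
    obtain ⟨s, hs, h1, h2⟩ := S.elem_mem hη (j := 2) (by norm_num) (by norm_num) prods2_ok hψ _
      (Nat.blt_eq.mp hc)
    exact ⟨s, hs, h1, h2⟩
  · split_ifs at h with hc
    obtain rfl := Option.some.inj h
    obtain ⟨s, hs, h1, h2⟩ := S.elem_mem hη (j := 3) (by norm_num) (by norm_num) prods3_ok hψ _
      (Nat.blt_eq.mp hc)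
    exact ⟨s, hs, h1, h2⟩
  · split_ifs at h with hc
    obtain rfl := Option.some.inj h
    obtain ⟨s, hs, h1, h2⟩ := S.elem_mem hη (j := 4) (by norm_num) (by norm_num) prods4_ok hψ _
      (Nat.blt_eq.mp hc)
    exact ⟨s, hs, h1, h2⟩
  · simp at h

theorem landOK_sound (hη : ∀ a, S.ev a = 1) (hψi : Function.Injective ψ)
    (hψ : ∀ w, (∀ g ∈ w, g < 12) →
      (ψ (six w) : Matrix (Fin 7) (Fin 7) (ZMod 5)) = BigMat.toMat 7 (pw w) ∧
        BigMat.IsMat 7 (pw w)) {j A : ℕ} {t : List ℕ × ℕ × List ℕ}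
    {s : Cfsg.Lib.CosetEnum.LyG2.SixGroup} (hs : Mat7 ψ A s) (h : landOK j A t = true) :
    cOK t.1 = true ∧ t.2.1 < 65 ∧ getL 0 recJ t.2.1 = j ∧
      S.R (S.hom s * S.P j) (S.v (cw t.1) * (S.v (recW t.2.1) * S.P j)) := by
  simp only [landOK] at h
  cases hk : kMat j t.2.2 with
  | none => simp [hk] at h
  | some K =>
    simp only [hk, Bool.and_eq_true, Nat.beq_eq, Nat.blt_eq] at h
    obtain ⟨⟨⟨hc, hn⟩, hj⟩, he⟩ := h
    obtain ⟨κ, hκ, hK⟩ := S.kMat_sound hη hψ hk
    obtain ⟨hlc, hC⟩ := mat7_cw hψ hc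
    obtain ⟨-, -, hlw, hW, -⟩ := rec_spec hn
    have hw := hψ _ (lettersOK_iff.1 hlw)
    have hWm : Mat7 ψ (getL 0 recM t.2.1) (six (recW t.2.1)) := by
      rw [hW]; exact ⟨hw.2, hw.1⟩
    have heq := mat7_inj hψi hs (he ▸ mat7_mul hC (mat7_mul hWm hK))
    refine ⟨hc, hn, hj, ?_⟩
    rw [heq, map_mul, map_mul, S.hom_six hlc, S.hom_six (w := recW t.2.1) hlw, mul_assoc, mul_assoc]
    exact S.R_mul _ (S.R_mul _ hκ)

theorem inRec_one (hη : ∀ k < 14, S.η k = 1) {j : ℕ} (h0 : 0 < j) (h5 : j < 5) :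
    S.InRec j 1 := by
  have h := List.all_eq_true.1 start_ok (j - 1) (List.mem_range.2 (by omega))
  rw [show j - 1 + 1 = j by omega] at h
  obtain ⟨ψ, hψi, hψ⟩ := exists_seven
  obtain ⟨hc, hi, hj, hR⟩ := S.landOK_sound (S.ev_one hη) hψi hψ (s := 1)
    ⟨BigMat.isMat_one.1, by rw [map_one, Units.val_one]; exact BigMat.isMat_one.2.symm⟩ h
  exact ⟨_, _, hc, hi, hj, by simpa using hR⟩

theorem inRec_gen {j i : ℕ} (hi : i < 8) {h : Γ} (hh : S.InRec j h) :
    S.InRec j (S.v (getL [] c6 i) * h) := by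
  obtain ⟨c, k, hc, hk, hj, hR⟩ := hh
  refine ⟨i :: c, k, by simp [cOK, hc, hi], hk, hj, ?_⟩
  rw [cw, v_append, mul_assoc, mul_assoc]
  exact S.R_mul _ hR

theorem inRec_g (hη : ∀ k < 14, S.η k = 1) {j : ℕ} {h : Γ} (hh : S.InRec j h) :
    S.InRec j (S.v gWord * h) := by
  obtain ⟨c, n, hc, hn, hj, hR⟩ := hh
  obtain ⟨d, d', i, hi, -, hd', h1, h2⟩ := S.right_coset c hc
  obtain ⟨M, hM⟩ := moves_key n hn
  simp only [moveOK, CosetEnum.force_eq, hj] at hM
  obtain ⟨t, hland⟩ := moveFrom_spec hM i (rec_count.symm ▸ hi)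
  obtain ⟨ψ, hψi, hψ⟩ := exists_seven
  have hlit := lit_ok
  simp only [litOK, Bool.and_eq_true, Nat.beq_eq] at hlit
  have hr := List.all_eq_true.1 hlit.1.2 i (List.mem_range.2 hi)
  simp only [Bool.and_eq_true, Nat.beq_eq] at hr
  obtain ⟨hlr, hmr⟩ := mat7_cw hψ hr.1
  have hlg := hlit.1.1.2
  have hg := hψ gWord (lettersOK_iff.1 hlg)
  obtain ⟨-, -, hlw, hW, -⟩ := rec_spec hn
  have hw := hψ _ (lettersOK_iff.1 hlw)
  have hs : Mat7 ψ (mul7 gMat (mul7 (getL 0 repM i) (getL 0 recM n)))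
      (six gWord * (six (cw (getL [] repsT i)) * six (recW n))) := by
    refine mat7_mul (hlit.1.1.1.2 ▸ ⟨hg.2, hg.1⟩) (mat7_mul (hr.2 ▸ hmr) ?_)
    rw [hW]; exact ⟨hw.2, hw.1⟩
  obtain ⟨hc2, hn2, hj2, hR2⟩ := S.landOK_sound (S.ev_one hη) hψi hψ hs hland
  refine ⟨d' ++ t.1, t.2.1, cOK_append hd' hc2, hn2, hj2, ?_⟩
  rw [mul_assoc, cw_append, v_append, mul_assoc]
  refine S.R_trans (S.R_mul _ hR) ?_
  rw [map_mul, map_mul, S.hom_six hlg, S.hom_six hlr, S.hom_six (w := recW n) hlw] at hR2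
  rw [h1]
  simp only [← mul_assoc]
  rw [h2]
  simpa only [mul_assoc] using S.R_mul (S.v (cw d')) hR2

theorem inRec_word (hη : ∀ k < 14, S.η k = 1) {j : ℕ} : ∀ (w : List ℕ) {h : Γ}, S.InRec j h →
    S.InRec j (S.v (gw9 w) * h)
  | [], h, hh => by simpa [gw9] using hh
  | i :: w, h, hh => by
    rw [gw9, v_append, mul_assoc]
    split_ifs with hi
    · exact S.inRec_gen hi (inRec_word hη w hh)
    · exact S.inRec_g hη (inRec_word hη w hh)

/-- Every element of the letters' subgroup lies in a record. -/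
theorem inRec_all (hη : ∀ k < 14, S.η k = 1) {j : ℕ} (h0 : 0 < j) (h5 : j < 5) {h : Γ}
    (hh : h ∈ S.H) : S.InRec j h := by
  have key : ∀ x < 6, (∀ g, S.InRec j g → S.InRec j (S.e x * g)) ∧
      ∀ g, S.InRec j g → S.InRec j ((S.e x)⁻¹ * g) := by
    intro x hx
    have hl := List.all_eq_true.1 letters_ok x (List.mem_range.2 hx)
    simp only [Bool.and_eq_true] at hl
    have e1 := S.v_eq hl.1
    have e2 := S.v_eq hl.2
    simp only [v_cons, v_nil, mul_one] at e1 e2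
    have fwd : ∀ g, S.InRec j g → S.InRec j (S.e x * g) := fun g hg => by
      rw [e1]; exact S.inRec_word hη _ hg
    have hinv : (S.e x)⁻¹ = S.e (x + 6) := by
      have := S.e_flip (g := x) (by omega)
      rw [if_pos hx] at this
      exact this.symm
    refine ⟨fwd, fun g hg => ?_⟩
    rw [hinv, e2]
    generalize getL 0 letOrd x - 1 = n
    induction n with
    | zero => simpa using hg
    | succ n ih =>
      rw [List.replicate_succ, v_cons, mul_assoc]
      exact fwd _ ih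
  have main : ∀ g, S.InRec j g → S.InRec j (h * g) ∧ S.InRec j (h⁻¹ * g) := by
    induction hh using Subgroup.closure_induction with
    | mem a ha =>
      obtain ⟨x, hx, rfl⟩ := ha
      exact fun g hg => ⟨(key x hx).1 g hg, (key x hx).2 g hg⟩
    | one => exact fun g hg => by simpa using hg
    | mul a b _ _ iha ihb =>
      intro g hg
      rw [mul_assoc, mul_inv_rev, mul_assoc]
      exact ⟨(iha _ (ihb g hg).1).1, (ihb _ (iha g hg).2).2⟩
    | inv a _ iha => exact fun g hg => by simpa using (iha g hg).symm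
  simpa using (main 1 (S.inRec_one hη h0 h5)).1

end Sys

end Cfsg.Lib.LyReal
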