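import Cfsg.Agent.Lib.BigMat.Sem

/-!
# A fast product of seven by seven matrices
-/

set_option autoImplicit false
set_option maxRecDepth 20000

namespace Cfsg.Lib.LyReal

open Cfsg.Lib.CosetEnum (force force_eq)

/-- The mask of the first column. -/
def cmL : Nat := 0xffff000000000000000000000000ffff000000000000000000000000ffff000000000000000000000000ffff000000000000000000000000ffff000000000000000000000000ffff000000000000000000000000ffff

/-- The mask of the first row. -/
def rmL : Nat := 0xffffffffffffffffffffffffffff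

/-- The low six bits of all places. -/
def loL : Nat := 0x3f003f003f003f003f003f003f003f003f003f003f003f003f003f003f003f003f003f003f003f003f003f003f003f003f003f003f003f003f003f003f003f003f003f003f003f003f003f003f003f003f003f003f003f003f003f003f003f003f

/-- The high bits of all places. -/
def hiL : Nat := 0x3ff03ff03ff03ff03ff03ff03ff03ff03ff03ff03ff03ff03ff03ff03ff03ff03ff03ff03ff03ff03ff03ff03ff03ff03ff03ff03ff03ff03ff03ff03ff03ff03ff03ff03ff03ff03ff03ff03ff03ff03ff03ff03ff03ff03ff03ff03ff03ff03ff

/-- Reduction modulo five in all places. -/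
noncomputable def red7 (y : Nat) : Nat :=
  force (Nat.add (Nat.land y loL) (Nat.mul 4 (Nat.land (Nat.shiftRight y 6) hiL))) fun z =>
    Nat.sub z (Nat.mul 5 (Nat.land (Nat.shiftRight (Nat.mul z 205) 10) loL))

/-- The product of two matrices. -/
noncomputable def mul7 (A B : Nat) : Nat :=
  force A fun A => force B fun B =>
  force (Nat.add (Nat.mul (Nat.land (Nat.shiftRight A 96) cmL) (Nat.land (Nat.shiftRight B 672) rmL))
      (Nat.add (Nat.mul (Nat.land (Nat.shiftRight A 80) cmL) (Nat.land (Nat.shiftRight B 560) rmL))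
      (Nat.add (Nat.mul (Nat.land (Nat.shiftRight A 64) cmL) (Nat.land (Nat.shiftRight B 448) rmL))
      (Nat.add (Nat.mul (Nat.land (Nat.shiftRight A 48) cmL) (Nat.land (Nat.shiftRight B 336) rmL))
      (Nat.add (Nat.mul (Nat.land (Nat.shiftRight A 32) cmL) (Nat.land (Nat.shiftRight B 224) rmL))
      (Nat.add (Nat.mul (Nat.land (Nat.shiftRight A 16) cmL) (Nat.land (Nat.shiftRight B 112) rmL))
      (Nat.add (Nat.mul (Nat.land (Nat.shiftRight A 0) cmL) (Nat.land (Nat.shiftRight B 0) rmL))
      0))))))) fun y =>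
    red7 y

theorem consts_eq : BigMat.colMask 7 = cmL ∧ BigMat.rowMask 7 = rmL ∧
    Nat.mul 63 (BigMat.geo 1 (Nat.mul 7 7)) = loL ∧
    Nat.mul 1023 (BigMat.geo 1 (Nat.mul 7 7)) = hiL := by decide +kernel

theorem mul7_eq (A B : Nat) : mul7 A B = BigMat.mul 7 A B := by
  obtain ⟨h1, h2, h3, h4⟩ := consts_eq
  simp only [BigMat.mul, force_eq, BigMat.reduce, h1, h2, h3, h4, mul7, red7]
  refine congrArg (fun y => Nat.sub (Nat.add (Nat.land y loL)
    (Nat.mul 4 (Nat.land (Nat.shiftRight y 6) hiL))) (Nat.mul 5 (Nat.land (Nat.shiftRight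
      (Nat.mul (Nat.add (Nat.land y loL) (Nat.mul 4 (Nat.land (Nat.shiftRight y 6) hiL))) 205) 10)
        loL))) ?_
  rfl

/-- A product of a word, first letter first. -/
noncomputable def pw7 (M : Nat → Nat) : List Nat → Nat
  | [] => BigMat.one 7
  | g :: w => force (pw7 M w) fun y => mul7 (M g) y

end Cfsg.Lib.LyReal
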