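import Cfsg.Agent.Lib.LyReal.StabDefs
import Cfsg.Agent.Lib.LyReal.FastMat
import Cfsg.Agent.Lib.LyReal.DataClosure
import Cfsg.Agent.Lib.LyReal.DataStab2
import Cfsg.Agent.Lib.LyReal.DataStab3
import Cfsg.Agent.Lib.LyReal.DataStab4

/-!
# Checks of the decomposition of the letters' subgroup into double cosets
-/

set_option autoImplicit false
set_option maxRecDepth 20000

namespace Cfsg.Lib.LyReal

open Cfsg.Lib.CosetEnum (Tab force)

/-- The transitions of the cosets. -/
def transT : List (List (ℕ × List ℕ × List ℕ)) :=
  transT0 ++ (transT1 ++ (transT2 ++ (transT3 ++ transT4)))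

/-- One transition is correct. -/
noncomputable def trOne (i x : ℕ) (t : ℕ × List ℕ × List ℕ) : Bool :=
  Nat.blt t.1 150 && cOK t.2.1 && cOK t.2.2 &&
    eqW (cw (getL [] repsT i ++ [x])) (cw t.2.1 ++ cw (getL [] repsT t.1)) &&
    eqW (gWord ++ cw t.2.1) (cw t.2.2 ++ gWord)

/-- All transitions are correct. -/
noncomputable def transOK : Bool :=
  (List.range 150).all fun i => (List.range 8).all fun x =>
    trOne i x (getL (0, [], []) (getL [] transT i) x)

/-- The matrix of one of the eight generators. -/
def cMat (i : ℕ) : ℕ := getL 0 c8M i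

/-- The stored matrices are those of the words. -/
noncomputable def litOK : Bool :=
  (List.range 8).all (fun i => Nat.beq (cMat i) (pw (getL [] c6 i)) &&
    Nat.beq (cMat i) (genMat 1 i)) &&
  Nat.beq gMat (pw gWord) && lettersOK gWord &&
  (List.range 150).all (fun k => cOK (getL [] repsT k) &&
    Nat.beq (getL 0 repM k) (pw7 cMat (getL [] repsT k))) &&
  (List.range 65).all (fun n =>
    let f := getL nilFct envS (getL 0 recT n)
    f.zf && Nat.beq f.j (getL 0 recJ n) && lettersOK f.w && Nat.beq (getL 0 recM n) (pw f.w) &&
      Nat.blt 0 f.j && Nat.blt f.j 5)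

/-- The matrix of an element of the stabilizer of a point, named by the data. -/
noncomputable def kMat : ℕ → List ℕ → Option ℕ
  | 1, ks => if cOK ks then some (pw7 cMat ks) else none
  | 2, [k] => if Nat.blt k 6048 then some (mats2.get k) else none
  | 3, [k] => if Nat.blt k 1008 then some (mats3.get k) else none
  | 4, [k] => if Nat.blt k 2880 then some (mats4.get k) else none
  | _, _ => none

/-- An element given by its matrix lands as stated. -/
noncomputable def landOK (j : ℕ) (A : ℕ) (t : List ℕ × ℕ × List ℕ) : Bool :=
  cOK t.1 && Nat.blt t.2.1 65 && Nat.beq (getL 0 recJ t.2.1) j &&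
    match kMat j t.2.2 with
    | none => false
    | some K => Nat.beq A (mul7 (pw7 cMat t.1) (mul7 (getL 0 recM t.2.1) K))

/-- All translates of one record land as stated, from a position on. -/
noncomputable def moveFrom (j W : ℕ) : List ℕ → List (List ℕ × ℕ × List ℕ) → Bool
  | [], [] => true
  | R :: Rs, t :: ts => landOK j (mul7 gMat (mul7 R W)) t && moveFrom j W Rs ts
  | _, _ => false

/-- All translates of one record land as stated. -/
noncomputable def moveOK (n : ℕ) (M : List (List ℕ × ℕ × List ℕ)) : Bool :=
  force (getL 0 recM n) fun W => force (getL 0 recJ n) fun j => moveFrom j W repM M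

end Cfsg.Lib.LyReal
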