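/-! Generated data: conjugations by `z`, relators in segments, definitions of the five points. -/

set_option autoImplicit false

namespace Cfsg.Lib.LyReal

/-- The eight generators of the subgroup normalised by `z`. -/
def c6 : List (List Nat) :=
  [[0], [1, 0, 7], [1, 1, 0, 7, 7], [2], [6, 2, 0], [7, 2, 1], [1, 2, 7], [5]]

/-- Their conjugates by `z`. -/
def ci6 : List (List Nat) :=
  [[6, 6, 6],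
    [1, 6, 7, 6, 6],
    [0, 1, 1, 0, 7, 7, 6],
    [6, 7, 6, 1, 8, 7, 0, 8, 1, 0],
    [7, 7, 0, 2, 6, 1, 2, 1],
    [6, 7, 6, 2, 0, 1, 0],
    [7, 6, 1, 2, 7, 0, 1],
    [1, 1, 6, 7, 2, 1, 0, 2, 7, 7, 8]]

/-- The relators, cut at the letter `z`. -/
def segsT : List (List (List Nat)) :=
  [[[], [], [6, 6]],
    [[7, 7, 0, 1, 1], [7, 7, 0, 1, 1], [7, 7, 0, 1, 1], [0, 0]],
    [[8, 9, 6, 8, 6, 1, 8, 9], [6, 3, 7, 8, 6, 1, 8, 9, 1, 8, 7, 6, 8, 0, 7, 0, 1, 0, 7], [6, 8, 9, 0, 8, 7, 0, 8, 9, 6, 8, 0, 2, 7, 7, 8, 7, 6, 7, 7], []],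
    [[], [6, 6, 9], [6, 6, 6, 8, 9, 1, 6, 7, 8, 9, 1, 6, 7, 8, 7, 0, 7, 7, 0, 7], [3], [0, 1, 6, 1, 1, 6, 1, 1, 8, 0, 2, 1, 2, 7, 3, 2, 7, 7, 3, 2, 1, 2]],
    [[], [1, 0, 7, 6, 7, 7, 6, 7, 2, 1, 1, 2, 1, 3, 2, 7, 7, 3, 2, 1, 2], [0, 7, 7, 6, 2, 1, 8, 1, 6, 8, 8, 3, 2, 0, 2, 6, 2, 7, 9], [6, 6, 8, 7, 8, 9, 1, 1, 8, 9, 7, 8, 7, 7, 8, 1, 0, 1, 1, 0, 1, 6, 7], [6, 6, 9, 0, 2, 1, 2, 6, 8, 9, 0, 7, 6, 2, 6, 7, 7, 6, 1, 6]],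
    [[], [1, 3], [1, 1, 6, 7, 6, 1, 1, 8, 0, 2, 6, 8, 3, 8, 1, 1, 6, 2, 1], [6, 6, 9, 7], [6, 6, 8, 6, 2, 1, 8, 9, 2, 6, 2, 0, 2, 7, 6, 7, 6, 1]]]

/-- The number of inverses of `z` in a relator. -/
def ninvT : List Int := [0, 0, 0, 2, 2, 2]

/-- The words defining the further points. -/
def defW : List (List Nat) :=
  [[],
    [3, 0, 0, 0, 0, 0, 0],
    [3, 1, 0, 1, 0, 7, 1, 1, 0, 7, 7],
    [0, 0, 3, 0, 2, 3, 0, 1, 0, 7, 1, 1, 0, 7, 7, 0, 1, 0, 7, 7, 2, 1, 2, 6, 2, 0, 1, 1, 0, 7, 7]]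

/-- The points they start from. -/
def defJ : List Nat := [0, 1, 1, 1]

end Cfsg.Lib.LyReal
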