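import Cfsg.Agent.Lib.LyReal.Check

/-! Generated data: certified facts about cosets. -/

set_option autoImplicit false
set_option maxRecDepth 20000

namespace Cfsg.Lib.LyReal

/-- Part 0 of the facts. -/
def facts0 : List (Fct × Cert) :=
  [ (⟨false, 1, [0], 1, [], [1, 0, 0, 0, 0, 0, 0, 0, 0, 0, 0, 0, 0, 0]⟩, .seedK 0),
    (⟨false, 1, [1, 0, 7], 1, [], [0, 1, 0, 0, 0, 0, 0, 0, 0, 0, 0, 0, 0, 0]⟩, .seedK 1),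
    (⟨false, 1, [1, 1, 0, 7, 7], 1, [], [0, 0, 1, 0, 0, 0, 0, 0, 0, 0, 0, 0, 0, 0]⟩, .seedK 2),
    (⟨false, 1, [2], 1, [], [0, 0, 0, 1, 0, 0, 0, 0, 0, 0, 0, 0, 0, 0]⟩, .seedK 3),
    (⟨false, 1, [6, 2, 0], 1, [], [0, 0, 0, 0, 1, 0, 0, 0, 0, 0, 0, 0, 0, 0]⟩, .seedK 4),
    (⟨false, 1, [7, 2, 1], 1, [], [0, 0, 0, 0, 0, 1, 0, 0, 0, 0, 0, 0, 0, 0]⟩, .seedK 5),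
    (⟨false, 1, [1, 2, 7], 1, [], [0, 0, 0, 0, 0, 0, 1, 0, 0, 0, 0, 0, 0, 0]⟩, .seedK 6),
    (⟨false, 1, [5], 1, [], [0, 0, 0, 0, 0, 0, 0, 1, 0, 0, 0, 0, 0, 0]⟩, .seedK 7) ]

/-- Part 1 of the facts. -/
def facts1 : List (Fct × Cert) :=
  [ (⟨true, 0, [], 1, [], [0, 0, 0, 0, 0, 0, 0, 0, 0, 0, 0, 0, 0, 0]⟩, .seedT 0),
    (⟨true, 1, [3, 0, 0, 0, 0, 0, 0], 2, [], [0, 0, 0, 0, 0, 0, 0, 0, 0, 0, 0, 0, 0, 0]⟩, .seedT 1),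
    (⟨true, 1, [3, 1, 0, 1, 0, 7, 1, 1, 0, 7, 7], 3, [], [0, 0, 0, 0, 0, 0, 0, 0, 0, 0, 0, 0, 0, 0]⟩, .seedT 2),
    (⟨true, 1, [0, 0, 3, 0, 2, 3, 0, 1, 0, 7, 1, 1, 0, 7, 7, 0, 1, 0, 7, 7, 2, 1, 2, 6, 2, 0, 1, 1, 0, 7, 7], 4, [], [0, 0, 0, 0, 0, 0, 0, 0, 0, 0, 0, 0, 0, 0]⟩, .seedT 3),
    (⟨true, 1, [], 0, [], [0, 0, 0, 0, 0, 0, 0, 0, 1, 0, 0, 0, 0, 0]⟩, .gap 0 ⟨0, [], [0, 0, 0, 0, 0, 0, 0, 0, 0, 0, 0, 0, 0, 0]⟩ [⟨8, [], [0, 0, 0, 0, 0, 0]⟩] [] [] []),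
    (⟨true, 1, [1, 0, 1, 0, 7, 1, 1, 0, 7, 7], 1, [1, 0, 0, 0, 0], [-6, -2, -2, 0, 0, 0, 0, 0, -1, 1, 0, 0, 0, 0]⟩, .gap 1 ⟨0, [], [0, 0, 0, 0, 0, 0, 0, 0, 0, 0, 0, 0, 0, 0]⟩ [⟨8, [], [0, 0]⟩] [⟨8, [], [1, 1, 0, 1, 1, 0, 7, 1, 1, 0, 7, 7, 0, 1, 0, 7]⟩] [2, 1, 0] [0, 0, 0, 0, 2, 1, 0]),
    (⟨true, 1, [4, 5, 2, 4, 0, 4, 7, 2, 1, 1, 1, 0, 7, 7, 1, 2, 7, 1, 0, 7, 1, 1, 0, 7, 7, 1, 0, 7, 0], 1, [0, 4, 1, 0, 1, 0, 7, 1, 2, 7, 1, 1, 0, 7, 7, 0, 1, 0, 7, 6, 2, 0, 0, 5], [-1, -1, -1, -2, 0, -2, -2, 0, -1, 0, 1, 0, 0, 0]⟩, .gap 2 ⟨0, [], [0, 0, 0, 0, 0, 0, 0, 0, 0, 0, 0, 0, 0, 0]⟩ [⟨8, [], []⟩] [⟨8, [], [4, 5, 2, 3, 2, 4, 2, 2, 6, 2, 0, 1, 2, 7, 1, 2, 7]⟩] [5, 0,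 5] [1, 3, 6, 3, 6, 2]),
    (⟨false, 2, [3, 0, 2, 4, 1, 0, 0, 1, 1, 0, 7, 7, 0, 1, 0, 7, 7, 2, 1, 0, 6, 2, 0], 2, [], [4, 0, 0, 0, 0, 0, 0, 0, 0, 0, 0, 1, 0, 0]⟩, .scan 3 ⟨0, [], [0, 0, 0, 0, 0, 0, 0, 0, 0, 0, 0, 0, 0, 0]⟩ [⟨9, [], [0, 0]⟩, ⟨8, [], [3, 0, 2, 4, 1, 1, 0, 7, 0, 2, 1, 1, 0, 7, 7, 1, 0, 7, 2, 1, 1, 0, 7, 7, 1, 2, 7]⟩] [⟨8, [], [0, 0, 0, 0, 0, 0]⟩, ⟨9, [], [0, 0, 0, 0, 0, 0]⟩]) ]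

/-- Part 2 of the facts. -/
def facts2 : List (Fct × Cert) :=
  [ (⟨false, 4, [4, 0, 1, 2, 4, 2, 3, 1, 0, 1, 0, 7, 1, 1, 0, 7, 7, 1, 0, 7, 1, 2, 7, 1, 0, 7, 2, 1, 1, 0, 7, 7], 4, [], [0, 0, 0, 0, 0, 0, 0, 0, 0, 0, 0, 0, 1, 0]⟩, .scan 4 ⟨0, [], [0, 0, 0, 0, 0, 0, 0, 0, 0, 0, 0, 0, 0, 0]⟩ [⟨11, [2, 3, 2, 0, 0], [0, 1, 2, 3, 7, 0, 1, 0, 4]⟩, ⟨8, [], [2, 0, 3, 2, 0, 4, 0, 7, 2, 1, 1, 1, 0, 7, 7, 1, 0, 7, 7, 2, 1, 1, 0, 7, 5]⟩] [⟨8, [], [0, 0, 0, 0, 0, 0]⟩, ⟨11, [2, 3, 2, 0, 0], [0, 1, 2, 3, 7, 0, 1, 0, 4]⟩]),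
    (⟨false, 3, [3, 2, 2, 3, 0, 4, 3, 1, 1, 1, 0, 7, 7, 6, 2, 0, 7, 2, 1, 1, 2, 7, 1, 0, 7, 7, 2, 1], 3, [], [0, 0, 0, 0, 0, 0, 0, 0, 0, 0, 0, 0, 0, 1]⟩, .scan 5 ⟨0, [], [0, 0, 0, 0, 0, 0, 0, 0, 0, 0, 0, 0, 0, 0]⟩ [⟨10, [2, 1, 0], [0, 0, 1, 2, 0, 1]⟩, ⟨8, [], [3, 2, 0, 3, 4, 3, 1, 1, 0, 7, 2, 1, 0, 7, 1, 1, 0, 7, 7, 0, 6, 2, 0, 0, 1, 0, 7]⟩] [⟨8, [], [0, 0, 0, 0, 0, 0]⟩, ⟨10, [2, 1, 0], [0, 0, 1, 2, 0, 1]⟩]),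
    (⟨false, 4, [5, 2, 3, 5, 3, 4, 3, 0, 0, 1, 1, 0, 7, 7, 6, 2, 0, 7, 2, 1, 1, 2, 7, 1, 0, 7, 1, 1, 0, 7, 7], 4, [], [6, 1, 4, 1, -1, 1, -1, 0, 0, 0, 0, 1, 0, 0]⟩, .scan 3 ⟨1, [], [0, 0, 0, 0, 0, 0, 0, 0, 0, 0, 0, 0, 0, 0]⟩ [⟨11, [4, 0, 2], [0, 0, 3, 1, 0, 6]⟩] [⟨12, [], [0, 0, 0, 0, 0, 0]⟩, ⟨8, [], [3, 0, 0, 0, 0]⟩, ⟨11, [2, 3, 2, 0, 0], [0, 1, 2, 0, 3, 1, 2, 5, 2]⟩]),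
    (⟨false, 2, [5, 5, 0, 4, 0, 4, 1, 0, 7, 0, 1, 2, 7, 0, 0, 0, 0, 5], 2, [], [8, -1, 0, -1, 2, -1, -2, 0, 0, 0, 0, 0, 1, 0]⟩, .scan 4 ⟨1, [], [0, 0, 0, 0, 0, 0, 0, 0, 0, 0, 0, 0, 0, 0]⟩ [⟨9, [5, 3, 2, 5, 3], [1, 5, 6, 0, 2, 1, 0, 6]⟩] [⟨12, [], [0, 0, 0, 0, 0, 0]⟩, ⟨8, [], [0, 2, 3, 1, 0, 4, 6, 2, 0, 0, 5, 1, 1, 0, 7, 7, 1, 2, 7, 1, 0, 7, 0]⟩, ⟨9, [4, 0, 2, 5, 4], [0, 5, 0, 0, 1, 2, 3]⟩]),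
    (⟨false, 3, [3, 4, 0, 3, 4, 2, 3, 2, 6, 2, 0, 0, 1, 2, 7, 1, 2, 7, 1, 0, 7], 3, [], [6, 1, 1, 0, 0, 0, -1, 1, 0, 0, 0, 0, 0, 1]⟩, .scan 5 ⟨1, [], [0, 0, 0, 0, 0, 0, 0, 0, 0, 0, 0, 0, 0, 0]⟩ [⟨10, [1, 0, 5, 6, 4, 0], [0, 4, 1, 5, 7, 0, 1, 2]⟩] [⟨12, [], [0, 0, 0, 0, 0, 0]⟩, ⟨8, [], [3, 1, 1, 0, 1, 0, 1, 0, 7, 0, 1, 1, 0, 7, 7, 0]⟩, ⟨10, [2, 4, 1, 7, 5, 0], [0, 0, 4, 1, 5, 1, 2, 1, 0, 7]⟩]),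
    (⟨true, 3, [2, 3, 4, 1, 1, 1, 0, 7, 7, 0, 1, 1, 0, 7, 7, 2, 7, 2, 1, 1, 0, 7, 7, 2, 1, 6, 2, 0], 4, [4, 3, 5, 4, 3, 1, 0, 0, 1, 0, 7, 7, 2, 1, 0, 1, 1, 0, 7, 7, 1, 0, 7, 7, 2, 1, 1, 2, 7], [-38, -10, -11, -3, 0, 0, 4, -5, -1, 1, 0, 0, 1, -9]⟩, .gap 4 ⟨1, [1, 0, 1, 0, 7, 1, 1, 0, 7, 7], [0, 0, 0, 0, 0, 0, 0, 0, 0, 0, 0, 0, 0, 0]⟩ [⟨10, [4, 1, 2, 6, 5, 0], [2, 5, 0, 1, 2, 6, 6, 0]⟩] [⟨13, [], [0, 0, 0, 0, 0, 0]⟩, ⟨11, [5, 4, 0, 6, 0], [7, 1, 2, 5, 0]⟩] [3, 0, 3, 1, 2, 3, 0] [20, 17, 20, 20, 17, 17, 20, 20, 20]),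
    (⟨true, 2, [3, 0, 5, 0, 4, 3, 0, 1, 0, 2, 1, 0, 7, 0, 1, 2, 7, 5, 1, 0, 7, 0], 2, [4, 5, 0, 4, 2, 0, 4, 3, 0, 2, 1, 0, 7, 1, 1, 0, 7, 7, 0, 1, 0, 7, 7, 2, 1, 0, 1, 0, 7], [-83, 2, -3, 6, -17, 6, 11, -1, -1, 1, 0, -7, -7, 1]⟩, .gap 5 ⟨1, [1, 0, 1, 0, 7, 1, 1, 0, 7, 7], [0, 0, 0, 0, 0, 0, 0, 0, 0, 0, 0, 0, 0, 0]⟩ [⟨9, [1, 0, 5, 6, 4], [0, 4, 6, 2, 0, 3, 1]⟩] [⟨13, [], [0, 0, 0, 0, 0, 0]⟩, ⟨9, [], [0, 0, 0, 0]⟩] [6, 1, 7, 4] [15, 15, 19, 15, 15, 19, 19, 15, 19, 19, 19, 15, 19, 15]),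
    (⟨true, 2, [], 1, [3, 0, 0, 0, 0, 0, 0], [-2, 0, 0, 0, 0, 0, 0, 0, 1, 0, 0, 0, 0, 0]⟩, .gap 0 ⟨1, [3, 0, 0, 0, 0, 0, 0], [0, 0, 0, 0, 0, 0, 0, 0, 0, 0, 0, 0, 0, 0]⟩ [⟨9, [], [0, 0]⟩] [] [] []) ]

/-- Part 3 of the facts. -/
def facts3 : List (Fct × Cert) :=
  [ (⟨true, 2, [1, 0, 1, 0, 7, 1, 1, 0, 7, 7, 0, 1, 0, 7], 3, [1, 1, 1, 0, 7, 7, 1, 0, 7, 0], [-91, 8, 1, 7, -14, 7, 14, 0, -1, 1, 0, -8, -7, 0]⟩, .gap 1 ⟨1, [3, 0, 0, 0, 0, 0, 0], [0, 0, 0, 0, 0, 0, 0, 0, 0, 0, 0, 0, 0, 0]⟩ [⟨9, [], [0, 0, 0, 0, 0, 0]⟩] [⟨10, [2, 1, 0], [0, 0, 2, 1, 0]⟩] [2, 1, 0] [15, 15, 19, 19, 15, 15, 19, 15, 19, 19, 15, 15, 19, 15, 19]),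
    (⟨true, 2, [3, 5, 0, 2, 3, 0, 4, 1, 0, 1, 0, 7, 7, 2, 1, 1, 0, 7, 0, 1, 1, 0, 7, 7, 1, 0, 7, 2, 1, 2, 7], 4, [0, 2, 4, 1, 0, 1, 0, 7, 0, 1, 2, 7, 1, 0, 7, 0, 2, 1, 0, 7], [-76, 6, 2, 7, -10, 6, 10, -1, -1, 0, 1, -9, -5, 0]⟩, .gap 2 ⟨1, [3, 0, 0, 0, 0, 0, 0], [0, 0, 0, 0, 0, 0, 0, 0, 0, 0, 0, 0, 0, 0]⟩ [⟨9, [], []⟩] [⟨11, [2, 6, 2, 3], [1, 3, 1, 5, 2, 0, 1, 2]⟩] [1, 2, 7, 6, 2, 1, 0] [19, 15, 15, 19, 15, 15, 19, 15, 15, 19, 15, 19, 15, 15]),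
    (⟨true, 2, [4, 0, 1, 1, 0, 7, 7, 0, 1, 0, 7, 6, 2, 0, 1, 2, 7, 0, 1, 0, 7, 2], 2, [1, 2, 0, 3, 4, 5, 5, 3, 0, 1, 0, 7, 6, 2, 0, 6, 2, 0, 6, 2, 0, 1, 2, 7], [-57, 11, 0, 3, -11, 0, 13, 0, 2, -1, 0, -2, -6, 0]⟩, .gap 5 ⟨1, [3, 0, 0, 0, 0, 0, 0], [0, 0, 0, 0, 0, 0, 0, 0, 0, 0, 0, 0, 0, 0]⟩ [⟨22, [5, 2, 7, 6, 5], [19, 15, 15, 19, 19, 15, 15, 19, 19, 15, 19, 19]⟩, ⟨9, [0, 2, 5, 6, 4], [3, 5, 2, 0, 3, 4, 5]⟩] [⟨9, [], [0, 0]⟩] [3, 5, 3, 5] [15, 19, 19, 15, 15, 19, 19, 19, 15, 19]),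
    (⟨true, 3, [], 1, [3, 1, 0, 1, 0, 7, 1, 1, 0, 7, 7], [-2, 0, 0, 0, 0, 0, 0, 0, 1, 0, 0, 0, 0, 0]⟩, .gap 0 ⟨1, [3, 1, 0, 1, 0, 7, 1, 1, 0, 7, 7], [0, 0, 0, 0, 0, 0, 0, 0, 0, 0, 0, 0, 0, 0]⟩ [⟨10, [], [0, 0]⟩] [] [] []),
    (⟨true, 3, [3, 0, 1], 3, [1, 0, 0, 0, 0], [-41, -6, -7, 0, 0, 0, 6, -6, -1, 1, 0, 0, 0, -9]⟩, .gap 1 ⟨1, [3, 1, 0, 1, 0, 7, 1, 1, 0, 7, 7], [0, 0, 0, 0, 0, 0, 0, 0, 0, 0, 0, 0, 0, 0]⟩ [⟨10, [], [0, 0, 0, 0, 0, 0]⟩] [⟨10, [], [0, 0, 1]⟩] [2, 1, 0] [20, 17, 20, 20, 17, 20, 17, 20, 20]),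
    (⟨false, 3, [4, 2, 3, 2, 0, 5, 3, 1, 1, 0, 7, 7, 1, 2, 7, 0, 1, 0, 7, 0, 6, 2, 0, 1, 1, 0, 7, 7], 3, [], [2, 3, 1, 1, -3, 1, 0, 0, 0, 0, 0, 0, 0, 3]⟩, .scan 5 ⟨1, [3, 1, 0, 1, 0, 7, 1, 1, 0, 7, 7], [0, 0, 0, 0, 0, 0, 0, 0, 0, 0, 0, 0, 0, 0]⟩ [⟨10, [0, 2, 5, 6, 4, 0], [3, 2, 0, 5, 4, 4, 2]⟩] [⟨10, [], [0, 0]⟩, ⟨27, [2, 1, 0], [17, 17]⟩, ⟨10, [2, 3, 0, 5, 1, 0, 5], [0, 6, 5, 2, 1, 0, 2, 3]⟩]),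
    (⟨true, 3, [1, 4, 3, 2, 4, 3, 0, 7, 2, 1, 0, 5, 1, 0, 7, 1, 1, 0, 7, 7], 2, [1, 0, 0, 0, 0], [-107, -3, -7, 5, -9, 5, 15, -3, -1, 1, 0, -9, -6, -9]⟩, .gap 1 ⟨2, [], [0, 0, 0, 0, 0, 0, 0, 0, 0, 0, 0, 0, 0, 0]⟩ [⟨10, [2, 1, 0], [0, 2, 0, 1, 0]⟩, ⟨23, [], [19, 15, 15, 19, 15, 15, 19, 15, 19, 15, 15, 19, 15, 15, 19]⟩] [] [2, 1, 0] [17, 29, 17, 20, 20, 20, 17]),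
    (⟨false, 4, [0, 1, 0, 7, 0, 2, 1, 1, 0, 7, 7, 6, 2, 0, 5, 0], 4, [], [38, 1, 4, 2, -1, 0, 0, 0, 0, 0, 0, 11, 0, 0]⟩, .scan 4 ⟨2, [], [0, 0, 0, 0, 0, 0, 0, 0, 0, 0, 0, 0, 0, 0]⟩ [⟨25, [5, 6, 6, 5, 3, 0], [19, 19, 15, 19, 15, 19, 19, 15, 19, 19, 19, 19, 19]⟩] [⟨23, [], [15, 19, 15, 15, 19, 15, 15, 19, 15]⟩, ⟨9, [2, 3], [2, 0, 3, 2, 0]⟩, ⟨25, [4, 0, 2, 5, 0, 0], [19, 19, 15, 15, 19, 15, 19, 15, 19, 15, 15, 19, 15, 15]⟩]) ]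

/-- Part 4 of the facts. -/
def facts4 : List (Fct × Cert) :=
  [ (⟨true, 4, [], 1, [0, 3, 2, 2, 3, 0, 0, 0, 1, 1, 0, 7, 7, 1, 0, 7, 0, 7, 2, 1, 2, 6, 2, 0, 1, 1, 0, 7, 7], [-155, -8, -20, -9, 2, 0, -1, 0, 1, 0, 0, -44, -4, 0]⟩, .gap 0 ⟨1, [0, 0, 3, 0, 2, 3, 0, 1, 0, 7, 1, 1, 0, 7, 7, 0, 1, 0, 7, 7, 2, 1, 2, 6, 2, 0, 1, 1, 0, 7, 7], [0, 0, 0, 0, 0, 0, 0, 0, 0, 0, 0, 0, 0, 0]⟩ [⟨11, [2, 3, 2], [0, 1, 2, 4, 6, 1, 0, 4, 1]⟩] [] [2, 1, 0] [16, 16, 31, 31, 31, 16, 16, 31]),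
    (⟨true, 4, [3, 1, 0, 1, 0, 7, 1, 1, 0, 7, 7, 0, 1, 0, 7, 0], 4, [1, 0, 1, 2, 7, 0, 6, 2, 0, 1, 0, 7, 1, 1, 0, 7, 7, 0, 6, 2, 0, 0], [-166, -5, -23, -8, 6, -2, 1, 1, -1, 1, 0, -46, -3, 0]⟩, .gap 1 ⟨1, [0, 0, 3, 0, 2, 3, 0, 1, 0, 7, 1, 1, 0, 7, 7, 0, 1, 0, 7, 7, 2, 1, 2, 6, 2, 0, 1, 1, 0, 7, 7], [0, 0, 0, 0, 0, 0, 0, 0, 0, 0, 0, 0, 0, 0]⟩ [⟨11, [0, 0], []⟩] [⟨11, [3, 1, 7, 2], [0, 5, 7, 2, 3, 1]⟩] [7, 6, 2, 1, 5, 0] [16, 31, 16, 16, 18, 31, 18, 31, 31]),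
    (⟨true, 4, [0, 2, 2, 3, 4, 3, 4, 1, 0, 0, 0, 0, 7, 2, 1, 0, 1, 0, 7], 4, [5, 4, 3, 0, 4, 3, 4, 1, 1, 0, 7, 7, 2, 1, 1, 1, 0, 7, 7, 2, 1, 0, 7, 0, 1, 2, 7, 1, 0, 7], [-202, -3, -26, -13, 8, -3, -2, 1, -1, 1, 0, -57, 0, 1]⟩, .gap 5 ⟨1, [0, 0, 3, 0, 2, 3, 0, 1, 0, 7, 1, 1, 0, 7, 7, 0, 1, 0, 7, 7, 2, 1, 2, 6, 2, 0, 1, 1, 0, 7, 7], [0, 0, 0, 0, 0, 0, 0, 0, 0, 0, 0, 0, 0, 0]⟩ [⟨11, [1, 0, 3, 4], [2, 6, 0, 2, 6, 3, 6]⟩] [⟨11, [2, 3, 2], [0, 1, 2, 4, 6, 1, 0, 4, 1]⟩, ⟨33, [0, 1, 2, 0, 1, 0], [16, 31, 18, 31, 16, 31, 16, 18, 16, 31]⟩] [6, 3, 2, 0, 5, 3, 1] [31, 18, 31, 18, 31, 16, 31, 31]),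
    (⟨true, 4, [3, 1, 0, 7, 1, 2, 7, 2, 1, 0, 7, 6, 2, 0, 0], 4, [1, 0, 5, 3, 4, 0, 0, 1, 1, 0, 7, 7, 1, 2, 7, 7, 2, 1, 1, 0, 7, 2], [-167, -4, -28, -11, 4, -4, 3, -3, -1, 0, 1, -46, -3, 0]⟩, .gap 3 ⟨1, [4, 5, 2, 4, 0, 4, 7, 2, 1, 1, 1, 0, 7, 7, 1, 2, 7, 1, 0, 7, 1, 1, 0, 7, 7, 1, 0, 7, 0], [0, 0, 0, 0, 0, 0, 0, 0, 0, 0, 0, 0, 0, 0]⟩ [⟨11, [7, 7, 4, 0, 2], [0, 2, 1, 0, 4, 0, 4, 7]⟩] [⟨14, [1, 0, 2, 1], [0, 1, 3, 2, 0, 3, 1, 0]⟩, ⟨11, [3, 5, 2, 6, 0], [0, 0, 1, 6, 0, 6, 1, 2, 5]⟩] [3, 2, 6, 1, 5] [16, 16, 18, 31, 31, 18, 31, 16, 31, 18]),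
    (⟨true, 2, [4, 3, 5, 4, 1, 0, 4, 1, 1, 0, 7, 6, 2, 0, 1, 2, 7, 1, 0, 7], 3, [1, 4, 2, 0, 3, 4, 1, 0, 7, 1, 1, 0, 7, 7, 1, 0, 7, 0, 6, 2, 0, 1, 0, 7, 1, 2, 7, 1, 1, 0, 7, 7], [-86, 7, 1, 5, -15, 4, 13, 1, -1, 0, 1, -8, -6, 0]⟩, .gap 4 ⟨1, [4, 5, 2, 4, 0, 4, 7, 2, 1, 1, 1, 0, 7, 7, 1, 2, 7, 1, 0, 7, 1, 1, 0, 7, 7, 1, 0, 7, 0], [0, 0, 0, 0, 0, 0, 0, 0, 0, 0, 0, 0, 0, 0]⟩ [⟨9, [0, 1, 5, 5], [0, 1, 4, 3, 1, 3, 2, 1]⟩] [⟨14, [1, 0, 2, 1], [0, 1, 3, 2, 0, 3, 1, 0]⟩, ⟨10, [6, 2, 1, 0, 6, 4], [2, 5, 0, 7, 1, 0, 5]⟩] [4, 1, 6, 0, 0, 5, 2] [15, 15, 19, 15, 19, 15, 19, 15, 15, 19, 15, 19, 15, 19, 19]),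
    (⟨true, 3, [5, 0, 2, 0, 4, 3, 1, 1, 0, 7, 7, 1, 2, 7, 1, 2, 7, 0, 1, 0, 7], 3, [0, 4, 1, 0, 1, 0, 7, 1, 1, 0, 7, 7, 2, 1, 0, 7, 2], [-13, -10, -6, -2, 3, -2, -2, -2, -1, 0, 1, 0, 0, -5]⟩, .gap 2 ⟨3, [], [0, 0, 0, 0, 0, 0, 0, 0, 0, 0, 0, 0, 0, 0]⟩ [⟨10, [0, 7, 1, 6, 0], [0, 6, 1, 2, 1, 5, 2, 0, 2]⟩, ⟨27, [], []⟩] [] [0, 3, 1, 0, 6, 1, 2, 1, 0] [20, 29, 17]),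
    (⟨true, 3, [2, 4, 2, 4, 0, 4, 3, 0, 0, 1, 0, 7, 0, 6, 2, 0, 0, 1, 1, 0, 7, 7, 7, 2, 1, 1, 0, 7], 4, [0, 2, 4, 2, 3, 2, 3, 7, 2, 1, 6, 2, 0, 7, 2, 1, 1, 0, 7, 1, 2, 7, 0], [4, 2, 1, 1, 0, 3, -4, 3, -1, 1, 0, 1, 0, 1]⟩, .gap 3 ⟨3, [], [0, 0, 0, 0, 0, 0, 0, 0, 0, 0, 0, 0, 0, 0]⟩ [] [⟨27, [], [29, 20, 29, 17, 20]⟩, ⟨13, [], []⟩, ⟨11, [3, 5, 3, 5], [0, 2, 1, 5, 5, 7, 0, 1]⟩] [6, 0, 6, 3, 5, 0] [17, 29, 17, 29]),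
    (⟨true, 3, [4, 2, 1, 0, 5, 1, 2, 3, 0, 0, 0, 1, 0, 7, 1, 1, 0, 7, 7, 6, 2, 0, 0, 7, 2, 1, 6, 2, 0], 2, [3, 2, 0, 3, 4, 5, 2, 3, 1, 0, 7, 0, 7, 2, 1, 0, 1, 1, 0, 7, 7, 0, 6, 2, 0, 7, 2, 1, 1, 0, 7], [93, -11, -5, -12, 19, -15, -13, -5, 2, -2, 1, 11, 9, -7]⟩, .gap 2 ⟨2, [1, 0, 1, 0, 7, 1, 1, 0, 7, 7, 0, 1, 0, 7], [0, 0, 0, 0, 0, 0, 0, 0, 0, 0, 0, 0, 0, 0]⟩ [⟨24, [], []⟩] [⟨26, [2, 0, 0, 6, 0], [19, 19, 19, 19, 15, 19, 15, 19, 15, 15, 19, 15, 19]⟩] [0, 7, 1, 6, 0, 2, 1, 0, 0] [20, 17, 20, 20, 17, 20, 17]) ]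

/-- Part 5 of the facts. -/
def facts5 : List (Fct × Cert) :=
  [ (⟨true, 2, [2, 4, 0, 2, 2, 3, 1, 0, 7, 7, 2, 1, 1, 1, 0, 7, 7, 5, 0, 7, 2, 1, 6, 2, 0], 4, [0, 2, 3, 1, 0, 4, 1, 1, 0, 7, 7, 1, 2, 7, 1, 1, 0, 7, 7, 1, 2, 7, 1, 0, 7, 2], [14, 8, 5, 3, -1, 5, -8, 3, -4, 2, 1, -2, 2, 10]⟩, .gap 2 ⟨2, [2, 4, 0, 2, 2, 3, 1, 0, 7, 7, 2, 1, 1, 1, 0, 7, 7, 5, 0, 7, 2, 1, 6, 2, 0], [0, 0, 0, 0, 0, 0, 0, 0, 0, 0, 0, 0, 0, 0]⟩ [] [⟨24, [1, 0, 3, 3, 4], [19, 19, 15, 15, 19, 19, 19, 15, 15, 19, 19, 15, 19, 19]⟩, ⟨38, [2, 0, 5, 0, 5, 0, 0], [29, 17, 17, 29, 17]⟩] [] []),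
    (⟨true, 4, [4, 3, 2, 2, 4, 0, 0, 0, 7, 2, 1, 1, 0, 7, 7, 2, 1, 0, 2, 1, 1, 0, 7, 7, 1, 0, 7, 0], 2, [2, 4, 0, 2, 2, 3, 1, 0, 7, 7, 2, 1, 1, 1, 0, 7, 7, 5, 0, 7, 2, 1, 6, 2, 0], [-218, 9, -15, 4, -16, 8, 39, -1, 8, -4, -1, -24, -20, -11]⟩, .gap 5 ⟨2, [2, 4, 0, 2, 2, 3, 1, 0, 7, 7, 2, 1, 1, 1, 0, 7, 7, 5, 0, 7, 2, 1, 6, 2, 0], [0, 0, 0, 0, 0, 0, 0, 0, 0, 0, 0, 0, 0, 0]⟩ [⟨40, [], [19, 19, 15, 19, 19, 19, 19, 15, 15, 19, 15, 19, 19, 15, 19]⟩, ⟨22, [6, 1, 4, 0, 0], [15, 19, 19, 15, 19, 19, 19, 19, 19, 15, 19, 19, 15, 15]⟩, ⟨22, [1, 3, 3, 6, 6], [15, 19, 19, 15, 15, 19, 19, 19, 15, 19, 19, 15, 15, 19]⟩] [] [] [16, 16, 16, 31, 16, 18, 31, 18, 16]),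
    (⟨true, 2, [5, 0, 4, 1, 2, 3, 1, 0, 1, 0, 7, 6, 2, 0, 1, 1, 0, 7, 7, 2, 7, 2, 1, 0, 2], 3, [2, 0, 4, 1, 0, 7, 0, 1, 1, 0, 7, 7, 7, 2, 1, 6, 2, 0, 1, 0, 7, 0, 1, 1, 0, 7, 7, 0], [98, -5, 1, -6, 18, -7, -15, 1, -1, 0, 1, 6, 9, 0]⟩, .gap 2 ⟨2, [5, 0, 4, 1, 2, 3, 1, 0, 1, 0, 7, 6, 2, 0, 1, 1, 0, 7, 7, 2, 7, 2, 1, 0, 2], [0, 0, 0, 0, 0, 0, 0, 0, 0, 0, 0, 0, 0, 0]⟩ [] [⟨23, [5, 3, 5, 1, 3], [19, 15, 19, 19, 19, 19, 15, 15, 19, 15, 19, 19, 15, 15, 19]⟩, ⟨10, [1, 7, 6, 6, 0], [0, 1, 6, 0, 3, 1, 0, 2]⟩] [] []),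
    (⟨true, 4, [4, 5, 1, 4, 0, 1, 2, 3, 1, 0, 7, 2, 2, 2, 2], 2, [2, 1, 0, 3, 2, 3, 0, 1, 0, 0, 1, 2, 7, 7, 2, 1, 1, 0, 7, 1, 1, 0, 7, 7, 0, 6, 2, 0, 1, 0, 7], [-371, -4, -31, -1, -19, 9, 31, 0, 5, -2, -1, -69, -22, -4]⟩, .gap 5 ⟨2, [5, 2, 4, 5, 2, 2, 3, 7, 2, 1, 0, 1, 1, 0, 7, 7, 1, 2, 7, 1, 2, 7, 1, 0, 7, 7, 2, 1], [0, 0, 0, 0, 0, 0, 0, 0, 0, 0, 0, 0, 0, 0]⟩ [⟨34, [5, 2, 0, 6, 0, 2, 1, 0], [16, 31, 31, 16, 31, 18, 31, 31, 18]⟩, ⟨21, [6, 2, 3, 1, 0, 3, 2, 1], [17, 29, 17, 20, 29, 20, 29]⟩, ⟨42, [1, 4, 4, 2, 0, 7, 3, 2], [19, 15, 15, 19, 19, 15, 19, 19, 15, 15, 19, 19, 15]⟩] [] [0, 0, 0, 0, 0, 0] [31, 31, 31, 16, 18, 31, 16, 31, 16, 18]),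
    (⟨true, 2, [4, 5, 1, 2, 3, 1, 0, 1, 6, 2, 0, 0, 1, 2, 7, 1, 0, 7, 7, 2, 1, 1, 1, 0, 7, 7], 2, [2, 4, 3, 0, 0, 4, 3, 1, 1, 0, 7, 2, 6, 2, 0, 0, 7, 2, 1, 2, 1, 1, 0, 7, 7, 0], [302, -15, 2, -22, 50, -27, -44, -1, -1, -2, 3, 25, 25, 2]⟩, .gap 2 ⟨2, [4, 5, 1, 2, 3, 1, 0, 1, 6, 2, 0, 0, 1, 2, 7, 1, 0, 7, 7, 2, 1, 1, 1, 0, 7, 7], [0, 0, 0, 0, 0, 0, 0, 0, 0, 0, 0, 0, 0, 0]⟩ [] [⟨42, [0, 2, 3, 3, 5], [15, 15, 19, 19, 19, 19, 15, 19, 15, 15, 19, 15, 19, 15, 15]⟩, ⟨39, [0, 6, 4, 1, 2, 0, 1, 4], [17, 20, 20, 29, 17, 17, 20]⟩] [] []),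
    (⟨true, 3, [2, 0, 4, 1, 4, 3, 1, 0, 2, 6, 2, 0, 0, 0, 0, 1, 1, 0, 7, 7, 1, 0, 7], 3, [5, 0, 2, 3, 3, 4, 3, 0, 0, 1, 0, 7, 1, 1, 0, 7, 7, 0, 7, 2, 1, 7, 2, 1, 6, 2, 0, 6, 2, 0], [131, -12, -2, -14, 25, -17, -20, -5, -1, -1, 2, 10, 13, -4]⟩, .gap 3 ⟨2, [4, 5, 1, 2, 3, 1, 0, 1, 6, 2, 0, 0, 1, 2, 7, 1, 0, 7, 7, 2, 1, 1, 1, 0, 7, 7], [0, 0, 0, 0, 0, 0, 0, 0, 0, 0, 0, 0, 0, 0]⟩ [⟨42, [5, 4, 1, 7, 4, 0, 2, 1], [19, 15, 15, 19, 15, 15, 19, 15, 15]⟩] [⟨44, [0, 0, 0, 0, 0, 0], []⟩, ⟨24, [5, 1, 6, 6, 5], [19, 15, 19, 15, 19, 15, 19, 15, 19, 19, 19]⟩] [4, 1, 4, 0, 7, 2, 0, 0] [17, 17, 29, 20]),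
    (⟨true, 3, [0, 1, 2, 2, 3, 4, 3, 1, 0, 0, 0, 1, 0, 7, 6, 2, 0, 5, 1, 0, 7, 2, 1, 0, 7, 1, 1, 0, 7, 7], 2, [1, 2, 3, 4, 3, 4, 2, 1, 2, 7, 1, 2, 7, 2, 6, 2, 0, 1, 2, 7, 1, 0, 7], [65, -10, -4, -6, 15, -4, -13, -3, 2, 0, -1, 8, 6, -5]⟩, .gap 0 ⟨2, [4, 3, 5, 4, 1, 0, 4, 1, 1, 0, 7, 6, 2, 0, 1, 2, 7, 1, 0, 7], [0, 0, 0, 0, 0, 0, 0, 0, 0, 0, 0, 0, 0, 0]⟩ [⟨36, [0, 0, 0, 0, 0, 0], []⟩] [] [0, 3, 6, 0, 6, 2, 0, 1] [17, 20, 17, 17, 20]),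
    (⟨true, 3, [5, 5, 4, 1, 0, 3, 4, 1, 0, 0, 7, 2, 1, 1, 1, 0, 7, 7, 6, 2, 0, 0, 1, 2, 7, 0], 3, [2, 4, 1, 0, 4, 1, 0, 0, 0, 0, 1, 2, 7, 1, 0, 7, 0, 7, 2, 1, 7, 2, 1], [-479, 19, -7, 32, -76, 38, 75, -1, 2, 2, -3, -36, -40, -10]⟩, .gap 5 ⟨2, [4, 3, 5, 4, 1, 0, 4, 1, 1, 0, 7, 6, 2, 0, 1, 2, 7, 1, 0, 7], [0, 0, 0, 0, 0, 0, 0, 0, 0, 0, 0, 0, 0, 0]⟩ [⟨36, [5, 0, 1, 0, 7, 3, 0, 0, 0], [19, 19, 19, 19, 19, 19, 15, 19, 15, 19, 15, 15, 19]⟩, ⟨44, [3, 4, 2, 4, 0], [15, 19, 19, 15, 15, 19, 15, 15, 19, 15, 19, 15, 19]⟩] [⟨36, [0, 0, 0, 0, 0, 0], []⟩] [3, 1, 2, 1, 5, 0, 1, 0, 0] [17, 17, 20, 29, 29]) ]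

/-- Part 6 of the facts. -/
def facts6 : List (Fct × Cert) :=
  [ (⟨true, 4, [0, 2, 4, 1, 1, 2, 7, 2, 7, 2, 1], 2, [3, 5, 2, 4, 5, 2, 3, 0, 0, 1, 1, 0, 7, 7, 1, 2, 7, 1, 0, 7, 1, 2, 7, 7, 2, 1, 1, 1, 0, 7, 7, 0, 1, 0, 7], [-193, -19, -31, -11, -8, -5, 11, -2, 2, 0, -1, -37, -10, -8]⟩, .gap 3 ⟨2, [3, 0, 5, 0, 4, 3, 0, 1, 0, 2, 1, 0, 7, 0, 1, 2, 7, 5, 1, 0, 7, 0], [0, 0, 0, 0, 0, 0, 0, 0, 0, 0, 0, 0, 0, 0]⟩ [⟨40, [6, 0, 3], [19, 15, 15, 19, 15, 15, 19, 19, 19]⟩] [⟨22, [0, 0], [19, 19, 19, 15, 15, 19, 19, 19, 15, 19, 19, 15, 15, 19, 15]⟩, ⟨22, [7, 7, 7], [15, 15, 19, 15, 19, 15, 15, 19, 19, 15, 15, 19, 19]⟩] [0, 0, 0, 3, 0] [16, 16, 18, 31, 16, 16, 31, 31,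 18]),
    (⟨true, 3, [2, 3, 0, 2, 3, 0, 1, 1, 1, 0, 7, 7, 0, 6, 2, 0, 7, 2, 1, 1, 0, 7, 1, 1, 0, 7, 7, 0, 1, 1, 0, 7, 7], 3, [3, 5, 5, 2, 3, 1, 1, 0, 7, 0, 7, 2, 1, 1, 0, 7, 1, 1, 0, 7, 7, 5, 1, 0, 7, 0], [159, -28, -8, -16, 41, -21, -31, -3, -1, 1, 0, 10, 17, -10]⟩, .gap 4 ⟨2, [3, 0, 5, 0, 4, 3, 0, 1, 0, 2, 1, 0, 7, 0, 1, 2, 7, 5, 1, 0, 7, 0], [0, 0, 0, 0, 0, 0, 0, 0, 0, 0, 0, 0, 0, 0]⟩ [⟨36, [1, 2, 0, 6, 5, 4, 0], [15, 19, 15, 15, 19, 19, 19, 15, 19, 15, 19, 15, 19, 19, 19]⟩] [⟨22, [0, 0], [19, 19, 19, 15, 15, 19, 19, 19, 15, 19, 19, 15, 15, 19, 15]⟩, ⟨42, [0, 1, 3, 6, 4, 3, 2, 1], [15, 19, 19, 19, 19, 19, 19, 15, 15, 19, 19]⟩] [5, 5, 5, 3, 0, 5, 3] [29,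 29, 20, 29, 20]),
    (⟨true, 4, [1, 0, 4, 0, 0, 1, 0, 7, 5, 1, 1, 0, 7, 7, 0, 1, 2, 7], 3, [3, 4, 5, 4, 3, 0, 1, 0, 7, 6, 2, 0, 1, 0, 7, 6, 2, 0, 1, 2, 7, 1, 1, 0, 7, 7, 1, 0, 7, 0], [106, -27, -25, -35, 57, -27, -43, 2, -1, 1, 0, -27, 20, 0]⟩, .gap 1 ⟨2, [3, 5, 0, 2, 3, 0, 4, 1, 0, 1, 0, 7, 7, 2, 1, 1, 0, 7, 0, 1, 1, 0, 7, 7, 1, 0, 7, 2, 1, 2, 7], [0, 0, 0, 0, 0, 0, 0, 0, 0, 0, 0, 0, 0, 0]⟩ [⟨25, [0, 0], []⟩] [⟨42, [4, 4, 1, 0, 2, 4, 0], [15, 19, 19, 19, 19, 15, 19, 15, 15, 19, 19, 19, 19, 19]⟩] [3, 5, 3, 5, 1, 2] [16, 31, 31, 18, 31, 16, 18, 16, 31, 16]),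
    (⟨true, 3, [1, 2, 0, 4, 2, 1, 0, 2, 3, 1, 1, 0, 7, 7, 1, 2, 7, 1, 2, 7, 1, 2, 7, 1, 2, 7], 4, [4, 1, 1, 1, 1, 2, 3, 0, 1, 1, 0, 7, 7, 6, 2, 0, 7, 2, 1, 6, 2, 0, 7, 2, 1], [-18, -1, -2, 1, 8, -2, 4, -4, 2, -1, 0, 0, 0, -9]⟩, .gap 5 ⟨2, [3, 5, 0, 2, 3, 0, 4, 1, 0, 1, 0, 7, 7, 2, 1, 1, 0, 7, 0, 1, 1, 0, 7, 7, 1, 0, 7, 2, 1, 2, 7], [0, 0, 0, 0, 0, 0, 0, 0, 0, 0, 0, 0, 0, 0]⟩ [⟨36, [1, 0, 2, 0, 5, 3, 6], [15, 19, 15, 15, 19, 19, 19, 15, 15, 19, 19, 19]⟩, ⟨22, [5, 5, 3, 5], [19, 19, 15, 15, 19, 19, 15, 15, 19, 15, 19, 15, 19]⟩] [⟨25, [1, 0, 2, 1], [19, 15, 15, 19, 15, 19, 15, 19, 19, 15, 19]⟩] [5, 0, 1, 2, 4, 0, 2] [20, 20, 17, 20, 29, 17, 17]),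
    (⟨true, 3, [2, 2, 2, 3, 5, 0, 2, 3, 0, 0, 0, 1, 0, 7, 5, 1, 1, 0, 7, 7, 1, 2, 7, 1, 0, 7, 1, 2, 7, 0], 4, [4, 0, 2, 0, 3, 4, 1, 0, 7, 1, 1, 0, 7, 7, 7, 2, 1, 0, 1, 0, 7, 7, 2, 1, 1, 2, 7, 0], [4, -3, -4, -3, 7, -7, 1, -5, 2, -1, 0, 4, 2, -8]⟩, .gap 4 ⟨2, [4, 0, 1, 1, 0, 7, 7, 0, 1, 0, 7, 6, 2, 0, 1, 2, 7, 0, 1, 0, 7, 2], [0, 0, 0, 0, 0, 0, 0, 0, 0, 0, 0, 0, 0, 0]⟩ [⟨36, [3, 6, 1, 5, 4, 5], [19, 15, 15, 19, 19, 19, 15, 19, 15, 19, 15, 19, 19, 19, 15]⟩] [⟨26, [5, 3], [15, 19, 15, 15, 19, 15, 15, 19, 19, 15, 15, 19, 15, 15, 19]⟩, ⟨25, [2, 7, 1, 5, 1, 0, 0], [15, 15, 19, 19, 19, 19, 19, 15, 19, 19, 19, 15, 19]⟩] [3, 2, 1, 5, 0, 5, 4] [20, 20, 17, 20, 29,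 20]),
    (⟨true, 2, [5, 2, 3, 4, 3, 2, 3, 0, 1, 0, 7, 1, 1, 0, 7, 7, 2, 1, 0, 7, 1, 1, 0, 7, 7, 7, 2, 1, 1, 1, 0, 7, 7, 0, 1, 0, 7], 4, [2, 0, 5, 2, 3, 4, 1, 2, 7, 1, 0, 7, 1, 2, 7, 0, 2, 6, 2, 0], [376, -22, 7, -29, 68, -32, -59, -1, -4, -2, 5, 25, 34, 2]⟩, .gap 2 ⟨2, [5, 2, 3, 4, 3, 2, 3, 0, 1, 0, 7, 1, 1, 0, 7, 7, 2, 1, 0, 7, 1, 1, 0, 7, 7, 7, 2, 1, 1, 1, 0, 7, 7, 0, 1, 0, 7], [0, 0, 0, 0, 0, 0, 0, 0, 0, 0, 0, 0, 0, 0]⟩ [] [⟨44, [5, 6, 5, 2, 7, 1, 0], [19, 19, 15, 15, 19, 19, 19, 19, 15, 15]⟩, ⟨25, [5, 6, 2, 0, 2, 6], [19, 19, 19, 15, 15, 19, 15, 19, 15, 15, 19, 19, 19]⟩] [] []),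
    (⟨true, 4, [3, 0, 3, 4, 3, 1, 7, 2, 1, 1, 1, 0, 7, 7, 1, 2, 7, 0, 2, 1, 0, 7, 7, 2, 1], 4, [2, 3, 2, 4, 3, 5, 2, 3, 0, 0, 1, 0, 7, 7, 2, 1, 1, 1, 0, 7, 7, 7, 2, 1], [-326, 2, -33, -5, -15, 7, 20, -3, -1, 0, 1, -72, -12, 0]⟩, .gap 4 ⟨2, [5, 2, 3, 4, 3, 2, 3, 0, 1, 0, 7, 1, 1, 0, 7, 7, 2, 1, 0, 7, 1, 1, 0, 7, 7, 7, 2, 1, 1, 1, 0, 7, 7, 0, 1, 0, 7], [0, 0, 0, 0, 0, 0, 0, 0, 0, 0, 0, 0, 0, 0]⟩ [⟨53, [2, 3, 1, 2, 0, 5, 0], [19, 19, 19, 19, 15, 19, 15, 15, 19, 19, 15, 19, 19, 15]⟩] [⟨53, [0, 0, 0, 0, 0, 0], []⟩, ⟨35, [3, 1, 2, 5, 2, 5], [16, 31, 18, 16, 18, 31, 18]⟩] [4, 0, 1, 4, 2, 1] [18, 31, 16, 18, 16, 31, 16, 31, 31]),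
    (⟨true, 4, [1, 0, 1, 2, 4, 3, 0, 1, 6, 2, 0, 5, 0, 1, 1, 0, 7, 7, 0], 2, [2, 0, 2, 3, 2, 4, 3, 4, 0, 0, 0, 0, 2, 6, 2, 0, 0, 0, 2], [-841, 21, -36, 34, -101, 53, 102, 0, 2, 3, -4, -101, -58, -6]⟩, .gap 5 ⟨2, [5, 2, 3, 4, 3, 2, 3, 0, 1, 0, 7, 1, 1, 0, 7, 7, 2, 1, 0, 7, 1, 1, 0, 7, 7, 7, 2, 1, 1, 1, 0, 7, 7, 0, 1, 0, 7], [0, 0, 0, 0, 0, 0, 0, 0, 0, 0, 0, 0, 0, 0]⟩ [⟨52, [4, 0, 1, 2, 5, 3, 0, 0], [29, 20, 17, 20, 20, 29, 29]⟩, ⟨42, [7, 5, 0, 2, 1, 0, 3, 2, 0, 0], [19, 19, 19, 19, 15, 19, 15, 19, 15, 19, 19, 15]⟩, ⟨44, [7, 0, 5, 4, 1, 6, 0], [19, 19, 19, 19, 19, 19, 15, 15, 19, 19, 19, 19, 15, 15, 19, 19, 15]⟩] [] [0, 0, 0, 0, 0, 0] [31, 16, 31, 16, 18,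 31, 31, 18, 31]) ]

/-- Part 7 of the facts. -/
def facts7 : List (Fct × Cert) :=
  [ (⟨true, 4, [0, 4, 1, 0, 2, 4, 0, 1, 1, 0, 7, 7, 1, 0, 7, 2, 5, 0, 1, 1, 0, 7, 7, 0], 3, [5, 5, 0, 4, 0, 4, 1, 2, 7, 1, 2, 7, 1, 2, 7], [-182, -11, -31, -6, -6, -5, 18, -18, -1, 1, 0, -24, -5, -11]⟩, .gap 3 ⟨3, [3, 0, 1], [0, 0, 0, 0, 0, 0, 0, 0, 0, 0, 0, 0, 0, 0]⟩ [⟨38, [6, 0, 3, 5, 5, 0], [20, 17, 29, 17, 20, 29, 29]⟩] [⟨28, [], [29, 17, 29, 29]⟩, ⟨28, [0], [29, 17, 17, 29, 29]⟩] [6, 3, 0, 2, 7, 5, 4] [16, 16, 16, 31, 16, 18, 31, 16, 18]),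
    (⟨true, 3, [1, 4, 5, 0, 4, 0, 4, 1, 1, 1, 0, 7, 7, 1, 0, 7, 0, 2, 6, 2, 0, 7, 2, 1, 1, 0, 7], 3, [0, 1, 0, 1, 2, 1, 2, 3, 1, 0, 7, 1, 1, 0, 7, 7, 1, 0, 7, 7, 2, 1, 0, 1, 0, 7, 1, 2, 7, 1, 2, 7, 5], [209, -18, -11, -24, 51, -30, -39, -8, -1, 1, 0, 12, 27, -7]⟩, .gap 4 ⟨3, [3, 0, 1], [0, 0, 0, 0, 0, 0, 0, 0, 0, 0, 0, 0, 0, 0]⟩ [] [⟨28, [], [29, 17, 29, 29]⟩, ⟨52, [1, 3, 2, 3, 0, 2, 1], [17, 20, 20, 17, 20, 17]⟩, ⟨50, [6, 3, 0, 1, 4, 1, 2, 1, 0], [16, 16, 18, 16, 31, 16, 31, 18, 31]⟩] [2, 1, 5, 6, 2, 1, 0] [17, 20, 17, 17, 17, 20]),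
    (⟨true, 3, [4, 2, 3, 4, 3, 2, 2, 3, 0, 1, 2, 7, 1, 0, 7, 0, 1, 1, 0, 7, 7, 6, 2, 0, 7, 2, 1], 3, [2, 0, 3, 1, 2, 2, 0, 4, 0, 2, 6, 2, 0, 0, 7, 2, 1, 1, 0, 7], [11, -8, -10, -4, 11, -2, -4, -9, -4, 2, 1, 1, 8, -5]⟩, .gap 5 ⟨3, [3, 0, 1], [0, 0, 0, 0, 0, 0, 0, 0, 0, 0, 0, 0, 0, 0]⟩ [] [⟨28, [], [29, 17, 29, 29]⟩, ⟨30, [], [17, 17, 17, 29, 20, 17, 20, 20]⟩, ⟨42, [5, 0, 1, 5, 4, 2, 1, 0, 0], [19, 19, 15, 15, 19, 15, 19, 19, 15]⟩] [7, 2, 0, 0, 0, 3, 0] [20, 17, 29, 20, 20, 17]),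
    (⟨true, 3, [4, 0, 3, 0, 4, 3, 1, 1, 0, 7, 5, 0, 1, 1, 0, 7, 7, 6, 2, 0, 7, 2, 1], 3, [3, 2, 0, 0, 5, 4, 3, 0, 1, 1, 1, 0, 7, 7, 1, 0, 7, 7, 2, 1, 0, 1, 1, 0, 7, 7, 5, 1, 0, 7, 0, 1, 1, 0, 7, 7], [86, -17, -9, -9, 23, -9, -18, -1, -4, 1, 2, 5, 11, -8]⟩, .gap 4 ⟨3, [1, 4, 3, 2, 4, 3, 0, 7, 2, 1, 0, 5, 1, 0, 7, 1, 1, 0, 7, 7], [0, 0, 0, 0, 0, 0, 0, 0, 0, 0, 0, 0, 0, 0]⟩ [] [⟨30, [], [20, 20, 20, 20, 20, 20]⟩, ⟨42, [0, 2, 1, 7, 4, 0, 1], [15, 19, 15, 19, 15, 19, 19, 15, 15, 19, 15, 19, 15, 15, 19]⟩, ⟨37, [6, 1, 6, 5, 1, 0], [17, 20, 29, 17, 17]⟩] [2, 7, 4, 1, 6, 2, 0, 1, 0, 0] [20, 17, 20, 20, 17, 17, 20]),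
    (⟨true, 3, [5, 5, 3, 1, 0, 1, 0, 0, 5, 1, 0, 7, 0], 4, [0, 0, 4, 3, 4, 2, 3, 0, 0, 1, 1, 0, 7, 7, 6, 2, 0, 6, 2, 0, 2, 1, 1, 0, 7, 7], [-188, 8, -13, 6, -18, 15, 13, -2, -7, 3, 2, -34, -8, 1]⟩, .gap 5 ⟨3, [1, 4, 3, 2, 4, 3, 0, 7, 2, 1, 0, 5, 1, 0, 7, 1, 1, 0, 7, 7], [0, 0, 0, 0, 0, 0, 0, 0, 0, 0, 0, 0, 0, 0]⟩ [] [⟨30, [], [20, 20, 20, 20, 20, 20]⟩, ⟨40, [], [19, 19, 15, 19, 19, 15, 19, 19, 15, 15]⟩, ⟨54, [5, 5, 0, 6, 1, 5], [18, 16, 31, 16, 31, 31, 31]⟩] [0, 7, 1, 0, 0, 0] [17, 17, 20, 20, 20, 17, 20]),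
    (⟨true, 3, [3, 1, 1, 4, 2, 0, 2, 3, 1, 1, 0, 7, 7, 1, 0, 7, 0, 7, 2, 1, 5, 1, 0, 7, 0, 2], 3, [0, 2, 3, 1, 0, 1, 1, 1, 0, 7, 7, 2, 7, 2, 1, 1, 2, 7, 1, 2, 7, 7, 2, 1], [-32, -26, -15, -4, 4, -2, -5, -6, -4, 0, 3, 1, 0, -7]⟩, .gap 3 ⟨3, [5, 0, 2, 0, 4, 3, 1, 1, 0, 7, 7, 1, 2, 7, 1, 2, 7, 0, 1, 0, 7], [0, 0, 0, 0, 0, 0, 0, 0, 0, 0, 0, 0, 0, 0]⟩ [] [⟨37, [0, 0, 0, 0, 0, 0], []⟩, ⟨37, [5, 0, 7, 6, 2, 5, 1, 0], [29, 17, 17, 29, 29]⟩, ⟨37, [4, 4, 2, 1, 0, 2], [17, 20, 29, 17, 29]⟩] [1, 6, 4, 1, 2, 1] [29, 20, 17, 20, 29, 29]),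
    (⟨true, 3, [1, 4, 0, 1, 1, 2, 3, 1, 1, 0, 7, 1, 1, 0, 7, 7, 0, 1, 1, 0, 7, 7, 7, 2, 1, 1, 0, 7, 7, 2, 1, 1, 1, 0, 7, 7, 1, 0, 7], 3, [4, 0, 2, 4, 5, 2, 3, 1, 0, 1, 0, 7, 0, 7, 2, 1, 0, 0, 1, 2, 7, 1, 0, 7, 0], [405, -45, -3, -36, 77, -44, -67, 0, 2, -4, 3, 35, 33, -16]⟩, .gap 4 ⟨3, [5, 0, 2, 0, 4, 3, 1, 1, 0, 7, 7, 1, 2, 7, 1, 2, 7, 0, 1, 0, 7], [0, 0, 0, 0, 0, 0, 0, 0, 0, 0, 0, 0, 0, 0]⟩ [⟨58, [5, 5, 0, 1, 2, 1, 0], [20, 17, 17, 17, 20, 29, 29]⟩, ⟨47, [0, 2, 4, 1, 2, 4, 4, 1, 0], [29, 17, 17, 20, 20, 20, 29]⟩] [⟨37, [0, 0, 0, 0, 0, 0], []⟩] [6, 1, 7, 3, 0, 3, 0] [20, 17, 20, 17]),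
    (⟨true, 3, [2, 4, 3, 1, 0, 2, 3, 1, 1, 1, 0, 7, 7, 0, 6, 2, 0, 1, 1, 0, 7, 7, 0, 5], 3, [3, 2, 1, 0, 2, 2, 3, 1, 1, 0, 7, 7, 2, 1, 0, 7, 0, 7, 2, 1, 1, 0, 7, 6, 2, 0, 1, 1, 0, 7, 7], [404, -58, -18, -38, 90, -46, -72, -11, -4, -2, 5, 36, 40, -18]⟩, .gap 5 ⟨3, [5, 0, 2, 0, 4, 3, 1, 1, 0, 7, 7, 1, 2, 7, 1, 2, 7, 0, 1, 0, 7], [0, 0, 0, 0, 0, 0, 0, 0, 0, 0, 0, 0, 0, 0]⟩ [⟨47, [0, 2, 5, 6, 4, 1, 0, 0], [20, 20, 17, 20, 29, 20, 20]⟩] [⟨37, [0, 0, 0, 0, 0, 0], []⟩, ⟨37, [0, 6, 6, 0, 3, 2, 0], []⟩] [6, 2, 0, 2, 6, 1] [17, 20, 29, 20, 20, 29]) ]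

/-- Part 8 of the facts. -/
def facts8 : List (Fct × Cert) :=
  [ (⟨true, 3, [0, 4, 0, 3, 4, 0, 2, 4, 1, 0, 7, 1, 1, 0, 7, 7, 0, 2, 1, 2, 7, 2, 1, 1, 0, 7, 7], 3, [2, 1, 1, 0, 4, 6, 2, 0, 1, 1, 0, 7, 7, 2, 5, 1, 1, 0, 7, 7, 0], [278, -9, 0, -21, 41, -24, -39, -2, -1, -1, 2, 23, 24, 4]⟩, .gap 1 ⟨3, [0, 4, 0, 3, 4, 0, 2, 4, 1, 0, 7, 1, 1, 0, 7, 7, 0, 2, 1, 2, 7, 2, 1, 1, 0, 7, 7], [0, 0, 0, 0, 0, 0, 0, 0, 0, 0, 0, 0, 0, 0]⟩ [] [⟨39, [1, 7, 0, 6, 1, 0], [17, 29, 20, 29, 29]⟩, ⟨42, [1, 5, 4, 0, 6, 0, 0], [19, 15, 15, 19, 15, 19, 15, 19, 15, 15, 19, 19]⟩] [0, 0] []),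
    (⟨true, 3, [1, 1, 4, 0, 2, 4, 3, 0, 0, 0, 1, 1, 0, 7, 7, 1, 0, 7, 0, 5, 1, 1, 0, 7, 7, 6, 2, 0], 3, [0, 4, 3, 3, 0, 4, 3, 0, 1, 1, 0, 7, 1, 1, 0, 7, 7, 0, 2, 1, 0, 7, 7, 2, 1, 0, 0], [-119, -15, -7, 5, -3, 4, 10, -1, -1, 2, -1, -13, -7, -11]⟩, .gap 2 ⟨3, [0, 4, 0, 3, 4, 0, 2, 4, 1, 0, 7, 1, 1, 0, 7, 7, 0, 2, 1, 2, 7, 2, 1, 1, 0, 7, 7], [0, 0, 0, 0, 0, 0, 0, 0, 0, 0, 0, 0, 0, 0]⟩ [⟨64, [], []⟩] [⟨49, [6, 6, 1, 4, 0, 5, 2, 1], [17, 29, 20, 17, 20, 20, 17]⟩] [4, 3, 0, 2, 1, 5, 0, 0] [17, 17, 20, 20, 20, 17]),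
    (⟨true, 3, [0, 5, 3, 2, 0, 2, 3, 1, 0, 7, 7, 2, 1, 0, 0, 1, 0, 7, 6, 2, 0, 0, 1, 0, 7, 0], 4, [0, 4, 1, 0, 2, 4, 2, 3, 1, 0, 7, 1, 1, 0, 7, 7, 0, 1, 2, 7, 1, 1, 0, 7, 7, 2], [706, -50, -11, -56, 122, -65, -110, -8, -4, -2, 5, 60, 65, -4]⟩, .gap 3 ⟨3, [0, 4, 0, 3, 4, 0, 2, 4, 1, 0, 7, 1, 1, 0, 7, 7, 0, 2, 1, 2, 7, 2, 1, 1, 0, 7, 7], [0, 0, 0, 0, 0, 0, 0, 0, 0, 0, 0, 0, 0, 0]⟩ [⟨47, [2, 4, 1, 3, 6, 1, 0, 0], [20, 20, 29, 20, 29, 20]⟩] [⟨64, [0, 0, 0, 0, 0, 0], []⟩, ⟨21, [2, 3, 3, 0, 3], [20, 17, 29, 20, 20, 20, 29]⟩] [1, 0, 2, 5, 2, 6, 1, 0, 2] [17, 17, 29, 20, 29, 20]),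
    (⟨true, 3, [0, 2, 1, 2, 1, 2, 2, 3, 1, 1, 0, 7, 1, 1, 0, 7, 7, 0, 1, 2, 7, 0, 1, 0, 7, 7, 2, 1, 0], 3, [3, 2, 1, 2, 4, 2, 3, 0, 1, 0, 7, 7, 2, 1, 7, 2, 1, 1, 0, 7, 5, 1, 1, 0, 7, 7], [195, 1, 1, -14, 25, -13, -28, -6, -7, 1, 4, 11, 21, 11]⟩, .gap 2 ⟨3, [0, 2, 1, 2, 1, 2, 2, 3, 1, 1, 0, 7, 1, 1, 0, 7, 7, 0, 1, 2, 7, 0, 1, 0, 7, 7, 2, 1, 0], [0, 0, 0, 0, 0, 0, 0, 0, 0, 0, 0, 0, 0, 0]⟩ [] [⟨45, [6, 1, 6, 0, 5, 2, 5, 0], [29, 20, 17, 20, 20, 29]⟩, ⟨58, [4, 1, 6, 0, 2, 7], [29, 29, 20, 20, 20, 20]⟩] [] []),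
    (⟨true, 3, [1, 0, 4, 5, 4, 2, 3, 1, 1, 1, 0, 7, 7, 7, 2, 1, 0, 6, 2, 0, 1, 1, 0, 7, 7, 1, 2, 7], 4, [2, 0, 3, 2, 2, 3, 0, 0, 0, 6, 2, 0, 1, 0, 7, 0, 1, 2, 7, 1, 1, 0, 7, 7, 1, 0, 7], [-313, -8, -18, 17, -19, 17, 43, -16, -1, 2, -1, -22, -16, -25]⟩, .gap 5 ⟨3, [4, 2, 3, 4, 3, 2, 2, 3, 0, 1, 2, 7, 1, 0, 7, 0, 1, 1, 0, 7, 7, 6, 2, 0, 7, 2, 1], [0, 0, 0, 0, 0, 0, 0, 0, 0, 0, 0, 0, 0, 0]⟩ [⟨64, [3, 0, 1, 0, 6, 5, 2, 0], [20, 20, 20, 17, 20, 29, 20]⟩] [⟨58, [0, 0, 0, 0, 0, 0], []⟩, ⟨51, [5, 3, 3, 2, 1, 6, 0, 2], [29, 17, 17, 17, 20, 20, 17]⟩] [5, 5, 3, 2, 6] [17, 29, 17, 17, 20, 20]),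
    (⟨true, 3, [4, 0, 5, 3, 0, 4, 2, 3, 0, 0, 1, 2, 7, 0, 1, 0, 7, 7, 2, 1, 1, 1, 0, 7, 7, 1, 0, 7], 3, [1, 1, 4, 3, 2, 2, 3, 2, 7, 2, 1, 7, 2, 1, 1, 0, 7, 5, 0, 2], [-7, -26, -13, -7, 14, -12, -7, -12, -1, 1, 0, -3, 7, -18]⟩, .gap 4 ⟨3, [2, 3, 0, 2, 3, 0, 1, 1, 1, 0, 7, 7, 0, 6, 2, 0, 7, 2, 1, 1, 0, 7, 1, 1, 0, 7, 7, 0, 1, 1, 0, 7, 7], [0, 0, 0, 0, 0, 0, 0, 0, 0, 0, 0, 0, 0, 0]⟩ [⟨64, [7, 2, 4, 1, 4, 0], [17, 17, 17, 20, 20, 29, 20]⟩] [⟨49, [0, 0, 0, 0, 0, 0], []⟩, ⟨45, [2, 1, 4, 1, 3, 0], [29, 29, 17, 29, 20, 29]⟩] [3, 2, 5, 4, 3, 0] [20, 20, 17, 17, 20]),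
    (⟨true, 4, [3, 0, 2, 3, 0, 0, 1, 0, 7, 7, 2, 1, 5, 0, 1, 1, 0, 7, 7, 1, 0, 7, 7, 2, 1], 3, [4, 0, 4, 3, 4, 2, 3, 1, 0, 7, 2, 1, 1, 0, 7, 7, 6, 2, 0, 6, 2, 0, 1, 2, 7, 1, 2, 7], [16, -24, -15, -21, 32, -21, -11, 2, 8, -3, -2, -12, 6, -12]⟩, .gap 0 ⟨3, [5, 5, 3, 1, 0, 1, 0, 0, 5, 1, 0, 7, 0], [0, 0, 0, 0, 0, 0, 0, 0, 0, 0, 0, 0, 0, 0]⟩ [⟨60, [0, 0], [29, 17, 17, 29, 29]⟩] [] [4, 1, 3, 3, 5, 2] [16, 31, 31, 18, 31, 16, 31, 18]),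
    (⟨true, 3, [2, 2, 2, 3, 0, 2, 3, 0, 0, 6, 2, 0, 1, 2, 7, 0, 1, 0, 7, 0, 1, 1, 0, 7, 7], 3, [5, 5, 0, 4, 5, 3, 1, 0, 0, 1, 2, 7, 1, 0, 7, 1, 1, 0, 7, 7, 6, 2, 0], [-59, 4, 13, 18, -29, 6, 32, -2, 8, -4, -1, 26, -15, -9]⟩, .gap 2 ⟨3, [5, 5, 3, 1, 0, 1, 0, 0, 5, 1, 0, 7, 0], [0, 0, 0, 0, 0, 0, 0, 0, 0, 0, 0, 0, 0, 0]⟩ [⟨50, [0, 2, 3, 1, 4, 0, 6, 1], [16, 31, 16, 18, 31, 16, 31, 18]⟩, ⟨60, [], []⟩] [] [1, 7, 0, 5, 2, 5, 0, 0] [17, 29, 29, 20]) ]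

/-- Part 9 of the facts. -/
def facts9 : List (Fct × Cert) :=
  [ (⟨true, 4, [0, 3, 4, 1, 0, 1, 0, 7, 2, 1, 1, 0, 7, 7, 2, 1, 1, 0, 7, 7, 0, 1, 1, 0, 7, 7, 1, 0, 7], 4, [3, 5, 1, 2, 1, 2, 3, 0, 0, 1, 1, 0, 7, 7, 2, 6, 2, 0, 0, 1, 0, 7, 7, 2, 1], [-962, 63, -25, 46, -131, 68, 117, 3, -1, 3, -2, -127, -69, 10]⟩, .gap 5 ⟨3, [5, 5, 3, 1, 0, 1, 0, 0, 5, 1, 0, 7, 0], [0, 0, 0, 0, 0, 0, 0, 0, 0, 0, 0, 0, 0, 0]⟩ [⟨66, [6, 2, 5, 0, 0, 0, 0], [17, 17, 29, 17, 17, 17, 20]⟩, ⟨65, [3, 5, 0, 2, 5, 5, 1], [20, 20, 29, 29, 17]⟩] [⟨60, [0, 0], [29, 17, 17, 29, 29]⟩] [0, 5, 0, 2, 7, 5] [16, 18, 31, 16, 31, 31, 18, 31, 16]),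
    (⟨true, 4, [3, 4, 0, 4, 2, 3, 1, 1, 0, 7, 7, 1, 0, 7, 7, 2, 1, 1, 1, 0, 7, 7, 1, 2, 7, 0, 1, 1, 0, 7, 7, 1, 0, 7], 3, [3, 4, 3, 2, 0, 4, 1, 6, 2, 0, 0, 5, 1, 1, 0, 7, 7, 1, 0, 7], [-883, 42, -18, 44, -116, 62, 112, 8, 5, 2, -5, -107, -67, 4]⟩, .gap 0 ⟨3, [0, 5, 3, 2, 0, 2, 3, 1, 0, 7, 7, 2, 1, 0, 0, 1, 0, 7, 6, 2, 0, 0, 1, 0, 7, 0], [0, 0, 0, 0, 0, 0, 0, 0, 0, 0, 0, 0, 0, 0]⟩ [⟨66, [0, 0, 0, 0, 0, 0], []⟩] [] [4, 0, 1, 3, 2, 6] [31, 31, 16, 18, 31, 18, 16, 31, 18]),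
    (⟨true, 4, [3, 2, 0, 4, 0, 1, 0, 7, 0, 1, 2, 7, 1, 0, 7, 2, 1, 1, 0, 7, 7, 1, 0, 7, 7, 2, 1, 1, 1, 0, 7, 7], 3, [3, 4, 1, 0, 2, 3, 1, 1, 0, 7, 2, 2, 1, 1, 0, 7, 7], [-768, 33, -19, 37, -96, 54, 92, 11, -1, 4, -3, -101, -57, 3]⟩, .gap 1 ⟨3, [0, 5, 3, 2, 0, 2, 3, 1, 0, 7, 7, 2, 1, 0, 0, 1, 0, 7, 6, 2, 0, 0, 1, 0, 7, 0], [0, 0, 0, 0, 0, 0, 0, 0, 0, 0, 0, 0, 0, 0]⟩ [⟨66, [0, 0], []⟩] [⟨59, [6, 0, 1, 7, 6, 1], [20, 17, 20, 20, 29]⟩] [1, 5, 6, 0, 3, 2, 1, 0, 0] [18, 31, 31, 16, 31, 16, 31, 18, 16]),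
    (⟨true, 4, [5, 1, 4, 3, 0, 4, 3, 1, 0, 0, 6, 2, 0, 1, 0, 7, 1, 1, 0, 7, 7, 0, 1, 2, 7, 1, 0, 7, 1, 1, 0, 7, 7, 0], 3, [3, 4, 3, 2, 0, 4, 1, 1, 0, 7, 1, 1, 0, 7, 7, 6, 2, 0, 7, 2, 1, 7, 2, 1, 7, 2, 1, 1, 2, 7], [-800, 30, -13, 40, -108, 51, 113, -3, 8, 0, -5, -79, -65, -8]⟩, .gap 5 ⟨3, [2, 0, 4, 1, 4, 3, 1, 0, 2, 6, 2, 0, 0, 0, 0, 1, 1, 0, 7, 7, 1, 0, 7], [0, 0, 0, 0, 0, 0, 0, 0, 0, 0, 0, 0, 0, 0]⟩ [⟨66, [0, 2, 3, 3, 4, 1, 0, 2, 0], [20, 29, 20, 29, 20, 20]⟩, ⟨59, [1, 0, 6, 1, 0, 0, 5, 2, 1, 0], [20, 20, 29, 20, 17]⟩] [⟨45, [0, 0, 0, 0, 0, 0], []⟩] [6, 2, 0, 6, 6, 2, 1, 0] [31, 16, 31, 18, 16, 18]),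
    (⟨true, 3, [2, 0, 2, 3, 2, 3, 1, 1, 0, 7, 7, 7, 2, 1, 2, 6, 2, 0, 0, 1, 1, 0, 7, 7], 4, [1, 2, 1, 2, 2, 4, 3, 1, 1, 0, 7, 7, 1, 0, 7, 7, 2, 1, 6, 2, 0, 0, 6, 2, 0, 1, 1, 0, 7, 7, 2], [-42, 5, 4, 1, -6, 4, -4, 0, -4, 2, 1, -9, 2, 3]⟩, .gap 2 ⟨3, [2, 0, 2, 3, 2, 3, 1, 1, 0, 7, 7, 7, 2, 1, 2, 6, 2, 0, 0, 1, 1, 0, 7, 7], [0, 0, 0, 0, 0, 0, 0, 0, 0, 0, 0, 0, 0, 0]⟩ [] [⟨21, [2, 7, 3, 5], [17, 29, 20, 20, 17, 29, 20]⟩, ⟨34, [6, 2, 3, 2, 3, 2, 1], [16, 18, 31, 31, 18, 31, 18, 31, 18]⟩] [] []),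
    (⟨true, 4, [1, 0, 2, 3, 4, 2, 3, 1, 0, 0, 1, 1, 0, 7, 7, 6, 2, 0, 1, 1, 0, 7, 7, 7, 2, 1, 1, 0, 7, 1, 1, 0, 7, 7, 1, 0, 7], 3, [5, 0, 4, 5, 3, 2, 3, 1, 1, 0, 7, 1, 1, 0, 7, 7, 0, 1, 0, 7, 6, 2, 0, 7, 2, 1, 1, 1, 0, 7, 7, 7, 2, 1], [327, 11, 5, -30, 31, -25, -52, 15, 2, -3, 2, 12, 20, 26]⟩, .gap 1 ⟨3, [1, 1, 4, 0, 2, 4, 3, 0, 0, 0, 1, 1, 0, 7, 7, 1, 0, 7, 0, 5, 1, 1, 0, 7, 7, 6, 2, 0], [0, 0, 0, 0, 0, 0, 0, 0, 0, 0, 0, 0, 0, 0]⟩ [⟨68, [2, 3, 2, 6, 0], [29, 20, 29, 20, 17, 17]⟩, ⟨65, [0, 0], []⟩] [] [0, 2, 0, 0, 6, 1, 0, 2, 5] [18, 16, 31, 16, 16, 31]),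
    (⟨true, 3, [4, 0, 2, 0, 5, 3, 4, 0, 0, 1, 2, 7, 7, 2, 1, 0, 1, 1, 0, 7, 7, 7, 2, 1, 1, 0, 7, 1, 1, 0, 7, 7], 3, [4, 1, 4, 0, 3, 4, 3, 0, 0, 1, 0, 7, 1, 1, 0, 7, 7, 0, 1, 2, 7, 5, 1, 0, 7, 0], [118, -15, -1, -15, 30, -22, -12, 0, 8, -3, -2, 15, 9, -10]⟩, .gap 1 ⟨3, [4, 0, 2, 0, 5, 3, 4, 0, 0, 1, 2, 7, 7, 2, 1, 0, 1, 1, 0, 7, 7, 7, 2, 1, 1, 0, 7, 1, 1, 0, 7, 7], [0, 0, 0, 0, 0, 0, 0, 0, 0, 0, 0, 0, 0, 0]⟩ [] [⟨52, [6, 5, 1, 3, 0, 2, 0], [29, 20, 17, 29, 20, 17]⟩, ⟨70, [7, 5, 2, 5, 3], [31, 16, 18, 31]⟩] [0, 0] []),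
    (⟨true, 3, [0, 1, 4, 1, 4, 0, 2, 3, 0, 0, 0, 5, 0, 1, 0, 7], 3, [3, 4, 2, 0, 5, 2, 3, 0, 7, 2, 1, 0, 5, 0, 7, 2, 1, 1, 0, 7], [-429, 49, 5, 34, -74, 40, 81, -2, 5, 4, -7, -35, -33, -8]⟩, .gap 3 ⟨3, [4, 0, 2, 0, 5, 3, 4, 0, 0, 1, 2, 7, 7, 2, 1, 0, 1, 1, 0, 7, 7, 7, 2, 1, 1, 0, 7, 1, 1, 0, 7, 7], [0, 0, 0, 0, 0, 0, 0, 0, 0, 0, 0, 0, 0, 0]⟩ [⟨62, [4, 1, 2, 7, 1, 5, 1, 0], [17, 17, 20, 17, 17, 17]⟩, ⟨37, [6, 1, 3, 0, 2, 4, 1, 0, 0, 0], [20, 17, 20, 17, 20, 20]⟩, ⟨61, [4, 1, 2, 5, 1, 6, 2], [20, 29, 17, 17, 20, 29]⟩] [] [3, 2, 5, 3, 4, 4, 1] [17, 17, 29, 29, 17, 29, 20, 20]) ]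

/-- Part 10 of the facts. -/
def facts10 : List (Fct × Cert) :=
  [ (⟨true, 4, [3, 4, 3, 2, 4, 0, 0, 2, 1, 1, 0, 7, 7, 7, 2, 1, 1, 0, 7, 1, 1, 0, 7, 7, 7, 2, 1], 3, [5, 2, 4, 2, 3, 0, 4, 1, 0, 7, 6, 2, 0, 1, 1, 0, 7, 7, 0, 1, 0, 7, 6, 2, 0, 6, 2, 0], [-48, -49, -37, -30, 59, -25, -34, -7, -1, -2, 3, -43, 13, -22]⟩, .gap 3 ⟨3, [2, 4, 3, 1, 0, 2, 3, 1, 1, 1, 0, 7, 7, 0, 6, 2, 0, 1, 1, 0, 7, 7, 0, 5], [0, 0, 0, 0, 0, 0, 0, 0, 0, 0, 0, 0, 0, 0]⟩ [⟨66, [5, 2, 5, 1, 7, 0], [29, 20, 29, 17, 17]⟩, ⟨47, [3, 6, 2, 1, 0, 2, 0, 0], [17, 20, 17, 20, 17, 29, 20]⟩] [⟨63, [0, 0, 0, 0, 0, 0], []⟩] [6, 2, 3, 2, 0, 2, 1] [18, 31, 16, 31, 16, 31, 31, 31]),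
    (⟨true, 2, [5, 2, 4, 5, 2, 2, 3, 7, 2, 1, 0, 1, 1, 0, 7, 7, 1, 2, 7, 1, 2, 7, 1, 0, 7, 7, 2, 1], 4, [4, 5, 1, 4, 0, 1, 2, 3, 1, 0, 7, 2, 2, 2, 2], [365, 4, 31, 1, 19, -9, -31, 0, -4, 2, 1, 69, 22, 4]⟩, .gap 0 ⟨4, [4, 5, 1, 4, 0, 1, 2, 3, 1, 0, 7, 2, 2, 2, 2], [0, 0, 0, 0, 0, 0, 0, 0, 0, 0, 0, 0, 0, 0]⟩ [⟨43, [0, 0, 0, 0, 0, 0], []⟩] [] [] []) ]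

/-- All facts. -/
def factList : List (Fct × Cert) :=
  facts0 ++ facts1 ++ facts2 ++ facts3 ++ facts4 ++ facts5 ++ facts6 ++ facts7 ++ facts8 ++ facts9 ++ facts10

end Cfsg.Lib.LyReal
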