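/-! Generated data: double cosets. -/

set_option autoImplicit false
set_option maxRecDepth 20000

namespace Cfsg.Lib.LyReal

/-- The translates of record 55. -/
def moveT55 : List (List Nat × Nat × List Nat) :=
  [([5, 1, 4, 3, 4, 4], 49, [2157]),
    ([2, 1, 7, 6, 0], 62, [2154]),
    ([6, 4, 0, 2, 0], 51, [1622]),
    ([1, 2, 3, 4, 1, 0], 50, [2095]),
    ([2, 6, 1, 0, 2, 6, 1, 2, 0, 0], 55, [2458]),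
    ([0, 1, 6, 4, 2, 4, 1, 0], 63, [1075]),
    ([4, 1, 0, 2, 5, 5, 0], 55, [1066]),
    ([7, 0, 5, 5, 2, 3], 63, [1127]),
    ([1, 5, 5, 2, 7, 0, 1], 51, [2857]),
    ([1, 2, 0, 7, 3, 1, 3, 0, 0], 56, [1776]),
    ([3, 5, 3, 3, 1, 0], 63, [1523]),
    ([1, 3, 1, 5, 5, 0, 1, 0], 55, [892]),
    ([5, 3, 3, 0, 5, 0], 63, [76]),
    ([1, 3, 2, 7, 1, 6, 0, 0], 49, [1697]),
    ([3, 0, 5, 3, 3], 55, [2807]),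
    ([6, 2, 1, 7, 5, 3], 55, [97]),
    ([3, 4, 0, 1], 18, [532]),
    ([7, 6, 6, 6, 6, 0, 2], 48, [1454]),
    ([5, 2, 6, 1, 4, 5, 0], 49, [2355]),
    ([5, 5, 4, 0, 1, 5, 3], 61, [207]),
    ([6, 0, 2, 0, 6, 5], 59, [560]),
    ([4, 1, 0, 6, 1, 4, 0, 0], 63, [288]),
    ([0, 3, 4, 4, 1, 2], 57, [293]),
    ([2, 5, 2, 5, 5, 0], 55, [2750]),
    ([0, 0, 6, 1, 6, 3], 60, [1403]),
    ([6, 1, 2, 5, 6, 0, 3], 58, [1262]),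
    ([7, 1, 7, 5], 52, [1666]),
    ([2, 0, 1, 2, 6, 5, 2], 50, [1103]),
    ([6, 6, 4, 1, 4, 4], 55, [1075]),
    ([0, 5, 5, 1, 5, 2, 0], 52, [2508]),
    ([6, 2, 3, 3, 3, 0, 1], 57, [1378]),
    ([2, 6, 4, 0, 6, 6, 0], 54, [23]),
    ([2, 1, 0, 0, 6, 2, 3], 48, [1081]),
    ([5, 4, 2, 5, 4, 0, 1], 57, [105]),
    ([1, 5, 0, 1, 7, 6, 0, 0], 58, [1046]),
    ([3, 1, 4, 0, 6, 1, 2, 0, 0], 55, [1697]),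
    ([0, 5, 1, 6, 0, 6, 0], 54, [1127]),
    ([4, 0, 5, 4, 2, 5, 0, 1], 55, [208]),
    ([3, 2, 7, 3, 6, 0, 2], 56, [2215]),
    ([6, 0, 1, 3, 0, 2, 6], 56, [2441]),
    ([1, 3, 1, 3, 5, 0], 62, [757]),
    ([1, 4, 2, 4, 3, 1], 51, [1310]),
    ([1, 2, 7, 0, 6], 55, [1523]),
    ([3, 0, 5, 2, 0, 3, 1, 0], 57, [2387]),
    ([7, 1, 6, 4, 2, 5, 0], 55, [1404]),
    ([3, 2, 1, 6, 6, 6, 1], 48, [2720]),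
    ([5, 2, 0, 1, 6, 0, 2, 1], 52, [23]),
    ([0, 2, 5, 3], 58, [2094]),
    ([2, 0, 1, 2, 4, 5, 0, 1], 63, [2441]),
    ([1, 3, 4, 4, 2], 55, [2154]),
    ([6, 2, 5, 5, 2, 1], 61, [2836]),
    ([6, 2, 1, 0, 2, 4, 3, 0], 58, [317]),
    ([1, 2, 1, 4, 0, 1, 3], 55, [532]),
    ([5, 2, 4, 3, 1, 2], 49, [532]),
    ([7, 0, 1, 3, 2, 0, 0, 0], 55, [2653]),
    ([3, 0, 1, 5, 0, 6, 2, 1], 61, [2521]),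
    ([5, 1, 5, 2, 6, 6, 0], 58, [2640]),
    ([6, 6, 2, 3, 0, 2], 55, [1155]),
    ([6, 0, 2, 7, 0, 6, 1], 55, [2715]),
    ([1, 0, 3, 2, 0, 0], 61, [723]),
    ([4, 4, 5, 6, 3], 63, [132]),
    ([6, 1, 0, 6, 2, 1, 0], 55, [1188]),
    ([2, 4, 1, 5, 0, 1, 2, 0, 0], 63, [1335]),
    ([4, 0, 7, 1, 5, 4, 0], 63, [2565]),
    ([6, 0, 1, 3, 3, 3, 2, 0], 56, [1637]),
    ([6, 3, 2, 6, 3, 1, 0], 63, [2374]),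
    ([2, 1, 5, 2, 6, 2, 0, 0, 0], 56, [1067]),
    ([6, 0, 1, 6, 2, 7, 1], 58, [2713]),
    ([3, 0, 5, 6, 2, 0, 0], 59, [653]),
    ([6, 1, 2, 6, 5, 4, 1], 59, [539]),
    ([5, 0, 2, 5, 0, 3, 6, 1], 55, [2780]),
    ([4, 3, 4, 2, 4, 4], 55, [1687]),
    ([0, 3, 1, 7, 4, 0], 48, [363]),
    ([2, 5, 6, 3, 1, 4, 0], 55, [2322]),
    ([4, 5, 2, 1, 4, 0, 2], 61, [1912]),
    ([7, 1, 0, 2, 1, 4, 2], 48, [2768]),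
    ([1, 0, 3, 2, 3, 5, 1, 0], 55, [1101]),
    ([4, 2, 6, 6, 5, 5], 61, [945]),
    ([4, 4, 1, 0, 2, 1, 0], 54, [2030]),
    ([3, 1, 2, 7, 6, 0, 1, 2], 54, [288]),
    ([1, 2, 4, 3, 5, 1], 57, [399]),
    ([3, 2, 1, 5, 0, 2], 55, [1907]),
    ([0, 6, 6, 1, 6, 2, 3, 1], 61, [596]),
    ([2, 1, 6, 1, 6, 4, 0], 49, [2100]),
    ([7, 3, 0, 0, 5, 2, 1, 0, 0], 55, [2100]),
    ([2, 4, 0, 1, 0, 3, 3], 61, [383]),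
    ([4, 2, 4, 4, 4, 4], 50, [1647]),
    ([1, 5, 5, 0, 3, 2, 1], 56, [1361]),
    ([1, 5, 2, 0, 3, 1, 0], 54, [1776]),
    ([4, 3, 5, 0, 2, 1, 6], 49, [2154]),
    ([0, 2, 6, 6, 4, 1], 48, [1322]),
    ([5, 0, 1, 2, 3, 0, 0, 0, 0], 55, [680]),
    ([2, 5, 6, 2], 59, [2823]),
    ([1, 0, 5, 1, 5, 0, 0, 0], 55, [2157]),
    ([4, 5, 4, 5, 1], 62, [2632]),
    ([1, 6, 4, 0, 2, 4, 1, 0], 55, [2557]),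
    ([2, 0, 5, 4, 0, 3, 2], 56, [2030]),
    ([5, 3, 2, 1, 5], 52, [1612]),
    ([2, 1, 4, 1, 7, 5], 54, [1637]),
    ([4, 5, 4, 4, 1, 3, 0], 63, [594]),
    ([1, 2, 0, 1, 4, 5, 6, 2, 0], 58, [2375]),
    ([0, 1, 3, 2, 0, 1, 5, 2], 63, [1307]),
    ([2, 1, 0, 5, 5, 5, 2], 55, [123]),
    ([6, 1, 5, 2, 0, 1, 2, 0], 58, [2190]),
    ([6, 1, 5, 0, 1, 2, 3], 56, [1127]),
    ([2, 0, 5, 1, 4, 2, 3, 0], 55, [1953]),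
    ([6, 2, 6, 0, 6, 1, 2], 58, [1463]),
    ([5, 6, 2, 3, 0, 2], 49, [2811]),
    ([5, 4, 3, 0, 1, 3], 54, [2215]),
    ([1, 0, 0, 0, 6, 0, 0], 55, [1011]),
    ([4, 0, 3, 1, 0, 6], 59, [2821]),
    ([2, 4, 0, 3, 1], 51, [392]),
    ([7, 2, 6, 0, 6, 2, 6], 56, [23]),
    ([1, 2, 0, 3, 1, 3, 2, 0, 2], 55, [2734]),
    ([5, 2, 3, 0, 2, 4, 3], 55, [2370]),
    ([6, 0, 1, 3, 2, 3], 57, [2749]),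
    ([1, 3, 2, 0, 0, 5, 2, 0, 0], 58, [1882]),
    ([2, 0, 3, 6, 3, 0], 48, [105]),
    ([6, 3, 0, 1, 4, 2], 57, [85]),
    ([0, 1, 0, 6, 0, 3, 2], 56, [1881]),
    ([3, 0, 5, 2, 1, 5, 3], 57, [1768]),
    ([1, 5, 3, 3, 2, 1], 57, [1217]),
    ([2, 4, 0, 2, 1, 5, 4, 0], 57, [315]),
    ([1, 2, 4, 0, 6, 6], 58, [113]),
    ([6, 6, 1, 2, 6, 1, 0, 0, 0, 0], 58, [2605]),
    ([2, 6, 1, 2, 1, 6, 2, 1], 56, [607]),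
    ([0, 6, 6, 6, 2, 5, 1, 0], 58, [652]),
    ([7, 3, 2, 0, 0, 0, 0], 48, [1258]),
    ([1, 5, 1, 6, 6], 62, [2813]),
    ([0, 5, 5, 3, 1, 5], 59, [1600]),
    ([1, 4, 1, 7, 3, 2, 1, 0], 56, [1399]),
    ([2, 4, 0, 5, 4, 5], 49, [2734]),
    ([2, 6, 6, 0, 2, 4, 2], 58, [2733]),
    ([4, 1, 7, 0, 2, 3], 58, [504]),
    ([4, 3, 1, 2, 5, 3], 60, [2823]),
    ([2, 1, 0, 0, 6, 2, 3], 50, [1192]),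
    ([0, 1, 6, 5, 0, 2, 4, 0, 0], 56, [2150]),
    ([4, 0, 2, 6, 1, 5, 0, 0], 57, [2768]),
    ([7, 5, 0, 1, 4, 2], 55, [2355]),
    ([1, 5, 6, 0, 5, 5, 2, 1], 55, [824]),
    ([2, 0, 1, 2, 5, 4, 0, 1, 2], 56, [288]),
    ([2, 1, 0, 2, 6, 1, 6, 0], 56, [1654]),
    ([1, 5, 0, 6, 3, 0], 49, [1687]),
    ([6, 0, 7, 1, 6, 0, 2, 1, 0], 58, [1469]),
    ([2, 1, 6, 1, 0], 57, [1322]),
    ([4, 5, 2, 3, 0, 1, 0], 55, [594]),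
    ([3, 0, 2, 1, 0, 3, 5, 2, 1], 55, [1402]),
    ([5, 0, 1, 6, 0, 6, 2, 1], 54, [2565]),
    ([1, 4, 5, 0, 1, 5, 0, 0], 55, [2811]),
    ([6, 0, 5, 5, 5, 2, 0, 1], 56, [2565])]

end Cfsg.Lib.LyReal
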