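/-! Generated data: double cosets. -/

set_option autoImplicit false
set_option maxRecDepth 20000

namespace Cfsg.Lib.LyReal

/-- The translates of record 57. -/
def moveT57 : List (List Nat × Nat × List Nat) :=
  [([4, 0, 0, 5, 4, 2], 58, [2869]),
    ([7, 0, 0, 6, 4, 0, 1, 0], 55, [376]),
    ([4, 5, 2, 6, 2, 0, 0], 50, [180]),
    ([2, 1, 0, 0, 6, 0, 0], 54, [2383]),
    ([3, 1, 0, 3, 5, 3, 0], 54, [2208]),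
    ([0, 1, 0, 2, 4, 5], 61, [941]),
    ([1, 5, 2, 7, 1, 0], 58, [372]),
    ([0, 1, 5, 0, 1, 6, 0], 58, [731]),
    ([1, 3, 3, 0, 3, 3], 59, [180]),
    ([2, 7, 3, 1, 5, 2, 0], 55, [1520]),
    ([1, 5, 3, 4, 2, 3, 0], 55, [2336]),
    ([1, 2, 1, 0, 3, 4, 1], 56, [433]),
    ([7, 3, 4, 1, 2, 3], 55, [968]),
    ([1, 2, 1, 5, 0, 2, 5, 2], 58, [727]),
    ([0, 3, 2, 0, 0], 56, [1912]),
    ([4, 2, 5, 2, 5, 0, 1], 58, [424]),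
    ([2, 4, 1, 0, 7, 6, 0], 59, [2795]),
    ([6, 1, 2, 3, 0, 0, 0], 59, [1939]),
    ([4, 2, 7, 0, 1, 6, 0], 58, [2499]),
    ([5, 3, 1, 4, 4], 49, [618]),
    ([3, 6, 3, 0, 2, 0, 3, 1], 56, [24]),
    ([1, 2, 6, 2, 0, 2, 1, 5, 2, 0], 61, [1214]),
    ([4, 1, 4, 0, 2, 1, 0], 52, [2843]),
    ([6, 1, 2, 0, 6, 1, 6, 2], 58, [356]),
    ([7, 1, 0, 2, 6, 1], 63, [2601]),
    ([2, 5, 2, 6, 2, 0, 2], 57, [1682]),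
    ([3, 0, 2, 4, 3, 5, 1], 49, [968]),
    ([7, 0, 1, 2, 0, 5, 0], 56, [2383]),
    ([6, 3, 0, 2, 3], 56, [2208]),
    ([0, 1, 0, 7, 2, 6, 2], 61, [605]),
    ([5, 1, 6, 0, 7, 5, 0], 50, [2670]),
    ([4, 0, 6, 1, 4, 2, 1, 0], 63, [2303]),
    ([6, 1, 7, 3, 0, 0], 55, [2289]),
    ([6, 1, 3, 6, 6, 2], 55, [535]),
    ([4, 5, 6, 0, 0], 62, [535]),
    ([1, 0, 7, 2, 0, 3, 0], 54, [1835]),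
    ([1, 0, 3, 0, 2, 6, 1], 55, [2720]),
    ([5, 0, 1, 4, 2, 6, 0], 61, [1928]),
    ([0, 7, 1, 5, 0, 1, 2], 58, [2728]),
    ([6, 1, 7, 2, 3, 0, 2, 1], 55, [1682]),
    ([4, 5, 0, 1, 5, 1, 0, 0], 56, [391]),
    ([3, 1, 3, 2, 3, 0, 0], 59, [1303]),
    ([3, 6, 4, 1, 2, 0, 0, 0], 58, [1514]),
    ([4, 2, 7], 58, [1808]),
    ([1, 4, 0, 1, 0, 5, 2, 0, 0], 56, [317]),
    ([2, 4, 1, 0, 7, 6, 1, 0], 63, [2336]),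
    ([2, 3, 1, 4, 3, 3, 0], 56, [967]),
    ([7, 5, 2, 0, 0, 5, 0, 0], 49, [1473]),
    ([7, 2, 0, 2, 1, 6, 6], 55, [626]),
    ([6, 0, 1, 5, 5, 6, 2], 56, [883]),
    ([0, 5, 3, 1, 3, 1], 62, [830]),
    ([7, 2, 4, 0, 2, 4, 3], 54, [2231]),
    ([2, 3, 0, 3, 4, 3, 2, 1], 57, [2768]),
    ([1, 3, 6, 4, 1, 5], 48, [293]),
    ([1, 2, 4, 0, 5, 6, 1], 48, [1300]),
    ([6, 6, 6, 0, 2], 52, [24]),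
    ([3, 5, 3, 3, 0, 3], 56, [995]),
    ([3, 5, 0, 2, 5, 1, 2], 57, [1300]),
    ([5, 4, 0, 6, 2, 0, 1], 57, [586]),
    ([1, 0, 6, 5], 63, [2749]),
    ([0, 1, 0, 2, 0, 6], 60, [2221]),
    ([6, 1, 2, 3, 5, 1], 56, [1835]),
    ([1, 0, 2, 4, 1, 4, 2, 6, 0, 0, 0], 58, [2285]),
    ([2, 0, 3, 5, 1, 4, 0], 54, [1680]),
    ([3, 2, 4, 0, 1, 7, 0], 57, [656]),
    ([2, 4, 2, 0, 6, 1, 3, 0, 0], 58, [2459]),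
    ([0, 1, 2, 4, 3, 2, 0], 61, [1006]),
    ([3, 5, 0, 1, 2, 5, 0], 48, [376]),
    ([2, 6, 1, 5, 5, 0, 2], 49, [2749]),
    ([3, 6, 0, 6, 3, 2], 58, [1556]),
    ([0, 1, 2, 7, 0, 5], 61, [2575]),
    ([4, 1, 0, 6, 1, 6], 56, [946]),
    ([2, 4, 0, 0, 3, 2, 0, 1, 0], 56, [1296]),
    ([7, 3, 2, 0, 6, 4], 58, [1541]),
    ([1, 2, 5, 0, 1, 5, 2, 0, 0, 0], 55, [586]),
    ([1, 2, 7, 5, 2, 6, 2, 1], 63, [433]),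
    ([6, 1, 2, 4, 1, 4], 56, [2137]),
    ([2, 0, 6, 2, 3, 2], 63, [1145]),
    ([6, 3, 3, 0, 3, 4], 48, [1682]),
    ([7, 0, 3, 0, 1], 59, [587]),
    ([7, 4, 4, 2, 0, 2, 1], 55, [279]),
    ([7, 2, 3, 1, 2, 3], 58, [1596]),
    ([7, 0, 3, 1, 2, 1, 0, 0, 0], 55, [1689]),
    ([1, 5, 6, 3, 2, 1], 60, [2398]),
    ([0, 7, 1, 5, 3, 0], 61, [810]),
    ([4, 5, 6, 0, 5, 2, 0], 55, [618]),
    ([0, 1, 2, 7, 5, 1, 5, 0], 55, [8]),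
    ([2, 4, 2, 4, 2, 1], 59, [1863]),
    ([0, 1, 2, 3, 1, 2, 0, 5], 55, [1473]),
    ([2, 5, 1, 6, 4, 0, 2], 54, [433]),
    ([0, 1, 0, 7, 4, 1, 0], 50, [1213]),
    ([0, 2, 5, 5, 6, 3, 0], 54, [1145]),
    ([2, 5, 1, 3, 1, 2, 1, 0, 0], 58, [2831]),
    ([1, 4, 2, 0, 3, 1, 2, 0, 0, 0], 56, [2388]),
    ([2, 6, 0, 2, 0, 0], 61, [1278]),
    ([1, 7, 2, 0, 2, 6, 1, 2, 1, 0], 56, [1088]),
    ([4, 3, 0, 2, 1, 0, 5], 57, [249]),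
    ([2, 0, 3, 0, 2, 1, 0, 5, 1], 56, [1680]),
    ([5, 4, 2, 7, 0, 2], 57, [376]),
    ([2, 1, 7, 0, 3, 2, 0], 56, [2576]),
    ([7, 0, 2, 4, 2, 1, 0, 2], 61, [2504]),
    ([0, 6, 5, 0, 0], 54, [967]),
    ([6, 0, 3, 4, 4, 3], 56, [1065]),
    ([1, 0, 3, 3, 6, 1, 0], 55, [1124]),
    ([0, 7, 1, 6, 0, 6, 1, 0, 0, 0], 55, [2303]),
    ([5, 1, 3, 2, 0, 7, 1, 2], 58, [2691]),
    ([5, 1, 3, 6, 2, 0, 0, 0, 0], 55, [201]),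
    ([5, 2, 0, 3, 2, 6, 3], 54, [317]),
    ([5, 2, 6, 3, 5, 3, 0], 58, [1414]),
    ([1, 2, 5, 0, 5, 2, 0], 58, [795]),
    ([5, 1, 6, 2, 6, 3, 0], 55, [2749]),
    ([2, 0, 2, 4, 5, 0, 1], 50, [2245]),
    ([3, 1, 7, 3, 5], 52, [2303]),
    ([2, 0, 1, 0, 3, 0, 5, 0], 54, [2137]),
    ([0, 1, 0, 2, 6, 1, 0, 0, 0], 61, [1923]),
    ([1, 0, 0, 6, 5, 4, 0], 59, [341]),
    ([7, 2, 0, 2, 6, 1, 6, 0], 63, [1065]),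
    ([1, 0, 6, 3, 4, 2, 0, 1], 55, [2354]),
    ([4, 3, 3, 2, 6, 5], 49, [2289]),
    ([6, 2, 4, 1, 5, 0, 0, 0], 63, [152]),
    ([4, 1, 2, 6, 5, 0], 54, [1296]),
    ([1, 7, 0, 5, 1, 5, 2, 0], 63, [2843]),
    ([5, 1, 4, 0, 1, 7, 2, 1, 0, 0], 58, [2171]),
    ([2, 5, 0, 0, 6, 1, 2], 61, [365]),
    ([6, 5, 5, 0, 3, 2, 1], 59, [1431]),
    ([4, 3, 5, 2, 5, 0, 2], 49, [2720]),
    ([5, 1, 2, 1, 4, 1, 0, 0], 55, [643]),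
    ([4, 4, 5, 2, 0, 2, 1, 0], 56, [1070]),
    ([1, 3, 2, 4, 3, 1, 0, 0, 0], 58, [1990]),
    ([7, 3, 2, 6, 6, 4], 55, [1857]),
    ([6, 3, 0, 1, 6, 2, 0, 0, 0, 0], 56, [2231]),
    ([5, 2, 5, 2, 5, 2], 58, [2158]),
    ([1, 0, 0, 5, 0, 2, 1], 48, [930]),
    ([4, 3, 6, 4, 3], 50, [2716]),
    ([3, 6, 3, 0, 5, 2, 1, 0], 55, [1405]),
    ([2, 0, 1, 7, 2, 6, 0, 1], 55, [410]),
    ([2, 0, 6, 2, 6, 5, 1], 57, [2790]),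
    ([5, 6, 3, 5, 0, 0], 62, [968]),
    ([6, 5, 2, 5, 6, 0, 2, 0], 56, [1341]),
    ([6, 5, 3, 3, 2, 3, 1], 56, [1145]),
    ([5, 6, 2, 1, 6], 50, [264]),
    ([2, 6, 1, 7, 4], 57, [410]),
    ([5, 0, 1, 5, 1, 5, 0, 2], 58, [1635]),
    ([3, 2, 6, 5, 1, 4], 48, [410]),
    ([7, 3, 0, 0, 0, 6], 59, [459]),
    ([7, 1, 5, 2, 0, 0, 3, 1], 56, [1878]),
    ([1, 0, 5, 2, 6], 54, [946]),
    ([0, 1, 0, 6, 5, 4], 60, [1613]),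
    ([2, 0, 5, 3, 0, 2, 0, 1, 0], 58, [1399]),
    ([4, 0, 1, 5, 4, 0, 2], 61, [662])]

end Cfsg.Lib.LyReal
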