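/-! Generated data: double cosets. -/

set_option autoImplicit false
set_option maxRecDepth 20000

namespace Cfsg.Lib.LyReal

/-- The translates of record 58. -/
def moveT58 : List (List Nat × Nat × List Nat) :=
  [([1, 4, 5, 2, 5, 0, 1, 2], 57, [1746]),
    ([7, 2, 3, 6, 0, 1, 2, 0, 0], 55, [1141]),
    ([6, 5, 5, 5, 4, 2], 60, [2796]),
    ([3, 2, 6, 0, 1], 53, [2406]),
    ([2, 5, 1, 4, 1, 2, 0], 57, [58]),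
    ([0, 7, 1, 3, 2, 4, 1], 54, [965]),
    ([0, 2, 5, 4, 3, 2, 0], 48, [1892]),
    ([5, 5, 5, 5, 1, 2, 0, 2], 54, [2007]),
    ([0, 1, 7, 4, 0, 3, 1], 61, [2621]),
    ([3, 4, 4, 4, 3], 56, [14]),
    ([5, 2, 6, 0, 6, 1, 0, 0], 55, [1514]),
    ([5, 0, 5, 1, 5, 0, 3], 63, [2572]),
    ([1, 6, 3, 5, 5], 49, [2809]),
    ([3, 1, 2, 3, 0, 1, 5], 58, [698]),
    ([6, 2, 5, 5, 5, 0], 54, [799]),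
    ([0, 3, 0, 1, 4, 2, 0, 6, 0], 56, [799]),
    ([1, 6, 2, 3, 0, 1], 61, [1113]),
    ([5, 1, 3, 6, 0, 1, 2, 1], 55, [2176]),
    ([7, 5, 0, 1, 4, 1], 58, [596]),
    ([6, 3, 0, 2, 1, 0, 0], 61, [1813]),
    ([5, 2, 7, 3, 3, 3, 3], 53, [2506]),
    ([0, 5, 6, 1, 5, 0, 2, 1, 0], 56, [1014]),
    ([0, 2, 4, 0, 3, 1, 3, 0], 57, [2369]),
    ([3, 1, 7, 3, 0, 1], 54, [1889]),
    ([6, 2, 6, 1, 6, 0, 3, 2], 56, [1733]),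
    ([1, 0, 0, 0, 3, 0, 3, 1], 48, [2470]),
    ([3, 5, 0, 1, 6, 0], 55, [2543]),
    ([1, 7, 5, 5, 5, 4], 53, [2846]),
    ([2, 3, 6, 0, 5, 1, 0], 57, [1892]),
    ([5, 4, 2, 7, 6], 58, [663]),
    ([3, 1, 0, 0, 0, 0, 6, 0, 0], 55, [482]),
    ([6, 6, 3, 0, 5, 1, 2, 0], 63, [1555]),
    ([1, 5, 6, 5], 63, [2225]),
    ([3, 2, 3, 3], 63, [2028]),
    ([2, 5, 1, 5, 3, 0, 2], 63, [2706]),
    ([2, 5, 1, 2, 6, 0, 5, 1], 58, [617]),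
    ([6, 5, 1, 2, 1, 6, 1], 58, [2596]),
    ([2, 4, 1, 6, 0, 6], 53, [2532]),
    ([1, 0, 0, 5, 2], 49, [1849]),
    ([6, 2, 0, 1, 2, 3, 0, 2], 58, [2078]),
    ([3, 1, 3, 3, 0, 3], 58, [1202]),
    ([4, 2, 1, 4, 0, 2, 1, 0], 61, [1183]),
    ([2, 3, 0, 2], 52, [2086]),
    ([6, 4, 3, 6, 0, 3], 61, [1618]),
    ([4, 2, 0, 6, 1, 0, 0], 62, [1805]),
    ([6, 0, 1, 2, 4, 0, 6, 2], 57, [979]),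
    ([2, 6, 0, 5, 1, 2, 5], 56, [2007]),
    ([6, 0, 5, 6, 4, 3, 1], 54, [396]),
    ([5, 6, 0, 7, 2, 5, 0], 55, [2809]),
    ([7, 0, 5, 1, 3, 2], 63, [2086]),
    ([1, 3, 0, 2, 5, 4, 0], 56, [2369]),
    ([3, 3, 1, 4, 4, 2], 55, [1849]),
    ([4, 0, 2, 0, 5, 3, 3, 1], 58, [1537]),
    ([1, 3, 1, 5, 4, 1, 2, 0, 1], 58, [756]),
    ([4, 1, 2, 1, 7, 3, 0, 0, 0], 56, [269]),
    ([6, 0, 5, 2, 5, 0, 1], 58, [2359]),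
    ([1, 7, 6, 3, 0, 0], 55, [1320]),
    ([4, 1, 5, 1, 5], 54, [269]),
    ([5, 1, 0, 3, 3, 2, 0], 56, [1107]),
    ([2, 5, 2, 7, 3], 54, [1733]),
    ([0, 7, 1, 5, 0, 0, 0, 0, 0], 56, [965]),
    ([6, 2, 6, 3, 3], 56, [323]),
    ([4, 4, 1, 3, 3, 2, 0], 56, [2051]),
    ([7, 3, 6, 2, 1, 6], 54, [2471]),
    ([1, 0, 2, 5, 3, 2, 1, 0, 0], 55, [2755]),
    ([3, 2, 1, 0, 3, 4, 1], 58, [1659]),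
    ([7, 6, 1, 2, 3, 1, 2, 0], 63, [1839]),
    ([3, 4, 1, 7, 3, 2, 0, 2], 55, [1157]),
    ([0, 0, 6, 1, 0, 2, 1], 58, [2816]),
    ([1, 3, 1, 2, 3, 5, 2], 53, [227]),
    ([4, 1, 2, 6, 5, 0, 2], 53, [1306]),
    ([3, 1, 7, 4, 1, 0, 2, 1], 57, [795]),
    ([1, 7, 0, 5, 0, 2, 0, 1, 0], 61, [1435]),
    ([6, 3, 0, 2, 1], 56, [229]),
    ([0, 0, 0, 5], 60, [1883]),
    ([3, 5, 0, 2, 7, 5, 1], 57, [1230]),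
    ([0, 7, 2, 4, 1, 4, 0, 1], 58, [2211]),
    ([1, 5, 3, 3, 0, 2, 3, 1], 58, [1286]),
    ([4, 0, 0, 7, 4, 2, 1], 57, [128]),
    ([1, 2, 3, 3, 3, 2], 50, [159]),
    ([1, 0, 2, 6, 6, 1, 4, 0], 63, [476]),
    ([0, 1, 6, 2, 1, 0, 0, 0], 63, [1320]),
    ([0, 1, 0, 7, 6, 2, 0, 1, 0], 61, [2692]),
    ([2, 5, 2, 0, 7, 0, 0], 53, [437]),
    ([6, 3, 3, 2, 5, 1], 53, [927]),
    ([2, 3, 4, 1, 0], 61, [1785]),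
    ([0, 2, 5, 5, 0, 6, 5, 0], 54, [214]),
    ([1, 7, 6, 3, 0, 2], 59, [159]),
    ([5, 6, 0, 0, 3, 0, 1, 0, 0, 0], 58, [1192]),
    ([0, 1, 4, 5, 3, 2], 62, [1514]),
    ([1, 0, 7, 0, 0, 0, 5, 0], 55, [2213]),
    ([0, 3, 1, 0, 0], 56, [2242]),
    ([1, 0, 7, 2, 6, 0], 53, [2711]),
    ([7, 6, 2, 4, 3, 1], 48, [1505]),
    ([1, 2, 0, 1, 0, 5, 4, 2, 0], 58, [2537]),
    ([5, 1, 2, 0, 5, 1, 2, 1], 58, [414]),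
    ([1, 0, 3, 0, 2, 6, 2], 57, [2470]),
    ([2, 1, 0, 6, 5, 2, 1, 0, 0], 56, [1511]),
    ([4, 4, 2, 7, 4, 0, 1, 2], 55, [2713]),
    ([1, 0, 5, 2, 6, 0, 1], 58, [744]),
    ([1, 4, 0, 6, 0, 5, 0], 63, [2713]),
    ([1, 6, 0, 3, 3, 6, 2, 0], 58, [2541]),
    ([2, 0, 5, 5, 1, 5, 0], 63, [1086]),
    ([5, 1, 7, 3, 5, 2], 54, [2147]),
    ([5, 0, 2, 3, 1, 0, 3], 56, [2126]),
    ([1, 5, 0, 1, 6, 6], 48, [2075]),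
    ([0, 0, 0, 6, 0, 6, 1, 0], 58, [45]),
    ([1, 2, 3, 3, 6, 0, 0], 52, [258]),
    ([0, 1, 2, 6, 1, 2, 3, 0, 2, 1], 55, [651]),
    ([5, 1, 2, 7, 1, 0, 3], 63, [2576]),
    ([6, 1, 3, 5, 3, 0, 2, 1, 0], 58, [822]),
    ([3, 1, 2, 0, 0], 61, [2257]),
    ([1, 7, 2, 0, 0, 6], 52, [1555]),
    ([2, 1, 4, 0, 7, 2, 6], 56, [1174]),
    ([2, 4, 1, 2, 6, 6, 0], 53, [2070]),
    ([2, 0, 0, 5, 6, 1, 2], 55, [1896]),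
    ([4, 4, 5, 2, 1, 0, 2, 0], 62, [2782]),
    ([3, 4, 2, 6, 5, 4], 52, [931]),
    ([0, 2, 6, 5, 4], 62, [1924]),
    ([2, 0, 7, 5, 5, 1, 0], 63, [2291]),
    ([6, 1, 2, 4, 3, 1], 61, [661]),
    ([4, 2, 5, 0, 1, 6, 0, 0], 48, [979]),
    ([1, 5, 0, 6, 1, 4], 60, [1791]),
    ([6, 4, 0, 1, 0], 52, [801]),
    ([1, 7, 4, 4, 2], 59, [1396]),
    ([2, 0, 3, 1, 0, 6, 0, 5, 0], 56, [2147]),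
    ([4, 0, 1, 2, 3, 5, 0, 0, 0], 56, [396]),
    ([0, 2, 5, 0, 1, 2, 4], 61, [1965]),
    ([0, 5, 3, 4, 2, 0, 2], 56, [2471]),
    ([3, 2, 5, 1, 0, 3, 3, 2], 56, [2753]),
    ([2, 3, 3, 6, 0, 3, 2, 1], 55, [2227]),
    ([6, 2, 3, 3, 6, 0, 1], 56, [1889]),
    ([6, 1, 2, 4, 0, 1, 0], 57, [2063]),
    ([2, 3, 1, 0, 7, 6, 0], 59, [396]),
    ([1, 6, 0, 3, 1, 5, 2, 0], 61, [1589]),
    ([1, 3, 3, 2, 3, 3], 56, [214]),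
    ([2, 6, 5, 6, 2, 1], 48, [2009]),
    ([4, 2, 7, 5, 0, 5, 1], 48, [1472]),
    ([2, 4, 1, 3, 0, 3], 58, [1248]),
    ([5, 0, 6, 3, 3, 1, 2], 54, [2242]),
    ([1, 2, 5, 5, 0], 50, [2192]),
    ([4, 4, 2, 1, 5, 0, 2, 0, 0], 55, [503]),
    ([1, 0, 7, 5, 5, 1], 57, [2190]),
    ([6, 0, 6, 6, 6, 6], 49, [2755]),
    ([0, 7, 5, 1, 6], 49, [482]),
    ([3, 3, 4, 2, 3, 1, 0], 57, [799]),
    ([1, 2, 5, 3, 1], 48, [799]),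
    ([1, 4, 3, 5, 1, 4], 62, [1157]),
    ([4, 0, 5, 1, 0, 6, 2], 63, [430]),
    ([1, 2, 3, 2, 3, 2, 0, 1, 2, 0], 63, [1511])]

end Cfsg.Lib.LyReal
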