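/-! Generated data: double cosets. -/

set_option autoImplicit false
set_option maxRecDepth 20000

namespace Cfsg.Lib.LyReal

/-- The translates of record 59. -/
def moveT59 : List (List Nat × Nat × List Nat) :=
  [([4, 2, 6, 5, 4, 3], 61, [2513]),
    ([5, 2, 1, 4, 5, 0], 55, [2021]),
    ([0, 6, 3, 4, 1, 3, 2], 48, [519]),
    ([0, 7, 4, 1], 61, [1164]),
    ([1, 3, 3, 5, 5], 61, [1253]),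
    ([7, 1, 0, 5, 3, 3, 0], 60, [297]),
    ([6, 1, 2, 1, 4, 2, 0, 1], 61, [1161]),
    ([6, 0, 3, 3, 2, 3, 0, 1], 57, [2220]),
    ([0, 0, 0, 5, 5, 3, 1], 57, [55]),
    ([2, 1, 0, 2, 0, 3, 0, 2], 55, [2707]),
    ([4, 0, 3, 2, 7, 0, 2], 55, [231]),
    ([0, 3, 1, 5, 5, 4], 61, [1232]),
    ([7, 6, 2, 0, 6, 0, 1, 0], 55, [2108]),
    ([6, 1, 3, 5, 2, 0, 1, 0], 61, [476]),
    ([0, 6, 0, 1, 2, 5, 1], 61, [185]),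
    ([6, 0, 6, 0, 6, 0], 61, [2232]),
    ([0, 1, 0, 6, 2, 0, 0], 57, [1652]),
    ([7, 1, 0, 2, 5, 1, 0, 2, 0, 0], 61, [2779]),
    ([3, 5, 5, 4, 3], 55, [497]),
    ([3, 3, 0, 1, 5], 50, [1969]),
    ([1, 7, 2, 3, 1, 0], 61, [523]),
    ([0, 0, 0, 7, 5, 2, 0], 61, [2108]),
    ([4, 5, 4, 1, 2], 50, [2869]),
    ([1, 6, 1, 4, 2, 0, 1, 0], 54, [594]),
    ([7, 7, 1, 0, 5], 60, [1885]),
    ([5, 4, 0, 1, 4, 0, 2, 0], 55, [2283]),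
    ([7, 2, 1, 6, 0, 1, 3, 1], 55, [2008]),
    ([1, 2, 7, 5, 4, 0, 0, 0], 61, [1727]),
    ([0, 6, 4, 2, 0, 1, 2, 0], 61, [2105]),
    ([7, 0, 1, 2, 1, 5], 61, [496]),
    ([2, 1, 7, 6, 0, 2, 0], 61, [2009]),
    ([2, 6, 0, 5, 4, 0, 1], 48, [466]),
    ([0, 1, 5, 1, 0, 2, 5, 1, 2], 56, [57]),
    ([0, 1, 0, 3, 4, 1, 2], 54, [1360]),
    ([2, 0, 1, 2, 5, 3], 57, [1102]),
    ([6, 1, 2, 6, 0, 1], 60, [2210]),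
    ([2, 7, 1, 6, 4, 4], 61, [709]),
    ([7, 6, 0, 2, 6, 4, 0], 58, [2447]),
    ([2, 7, 3, 0, 1, 3, 0], 61, [1246]),
    ([3, 0, 0, 0, 0, 6], 55, [1200]),
    ([2, 0, 6, 1, 2, 0, 2], 57, [2179]),
    ([7, 1, 5, 1, 2, 4, 1], 48, [1652]),
    ([2, 1, 0, 2, 3, 4], 61, [647]),
    ([0, 1, 4, 2, 1, 4, 1, 0, 0], 55, [560]),
    ([1, 5, 3, 0, 5, 0], 54, [2170]),
    ([3, 5, 3, 2, 3, 1, 2], 59, [1101]),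
    ([6, 2, 4, 2, 4, 0, 0], 48, [1991]),
    ([6, 0, 5, 2, 6, 0, 1, 0], 55, [502]),
    ([1, 7, 6, 4, 1, 3], 49, [231]),
    ([7, 5, 1, 3, 4, 2], 60, [2486]),
    ([5, 1, 3, 0, 1, 3, 0], 61, [2550]),
    ([1, 7, 0, 6, 2, 0, 1, 0], 61, [1958]),
    ([1, 4, 1, 5, 2, 5], 57, [2141]),
    ([1, 0, 2, 0, 3, 4, 3, 0], 57, [959]),
    ([2, 4, 2, 0, 0, 3, 0], 48, [1917]),
    ([0, 7, 4, 2, 4, 1, 2], 61, [1778]),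
    ([1, 5, 0, 6, 4, 0, 0], 60, [536]),
    ([1, 2, 0, 3, 1, 0, 0, 0], 57, [2310]),
    ([4, 1, 2, 4, 5, 2], 48, [2141]),
    ([0, 0, 7, 6, 2, 1, 0, 2], 61, [502]),
    ([6, 1, 2, 1, 6, 0, 0, 0], 61, [882]),
    ([2, 1, 0, 0, 0, 5, 1, 2, 1], 61, [2265]),
    ([3, 6, 3, 0, 1, 0, 2, 1], 57, [1221]),
    ([3, 6, 1, 5, 0, 0], 54, [331]),
    ([5, 2, 0, 5, 0, 1, 4], 57, [876]),
    ([2, 0, 2, 5, 3, 6, 1, 0], 56, [1995]),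
    ([1, 4, 0, 2, 4, 2, 1], 56, [462]),
    ([7, 2, 5, 0, 5, 0, 1], 48, [876]),
    ([5, 1, 0, 3, 0, 1], 55, [167]),
    ([4, 2, 0, 1, 0, 6], 61, [2037]),
    ([0, 1, 4, 2, 6, 4, 0, 2], 56, [874]),
    ([4, 0, 1, 0, 2, 5, 0, 0], 57, [2851]),
    ([3, 1, 3, 2, 0, 1, 5], 55, [2424]),
    ([1, 0, 2, 5, 1, 0, 6, 0], 55, [1192]),
    ([3, 0, 1, 2, 6, 0, 2], 59, [2461]),
    ([2, 6, 1, 6, 6, 0], 59, [749]),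
    ([1, 4, 0, 2, 4, 1, 0, 2], 56, [594]),
    ([6, 2, 1, 4, 5, 0, 1], 61, [1076]),
    ([0, 7, 0, 6, 1, 6, 1], 49, [788]),
    ([7, 4, 2, 3, 4], 59, [794]),
    ([3, 6, 0, 5, 3, 2, 0], 58, [2189]),
    ([3, 2, 6, 3, 0, 3, 1, 0], 61, [2103]),
    ([0, 1, 6, 4, 2, 4], 59, [1922]),
    ([1, 0, 5, 1, 6, 2, 3, 1, 0], 56, [2729]),
    ([3, 4, 1, 5, 2, 1, 0, 0, 0], 58, [1524]),
    ([0, 7, 2, 6, 0], 59, [1378]),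
    ([1, 4, 0, 6, 1, 5, 2, 0], 55, [486]),
    ([2, 4, 4, 5, 3, 3], 50, [1473]),
    ([0, 6, 5, 2, 7, 0, 1, 0], 55, [2276]),
    ([1, 6, 0, 2, 6, 0, 0], 61, [1428]),
    ([2, 1, 5, 5, 1, 2, 0], 61, [2205]),
    ([3, 4, 1, 4, 4, 2, 0, 1], 55, [647]),
    ([6, 3, 1, 0, 2], 60, [2307]),
    ([2, 4, 2, 3, 1, 0], 60, [2007]),
    ([7, 0, 2, 1, 0, 0, 0, 5], 61, [316]),
    ([2, 3, 0, 0, 6, 1, 3, 1], 58, [2560]),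
    ([1, 5, 6, 2, 5, 2, 1, 0, 0], 55, [493]),
    ([2, 5, 4, 0, 6, 6, 2, 1], 58, [2877]),
    ([6, 1, 6, 2, 6, 2], 57, [1097]),
    ([6, 0, 2, 6, 0, 1, 2, 0], 58, [115]),
    ([2, 4, 2, 5, 1, 2, 1, 0], 58, [363]),
    ([1, 4, 4, 1, 3, 5], 48, [2179]),
    ([4, 3, 2, 0, 2, 1, 0], 56, [2451]),
    ([0, 0, 5, 5], 60, [27]),
    ([5, 2, 7, 5, 0], 61, [1145]),
    ([4, 3, 5, 2, 1, 0, 2], 57, [601]),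
    ([5, 6, 0, 5, 1, 0, 2], 61, [2499]),
    ([6, 1, 4, 3, 2, 0, 1, 2], 58, [370]),
    ([6, 4, 1, 5, 0, 2, 0, 0], 61, [187]),
    ([1, 6, 2, 5, 1, 5], 56, [2170]),
    ([4, 1, 7, 4, 1], 49, [2507]),
    ([2, 0, 6, 1, 2, 6, 3], 57, [860]),
    ([2, 1, 0, 3, 6, 3, 0], 57, [466]),
    ([1, 2, 6, 3, 5, 1], 56, [2368]),
    ([0, 1, 0, 6, 1, 6, 2], 54, [2729]),
    ([5, 3, 2, 1, 5, 2], 60, [1321]),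
    ([7, 0, 1, 0, 0, 6, 2, 0], 48, [448]),
    ([7, 0, 0, 6, 4, 0, 1, 0], 56, [1360]),
    ([0, 3, 4, 4, 1, 0, 2, 1], 58, [2377]),
    ([0, 6, 1, 5, 0, 6, 0], 57, [1532]),
    ([7, 4, 0, 0, 6, 6], 49, [2424]),
    ([7, 0, 2, 1, 5, 1], 50, [749]),
    ([7, 0, 6, 0, 3, 2, 1, 0], 55, [1149]),
    ([0, 1, 2, 4, 0, 1, 3, 0, 0], 58, [1525]),
    ([2, 0, 0, 5, 5, 1, 0], 59, [2830]),
    ([2, 0, 0, 3, 0], 61, [2584]),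
    ([0, 6, 1, 5, 2, 6], 49, [502]),
    ([1, 4, 2, 0, 1, 0, 3, 0], 55, [2081]),
    ([0, 2, 6, 5, 0, 1, 2], 56, [331]),
    ([6, 2, 0, 6, 0, 5, 1, 0], 55, [2507]),
    ([7, 6, 0, 5, 1, 0, 0], 61, [788]),
    ([2, 0, 2, 6, 5, 5, 4, 1], 58, [2357]),
    ([5, 0, 1, 2, 3, 3], 55, [909]),
    ([2, 0, 7, 3, 0, 0], 50, [39]),
    ([6, 6, 0, 6, 2], 50, [227]),
    ([1, 6, 3, 2, 0, 6, 1], 55, [2484]),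
    ([1, 4, 0, 1, 5, 3, 0, 2], 55, [788]),
    ([6, 5, 4, 2, 4, 4], 59, [2869]),
    ([7, 4, 0, 2, 3, 0, 1, 0], 55, [2035]),
    ([4, 3, 0, 1, 2, 6], 49, [2035]),
    ([0, 2, 6, 2, 5, 1, 2], 59, [2303]),
    ([2, 0, 1, 6, 1, 0, 2], 48, [1491]),
    ([6, 0, 5, 2, 0, 1, 3], 48, [743]),
    ([0, 7, 6, 2, 3, 2, 1], 57, [60]),
    ([5, 5, 0, 1, 2, 5, 0], 61, [1935]),
    ([0, 5, 4, 1, 4, 2, 1], 57, [2011]),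
    ([5, 6, 1, 4, 4, 4, 1], 48, [2171]),
    ([0, 3, 0, 1, 2, 1, 0, 0], 56, [655]),
    ([6, 6, 5, 2, 5, 0, 0], 58, [1329]),
    ([7, 2, 3, 3, 0, 1, 0], 54, [462])]

end Cfsg.Lib.LyReal
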