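/-! Generated data: a swap of two commuting involutions and the constraints on automorphisms. -/

set_option autoImplicit false

namespace Cfsg.Lib.LyReal

/-- The swap, in the six letters. -/
def swapW : List Nat := [4, 8, 0, 4, 0, 0, 0, 0, 10, 6, 2, 10]

/-- The swap, in the twenty letters. -/
def swapW20 : List Nat := [5, 12, 0, 5, 0, 0, 0, 0, 15, 10, 2, 15]

/-- The second involution in the nine elements. -/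
def secW : List Nat := [6, 2, 1, 2, 2, 6, 6, 2, 2, 6, 2, 2, 2, 2, 7, 5, 4, 5, 5, 7, 7, 8, 7, 5, 7, 7, 8, 8]

/-- Whether the involution is to be multiplied on. -/
def secF : Bool := true

/-- The images of the nine elements under the outer candidate. -/
def outW : List (List Nat) := [[3], [1], [2], [0], [4], [5], [6], [7], [8]]

/-- Elements of the intersection with their images under the swap. -/
def edge0 : List (List Nat × List Nat × Bool) := [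
  ([1, 5, 1, 5, 5, 1, 1, 2, 4, 2, 4, 4, 2, 2, 6, 3, 6, 6, 6, 8, 6, 8, 8, 6, 6, 0, 0, 7, 0, 7, 7, 0, 0, 0, 0], [4, 2, 1, 2, 2, 4, 4, 8, 6, 2, 6, 6, 8, 8, 5, 3, 5, 5, 6, 7, 5, 7, 7, 6, 6, 7], false),
  ([3, 1, 0, 1, 1, 3, 3, 7, 8, 1, 8, 8, 7, 7, 6, 4, 2, 4, 4, 6, 6, 8, 4, 3, 4, 4, 8, 8, 4, 5, 4, 5, 5, 4, 4], [1, 0, 1, 1, 8, 4, 1, 4, 4, 8, 8, 6, 5, 2, 5, 5, 6, 6, 5, 7, 4, 7, 7, 5, 5, 7], false),
  ([2, 2, 3, 2, 2, 2, 2, 0, 0, 3, 0, 3, 3, 0, 0, 0, 0, 5, 7, 4, 7, 7, 5, 5, 7, 8, 5, 8, 8, 7, 7], [2, 3, 1, 3, 3, 2, 2, 2, 3, 2, 2, 8, 6, 5, 6, 6, 8, 8, 6, 6, 8, 6, 6, 6, 6], true),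
  ([1, 0, 1, 1, 1, 6, 4, 2, 4, 4, 6, 6, 7, 6, 4, 6, 6, 7, 7], [1, 0, 1, 1, 1, 6, 1, 1, 8, 5, 4, 5, 5, 8, 8, 7, 8, 5, 8, 8, 7, 7], false)]

/-- The same after the outer candidate. -/
def edge1 : List (List Nat × List Nat × Bool) := [
  ([1, 5, 1, 5, 5, 1, 1, 2, 4, 2, 4, 4, 2, 2, 6, 3, 6, 6, 6, 8, 6, 8, 8, 6, 6, 0, 0, 7, 0, 7, 7, 0, 0, 0, 0], [1, 0, 1, 1, 7, 2, 1, 2, 2, 7, 7, 5, 6, 2, 6, 6, 5, 5, 4, 4, 8, 4, 4, 4, 4, 6, 8, 6, 6], true),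
  ([3, 1, 0, 1, 1, 3, 3, 7, 8, 1, 8, 8, 7, 7, 6, 4, 2, 4, 4, 6, 6, 8, 4, 3, 4, 4, 8, 8, 4, 5, 4, 5, 5, 4, 4], [1, 0, 1, 1, 5, 4, 1, 4, 4, 5, 5, 4, 2, 4, 4, 4, 4, 6, 4, 4, 4, 4, 8, 7, 6, 7, 7, 8, 8], true),
  ([2, 2, 3, 2, 2, 2, 2, 0, 0, 3, 0, 3, 3, 0, 0, 0, 0, 5, 7, 4, 7, 7, 5, 5, 7, 8, 5, 8, 8, 7, 7], [1, 0, 1, 1, 1, 6, 4, 2, 4, 4, 6, 6, 7, 6, 4, 6, 6, 7, 7], true),
  ([1, 0, 1, 1, 1, 6, 4, 2, 4, 4, 6, 6, 7, 6, 4, 6, 6, 7, 7], [2, 2, 3, 2, 2, 2, 2, 0, 0, 3, 0, 3, 3, 0, 0, 0, 0, 5, 7, 4, 7, 7, 5, 5, 7, 8, 5, 8, 8, 7, 7], true)]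

/-- The spreading of an intertwiner from two points, first case. -/
def spread0 : List (Nat × Nat × Nat) := [(0, 1, 10), (10, 0, 3), (1, 0, 4), (1, 1, 8), (1, 2, 2), (1, 3, 6), (8, 2, 5), (6, 0, 7), (6, 2, 9)]

/-- The spreading, second case. -/
def spread1 : List (Nat × Nat × Nat) := [(0, 0, 10), (10, 1, 3), (1, 0, 4), (1, 1, 8), (1, 2, 2), (1, 3, 6), (8, 2, 5), (6, 0, 7), (6, 2, 9)]

/-- The third letter in the generators of the small centralizer and the swap. -/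
def thirdW : List Nat := [1, 6, 4, 8, 0, 4, 0, 0, 0, 0, 10, 6, 2, 10, 1, 4, 8, 0, 4, 0, 0, 0, 0, 10, 6, 2, 10, 0, 7]

end Cfsg.Lib.LyReal
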