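/-! Generated data: the six letters and their inverses on the seven-dimensional submodule. -/

set_option autoImplicit false

namespace Cfsg.Lib.LyReal

/-- The twelve matrices. -/
def m7 : Nat → Nat
  | 0 => 0x1000300000000000000000000000400040000000000000000000000000000000300040001000000000000000000040003000100000000000000000001000100030000000000000000000000000000000300040000000000000000000000020002
  | 1 => 0x1000000000000000000000000000100010000000000000000000000000000000100000000000000000000000000020001000000000000000000000002000200010000000000000000000000000000000100000000000000000000000000010001
  | 2 => 0x1000000000000000000000000000000010000000000000000000000010000000100000000000000000001000300000001000000000000000100040000000000010000000000030003000400020000000100000002000200040001000400000001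
  | 3 => 0x20000000000000000000000000000000200000000000100000000000000000000000000000001000000000000000000000000000000010000000000020000000000000000000000000000000200000000000000000000
  | 4 => 0x4000000000000000000000000000300000003000000000000000000010002000000000000000000000001000300010001000000000000000100010000000400000002000000020004000400030003000000000002000300010004000100020004
  | 5 => 0x1000000000000000000000000000000010000000000000000000000000000000100000000000000000000000000000001000000000000000000000000000000010000000000010000000000000000000100000000000100000000000000000001
  | 6 => 0x2000100000000000000000000000300030000000000000000000000000000000300040001000000000000000000040003000100000000000000000001000100030000000000000000000000000000000400020000000000000000000000010001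
  | 7 => 0x1000000000000000000000000000400010000000000000000000000000000000100000000000000000000000000030001000000000000000000000002000300010000000000000000000000000000000100000000000000000000000000040001
  | 8 => 0x1000000000000000000000000000000010000000000000000000000040000000100000000000000000004000200000001000000000000000400010000000000010000000000030003000100030000000100000002000200010004000100000001
  | 9 => 0x30000000000000000000000000000000300000000000100000000000000000000000000000001000000000000000000000000000000010000000000030000000000000000000000000000000300000000000000000000
  | 10 => 0x4000000000000000000000000000300000003000000000000000000010002000000000000000000000001000300010001000000000000000100010000000400000002000000020004000400030003000000000002000300010004000100020004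
  | 11 => 0x1000000000000000000000000000000010000000000000000000000000000000100000000000000000000000000000001000000000000000000000000000000010000000000040000000000000000000100000000000400000000000000000001
  | _ => 0

end Cfsg.Lib.LyReal
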