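import Cfsg.Agent.Lib.LyReal.Check
import Cfsg.Agent.Lib.LyReal.DataFacts

/-!
# The facts of one part follow from the earlier ones
-/

set_option autoImplicit false
set_option maxRecDepth 100000

namespace Cfsg.Lib.LyReal

theorem factPart10_ok : allOK ((facts0 ++ facts1 ++ facts2 ++ facts3 ++ facts4 ++ facts5 ++ facts6 ++ facts7 ++ facts8 ++ facts9).map Prod.fst) facts10 = true := by
  decide +kernel

end Cfsg.Lib.LyReal
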