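import Cfsg.Agent.Lib.LyReal.Sound
import Cfsg.Agent.Lib.LyReal.FactPart0
import Cfsg.Agent.Lib.LyReal.FactPart1
import Cfsg.Agent.Lib.LyReal.FactPart2
import Cfsg.Agent.Lib.LyReal.FactPart3
import Cfsg.Agent.Lib.LyReal.FactPart4
import Cfsg.Agent.Lib.LyReal.FactPart5
import Cfsg.Agent.Lib.LyReal.FactPart6
import Cfsg.Agent.Lib.LyReal.FactPart7
import Cfsg.Agent.Lib.LyReal.FactPart8
import Cfsg.Agent.Lib.LyReal.FactPart9
import Cfsg.Agent.Lib.LyReal.FactPart10

/-!
# All facts hold
-/

set_option autoImplicit false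
set_option maxRecDepth 100000

namespace Cfsg.Lib.LyReal

/-- The facts without their derivations. -/
def facts : List Fct := factList.map Prod.fst

namespace Sys

variable {Γ : Type*} [Group Γ] (S : Sys Γ)

theorem allOK_step {l l' : List (Fct × Cert)} (h : ∀ f ∈ l.map Prod.fst, S.Holds f)
    (hok : allOK (l.map Prod.fst) l' = true) : ∀ f ∈ (l ++ l').map Prod.fst, S.Holds f := by
  simpa [List.map_append] using S.allOK_sound h hok

theorem facts_hold : ∀ f ∈ facts, S.Holds f := by
  have h0 : ∀ f ∈ (([] : List (Fct × Cert)) ++ facts0).map Prod.fst, S.Holds f :=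
    S.allOK_step (by simp) factPart0_ok
  rw [List.nil_append] at h0
  have h1 := S.allOK_step h0 factPart1_ok
  have h2 := S.allOK_step h1 factPart2_ok
  have h3 := S.allOK_step h2 factPart3_ok
  have h4 := S.allOK_step h3 factPart4_ok
  have h5 := S.allOK_step h4 factPart5_ok
  have h6 := S.allOK_step h5 factPart6_ok
  have h7 := S.allOK_step h6 factPart7_ok
  have h8 := S.allOK_step h7 factPart8_ok
  have h9 := S.allOK_step h8 factPart9_ok
  have h10 := S.allOK_step h9 factPart10_ok
  simpa only [facts, factList] using h10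

end Sys

end Cfsg.Lib.LyReal
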