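import Cfsg.Agent.Lib.LyReal.InvDefs
import Cfsg.Agent.Lib.LyReal.DataStab2
import Cfsg.Agent.Lib.LyReal.DataStab3
import Cfsg.Agent.Lib.LyReal.DataStab4
import Cfsg.Agent.Lib.LyReal.DataStabA
import Cfsg.Agent.Lib.LyReal.DataStabQ

/-!
# The involution counts of the element lists
-/

set_option autoImplicit false
set_option maxRecDepth 100000

namespace Cfsg.Lib.LyReal

/-- The matrices of the head list whose square fixes the first two coordinates. -/
def headInv : List ℕ := [0, 6, 9, 24, 75, 76, 81, 82]

/-- The number of involutions over them. -/
def headCnt : List ℕ := [0, 125, 125, 625, 125, 125, 125, 125]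

theorem count2 : countInv (BigMat.one 7) mats2 6048 0 = 63 := by decide +kernel

theorem count3 : countInv (BigMat.one 7) mats3 1008 0 = 105 := by decide +kernel

theorem count4 : countInv (BigMat.one 7) mats4 2880 0 = 211 := by decide +kernel

theorem head_zero : ((List.range 96).all fun i => lowZero (matsA.get i)) = true := by
  decide +kernel

theorem head_sq : ((List.range 96).all fun i =>
    !(sqFix (matsA.get i)) || headInv.contains i) = true := by decide +kernel

theorem countA0 : countInv (matsA.get 0) matsQ 3125 0 = 0 := by decide +kernel

theorem countA1 : countInv (matsA.get 6) matsQ 3125 0 = 125 := by decide +kernel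

theorem countA2 : countInv (matsA.get 9) matsQ 3125 0 = 125 := by decide +kernel

theorem countA3 : countInv (matsA.get 24) matsQ 3125 0 = 625 := by decide +kernel

theorem countA4 : countInv (matsA.get 75) matsQ 3125 0 = 125 := by decide +kernel

theorem countA5 : countInv (matsA.get 76) matsQ 3125 0 = 125 := by decide +kernel

theorem countA6 : countInv (matsA.get 81) matsQ 3125 0 = 125 := by decide +kernel

theorem countA7 : countInv (matsA.get 82) matsQ 3125 0 = 125 := by decide +kernel

end Cfsg.Lib.LyReal
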