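import Cfsg.Agent.Lib.LyReal.Order
import Cfsg.Agent.Lib.LyReal.InvData
import Cfsg.Agent.S4278
import Cfsg.Agent.S4279

/-!
# An involution fixes at most 2772 cosets and has a small centralizer
-/

set_option autoImplicit false
set_option maxRecDepth 100000

namespace Cfsg.Lib.LyReal

open Cfsg.Spor Cfsg.Lie Cfsg.Lib.CosetEnum Cfsg.Lib.CosetEnum.LyG2

/-- The group on six generators is G2(5). -/
theorem six_iso : Nonempty (SixGroup ≃* chevG2.group (ZMod 5)) := by
  obtain ⟨ψ, hψ⟩ := exists_surjective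
  have : Finite SixGroup := Nat.finite_of_card_ne_zero (by rw [six_card]; norm_num)
  refine ⟨MulEquiv.ofBijective ψ ((Nat.bijective_iff_surjective_and_card ψ).2 ⟨hψ, ?_⟩)⟩
  rw [six_card, Cfsg.Agent.S1059.result (F := ZMod 5) (q := 5) (ZMod.card 5)]
  norm_num

theorem finite_six : Finite SixGroup := Nat.finite_of_card_ne_zero (by rw [six_card]; norm_num)

/-- The involution in the group on six generators. -/
def tauSix : SixGroup := six [0, 0, 0, 0]

/-- The involution in the presented group. -/
noncomputable def tau : Ly := lySys.hom tauSix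

theorem tau_mat : eqW ([0, 0, 0, 0] ++ [0, 0, 0, 0]) [] = true ∧
    Nat.beq (pw [0, 0, 0, 0]) (BigMat.one 7) = false := by decide +kernel

theorem tauSix_order : orderOf tauSix = 2 := by
  obtain ⟨ψ, -, hψ⟩ := exists_seven
  obtain ⟨hsq, hne⟩ := tau_mat
  refine orderOf_eq_prime ?_ ?_
  · have h := prod_eq_of_eqW (e := sixLetter) sixLetter_pair sixLetter_rel hsq
    rw [List.map_append, List.prod_append, List.map_nil, List.prod_nil] at h
    rw [pow_two]
    exact h
  · intro h
    have h1 := (hψ [0, 0, 0, 0] (by simp)).1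
    rw [show six [0, 0, 0, 0] = 1 from h, map_one, Units.val_one, ← BigMat.isMat_one.2] at h1
    rw [← BigMat.toMat_inj BigMat.isMat_one.1 (hψ [0, 0, 0, 0] (by simp)).2 h1, Nat.beq_refl] at hne
    exact Bool.noConfusion hne

theorem six_conj {u : SixGroup} (hu : u * u = 1) (hne : u ≠ 1) :
    ∃ c : SixGroup, c⁻¹ * tauSix * c = u := by
  obtain ⟨E⟩ := six_iso
  have hord : orderOf (E u) = 2 := by
    rw [MulEquiv.orderOf_eq E u]
    exact orderOf_eq_prime (by rw [pow_two]; exact hu) hne
  have h := Cfsg.Agent.S4278.result (F := ZMod 5) (by rw [ZMod.card]; decide) (E u) (E tauSix) hord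
    (by rw [MulEquiv.orderOf_eq]; exact tauSix_order)
  obtain ⟨c, hc⟩ := isConj_iff.1 (E.symm.toMonoidHom.map_isConj h)
  simp only [MulEquiv.coe_toMonoidHom, MulEquiv.symm_apply_apply] at hc
  exact ⟨c, by rw [← hc]; group⟩

theorem card_cent_six : Nat.card (Subgroup.centralizer ({tauSix} : Set SixGroup)) = 14400 := by
  obtain ⟨E⟩ := six_iso
  have h := (Cfsg.Agent.S4279.result (F := ZMod 5) (by rw [ZMod.card]; decide) (E tauSix)
    (by rw [MulEquiv.orderOf_eq]; exact tauSix_order)).1
  rw [ZMod.card, show (5 : ℕ) ^ 2 * (5 ^ 2 - 1) ^ 2 = 14400 by norm_num] at h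
  rw [← h]
  refine Nat.card_congr (E.toEquiv.subtypeEquiv fun x => ?_)
  simp only [Subgroup.mem_centralizer_singleton_iff, MulEquiv.toEquiv_eq_coe, EquivLike.coe_coe]
  exact ⟨fun h => by rw [← map_mul, ← map_mul, h],
    fun h => E.injective (by rw [map_mul, map_mul, h])⟩

theorem hom_injective : Function.Injective lySys.hom := by
  have := six_simple
  refine (MonoidHom.ker_eq_bot_iff _).1 ((six_simple.eq_bot_or_eq_top_of_normal lySys.hom.ker
    inferInstance).resolve_right fun h => ?_)
  have h1 : lySys.hom.range = ⊥ := by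
    rw [eq_bot_iff]
    rintro _ ⟨s, rfl⟩
    exact MonoidHom.mem_ker.1 (h ▸ Subgroup.mem_top s)
  have h2 := card_abcd
  rw [← lySys_H, ← lySys.hom_range, h1, Subgroup.card_bot] at h2
  norm_num at h2

/-- The involutions of a stabilizer. -/
abbrev StabInv (j : ℕ) : Type :=
  {u : lySys.Stab j // (u : SixGroup) * u = 1 ∧ (u : SixGroup) ≠ 1}

theorem invol_le_list {j : ℕ} {ι β : Type} [Fintype ι] {ψ : SixGroup →* GL (Fin 7) (ZMod 5)}
    (hψ : Function.Injective ψ) (f : ι → lySys.Stab j) (hf : Function.Injective f)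
    (hcard : Nat.card (lySys.Stab j) ≤ Fintype.card ι) (A : ι → ℕ)
    (hA : ∀ i, BigMat.IsMat 7 (A i) ∧
      (ψ (f i : SixGroup) : Matrix (Fin 7) (Fin 7) (ZMod 5)) = BigMat.toMat 7 (A i))
    (g : ι → β) (hg : Function.Injective g) (s : Finset β)
    (hs : ∀ i, isInvol (A i) = true → g i ∈ s) : Nat.card (StabInv j) ≤ s.card := by
  have := finite_six
  have hbij : Function.Bijective f := (Nat.bijective_iff_injective_and_card f).2
    ⟨hf, le_antisymm (Nat.card_le_card_of_injective f hf) (by rwa [Nat.card_eq_fintype_card (α := ι)])⟩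
  choose inv hinv using fun u : StabInv j => hbij.2 u.1
  have hmem : ∀ u : StabInv j, isInvol (A (inv u)) = true := by
    intro u
    obtain ⟨hM, he⟩ := hA (inv u)
    rw [hinv] at he
    have hmul := BigMat.toMat_mul (n := 7) (by norm_num) (by norm_num) hM hM
    have h1 : BigMat.toMat 7 (BigMat.mul 7 (A (inv u)) (A (inv u))) =
        BigMat.toMat 7 (BigMat.one 7) := by
      rw [hmul.2, ← he, ← Units.val_mul, ← map_mul, u.2.1, map_one, Units.val_one,
        BigMat.isMat_one.2]
    simp only [isInvol, force_eq, mul7_eq, Bool.and_eq_true, Bool.not_eq_true']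
    refine ⟨by rw [BigMat.toMat_inj hmul.1 BigMat.isMat_one.1 h1, Nat.beq_refl], ?_⟩
    by_contra hne
    rw [Bool.not_eq_false] at hne
    rw [Nat.eq_of_beq_eq_true hne, BigMat.isMat_one.2] at he
    exact u.2.2 (hψ (by rw [map_one]; exact Units.ext he))
  refine (Nat.card_le_card_of_injective
    (fun u : StabInv j => (⟨g (inv u), hs _ (hmem u)⟩ : s)) fun u v h => ?_).trans
    (by rw [Nat.card_eq_fintype_card, Fintype.card_coe])
  have h' : inv u = inv v := hg (congrArg Subtype.val h)
  exact Subtype.ext (by rw [← hinv u, ← hinv v, h'])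

theorem stab_card {j : ℕ} (hj : j < 5) : Nat.card (lySys.Stab j) * orbSize j = 5859000000 := by
  letI : MulAction SixGroup (Ly ⧸ lySys.H) := MulAction.compHom _ lySys.hom
  set a : Ly ⧸ lySys.H := ((lySys.P j : Ly) : Ly ⧸ lySys.H)
  have hst : lySys.Stab j = MulAction.stabilizer SixGroup a := by
    ext s
    exact Iff.symm (QuotientGroup.eq (a := lySys.hom s * lySys.P j) (b := lySys.P j) (s := lySys.H))
  have horb : Nat.card (MulAction.orbit SixGroup a) = orbSize j := by
    rw [← orb_eq.1 ⟨j, hj⟩, ← Nat.card_coe_set_eq]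
    rfl
  rw [← six_card, hst, ← horb, mul_comm, ← Nat.card_prod]
  exact Nat.card_congr (MulAction.orbitProdStabilizerEquivGroup SixGroup a)

theorem invol_list {j n c : ℕ} {M par o : Tab} (h0 : 0 < j) (h5 : j < 5)
    (hn : n * orbSize j = 5859000000) (hpos : 0 < orbSize j) (hp : prodsOK j M par n 0 = true)
    (ho : (ordOK id M o n (n - 1) 0 && Nat.blt (o.get (n - 1)) n) = true)
    (hc : countInv (BigMat.one 7) M n 0 = c) : Nat.card (StabInv j) ≤ c := by
  obtain ⟨ψ, hinj, hψ⟩ := exists_seven
  have hη := lySys.ev_one lySys_one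
  obtain ⟨f, hf, hoinj, hfi⟩ := lySys.exists_list hη h0 h5 hp ho hψ
  rw [← hc, ← card_filter_invol]
  refine invol_le_list hinj f hf ?_ (fun i => M.get (o.get i)) (fun i => (hfi i).2)
    (fun i : Fin n => o.get i) hoinj _ fun i hi => ?_
  · rw [Fintype.card_fin]
    exact le_of_eq (Nat.eq_of_mul_eq_mul_right hpos ((stab_card h5).trans hn.symm))
  · have hone : mul7 (BigMat.one 7) (M.get (o.get i)) = M.get (o.get i) := by
      have hM := (hfi i).2.1
      have hm := BigMat.toMat_mul (n := 7) (by norm_num) (by norm_num) BigMat.isMat_one.1 hM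
      rw [mul7_eq]
      exact BigMat.toMat_inj hm.1 hM (by rw [hm.2, BigMat.isMat_one.2, one_mul])
    rw [Finset.mem_filter, Finset.mem_range, hone]
    exact ⟨(hfi i).1, hi⟩

theorem head_mem {i k : ℕ} (hi : i < 96) (hk : k < 3125)
    (hA : BigMat.IsMat 7 (matsA.get i)) (hQ : BigMat.IsMat 7 (matsQ.get k))
    (hx : isInvol (mul7 (matsA.get i) (matsQ.get k)) = true) : i ∈ headInv := by
  have h := List.all_eq_true.1 head_sq i (List.mem_range.2 hi)
  simp only [Bool.or_eq_true, Bool.not_eq_true', List.contains_iff_mem] at h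
  refine h.resolve_left fun hno => ?_
  -- the square of the head fixes the first two coordinates
  rw [sqFix, force_eq, mul7_eq] at hno
  have hz := List.all_eq_true.1 head_zero i (List.mem_range.2 hi)
  have hlow : ∀ r c : Fin 7, c.1 < 2 → 2 ≤ r.1 →
      BigMat.toMat 7 (matsA.get i) r c = 0 := by
    intro r c hc hr
    have := List.all_eq_true.1 hz (2 * r.1 + c.1) (List.mem_range.2 (by have := r.2; omega))
    simp only [Bool.or_eq_true, Nat.blt_eq, Nat.beq_eq, show (2 * r.1 + c.1) / 2 = r.1 by omega,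
      show (2 * r.1 + c.1) % 2 = c.1 by omega] at this
    rcases this with h1 | h1
    · omega
    · simp [BigMat.toMat, h1]
  have hq : ∀ r c : Fin 7, c.1 < 2 →
      BigMat.toMat 7 (matsQ.get k) r c = if r = c then 1 else 0 := by
    intro r c hc
    have := fixOK_spec fixQ_ok k (Nat.zero_le _) (by omega) r c r.2 hc
    simp only [BigMat.toMat, Matrix.of_apply, this, Fin.ext_iff]
    split_ifs <;> simp
  simp only [isInvol, force_eq, mul7_eq, Bool.and_eq_true, Nat.beq_eq] at hx
  have hm := BigMat.toMat_mul (n := 7) (by norm_num) (by norm_num) hA hQ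
  have hsq := BigMat.toMat_mul (n := 7) (by norm_num) (by norm_num) hm.1 hm.1
  have haa := BigMat.toMat_mul (n := 7) (by norm_num) (by norm_num) hA hA
  set A := BigMat.toMat 7 (matsA.get i)
  set Q := BigMat.toMat 7 (matsQ.get k)
  have hone : A * Q * (A * Q) = 1 := by
    rw [← hm.2, ← hsq.2, hx.1, BigMat.isMat_one.2]
  have hcol : ∀ (B : Matrix (Fin 7) (Fin 7) (ZMod 5)) (r c : Fin 7), c.1 < 2 →
      (B * Q) r c = B r c := by
    intro B r c hc
    rw [Matrix.mul_apply, Finset.sum_eq_single c]
    · rw [hq c c hc, if_pos rfl, mul_one]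
    · intro y _ hy; rw [hq y c hc, if_neg hy, mul_zero]
    · intro h; exact absurd (Finset.mem_univ c) h
  have hAA : ∀ r c : Fin 7, c.1 < 2 → (A * A) r c = (1 : Matrix (Fin 7) (Fin 7) (ZMod 5)) r c := by
    intro r c hc
    have e1 : (A * Q * (A * Q)) r c = (A * Q * A) r c := by rw [← mul_assoc (A * Q)]; exact hcol _ r c hc
    have e2 : (A * Q * A) r c = (A * A) r c := by
      rw [Matrix.mul_apply, Matrix.mul_apply]
      refine Finset.sum_congr rfl fun y _ => ?_
      rcases Nat.lt_or_ge y.1 2 with hy | hy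
      · rw [hcol A r y hy]
      · rw [hlow y c hc hy, mul_zero, mul_zero]
    rw [← hone, e1, e2]
  have hkey : colList (BigMat.mul 7 (matsA.get i) (matsA.get i)) = colList (BigMat.one 7) := by
    refine List.map_congr_left fun y hy => ?_
    have hy := List.mem_range.1 hy
    have e := hAA ⟨y / 2, by omega⟩ ⟨y % 2, by omega⟩ (Nat.mod_lt _ (by norm_num))
    rw [← haa.2, ← BigMat.isMat_one.2] at e
    simp only [BigMat.toMat, Matrix.of_apply] at e
    rwa [ZMod.natCast_eq_natCast_iff', BigMat.ent, BigMat.ent, Nat.mod_eq_of_lt (haa.1.2 _),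
      Nat.mod_eq_of_lt (BigMat.isMat_one.1.2 _)] at e
  rw [colKey, colKey, hkey, Nat.beq_refl] at hno
  exact Bool.noConfusion hno

/-- The pairs giving involutions in the first stabilizer. -/
noncomputable def headPairs : Finset (ℕ × ℕ) :=
  headInv.toFinset.biUnion fun i =>
    ((Finset.range 3125).filter fun k => isInvol (mul7 (matsA.get i) (matsQ.get k)) = true).image
      (Prod.mk i)

theorem head_pairs_card : headPairs.card ≤ 1375 := by
  rw [headPairs]
  refine Finset.card_biUnion_le.trans ?_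
  refine (Finset.sum_le_sum fun i _ => Finset.card_image_le).trans ?_
  simp only [card_filter_invol]
  rw [List.sum_toFinset _ (by decide)]
  simp [headInv, countA0, countA1, countA2, countA3, countA4, countA5, countA6, countA7]

theorem invol_one : Nat.card (StabInv 1) ≤ 1375 := by
  obtain ⟨ψ, hinj, hψ⟩ := exists_seven
  have hη := lySys.ev_one lySys_one
  obtain ⟨f, hf, hoinj, hfi⟩ := lySys.exists_list_one hη hψ
  refine (invol_le_list hinj f hf ?_
    (fun x => BigMat.mul 7 (matsA.get (ordA.get x.1)) (matsQ.get (ordQ.get x.2))) ?_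
    (fun x : Fin 96 × Fin 3125 => (ordA.get x.1, ordQ.get x.2)) hoinj headPairs ?_).trans
      head_pairs_card
  · rw [Fintype.card_prod, Fintype.card_fin, Fintype.card_fin]
    exact le_of_eq (Nat.eq_of_mul_eq_mul_right (by norm_num [orbSize])
      ((stab_card (j := 1) (by norm_num)).trans (by norm_num [orbSize])))
  · intro x
    obtain ⟨-, -, hA, hQ, he⟩ := hfi x
    have hm := BigMat.toMat_mul (n := 7) (by norm_num) (by norm_num) hA hQ
    exact ⟨hm.1, by rw [he, hm.2]⟩
  intro x hx
  obtain ⟨hi, hk, hA, hQ, -⟩ := hfi x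
  rw [← mul7_eq] at hx
  rw [headPairs]
  exact Finset.mem_biUnion.2 ⟨_, List.mem_toFinset.2 (head_mem hi hk hA hQ hx),
    Finset.mem_image.2 ⟨_, Finset.mem_filter.2 ⟨Finset.mem_range.2 hk, hx⟩, rfl⟩⟩

theorem invol_card : Nat.card (StabInv 1) ≤ 1375 ∧ Nat.card (StabInv 2) ≤ 63 ∧
    Nat.card (StabInv 3) ≤ 105 ∧ Nat.card (StabInv 4) ≤ 211 :=
  ⟨invol_one,
    invol_list (j := 2) (n := 6048) (by norm_num) (by norm_num) (by norm_num [orbSize])
      (by norm_num [orbSize]) prods2_ok ord2_ok count2,
    invol_list (j := 3) (n := 1008) (by norm_num) (by norm_num) (by norm_num [orbSize])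
      (by norm_num [orbSize]) prods3_ok ord3_ok count3,
    invol_list (j := 4) (n := 2880) (by norm_num) (by norm_num) (by norm_num [orbSize])
      (by norm_num [orbSize]) prods4_ok ord4_ok count4⟩

theorem fix_orbit {j : ℕ} (hj : j < 5) :
    {x ∈ lySys.Orb j | tau • x = x}.ncard * Nat.card (lySys.Stab j) ≤
      Nat.card (StabInv j) * 14400 := by
  classical
  have := finite_six
  have := finite_ly
  set a : Ly ⧸ lySys.H := ((lySys.P j : Ly) : Ly ⧸ lySys.H)
  have hmem : ∀ s, s ∈ lySys.Stab j ↔ lySys.hom s • a = a := fun s =>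
    (QuotientGroup.eq (a := lySys.hom s * lySys.P j) (b := lySys.P j) (s := lySys.H)).symm
  let T := {s : SixGroup // s⁻¹ * tauSix * s ∈ lySys.Stab j}
  let F := {x ∈ lySys.Orb j | tau • x = x}
  choose rep hrep using fun x : F => (x.2.1 : x.1 ∈ lySys.Orb j)
  have hrep' : ∀ x : F, lySys.hom (rep x) • a = x.1 := hrep
  have h1 : F.ncard * Nat.card (lySys.Stab j) ≤ Nat.card T := by
    rw [← Nat.card_coe_set_eq, ← Nat.card_prod]
    refine Nat.card_le_card_of_injective (fun p : F × lySys.Stab j => (⟨rep p.1 * p.2, ?_⟩ : T)) ?_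
    · rw [hmem]
      have hk := (hmem _).1 p.2.2
      simp only [map_mul, map_inv, mul_inv_rev, mul_smul]
      rw [hk, hrep' p.1, show lySys.hom tauSix • p.1.1 = p.1.1 from p.1.2.2, ← hrep' p.1,
        inv_smul_smul, inv_smul_eq_iff, hk]
    · rintro ⟨x, k⟩ ⟨x', k'⟩ h
      have e : rep x * k = rep x' * k' := congrArg Subtype.val h
      have hk := (hmem _).1 k.2
      have hk' := (hmem _).1 k'.2
      have hx : x.1 = x'.1 := by
        rw [← hrep' x, ← hrep' x']
        calc lySys.hom (rep x) • a = lySys.hom (rep x * k) • a := by rw [map_mul, mul_smul, hk]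
          _ = lySys.hom (rep x') • a := by rw [e, map_mul, mul_smul, hk']
      have hxx : x = x' := Subtype.ext hx
      subst hxx
      rw [Subtype.ext (mul_left_cancel e)]
  have h2 : Nat.card T ≤ Nat.card (StabInv j) * 14400 := by
    have hu : ∀ s : T, (s.1⁻¹ * tauSix * s.1) * (s.1⁻¹ * tauSix * s.1) = 1 ∧
        s.1⁻¹ * tauSix * s.1 ≠ 1 := by
      intro s
      have h2 : tauSix * tauSix = 1 := by
        rw [← pow_two, ← tauSix_order]
        exact pow_orderOf_eq_one _
      refine ⟨?_, fun h => ?_⟩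
      · calc (s.1⁻¹ * tauSix * s.1) * (s.1⁻¹ * tauSix * s.1) = s.1⁻¹ * (tauSix * tauSix) * s.1 := by
              group
          _ = 1 := by rw [h2]; group
      · have h0 : tauSix = 1 := by
          calc tauSix = s.1 * (s.1⁻¹ * tauSix * s.1) * s.1⁻¹ := by group
            _ = 1 := by rw [h]; group
        have := tauSix_order
        rw [h0, orderOf_one] at this
        norm_num at this
    let inv : T → StabInv j := fun s => ⟨⟨_, s.2⟩, hu s⟩
    choose c hc using fun u : StabInv j => six_conj u.2.1 u.2.2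
    rw [← card_cent_six, ← Nat.card_prod]
    refine Nat.card_le_card_of_injective (fun s : T => (inv s,
      (⟨s.1 * (c (inv s))⁻¹, ?_⟩ : Subgroup.centralizer ({tauSix} : Set SixGroup)))) ?_
    · have e := hc (inv s)
      simp only [inv] at e ⊢
      rw [Subgroup.mem_centralizer_singleton_iff]
      set d := c ⟨⟨_, s.2⟩, hu s⟩
      calc s.1 * d⁻¹ * tauSix = s.1 * (d⁻¹ * tauSix * d) * d⁻¹ := by group
        _ = tauSix * (s.1 * d⁻¹) := by rw [e]; group
    · intro s s' h
      obtain ⟨h1, h2⟩ := Prod.ext_iff.1 h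
      have h2' : s.1 * (c (inv s))⁻¹ = s'.1 * (c (inv s'))⁻¹ := congrArg Subtype.val h2
      simp only at h1
      rw [h1] at h2'
      exact Subtype.ext (mul_right_cancel h2')
  exact h1.trans h2

/-- The involution fixes at most 2772 cosets. -/
theorem fix_le : {x : Ly ⧸ lySys.H | tau • x = x}.ncard ≤ 2772 := by
  have := finite_ly
  have hu := lySys.orb_union lySys_one lySys_gen
  have hsub : {x : Ly ⧸ lySys.H | tau • x = x} ⊆
      ⋃ j : Fin 5, {x ∈ lySys.Orb j | tau • x = x} := fun x hx => by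
    obtain ⟨j, hj⟩ := Set.mem_iUnion.1 (hu ▸ Set.mem_univ x : x ∈ ⋃ j : Fin 5, lySys.Orb j)
    exact Set.mem_iUnion.2 ⟨j, hj, hx⟩
  refine (Set.ncard_le_ncard hsub (Set.toFinite _)).trans
    ((Set.ncard_iUnion_le_of_fintype _).trans ?_)
  have h0 : {x ∈ lySys.Orb 0 | tau • x = x}.ncard ≤ 1 := by
    refine (Set.ncard_le_ncard (fun x hx => hx.1) (Set.toFinite _)).trans ?_
    exact le_of_eq (orb_eq.1 0)
  obtain ⟨i1, i2, i3, i4⟩ := invol_card
  have e1 := fix_orbit (j := 1) (by norm_num)
  have e2 := fix_orbit (j := 2) (by norm_num)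
  have e3 := fix_orbit (j := 3) (by norm_num)
  have e4 := fix_orbit (j := 4) (by norm_num)
  have hcard : ∀ j n : ℕ, j < 5 → 0 < orbSize j → n * orbSize j = 5859000000 →
      Nat.card (lySys.Stab j) = n := fun j n hj hpos h =>
    Nat.eq_of_mul_eq_mul_right hpos ((stab_card hj).trans h.symm)
  rw [hcard 1 300000 (by norm_num) (by norm_num [orbSize]) (by norm_num [orbSize])] at e1
  rw [hcard 2 6048 (by norm_num) (by norm_num [orbSize]) (by norm_num [orbSize])] at e2
  rw [hcard 3 1008 (by norm_num) (by norm_num [orbSize]) (by norm_num [orbSize])] at e3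
  rw [hcard 4 2880 (by norm_num) (by norm_num [orbSize]) (by norm_num [orbSize])] at e4
  have b1 : {x ∈ lySys.Orb 1 | tau • x = x}.ncard ≤ 66 :=
    Nat.le_of_mul_le_mul_right ((e1.trans (Nat.mul_le_mul_right _ i1)).trans (by norm_num))
      (by norm_num : 0 < 300000)
  have b2 : {x ∈ lySys.Orb 2 | tau • x = x}.ncard ≤ 150 :=
    Nat.le_of_mul_le_mul_right ((e2.trans (Nat.mul_le_mul_right _ i2)).trans (by norm_num))
      (by norm_num : 0 < 6048)
  have b3 : {x ∈ lySys.Orb 3 | tau • x = x}.ncard ≤ 1500 :=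
    Nat.le_of_mul_le_mul_right ((e3.trans (Nat.mul_le_mul_right _ i3)).trans (by norm_num))
      (by norm_num : 0 < 1008)
  have b4 : {x ∈ lySys.Orb 4 | tau • x = x}.ncard ≤ 1055 :=
    Nat.le_of_mul_le_mul_right ((e4.trans (Nat.mul_le_mul_right _ i4)).trans (by norm_num))
      (by norm_num : 0 < 2880)
  rw [Fin.sum_univ_five]
  exact (Nat.add_le_add (Nat.add_le_add (Nat.add_le_add (Nat.add_le_add h0 b1) b2) b3) b4).trans
    (by norm_num)

/-- The centralizer of the involution has order at most 39916800. -/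
theorem card_cent_le : Nat.card (Subgroup.centralizer ({tau} : Set Ly)) ≤ 39916800 := by
  classical
  have := finite_ly
  have := finite_six
  set C := Subgroup.centralizer ({tau} : Set Ly)
  set o : Ly ⧸ lySys.H := ((1 : Ly) : Ly ⧸ lySys.H)
  have hto : tau • o = o := by
    refine QuotientGroup.eq.2 ?_
    have : tau ∈ lySys.H := lySys.hom_range ▸ ⟨_, rfl⟩
    simpa using inv_mem this
  rw [← Nat.card_congr (MulAction.orbitProdStabilizerEquivGroup C o), Nat.card_prod]
  have h1 : Nat.card (MulAction.orbit C o) ≤ 2772 := by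
    refine le_trans ?_ fix_le
    rw [Nat.card_coe_set_eq]
    refine Set.ncard_le_ncard ?_ (Set.toFinite _)
    rintro _ ⟨c, rfl⟩
    show tau • (c : Ly) • o = (c : Ly) • o
    rw [← mul_smul, ← Subgroup.mem_centralizer_singleton_iff.1 c.2, mul_smul, hto]
  have h2 : Nat.card (MulAction.stabilizer C o) ≤ 14400 := by
    rw [← card_cent_six]
    have hH : ∀ c : MulAction.stabilizer C o, ∃ s, lySys.hom s = ((c : C) : Ly) := fun c => by
      have h := QuotientGroup.eq.1 (MulAction.mem_stabilizer_iff.1 c.2)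
      simp only [mul_one, smul_eq_mul] at h
      have h' := inv_mem h
      rw [inv_inv] at h'
      exact (SetLike.ext_iff.1 lySys.hom_range _).2 h'
    choose r hr using hH
    refine Nat.card_le_card_of_injective (fun c => (⟨r c, ?_⟩ :
      Subgroup.centralizer ({tauSix} : Set SixGroup))) fun c d h => ?_
    · rw [Subgroup.mem_centralizer_singleton_iff]
      apply hom_injective
      rw [map_mul, map_mul, hr]
      exact Subgroup.mem_centralizer_singleton_iff.1 (c : C).2
    · have e : r c = r d := congrArg Subtype.val h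
      exact Subtype.ext (Subtype.ext (by rw [← hr c, ← hr d, e]))
  exact (Nat.mul_le_mul h1 h2).trans (by norm_num)

end Cfsg.Lib.LyReal
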