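import Cfsg.Agent.Lib.LyReal.StabDefs
import Cfsg.Agent.Lib.LyReal.FastMat

/-!
# Counting involutions in element lists of stabilizers
-/

set_option autoImplicit false
set_option maxRecDepth 20000

namespace Cfsg.Lib.LyReal

open Cfsg.Lib.CosetEnum (Tab force force_eq)

/-- A matrix of order two. -/
noncomputable def isInvol (A : ℕ) : Bool :=
  force A fun A => Nat.beq (mul7 A A) (BigMat.one 7) && !(Nat.beq A (BigMat.one 7))

/-- The number of matrices of order two among the products of one matrix with a list. -/
noncomputable def countInv (A : ℕ) (M : Tab) : ℕ → ℕ → ℕ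
  | 0, _ => 0
  | n + 1, i => force i fun i =>
    (cond (isInvol (mul7 A (M.get i))) 1 0) + countInv A M n (i + 1)

theorem countInv_eq (A : ℕ) (M : Tab) : ∀ n i,
    countInv A M n i = ((List.range' i n).countP fun k => isInvol (mul7 A (M.get k)))
  | 0, i => by simp [countInv]
  | n + 1, i => by
    rw [countInv, force_eq, countInv_eq A M n (i + 1), List.range'_succ, List.countP_cons]
    cases isInvol (mul7 A (M.get i)) <;> simp [add_comm]

theorem card_filter_invol (A : ℕ) (M : Tab) (n : ℕ) :
    ((Finset.range n).filter fun k => isInvol (mul7 A (M.get k)) = true).card =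
      countInv A M n 0 := by
  rw [countInv_eq, List.countP_eq_length_filter, Finset.card_def, Finset.filter_val,
    Finset.range_val, Multiset.range, Multiset.filter_coe, Multiset.coe_card, List.range_eq_range']
  simp

/-- The entries of the first two columns below the second row vanish. -/
noncomputable def lowZero (A : ℕ) : Bool :=
  (List.range 14).all fun x => Nat.blt x 4 || Nat.beq (BigMat.ent 7 A (x / 2) (x % 2)) 0

/-- The first two columns of the square are those of the identity. -/
noncomputable def sqFix (A : ℕ) : Bool :=
  force A fun A => Nat.beq (colKey (mul7 A A)) (colKey (BigMat.one 7))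

end Cfsg.Lib.LyReal
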