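import Cfsg.Agent.Lib.LyReal.LineDefs

/-!
# Steps in the orbit of the line
-/

set_option autoImplicit false
set_option maxRecDepth 100000

namespace Cfsg.Lib.LyReal

theorem line_chunk8 : lineOK 250 2000 = true := by decide +kernel

theorem line_chunk9 : lineOK 250 2250 = true := by decide +kernel

theorem line_chunk10 : lineOK 250 2500 = true := by decide +kernel

theorem line_chunk11 : lineOK 250 2750 = true := by decide +kernel

theorem line_chunk12 : lineOK 250 3000 = true := by decide +kernel

theorem line_chunk13 : lineOK 250 3250 = true := by decide +kernel

theorem line_chunk14 : lineOK 250 3500 = true := by decide +kernel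

theorem line_chunk15 : lineOK 250 3750 = true := by decide +kernel

end Cfsg.Lib.LyReal
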