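import Cfsg.Agent.Lib.LyReal.LineDefs

/-!
# Steps in the orbit of the line
-/

set_option autoImplicit false
set_option maxRecDepth 100000

namespace Cfsg.Lib.LyReal

theorem line_chunk16 : lineOK 250 4000 = true := by decide +kernel

theorem line_chunk17 : lineOK 250 4250 = true := by decide +kernel

theorem line_chunk18 : lineOK 250 4500 = true := by decide +kernel

theorem line_chunk19 : lineOK 250 4750 = true := by decide +kernel

theorem line_chunk20 : lineOK 250 5000 = true := by decide +kernel

theorem line_chunk21 : lineOK 250 5250 = true := by decide +kernel

theorem line_chunk22 : lineOK 250 5500 = true := by decide +kernel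

theorem line_chunk23 : lineOK 250 5750 = true := by decide +kernel

end Cfsg.Lib.LyReal
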