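import Cfsg.Agent.Lib.LyReal.LineDefs

/-!
# Steps in the orbit of the line
-/

set_option autoImplicit false
set_option maxRecDepth 100000

namespace Cfsg.Lib.LyReal

theorem line_chunk24 : lineOK 250 6000 = true := by decide +kernel

theorem line_chunk25 : lineOK 250 6250 = true := by decide +kernel

theorem line_chunk26 : lineOK 250 6500 = true := by decide +kernel

theorem line_chunk27 : lineOK 250 6750 = true := by decide +kernel

theorem line_chunk28 : lineOK 250 7000 = true := by decide +kernel

theorem line_chunk29 : lineOK 250 7250 = true := by decide +kernel

theorem line_chunk30 : lineOK 250 7500 = true := by decide +kernel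

end Cfsg.Lib.LyReal
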