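import Cfsg.Agent.Lib.LyReal.LineDefs

/-!
# The lines are distinct
-/

set_option autoImplicit false
set_option maxRecDepth 100000

namespace Cfsg.Lib.LyReal

theorem line_ord_chunk0 : ordOK col0Key lineV lineO 7750 1000 0 = true := by decide +kernel

theorem line_ord_chunk1 : ordOK col0Key lineV lineO 7750 1000 1000 = true := by decide +kernel

theorem line_ord_chunk2 : ordOK col0Key lineV lineO 7750 1000 2000 = true := by decide +kernel

theorem line_ord_chunk3 : ordOK col0Key lineV lineO 7750 1000 3000 = true := by decide +kernel

theorem line_ord_chunk4 : ordOK col0Key lineV lineO 7750 1000 4000 = true := by decide +kernel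

theorem line_ord_chunk5 : ordOK col0Key lineV lineO 7750 1000 5000 = true := by decide +kernel

theorem line_ord_chunk6 : ordOK col0Key lineV lineO 7750 1000 6000 = true := by decide +kernel

theorem line_ord_chunk7 : ordOK col0Key lineV lineO 7750 749 7000 = true := by decide +kernel

theorem line_ord_last : Nat.blt (lineO.get 7749) 7750 = true := by decide +kernel

end Cfsg.Lib.LyReal
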