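import Cfsg.Agent.Lib.LyReal.LineDefs
import Cfsg.Agent.Lib.LyReal.DataStabA
import Cfsg.Agent.Lib.LyReal.DataStabQ

/-!
# Counts over the heads
-/

set_option autoImplicit false
set_option maxRecDepth 100000

namespace Cfsg.Lib.LyReal

theorem countYA0 : countY (matsA.get 0) matsQ 3125 0 = 0 := by decide +kernel

theorem countYA1 : countY (matsA.get 31) matsQ 3125 0 = 25 := by decide +kernel

theorem countYA2 : countY (matsA.get 33) matsQ 3125 0 = 25 := by decide +kernel

end Cfsg.Lib.LyReal
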