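import Cfsg.Agent.Lib.LyReal.LineDefs
import Cfsg.Agent.Lib.LyReal.DataStab2
import Cfsg.Agent.Lib.LyReal.DataStab3
import Cfsg.Agent.Lib.LyReal.DataStab4
import Cfsg.Agent.Lib.LyReal.DataStabA
import Cfsg.Agent.Lib.LyReal.DataStabQ
import Cfsg.Agent.Lib.LyReal.TriHead0
import Cfsg.Agent.Lib.LyReal.TriHead1
import Cfsg.Agent.Lib.LyReal.TriHead2
import Cfsg.Agent.Lib.LyReal.TriHead3

/-!
# Small checks and counts
-/

set_option autoImplicit false
set_option maxRecDepth 100000

namespace Cfsg.Lib.LyReal

theorem triY_checks : lettersOK triYW = true ∧ lettersOK lineW = true ∧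
    eqW (triYW ++ (triYW ++ triYW)) [] = true ∧
    Nat.beq (pw triYW) (BigMat.one 7) = false ∧ trM (pw triYW) = 3 ∧
    Nat.beq (pw (triYW ++ lineW)) (pw (lineW ++ triYW)) = false ∧
    mul7 (pw triYW) (lineV.get 0) = lineV.get 0 ∧
    BigMat.matOK 7 lineR = true ∧ BigMat.matOK 7 lineP = true := by decide +kernel

theorem line_w : ((List.range 5).any fun l => Nat.blt 0 l &&
    Nat.beq (mul7 (pw lineW) (lineV.get 0)) (mul7 (sc7 l) (lineV.get 0))) = true := by
  decide +kernel

theorem line_proj : ((List.range 49).all fun x =>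
    Nat.beq (BigMat.ent 7 (mul7 lineR (pw triYW)) (x / 7) (x % 7))
      ((BigMat.ent 7 lineP (x / 7) (x % 7) + BigMat.ent 7 lineR (x / 7) (x % 7)) % 5) &&
    Nat.beq ((BigMat.ent 7 lineP (x / 7) (x % 7) +
        (if x % 7 = 2 then BigMat.ent 7 (lineV.get 0) (x / 7) 0 else 0)) % 5)
      (if x / 7 = x % 7 then 1 else 0)) = true := by decide +kernel

/-- The matrices of the head list whose cube fixes the first two coordinates. -/
def headTri : List ℕ := [0, 31, 33, 34, 36, 39, 40, 41, 43]

theorem countY2 : countY (BigMat.one 7) mats2 6048 0 = 56 := by decide +kernel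

theorem countY3 : countY (BigMat.one 7) mats3 1008 0 = 2 := by decide +kernel

theorem countY4 : countY (BigMat.one 7) mats4 2880 0 = 20 := by decide +kernel

theorem head_cube : ((List.range 96).all fun i =>
    !(cubeFix (matsA.get i)) || headTri.contains i) = true := by decide +kernel

end Cfsg.Lib.LyReal
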