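import Cfsg.Agent.Lib.LyReal.LineOrbit0
import Cfsg.Agent.Lib.LyReal.LineOrbit1
import Cfsg.Agent.Lib.LyReal.LineOrbit2
import Cfsg.Agent.Lib.LyReal.LineOrbit3
import Cfsg.Agent.Lib.LyReal.LineOrd
import Cfsg.Agent.Lib.LyReal.TriCount

/-!
# The checks
-/

set_option autoImplicit false
set_option maxRecDepth 100000

namespace Cfsg.Lib.LyReal

open Cfsg.Lib.CosetEnum (Tab force force_eq)

theorem lineOK_add : ∀ (a b i : ℕ), lineOK a i = true → lineOK b (i + a) = true →
    lineOK (a + b) i = true
  | 0, b, i, _, h => by rwa [Nat.zero_add]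
  | a + 1, b, i, h, h' => by
    rw [Nat.add_right_comm]
    change force i (fun i => force (lineV.get i) fun V => force (lineB.get i) fun p => _ && _ && _ &&
      lineOK a (i + 1)) = true at h
    change force i (fun i => force (lineV.get i) fun V => force (lineB.get i) fun p => _ && _ && _ &&
      lineOK (a + b) (i + 1)) = true
    simp only [force_eq, Bool.and_eq_true] at h ⊢
    exact ⟨h.1, lineOK_add a b (i + 1) h.2 (by rwa [Nat.add_assoc, Nat.add_comm 1 a])⟩

theorem ordOK_add (key : ℕ → ℕ) (M o : Tab) (size : ℕ) : ∀ (a b i : ℕ),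
    ordOK key M o size a i = true → ordOK key M o size b (i + a) = true →
    ordOK key M o size (a + b) i = true
  | 0, b, i, _, h => by rwa [Nat.zero_add]
  | a + 1, b, i, h, h' => by
    rw [Nat.add_right_comm]
    change force i (fun i => Nat.blt (o.get i) size &&
      Nat.blt (key (M.get (o.get i))) (key (M.get (o.get (i + 1)))) &&
        ordOK key M o size a (i + 1)) = true at h
    change force i (fun i => Nat.blt (o.get i) size &&
      Nat.blt (key (M.get (o.get i))) (key (M.get (o.get (i + 1)))) &&
        ordOK key M o size (a + b) (i + 1)) = true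
    simp only [force_eq, Bool.and_eq_true] at h ⊢
    exact ⟨h.1, ordOK_add key M o size a b (i + 1) h.2 (by rwa [Nat.add_assoc, Nat.add_comm 1 a])⟩

theorem line_ok0 : lineOK 2000 0 = true :=
  lineOK_add 1750 250 0 (lineOK_add 1500 250 0 (lineOK_add 1250 250 0 (lineOK_add 1000 250 0 (lineOK_add 750 250 0 (lineOK_add 500 250 0 (lineOK_add 250 250 0 (line_chunk0) line_chunk1) line_chunk2) line_chunk3) line_chunk4) line_chunk5) line_chunk6) line_chunk7

theorem line_ok1 : lineOK 2000 2000 = true :=
  lineOK_add 1750 250 2000 (lineOK_add 1500 250 2000 (lineOK_add 1250 250 2000 (lineOK_add 1000 250 2000 (lineOK_add 750 250 2000 (lineOK_add 500 250 2000 (lineOK_add 250 250 2000 (line_chunk8) line_chunk9) line_chunk10) line_chunk11) line_chunk12) line_chunk13) line_chunk14) line_chunk15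

theorem line_ok2 : lineOK 2000 4000 = true :=
  lineOK_add 1750 250 4000 (lineOK_add 1500 250 4000 (lineOK_add 1250 250 4000 (lineOK_add 1000 250 4000 (lineOK_add 750 250 4000 (lineOK_add 500 250 4000 (lineOK_add 250 250 4000 (line_chunk16) line_chunk17) line_chunk18) line_chunk19) line_chunk20) line_chunk21) line_chunk22) line_chunk23

theorem line_ok3 : lineOK 1750 6000 = true :=
  lineOK_add 1500 250 6000 (lineOK_add 1250 250 6000 (lineOK_add 1000 250 6000 (lineOK_add 750 250 6000 (lineOK_add 500 250 6000 (lineOK_add 250 250 6000 (line_chunk24) line_chunk25) line_chunk26) line_chunk27) line_chunk28) line_chunk29) line_chunk30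

theorem line_ord : (ordOK col0Key lineV lineO 7750 7749 0 && Nat.blt (lineO.get 7749) 7750) = true :=
  Bool.and_eq_true_iff.2 ⟨ordOK_add col0Key lineV lineO 7750 7000 749 0 (ordOK_add col0Key lineV lineO 7750 6000 1000 0 (ordOK_add col0Key lineV lineO 7750 5000 1000 0 (ordOK_add col0Key lineV lineO 7750 4000 1000 0 (ordOK_add col0Key lineV lineO 7750 3000 1000 0 (ordOK_add col0Key lineV lineO 7750 2000 1000 0 (ordOK_add col0Key lineV lineO 7750 1000 1000 0 (line_ord_chunk0) line_ord_chunk1) line_ord_chunk2) line_ord_chunk3) line_ord_chunk4) line_ord_chunk5) line_ord_chunk6) line_ord_chunk7, line_ord_last⟩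

end Cfsg.Lib.LyReal
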