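import Cfsg.Agent.Lib.LyReal.InvDefs
import Cfsg.Agent.Lib.LyReal.DataLine

/-!
# Checks for the line of an element of order three and for counting its conjugates
-/

set_option autoImplicit false
set_option maxRecDepth 20000

namespace Cfsg.Lib.LyReal

open Cfsg.Lib.CosetEnum (Tab force force_eq)

/-- A scalar matrix. -/
noncomputable def sc7 (l : ℕ) : ℕ := Nat.mul l (BigMat.one 7)

/-- The first column has first nonzero entry one. -/
noncomputable def normCol (V : ℕ) : Bool :=
  force V fun V => (List.range 7).any fun r => Nat.beq (BigMat.ent 7 V r 0) 1 &&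
    (List.range r).all fun q => Nat.beq (BigMat.ent 7 V q 0) 0

/-- The key of a first column. -/
noncomputable def col0Key (V : ℕ) : ℕ :=
  ((List.range 7).map fun r => BigMat.ent 7 V r 0).foldl (fun a x => 8 * a + x) 0

/-- The table of lines is made by true steps. -/
noncomputable def lineOK : ℕ → ℕ → Bool
  | 0, _ => true
  | n + 1, i => force i fun i => force (lineV.get i) fun V => force (lineB.get i) fun p =>
    BigMat.matOK 7 V && normCol V &&
      (Nat.beq i 0 || (Nat.blt (p / 128) i && Nat.blt (p / 8 % 16) 12 && Nat.blt 0 (p % 8) &&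
        Nat.blt (p % 8) 5 &&
        Nat.beq (mul7 (pw [p / 8 % 16]) (lineV.get (p / 128))) (mul7 (sc7 (p % 8)) V))) &&
      lineOK n (i + 1)

/-- The trace. -/
noncomputable def trM (A : ℕ) : ℕ :=
  Nat.mod (((List.range 7).map fun r => BigMat.ent 7 A r r).foldl Nat.add 0) 5

/-- A matrix of order dividing three with the wanted trace. -/
noncomputable def isTriY (A : ℕ) : Bool :=
  force A fun A => Nat.beq (trM A) 3 && Nat.beq (mul7 A (mul7 A A)) (BigMat.one 7)

/-- The number of such matrices among the products of one matrix with a list. -/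
noncomputable def countY (A : ℕ) (M : Tab) : ℕ → ℕ → ℕ
  | 0, _ => 0
  | n + 1, i => force i fun i =>
    (cond (isTriY (mul7 A (M.get i))) 1 0) + countY A M n (i + 1)

theorem countY_eq (A : ℕ) (M : Tab) : ∀ n i,
    countY A M n i = ((List.range' i n).countP fun k => isTriY (mul7 A (M.get k)))
  | 0, i => by simp [countY]
  | n + 1, i => by
    rw [countY, force_eq, countY_eq A M n (i + 1), List.range'_succ, List.countP_cons]
    cases isTriY (mul7 A (M.get i)) <;> simp [add_comm]

theorem card_filter_triY (A : ℕ) (M : Tab) (n : ℕ) :
    ((Finset.range n).filter fun k => isTriY (mul7 A (M.get k)) = true).card =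
      countY A M n 0 := by
  rw [countY_eq, List.countP_eq_length_filter, Finset.card_def, Finset.filter_val,
    Finset.range_val, Multiset.range, Multiset.filter_coe, Multiset.coe_card, List.range_eq_range']
  simp

/-- The cube has the first two columns of the identity. -/
noncomputable def cubeFix (A : ℕ) : Bool :=
  force A fun A => Nat.beq (colKey (mul7 A (mul7 A A))) (colKey (BigMat.one 7))

end Cfsg.Lib.LyReal
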