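import Cfsg.Agent.Lib.LyReal.LineDefs

/-!
# Steps in the orbit of the line
-/

set_option autoImplicit false
set_option maxRecDepth 100000

namespace Cfsg.Lib.LyReal

theorem line_chunk0 : lineOK 250 0 = true := by decide +kernel

theorem line_chunk1 : lineOK 250 250 = true := by decide +kernel

theorem line_chunk2 : lineOK 250 500 = true := by decide +kernel

theorem line_chunk3 : lineOK 250 750 = true := by decide +kernel

theorem line_chunk4 : lineOK 250 1000 = true := by decide +kernel

theorem line_chunk5 : lineOK 250 1250 = true := by decide +kernel

theorem line_chunk6 : lineOK 250 1500 = true := by decide +kernel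

theorem line_chunk7 : lineOK 250 1750 = true := by decide +kernel

end Cfsg.Lib.LyReal
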