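import Cfsg.Agent.Lib.LyReal.VecDefs
import Cfsg.Agent.Lib.LyReal.DataOrbitC67
import Cfsg.Agent.Lib.CosetEnum.LyRep.Checks

/-!
# Checks of one orbit of vectors
-/

set_option autoImplicit false
set_option maxRecDepth 100000

namespace Cfsg.Lib.LyReal

open Cfsg.Lib.CosetEnum

theorem firstC67_ok : vecOK (vecsC67.get 0) = true := by decide +kernel

theorem reachC67_ok : reachOK parC67 [nxtC670] 67 0 = true := by decide +kernel

theorem incC67_ok : (incOK vecsC67 ordC67 67 66 0 && Nat.blt (ordC67.get 66) 67) = true := by decide +kernel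

end Cfsg.Lib.LyReal
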