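import Cfsg.Agent.Lib.LyReal.VecDefs
import Cfsg.Agent.Lib.LyReal.DataOrbitC67
import Cfsg.Agent.Lib.CosetEnum.LyRep.Checks

/-!
# Checks of one orbit of vectors
-/

set_option autoImplicit false
set_option maxRecDepth 100000

namespace Cfsg.Lib.LyReal

open Cfsg.Lib.CosetEnum

theorem closedC670_ok : closedOK vecsC67 nxtC670 rowsC670 67 67 0 = true := by decide +kernel

theorem rowsC670_ok : rowsOK matC670 rowsC670 = true := by decide +kernel

theorem wordC670_ok :
    ((wordsC67.getD 0 []).all (fun l => Nat.blt l 20) &&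
      Nat.beq (BigMat.prodWord 111 LyRep.letterMat (wordsC67.getD 0 []).reverse) matC670) = true := by
  decide +kernel

end Cfsg.Lib.LyReal
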