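import Cfsg.Agent.Lib.LyReal.VecDefs
import Cfsg.Agent.Lib.LyReal.DataOrbitL
import Cfsg.Agent.Lib.CosetEnum.LyRep.Checks

/-!
# Checks of one orbit of vectors
-/

set_option autoImplicit false
set_option maxRecDepth 100000

namespace Cfsg.Lib.LyReal

open Cfsg.Lib.CosetEnum

theorem firstL_ok : vecOK (vecsL.get 0) = true := by decide +kernel

theorem reachL_ok : reachOK parL [nxtL0, nxtL1, nxtL2, nxtL3] 7128 0 = true := by decide +kernel

theorem incL_ok : (incOK vecsL ordL 7128 7127 0 && Nat.blt (ordL.get 7127) 7128) = true := by decide +kernel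

end Cfsg.Lib.LyReal
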