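import Cfsg.Agent.Lib.LyReal.VecDefs
import Cfsg.Agent.Lib.LyReal.DataOrbitL

/-!
# Checks of one orbit of vectors
-/

set_option autoImplicit false
set_option maxRecDepth 100000

namespace Cfsg.Lib.LyReal

open Cfsg.Lib.CosetEnum

theorem closedL0_8_ok : closedOK vecsL nxtL0 rowsL0 7128 512 4096 = true := by decide +kernel

theorem closedL0_9_ok : closedOK vecsL nxtL0 rowsL0 7128 512 4608 = true := by decide +kernel

end Cfsg.Lib.LyReal
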