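import Cfsg.Agent.Lib.LyReal.VecDefs
import Cfsg.Agent.Lib.LyReal.DataOrbitT
import Cfsg.Agent.Lib.CosetEnum.LyRep.Checks

/-!
# Checks of one orbit of vectors
-/

set_option autoImplicit false
set_option maxRecDepth 100000

namespace Cfsg.Lib.LyReal

open Cfsg.Lib.CosetEnum

theorem firstT_ok : vecOK (vecsT.get 0) = true := by decide +kernel

theorem reachT_ok : reachOK parT [nxtT0, nxtT1, nxtT2, nxtT3, nxtT4, nxtT5, nxtT6] 256 0 = true := by decide +kernel

theorem incT_ok : (incOK vecsT ordT 256 255 0 && Nat.blt (ordT.get 255) 256) = true := by decide +kernel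

end Cfsg.Lib.LyReal
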