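import Cfsg.Agent.Lib.LyReal.VecDefs
import Cfsg.Agent.Lib.LyReal.DataOrbitT
import Cfsg.Agent.Lib.CosetEnum.LyRep.Checks

/-!
# Checks of one orbit of vectors
-/

set_option autoImplicit false
set_option maxRecDepth 100000

namespace Cfsg.Lib.LyReal

open Cfsg.Lib.CosetEnum

theorem closedT4_ok : closedOK vecsT nxtT4 rowsT4 256 256 0 = true := by decide +kernel

theorem rowsT4_ok : rowsOK matT4 rowsT4 = true := by decide +kernel

theorem wordT4_ok :
    ((wordsT.getD 4 []).all (fun l => Nat.blt l 20) &&
      Nat.beq (BigMat.prodWord 111 LyRep.letterMat (wordsT.getD 4 []).reverse) matT4) = true := by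
  decide +kernel

end Cfsg.Lib.LyReal
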