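import Cfsg.Agent.Lib.LyReal.VecDefs
import Cfsg.Agent.Lib.LyReal.DataOrbitU
import Cfsg.Agent.Lib.LyReal.DataOrbitL
import Cfsg.Agent.Lib.CosetEnum.LyRep.Checks

/-!
# Checks of one orbit of vectors
-/

set_option autoImplicit false
set_option maxRecDepth 100000

namespace Cfsg.Lib.LyReal

open Cfsg.Lib.CosetEnum

theorem closedU1_ok : closedOK vecsU nxtU1 rowsU1 27 27 0 = true := by decide +kernel

theorem rowsU1_ok : rowsOK matU1 rowsU1 = true := by decide +kernel

theorem wordU1_ok :
    ((wordsU.getD 1 []).all (fun l => Nat.blt l 20) &&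
      Nat.beq (BigMat.prodWord 111 LyRep.letterMat (wordsU.getD 1 []).reverse) matU1) = true := by
  decide +kernel

theorem fixU1_ok : Nat.beq (vm (vecsL.get 0) rowsU1) (vecsL.get 0) = true := by decide +kernel

end Cfsg.Lib.LyReal
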