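import Cfsg.Agent.Lib.LyReal.Bound

/-!
# The presented Lyons group has the data
-/

set_option autoImplicit false
set_option maxRecDepth 100000

open scoped IsMulCommutative

namespace Cfsg.Lib.LyReal

open Cfsg.Spor Cfsg.Lib.CosetEnum.LyG2

/-- The projection to the presented group. -/
abbrev mk : FreeGroup Ly.Gen →* Ly := PresentedGroup.mk lyRels

/-- The value of a word. -/
def val (w : List ℕ) : Ly := (w.map lyLetter).prod

theorem key {j : ℕ} {x y : FreeGroup Ly.Gen} (hj : j < Ly.extra.length)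
    (h : Ly.extra.getD j 1 = x * y⁻¹) : mk x = mk y := by
  have h1 : mk (Ly.extra.getD j 1) = 1 := by
    refine PresentedGroup.one_of_mem (Or.inr ?_)
    rw [List.getD_eq_getElem _ _ hj]
    exact List.getElem_mem hj
  rwa [h, map_mul, map_inv, mul_inv_eq_one] at h1

theorem key_one {j : ℕ} {x : FreeGroup Ly.Gen} (hj : j < Ly.extra.length)
    (h : Ly.extra.getD j 1 = x) : mk x = 1 := by
  refine PresentedGroup.one_of_mem (Or.inr ?_)
  rw [← h, List.getD_eq_getElem _ _ hj]
  exact List.getElem_mem hj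

theorem def_a1 : mk Ly.a1 = val [0] := by
  rw [key (j := 44) (by decide) rfl]
  simp [val, lyLetter, pow_succ, mul_assoc]

theorem def_a2 : mk Ly.a2 = val [1, 0, 7] := by
  rw [key (j := 45) (by decide) rfl]
  simp [val, lyLetter, pow_succ, mul_assoc]

theorem def_a3 : mk Ly.a3 = val [1, 1, 0, 7, 7] := by
  rw [key (j := 46) (by decide) rfl]
  simp [val, lyLetter, pow_succ, mul_assoc]

theorem def_a4 : mk Ly.a4 = val [7, 7, 0, 1, 1] := by
  rw [key (j := 47) (by decide) rfl]
  simp [val, lyLetter, pow_succ, mul_assoc]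

theorem def_u : mk Ly.u = val [0, 0] := by
  rw [key (j := 48) (by decide) rfl]
  simp [val, lyLetter, pow_succ, mul_assoc]

theorem def_x23 : mk Ly.x23 = val [3] := by
  rw [key (j := 49) (by decide) rfl]
  simp [val, lyLetter, pow_succ, mul_assoc]

theorem def_x24 : mk Ly.x24 = val [9] := by
  rw [key (j := 50) (by decide) rfl]
  simp [val, lyLetter, pow_succ, mul_assoc]

theorem def_x25 : mk Ly.x25 = val [1, 1, 6, 7, 6, 1, 1, 8, 0, 2, 6, 8, 3, 8, 1, 1, 6, 2, 1] := by
  rw [key (j := 51) (by decide) rfl]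
  simp [val, lyLetter, pow_succ, mul_assoc]

theorem def_x29 : mk Ly.x29 = val [0, 1, 6, 1, 1, 6, 1, 1, 8, 0, 2, 1, 2, 7, 3, 2, 7, 7, 3, 2, 1, 2] := by
  rw [key (j := 52) (by decide) rfl]
  simp [val, lyLetter, pow_succ, mul_assoc]

theorem def_x47 : mk Ly.x47 = val [8, 9, 6, 8, 6, 1, 8, 9] := by
  rw [key (j := 53) (by decide) rfl]
  simp [val, lyLetter, pow_succ, mul_assoc]

theorem def_x96 : mk Ly.x96 = val [1, 3] := by
  rw [key (j := 54) (by decide) rfl]
  simp [val, lyLetter, pow_succ, mul_assoc]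

theorem def_x129 : mk Ly.x129 = val [9, 7] := by
  rw [key (j := 55) (by decide) rfl]
  simp [val, lyLetter, pow_succ, mul_assoc]

theorem def_x162 : mk Ly.x162 = val [6, 7, 6, 1, 8, 7, 0, 8, 1, 0] := by
  rw [key (j := 56) (by decide) rfl]
  simp [val, lyLetter, pow_succ, mul_assoc]

theorem def_x163 : mk Ly.x163 = val [7, 7, 0, 2, 6, 1, 2, 1] := by
  rw [key (j := 57) (by decide) rfl]
  simp [val, lyLetter, pow_succ, mul_assoc]

theorem def_x164 : mk Ly.x164 = val [6, 7, 6, 2, 0, 1, 0] := by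
  rw [key (j := 58) (by decide) rfl]
  simp [val, lyLetter, pow_succ, mul_assoc]

theorem def_x165 : mk Ly.x165 = val [7, 6, 1, 2, 7, 0, 1] := by
  rw [key (j := 59) (by decide) rfl]
  simp [val, lyLetter, pow_succ, mul_assoc]

theorem def_x166 : mk Ly.x166 = val [1, 1, 6, 7, 2, 1, 0, 2, 7, 7, 8] := by
  rw [key (j := 60) (by decide) rfl]
  simp [val, lyLetter, pow_succ, mul_assoc]

theorem def_x167 : mk Ly.x167 = val [6, 6, 6] := by
  rw [key (j := 61) (by decide) rfl]
  simp [val, lyLetter, pow_succ, mul_assoc]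

theorem def_x168 : mk Ly.x168 = val [1, 6, 7, 6, 6] := by
  rw [key (j := 62) (by decide) rfl]
  simp [val, lyLetter, pow_succ, mul_assoc]

theorem def_x169 : mk Ly.x169 = val [0, 1, 1, 0, 7, 7, 6] := by
  rw [key (j := 63) (by decide) rfl]
  simp [val, lyLetter, pow_succ, mul_assoc]

theorem def_x364 : mk Ly.x364 = val [6, 3, 7, 8, 6, 1, 8, 9, 1, 8, 7, 6, 8, 0, 7, 0, 1, 0, 7] := by
  rw [key (j := 64) (by decide) rfl]
  simp [val, lyLetter, pow_succ, mul_assoc]

theorem def_x365 : mk Ly.x365 = val [0, 7, 7, 6, 2, 1, 8, 1, 6, 8, 8, 3, 2, 0, 2, 6, 2, 7, 9] := by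
  rw [key (j := 65) (by decide) rfl]
  simp [val, lyLetter, pow_succ, mul_assoc]

theorem def_x366 : mk Ly.x366 = val [1, 0, 7, 6, 7, 7, 6, 7, 2, 1, 1, 2, 1, 3, 2, 7, 7, 3, 2, 1, 2] := by
  rw [key (j := 66) (by decide) rfl]
  simp [val, lyLetter, pow_succ, mul_assoc]

theorem def_x367 : mk Ly.x367 = val [8, 7, 8, 9, 1, 1, 8, 9, 7, 8, 7, 7, 8, 1, 0, 1, 1, 0, 1, 6, 7] := by
  rw [key (j := 67) (by decide) rfl]
  simp [val, lyLetter, pow_succ, mul_assoc]

theorem def_x368 : mk Ly.x368 = val [6, 8, 9, 0, 8, 7, 0, 8, 9, 6, 8, 0, 2, 7, 7, 8, 7, 6, 7, 7] := by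
  rw [key (j := 68) (by decide) rfl]
  simp [val, lyLetter, pow_succ, mul_assoc]

theorem def_x369 : mk Ly.x369 = val [6, 8, 9, 1, 6, 7, 8, 9, 1, 6, 7, 8, 7, 0, 7, 7, 0, 7] := by
  rw [key (j := 69) (by decide) rfl]
  simp [val, lyLetter, pow_succ, mul_assoc]

theorem def_x370 : mk Ly.x370 = val [9, 0, 2, 1, 2, 6, 8, 9, 0, 7, 6, 2, 6, 7, 7, 6, 1, 6] := by
  rw [key (j := 70) (by decide) rfl]
  simp [val, lyLetter, pow_succ, mul_assoc]

theorem def_x371 : mk Ly.x371 = val [8, 6, 2, 1, 8, 9, 2, 6, 2, 0, 2, 7, 6, 7, 6, 1] := by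
  rw [key (j := 71) (by decide) rfl]
  simp [val, lyLetter, pow_succ, mul_assoc]

theorem conj_ok : ∀ i < 8,
    (mk Ly.z)⁻¹ * val (getL [] c6 i) * mk Ly.z = val (getL [] ci6 i) := by
  intro i hi
  obtain ⟨h1, h2, h3, h4, -, -⟩ := mk_defs
  simp only [map_mul, map_inv] at h2 h3 h4
  have k : ∀ {x y : FreeGroup Ly.Gen} {w w' : List ℕ} {j : ℕ}, j < Ly.extra.length →
      Ly.extra.getD j 1 = (Ly.z⁻¹ * x * Ly.z) * y⁻¹ → mk x = val w → mk y = val w' →
      (mk Ly.z)⁻¹ * val w * mk Ly.z = val w' := by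
    intro x y w w' j hj h hx hy
    have h' := key hj h
    rw [map_mul, map_mul, map_inv, hx, hy] at h'
    exact h'
  interval_cases i
  · exact k (j := 77) (by decide) rfl def_a1 def_x167
  · exact k (j := 78) (by decide) rfl def_a2 def_x168
  · exact k (j := 79) (by decide) rfl def_a3 def_x169
  · exact k (j := 72) (by decide) rfl (by simp [val, lyLetter, getL, c6, h1]) def_x162
  · exact k (j := 73) (by decide) rfl (by simp [val, lyLetter, getL, c6, h2, h1, mul_assoc]) def_x163
  · exact k (j := 74) (by decide) rfl (by simp [val, lyLetter, getL, c6, h3, h1, mul_assoc]) def_x164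
  · exact k (j := 75) (by decide) rfl (by simp [val, lyLetter, getL, c6, h4, h1, mul_assoc]) def_x165
  · exact k (j := 76) (by decide) rfl (by simp [val, lyLetter, getL, c6]) def_x166

theorem z_inv_eq : (mk Ly.z)⁻¹ = mk Ly.z * val [6, 6] := by
  have h := key (j := 80) (x := Ly.z ^ 2) (by decide) rfl
  rw [map_pow, def_u, pow_two] at h
  refine inv_eq_of_mul_eq_one_right ?_
  rw [← mul_assoc, h]
  simp [val, lyLetter, mul_assoc]

theorem rels_items : ∀ k < 6, segVal lyLetter (mk Ly.z) (getL [] segsT k) = 1 := by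
  intro k hk
  have hz := z_inv_eq
  interval_cases k
  · have h : mk Ly.z * (mk Ly.z * val [6, 6]) = 1 := by rw [← hz, mul_inv_cancel]
    simpa [segsT, getL, segVal, val] using h
  · have h := key_one (j := 81) (x := (Ly.a4 * Ly.z) ^ 3 * Ly.u) (by decide) rfl
    simp only [map_mul, map_pow, pow_succ, pow_zero, one_mul, def_a4, def_u] at h
    simpa [segsT, getL, segVal, val, mul_assoc] using h
  · have h := key_one (j := 82) (x := Ly.x47 * Ly.z * Ly.x364 * Ly.z * Ly.x368 * Ly.z) (by decide) rfl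
    simp only [map_mul, def_x47, def_x364, def_x368] at h
    simpa [segsT, getL, segVal, val, mul_assoc] using h
  · have h := key_one (j := 83)
      (x := Ly.z⁻¹ * Ly.x24 * Ly.z⁻¹ * Ly.x369 * Ly.z * Ly.x23 * Ly.z * Ly.x29) (by decide) rfl
    simp only [map_mul, map_inv, hz, def_x24, def_x369, def_x23, def_x29] at h
    simpa [segsT, getL, segVal, val, mul_assoc] using h
  · have h := key_one (j := 84)
      (x := Ly.z * Ly.x366 * Ly.z * Ly.x365 * Ly.z⁻¹ * Ly.x367 * Ly.z⁻¹ * Ly.x370) (by decide) rfl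
    simp only [map_mul, map_inv, hz, def_x366, def_x365, def_x367, def_x370] at h
    simpa [segsT, getL, segVal, val, mul_assoc] using h
  · have h := key_one (j := 85)
      (x := Ly.z * Ly.x96 * Ly.z * Ly.x25 * Ly.z⁻¹ * Ly.x129 * Ly.z⁻¹ * Ly.x371) (by decide) rfl
    simp only [map_mul, map_inv, hz, def_x96, def_x25, def_x129, def_x371] at h
    simpa [segsT, getL, segVal, val, mul_assoc] using h

/-- The data in the presented group. -/
noncomputable def lySys : Sys Ly where
  e := lyLetter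
  pair := lyLetter_pair
  rels := lyLetter_rel
  z := mk Ly.z
  η := fun _ => 1
  conj := fun i hi => by
    rw [Subgroup.coe_one, mul_one]
    exact conj_ok i hi
  relZ := fun k hk => by
    rw [rels_items k hk]
    simp

theorem lySys_H : lySys.H = abcd := lyLetter_closure

theorem lySys_gen : Subgroup.closure ((lySys.H : Set Ly) ∪ {lySys.z}) = ⊤ := by
  rw [lySys_H, eq_top_iff, ← PresentedGroup.closure_range_of, Subgroup.closure_le]
  rintro _ ⟨x, rfl⟩
  set T := Subgroup.closure ((abcd : Set Ly) ∪ {lySys.z})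
  have hH : ∀ y ∈ abcd, y ∈ T := fun y hy => Subgroup.subset_closure (Or.inl hy)
  have hv : ∀ w, (∀ g ∈ w, g < 12) → val w ∈ T := fun w hw => hH _ (by
    rw [← lySys_H]
    exact lySys.v_mem (lettersOK_iff.2 hw))
  have hl : ∀ g, g < 12 → lyLetter g ∈ T := fun g hg => by
    simpa [val] using hv [g] (by simpa using hg)
  obtain ⟨h1, h2, h3, h4, -, -⟩ := mk_defs
  simp only [map_mul, map_inv] at h2 h3 h4
  have ha := hl 0 (by norm_num); have hb := hl 1 (by norm_num); have hc := hl 2 (by norm_num)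
  simp only [lyLetter] at ha hb hc
  show mk (FreeGroup.of x) ∈ T
  cases x
  case a => exact ha
  case b => exact hb
  case c => exact hc
  case d => simpa [lyLetter] using hl 3 (by norm_num)
  case z => exact Subgroup.subset_closure (Or.inr rfl)
  case e => simpa [lyLetter] using hl 4 (by norm_num)
  case c5 => simpa [lyLetter] using hl 5 (by norm_num)
  case c1 => rw [show FreeGroup.of Ly.Gen.c1 = Ly.c1 from rfl, h1]; exact hc
  case c2 => rw [show FreeGroup.of Ly.Gen.c2 = Ly.c2 from rfl, h2]; exact mul_mem (mul_mem (inv_mem ha) hc) ha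
  case c3 => rw [show FreeGroup.of Ly.Gen.c3 = Ly.c3 from rfl, h3]; exact mul_mem (mul_mem (inv_mem hb) hc) hb
  case c4 =>
    rw [show FreeGroup.of Ly.Gen.c4 = Ly.c4 from rfl, h4, inv_inv]
    exact mul_mem (mul_mem hb hc) (inv_mem hb)
  case a1 => rw [show FreeGroup.of Ly.Gen.a1 = Ly.a1 from rfl, def_a1]; exact hv _ (by decide)
  case a2 => rw [show FreeGroup.of Ly.Gen.a2 = Ly.a2 from rfl, def_a2]; exact hv _ (by decide)
  case a3 => rw [show FreeGroup.of Ly.Gen.a3 = Ly.a3 from rfl, def_a3]; exact hv _ (by decide)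
  case a4 => rw [show FreeGroup.of Ly.Gen.a4 = Ly.a4 from rfl, def_a4]; exact hv _ (by decide)
  case u => rw [show FreeGroup.of Ly.Gen.u = Ly.u from rfl, def_u]; exact hv _ (by decide)
  case x23 => rw [show FreeGroup.of Ly.Gen.x23 = Ly.x23 from rfl, def_x23]; exact hv _ (by decide)
  case x24 => rw [show FreeGroup.of Ly.Gen.x24 = Ly.x24 from rfl, def_x24]; exact hv _ (by decide)
  case x25 => rw [show FreeGroup.of Ly.Gen.x25 = Ly.x25 from rfl, def_x25]; exact hv _ (by decide)
  case x29 => rw [show FreeGroup.of Ly.Gen.x29 = Ly.x29 from rfl, def_x29]; exact hv _ (by decide)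
  case x47 => rw [show FreeGroup.of Ly.Gen.x47 = Ly.x47 from rfl, def_x47]; exact hv _ (by decide)
  case x96 => rw [show FreeGroup.of Ly.Gen.x96 = Ly.x96 from rfl, def_x96]; exact hv _ (by decide)
  case x129 => rw [show FreeGroup.of Ly.Gen.x129 = Ly.x129 from rfl, def_x129]; exact hv _ (by decide)
  case x162 => rw [show FreeGroup.of Ly.Gen.x162 = Ly.x162 from rfl, def_x162]; exact hv _ (by decide)
  case x163 => rw [show FreeGroup.of Ly.Gen.x163 = Ly.x163 from rfl, def_x163]; exact hv _ (by decide)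
  case x164 => rw [show FreeGroup.of Ly.Gen.x164 = Ly.x164 from rfl, def_x164]; exact hv _ (by decide)
  case x165 => rw [show FreeGroup.of Ly.Gen.x165 = Ly.x165 from rfl, def_x165]; exact hv _ (by decide)
  case x166 => rw [show FreeGroup.of Ly.Gen.x166 = Ly.x166 from rfl, def_x166]; exact hv _ (by decide)
  case x167 => rw [show FreeGroup.of Ly.Gen.x167 = Ly.x167 from rfl, def_x167]; exact hv _ (by decide)
  case x168 => rw [show FreeGroup.of Ly.Gen.x168 = Ly.x168 from rfl, def_x168]; exact hv _ (by decide)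
  case x169 => rw [show FreeGroup.of Ly.Gen.x169 = Ly.x169 from rfl, def_x169]; exact hv _ (by decide)
  case x364 => rw [show FreeGroup.of Ly.Gen.x364 = Ly.x364 from rfl, def_x364]; exact hv _ (by decide)
  case x365 => rw [show FreeGroup.of Ly.Gen.x365 = Ly.x365 from rfl, def_x365]; exact hv _ (by decide)
  case x366 => rw [show FreeGroup.of Ly.Gen.x366 = Ly.x366 from rfl, def_x366]; exact hv _ (by decide)
  case x367 => rw [show FreeGroup.of Ly.Gen.x367 = Ly.x367 from rfl, def_x367]; exact hv _ (by decide)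
  case x368 => rw [show FreeGroup.of Ly.Gen.x368 = Ly.x368 from rfl, def_x368]; exact hv _ (by decide)
  case x369 => rw [show FreeGroup.of Ly.Gen.x369 = Ly.x369 from rfl, def_x369]; exact hv _ (by decide)
  case x370 => rw [show FreeGroup.of Ly.Gen.x370 = Ly.x370 from rfl, def_x370]; exact hv _ (by decide)
  case x371 => rw [show FreeGroup.of Ly.Gen.x371 = Ly.x371 from rfl, def_x371]; exact hv _ (by decide)

theorem lySys_one : ∀ k < 14, lySys.η k = 1 := fun _ _ => rfl

/-- The subgroup of the letters has index at most 8835156. -/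
theorem abcd_index_le : Finite (Ly ⧸ abcd) ∧ abcd.index ≤ 8835156 := by
  have h := lySys.index_le lySys_one lySys_gen
  rwa [lySys_H] at h

end Cfsg.Lib.LyReal
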