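import Cfsg.Agent.Lib.LyReal.OrbitSem
import Cfsg.Agent.Lib.LyReal.Presented
import Cfsg.Agent.Lib.LyReal.OrbitL
import Cfsg.Agent.Lib.LyReal.OrbitL0
import Cfsg.Agent.Lib.LyReal.OrbitL1
import Cfsg.Agent.Lib.LyReal.OrbitL2
import Cfsg.Agent.Lib.LyReal.OrbitL3
import Cfsg.Agent.Lib.LyReal.OrbitT
import Cfsg.Agent.Lib.LyReal.OrbitT0
import Cfsg.Agent.Lib.LyReal.OrbitT1
import Cfsg.Agent.Lib.LyReal.OrbitT2
import Cfsg.Agent.Lib.LyReal.OrbitT3
import Cfsg.Agent.Lib.LyReal.OrbitT4
import Cfsg.Agent.Lib.LyReal.OrbitT5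
import Cfsg.Agent.Lib.LyReal.OrbitT6
import Cfsg.Agent.Lib.LyReal.OrbitU
import Cfsg.Agent.Lib.LyReal.OrbitU0
import Cfsg.Agent.Lib.LyReal.OrbitU1
import Cfsg.Agent.Lib.LyReal.OrbitU2
import Cfsg.Agent.Lib.LyReal.OrbitC37
import Cfsg.Agent.Lib.LyReal.OrbitC370
import Cfsg.Agent.Lib.LyReal.OrbitC67
import Cfsg.Agent.Lib.LyReal.OrbitC670
import Cfsg.Agent.Lib.LyReal.OrbitLPart0x0
import Cfsg.Agent.Lib.LyReal.OrbitLPart0x1
import Cfsg.Agent.Lib.LyReal.OrbitLPart0x2
import Cfsg.Agent.Lib.LyReal.OrbitLPart0x3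
import Cfsg.Agent.Lib.LyReal.OrbitLPart0x4
import Cfsg.Agent.Lib.LyReal.OrbitLPart0x5
import Cfsg.Agent.Lib.LyReal.OrbitLPart0x6
import Cfsg.Agent.Lib.LyReal.OrbitLPart1x0
import Cfsg.Agent.Lib.LyReal.OrbitLPart1x1
import Cfsg.Agent.Lib.LyReal.OrbitLPart1x2
import Cfsg.Agent.Lib.LyReal.OrbitLPart1x3
import Cfsg.Agent.Lib.LyReal.OrbitLPart1x4
import Cfsg.Agent.Lib.LyReal.OrbitLPart1x5
import Cfsg.Agent.Lib.LyReal.OrbitLPart1x6
import Cfsg.Agent.Lib.LyReal.OrbitLPart2x0
import Cfsg.Agent.Lib.LyReal.OrbitLPart2x1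
import Cfsg.Agent.Lib.LyReal.OrbitLPart2x2
import Cfsg.Agent.Lib.LyReal.OrbitLPart2x3
import Cfsg.Agent.Lib.LyReal.OrbitLPart2x4
import Cfsg.Agent.Lib.LyReal.OrbitLPart2x5
import Cfsg.Agent.Lib.LyReal.OrbitLPart2x6
import Cfsg.Agent.Lib.LyReal.OrbitLPart3x0
import Cfsg.Agent.Lib.LyReal.OrbitLPart3x1
import Cfsg.Agent.Lib.LyReal.OrbitLPart3x2
import Cfsg.Agent.Lib.LyReal.OrbitLPart3x3
import Cfsg.Agent.Lib.LyReal.OrbitLPart3x4
import Cfsg.Agent.Lib.LyReal.OrbitLPart3x5
import Cfsg.Agent.Lib.LyReal.OrbitLPart3x6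

/-!
# Divisors of the order of the presented Lyons group
-/

set_option autoImplicit false
set_option maxRecDepth 100000
set_option maxHeartbeats 400000

namespace Cfsg.Lib.LyReal

open Cfsg.Spor Cfsg.Lib.CosetEnum Cfsg.Lib.CosetEnum.LyG2

/-- The six letters among the twenty. -/
def to6 : List ℕ := [0, 1, 2, 3, 99, 4, 99, 99, 99, 5, 6, 7, 8, 9, 99, 10, 99, 99, 99, 11]

/-- A word in the six letters, if it is one. -/
def map6 (w : List ℕ) : List ℕ := w.map fun g => to6.getD g 99

/-- The matrices. -/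
def msL : ℕ → ℕ
  | 0 => matL0
  | 1 => matL1
  | 2 => matL2
  | 3 => matL3
  | _ => 0

/-- The rows. -/
def rsL : ℕ → Tab
  | 0 => rowsL0
  | 1 => rowsL1
  | 2 => rowsL2
  | 3 => rowsL3
  | _ => .leaf 0

/-- The images. -/
def nxL : ℕ → Tab
  | 0 => nxtL0
  | 1 => nxtL1
  | 2 => nxtL2
  | 3 => nxtL3
  | _ => .leaf 0

theorem lenL : wordsL.length = 4 := rfl

theorem closedL0_all : ∀ k < 7128, nxtL0.get k < 7128 ∧ vm (vecsL.get k) rowsL0 = vecsL.get (nxtL0.get k) := by
  intro k hk
  by_cases h0 : k < 512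
  · exact closedOK_spec closedL0_0_ok k (by omega) (by omega)
  by_cases h1 : k < 1024
  · exact closedOK_spec closedL0_1_ok k (by omega) (by omega)
  by_cases h2 : k < 1536
  · exact closedOK_spec closedL0_2_ok k (by omega) (by omega)
  by_cases h3 : k < 2048
  · exact closedOK_spec closedL0_3_ok k (by omega) (by omega)
  by_cases h4 : k < 2560
  · exact closedOK_spec closedL0_4_ok k (by omega) (by omega)
  by_cases h5 : k < 3072
  · exact closedOK_spec closedL0_5_ok k (by omega) (by omega)
  by_cases h6 : k < 3584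
  · exact closedOK_spec closedL0_6_ok k (by omega) (by omega)
  by_cases h7 : k < 4096
  · exact closedOK_spec closedL0_7_ok k (by omega) (by omega)
  by_cases h8 : k < 4608
  · exact closedOK_spec closedL0_8_ok k (by omega) (by omega)
  by_cases h9 : k < 5120
  · exact closedOK_spec closedL0_9_ok k (by omega) (by omega)
  by_cases h10 : k < 5632
  · exact closedOK_spec closedL0_10_ok k (by omega) (by omega)
  by_cases h11 : k < 6144
  · exact closedOK_spec closedL0_11_ok k (by omega) (by omega)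
  by_cases h12 : k < 6656
  · exact closedOK_spec closedL0_12_ok k (by omega) (by omega)
  exact closedOK_spec closedL0_13_ok k (by omega) (by omega)

theorem closedL1_all : ∀ k < 7128, nxtL1.get k < 7128 ∧ vm (vecsL.get k) rowsL1 = vecsL.get (nxtL1.get k) := by
  intro k hk
  by_cases h0 : k < 512
  · exact closedOK_spec closedL1_0_ok k (by omega) (by omega)
  by_cases h1 : k < 1024
  · exact closedOK_spec closedL1_1_ok k (by omega) (by omega)
  by_cases h2 : k < 1536
  · exact closedOK_spec closedL1_2_ok k (by omega) (by omega)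
  by_cases h3 : k < 2048
  · exact closedOK_spec closedL1_3_ok k (by omega) (by omega)
  by_cases h4 : k < 2560
  · exact closedOK_spec closedL1_4_ok k (by omega) (by omega)
  by_cases h5 : k < 3072
  · exact closedOK_spec closedL1_5_ok k (by omega) (by omega)
  by_cases h6 : k < 3584
  · exact closedOK_spec closedL1_6_ok k (by omega) (by omega)
  by_cases h7 : k < 4096
  · exact closedOK_spec closedL1_7_ok k (by omega) (by omega)
  by_cases h8 : k < 4608
  · exact closedOK_spec closedL1_8_ok k (by omega) (by omega)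
  by_cases h9 : k < 5120
  · exact closedOK_spec closedL1_9_ok k (by omega) (by omega)
  by_cases h10 : k < 5632
  · exact closedOK_spec closedL1_10_ok k (by omega) (by omega)
  by_cases h11 : k < 6144
  · exact closedOK_spec closedL1_11_ok k (by omega) (by omega)
  by_cases h12 : k < 6656
  · exact closedOK_spec closedL1_12_ok k (by omega) (by omega)
  exact closedOK_spec closedL1_13_ok k (by omega) (by omega)

theorem closedL2_all : ∀ k < 7128, nxtL2.get k < 7128 ∧ vm (vecsL.get k) rowsL2 = vecsL.get (nxtL2.get k) := by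
  intro k hk
  by_cases h0 : k < 512
  · exact closedOK_spec closedL2_0_ok k (by omega) (by omega)
  by_cases h1 : k < 1024
  · exact closedOK_spec closedL2_1_ok k (by omega) (by omega)
  by_cases h2 : k < 1536
  · exact closedOK_spec closedL2_2_ok k (by omega) (by omega)
  by_cases h3 : k < 2048
  · exact closedOK_spec closedL2_3_ok k (by omega) (by omega)
  by_cases h4 : k < 2560
  · exact closedOK_spec closedL2_4_ok k (by omega) (by omega)
  by_cases h5 : k < 3072
  · exact closedOK_spec closedL2_5_ok k (by omega) (by omega)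
  by_cases h6 : k < 3584
  · exact closedOK_spec closedL2_6_ok k (by omega) (by omega)
  by_cases h7 : k < 4096
  · exact closedOK_spec closedL2_7_ok k (by omega) (by omega)
  by_cases h8 : k < 4608
  · exact closedOK_spec closedL2_8_ok k (by omega) (by omega)
  by_cases h9 : k < 5120
  · exact closedOK_spec closedL2_9_ok k (by omega) (by omega)
  by_cases h10 : k < 5632
  · exact closedOK_spec closedL2_10_ok k (by omega) (by omega)
  by_cases h11 : k < 6144
  · exact closedOK_spec closedL2_11_ok k (by omega) (by omega)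
  by_cases h12 : k < 6656
  · exact closedOK_spec closedL2_12_ok k (by omega) (by omega)
  exact closedOK_spec closedL2_13_ok k (by omega) (by omega)

theorem closedL3_all : ∀ k < 7128, nxtL3.get k < 7128 ∧ vm (vecsL.get k) rowsL3 = vecsL.get (nxtL3.get k) := by
  intro k hk
  by_cases h0 : k < 512
  · exact closedOK_spec closedL3_0_ok k (by omega) (by omega)
  by_cases h1 : k < 1024
  · exact closedOK_spec closedL3_1_ok k (by omega) (by omega)
  by_cases h2 : k < 1536
  · exact closedOK_spec closedL3_2_ok k (by omega) (by omega)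
  by_cases h3 : k < 2048
  · exact closedOK_spec closedL3_3_ok k (by omega) (by omega)
  by_cases h4 : k < 2560
  · exact closedOK_spec closedL3_4_ok k (by omega) (by omega)
  by_cases h5 : k < 3072
  · exact closedOK_spec closedL3_5_ok k (by omega) (by omega)
  by_cases h6 : k < 3584
  · exact closedOK_spec closedL3_6_ok k (by omega) (by omega)
  by_cases h7 : k < 4096
  · exact closedOK_spec closedL3_7_ok k (by omega) (by omega)
  by_cases h8 : k < 4608
  · exact closedOK_spec closedL3_8_ok k (by omega) (by omega)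
  by_cases h9 : k < 5120
  · exact closedOK_spec closedL3_9_ok k (by omega) (by omega)
  by_cases h10 : k < 5632
  · exact closedOK_spec closedL3_10_ok k (by omega) (by omega)
  by_cases h11 : k < 6144
  · exact closedOK_spec closedL3_11_ok k (by omega) (by omega)
  by_cases h12 : k < 6656
  · exact closedOK_spec closedL3_12_ok k (by omega) (by omega)
  exact closedOK_spec closedL3_13_ok k (by omega) (by omega)

theorem orbitL : Nat.card (MulAction.orbit (Subgroup.closure {g | ∃ w ∈ wordsL, g = val20 w})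
    (mkVec (vecsL.get 0))) = 7128 := by
  refine orbit_card (Ms := msL) (Rs := rsL) (nx := nxL) ?_ rfl ?_ ?_ ?_ firstL_ok reachL_ok incL_ok
  all_goals intro g hg
  all_goals rw [lenL] at hg
  all_goals interval_cases g
  · rfl
  · rfl
  · rfl
  · rfl
  · exact wordL0_ok
  · exact wordL1_ok
  · exact wordL2_ok
  · exact wordL3_ok
  · exact rowsL0_ok
  · exact rowsL1_ok
  · exact rowsL2_ok
  · exact rowsL3_ok
  · exact closedL0_all
  · exact closedL1_all
  · exact closedL2_all
  · exact closedL3_all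

/-- The matrices. -/
def msT : ℕ → ℕ
  | 0 => matT0
  | 1 => matT1
  | 2 => matT2
  | 3 => matT3
  | 4 => matT4
  | 5 => matT5
  | 6 => matT6
  | _ => 0

/-- The rows. -/
def rsT : ℕ → Tab
  | 0 => rowsT0
  | 1 => rowsT1
  | 2 => rowsT2
  | 3 => rowsT3
  | 4 => rowsT4
  | 5 => rowsT5
  | 6 => rowsT6
  | _ => .leaf 0

/-- The images. -/
def nxT : ℕ → Tab
  | 0 => nxtT0
  | 1 => nxtT1
  | 2 => nxtT2
  | 3 => nxtT3
  | 4 => nxtT4
  | 5 => nxtT5
  | 6 => nxtT6
  | _ => .leaf 0

theorem lenT : wordsT.length = 7 := rfl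

theorem orbitT : Nat.card (MulAction.orbit (Subgroup.closure {g | ∃ w ∈ wordsT, g = val20 w})
    (mkVec (vecsT.get 0))) = 256 := by
  refine orbit_card (Ms := msT) (Rs := rsT) (nx := nxT) ?_ rfl ?_ ?_ ?_ firstT_ok reachT_ok incT_ok
  all_goals intro g hg
  all_goals rw [lenT] at hg
  all_goals interval_cases g
  · rfl
  · rfl
  · rfl
  · rfl
  · rfl
  · rfl
  · rfl
  · exact wordT0_ok
  · exact wordT1_ok
  · exact wordT2_ok
  · exact wordT3_ok
  · exact wordT4_ok
  · exact wordT5_ok
  · exact wordT6_ok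
  · exact rowsT0_ok
  · exact rowsT1_ok
  · exact rowsT2_ok
  · exact rowsT3_ok
  · exact rowsT4_ok
  · exact rowsT5_ok
  · exact rowsT6_ok
  · exact fun k hk => closedOK_spec closedT0_ok k (Nat.zero_le _) (by omega)
  · exact fun k hk => closedOK_spec closedT1_ok k (Nat.zero_le _) (by omega)
  · exact fun k hk => closedOK_spec closedT2_ok k (Nat.zero_le _) (by omega)
  · exact fun k hk => closedOK_spec closedT3_ok k (Nat.zero_le _) (by omega)
  · exact fun k hk => closedOK_spec closedT4_ok k (Nat.zero_le _) (by omega)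
  · exact fun k hk => closedOK_spec closedT5_ok k (Nat.zero_le _) (by omega)
  · exact fun k hk => closedOK_spec closedT6_ok k (Nat.zero_le _) (by omega)

/-- The matrices. -/
def msU : ℕ → ℕ
  | 0 => matU0
  | 1 => matU1
  | 2 => matU2
  | _ => 0

/-- The rows. -/
def rsU : ℕ → Tab
  | 0 => rowsU0
  | 1 => rowsU1
  | 2 => rowsU2
  | _ => .leaf 0

/-- The images. -/
def nxU : ℕ → Tab
  | 0 => nxtU0
  | 1 => nxtU1
  | 2 => nxtU2
  | _ => .leaf 0

theorem lenU : wordsU.length = 3 := rfl

theorem orbitU : Nat.card (MulAction.orbit (Subgroup.closure {g | ∃ w ∈ wordsU, g = val20 w})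
    (mkVec (vecsU.get 0))) = 27 := by
  refine orbit_card (Ms := msU) (Rs := rsU) (nx := nxU) ?_ rfl ?_ ?_ ?_ firstU_ok reachU_ok incU_ok
  all_goals intro g hg
  all_goals rw [lenU] at hg
  all_goals interval_cases g
  · rfl
  · rfl
  · rfl
  · exact wordU0_ok
  · exact wordU1_ok
  · exact wordU2_ok
  · exact rowsU0_ok
  · exact rowsU1_ok
  · exact rowsU2_ok
  · exact fun k hk => closedOK_spec closedU0_ok k (Nat.zero_le _) (by omega)
  · exact fun k hk => closedOK_spec closedU1_ok k (Nat.zero_le _) (by omega)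
  · exact fun k hk => closedOK_spec closedU2_ok k (Nat.zero_le _) (by omega)

/-- The matrices. -/
def msC37 : ℕ → ℕ
  | 0 => matC370
  | _ => 0

/-- The rows. -/
def rsC37 : ℕ → Tab
  | 0 => rowsC370
  | _ => .leaf 0

/-- The images. -/
def nxC37 : ℕ → Tab
  | 0 => nxtC370
  | _ => .leaf 0

theorem lenC37 : wordsC37.length = 1 := rfl

theorem orbitC37 : Nat.card (MulAction.orbit (Subgroup.closure {g | ∃ w ∈ wordsC37, g = val20 w})
    (mkVec (vecsC37.get 0))) = 37 := by
  refine orbit_card (Ms := msC37) (Rs := rsC37) (nx := nxC37) ?_ rfl ?_ ?_ ?_ firstC37_ok reachC37_ok incC37_ok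
  all_goals intro g hg
  all_goals rw [lenC37] at hg
  all_goals interval_cases g
  · rfl
  · exact wordC370_ok
  · exact rowsC370_ok
  · exact fun k hk => closedOK_spec closedC370_ok k (Nat.zero_le _) (by omega)

/-- The matrices. -/
def msC67 : ℕ → ℕ
  | 0 => matC670
  | _ => 0

/-- The rows. -/
def rsC67 : ℕ → Tab
  | 0 => rowsC670
  | _ => .leaf 0

/-- The images. -/
def nxC67 : ℕ → Tab
  | 0 => nxtC670
  | _ => .leaf 0

theorem lenC67 : wordsC67.length = 1 := rfl

theorem orbitC67 : Nat.card (MulAction.orbit (Subgroup.closure {g | ∃ w ∈ wordsC67, g = val20 w})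
    (mkVec (vecsC67.get 0))) = 67 := by
  refine orbit_card (Ms := msC67) (Rs := rsC67) (nx := nxC67) ?_ rfl ?_ ?_ ?_ firstC67_ok reachC67_ok incC67_ok
  all_goals intro g hg
  all_goals rw [lenC67] at hg
  all_goals interval_cases g
  · rfl
  · exact wordC670_ok
  · exact rowsC670_ok
  · exact fun k hk => closedOK_spec closedC670_ok k (Nat.zero_le _) (by omega)

theorem let20_six {g : ℕ} (hg : g < 20) (h : to6.getD g 99 ≠ 99) :
    let20 g = lyLetter (to6.getD g 99) := by
  interval_cases g <;> first | exact absurd rfl h | rfl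

theorem val20_six {w : List ℕ} (hw : ∀ g ∈ w, g < 20) (h : lettersOK (map6 w) = true) :
    val20 w = lySys.v (map6 w) := by
  rw [val20, Sys.v, map6, List.map_map]
  refine congrArg List.prod (List.map_congr_left fun g hg => ?_)
  refine let20_six (hw g hg) fun h99 => ?_
  have := lettersOK_iff.1 h (to6.getD g 99) (List.mem_map.2 ⟨g, hg, rfl⟩)
  omega

/-- The generators of the 27-group as words in those of the larger group. -/
noncomputable def threeOK : Bool :=
  (List.range 3).all fun i =>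
    let u := wordsU.getD i []
    let p := (threeWords.getD i []).flatMap fun k => wordsL.getD k []
    u.all (fun g => Nat.blt g 20) && p.all (fun g => Nat.blt g 20) &&
      (threeWords.getD i []).all (fun k => Nat.blt k 4) && eqW (map6 u) (map6 p)

theorem three_ok : threeOK = true := by decide +kernel

theorem threeU_le : Subgroup.closure {g | ∃ w ∈ wordsU, g = val20 w} ≤
    Subgroup.closure {g | ∃ w ∈ wordsL, g = val20 w} := by
  rw [Subgroup.closure_le]
  rintro _ ⟨w, hw, rfl⟩
  obtain ⟨i, hi, rfl⟩ := List.getElem_of_mem hw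
  rw [← List.getD_eq_getElem _ [] hi]
  rw [lenU] at hi
  have h := List.all_eq_true.1 three_ok i (List.mem_range.2 hi)
  simp only [Bool.and_eq_true, List.all_eq_true, Nat.blt_eq] at h
  obtain ⟨⟨⟨hu, hp⟩, hk⟩, he⟩ := h
  have he' := he
  simp only [eqW, Bool.and_eq_true] at he'
  rw [val20_six hu he'.1.1, lySys.v_eq he, ← val20_six hp he'.1.2]
  generalize threeWords.getD i [] = l at hk
  induction l with
  | nil => exact one_mem _
  | cons k l ih =>
    rw [List.flatMap_cons, val20, List.map_append, List.prod_append]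
    refine mul_mem ?_ (ih fun x hx => hk x (List.mem_cons_of_mem _ hx))
    refine Subgroup.subset_closure ⟨wordsL.getD k [], ?_, rfl⟩
    have hk4 : k < wordsL.length := by rw [lenL]; exact hk k (by simp)
    rw [List.getD_eq_getElem _ _ hk4]
    exact List.getElem_mem hk4

theorem threeU_fix : Subgroup.closure {g | ∃ w ∈ wordsU, g = val20 w} ≤
    MulAction.stabilizer Ly (mkVec (vecsL.get 0)) := by
  rw [Subgroup.closure_le]
  rintro _ ⟨w, hw, rfl⟩
  obtain ⟨i, hi, rfl⟩ := List.getElem_of_mem hw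
  rw [← List.getD_eq_getElem _ [] hi]
  rw [lenU] at hi
  show val20 (wordsU.getD i []) • mkVec (vecsL.get 0) = mkVec (vecsL.get 0)
  have key : (val20 (wordsU.getD i []))⁻¹ • mkVec (vecsL.get 0) = mkVec (vecsL.get 0) := by
    interval_cases i
    · rw [(inv_smul_vec (isVec_of_vecOK firstL_ok) wordU0_ok rowsU0_ok).2, Nat.eq_of_beq_eq_true fixU0_ok]
    · rw [(inv_smul_vec (isVec_of_vecOK firstL_ok) wordU1_ok rowsU1_ok).2, Nat.eq_of_beq_eq_true fixU1_ok]
    · rw [(inv_smul_vec (isVec_of_vecOK firstL_ok) wordU2_ok rowsU2_ok).2, Nat.eq_of_beq_eq_true fixU2_ok]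
  exact (inv_smul_eq_iff.1 key).symm

theorem card_orbit_mul_dvd {G α : Type*} [Group G] [MulAction G α] {x : α} {L K : Subgroup G}
    (hle : K ≤ L) (hfix : K ≤ MulAction.stabilizer G x) {n m : ℕ}
    (hn : Nat.card (MulAction.orbit L x) = n) (hm : m ∣ Nat.card K) : n * m ∣ Nat.card L := by
  rw [← hn, ← Nat.card_congr (MulAction.orbitProdStabilizerEquivGroup L x), Nat.card_prod]
  refine mul_dvd_mul_left _ (hm.trans ?_)
  rw [← Nat.card_congr (Subgroup.subgroupOfEquivOfLe hle).toEquiv]
  refine Subgroup.card_dvd_of_le fun a ha => ?_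
  exact hfix (Subgroup.mem_subgroupOf.1 ha)

/-- The known divisors. -/
theorem dvd_card :
    256 ∣ Nat.card Ly ∧ 192456 ∣ Nat.card Ly ∧ 37 ∣ Nat.card Ly ∧ 67 ∣ Nat.card Ly := by
  refine ⟨(dvd_of_orbit _ _ orbitT).trans (Subgroup.card_subgroup_dvd_card _), ?_,
    (dvd_of_orbit _ _ orbitC37).trans (Subgroup.card_subgroup_dvd_card _),
    (dvd_of_orbit _ _ orbitC67).trans (Subgroup.card_subgroup_dvd_card _)⟩
  have h := card_orbit_mul_dvd threeU_le threeU_fix orbitL (dvd_of_orbit _ _ orbitU)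
  exact (show (192456 : ℕ) = 7128 * 27 from rfl) ▸ h.trans (Subgroup.card_subgroup_dvd_card _)

end Cfsg.Lib.LyReal
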