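import Cfsg.Agent.Lib.LyReal.CentData
import Cfsg.Agent.Lib.LyReal.DataOut

/-!
# Matrix identities used for the automorphisms
-/

set_option autoImplicit false
set_option maxRecDepth 100000

namespace Cfsg.Lib.LyReal

open Cfsg.Lib.CosetEnum (force force_eq)

/-- The product of listed matrices along a word. -/
noncomputable def xprod (Xs : List ℕ) : List ℕ → ℕ
  | [] => BigMat.one 111
  | i :: w => force (xprod Xs w) fun R => BigMat.mul 111 (Xs.getD i 0) R

/-- A product, possibly times the involution. -/
noncomputable def mulT (T P : ℕ) : Bool → ℕ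
  | true => force P fun P => BigMat.mul 111 P T
  | false => P

/-- The checks with the images of the nine. -/
noncomputable def outBody (T G S : ℕ) (Xs Es : List ℕ) : Bool :=
  (Es.all fun E => Nat.beq (BigMat.mul 111 E (BigMat.mul 111 E E)) (BigMat.one 111)) &&
  Nat.beq S (mulT T (xprod Xs secW) secF) &&
  Nat.beq S (mulT T (xprod Es secW) secF) &&
  (edge0.all fun e => force (xprod Xs e.1) fun D =>
    Nat.beq (BigMat.mul 111 (BigMat.mul 111 G D) G) (mulT T (xprod Xs e.2.1) e.2.2)) &&
  (edge1.all fun e => force (xprod Es e.1) fun D =>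
    Nat.beq (BigMat.mul 111 (BigMat.mul 111 G D) G) (mulT T (xprod Xs e.2.1) e.2.2))

/-- Evaluate products once. -/
noncomputable def withProds (Xs : List ℕ) : List (List ℕ) → List ℕ → (List ℕ → Bool) → Bool
  | [], acc, f => f acc.reverse
  | w :: ws, acc, f => force (xprod Xs w) fun M => withProds Xs ws (M :: acc) f

/-- All the checks. -/
noncomputable def outOK (l : List ℕ) : Bool :=
  match l with
  | T :: G :: Xs => withProds Xs outW [] fun Es =>
      force (BigMat.mul 111 (BigMat.mul 111 G T) G) fun S => outBody T G S Xs Es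
  | _ => false

theorem out_ok : withMats ([0, 0, 0, 0] :: swapW20 :: triWord) [] outOK = true := by
  decide +kernel

theorem out_shape : outW.length = 9 ∧
    (outW.all fun w => w.all fun i => Nat.blt i 9) = true ∧
    (secW.all fun i => Nat.blt i 9) = true ∧
    (edge0.all fun e => (e.1.all fun i => Nat.blt i 9) && (e.2.1.all fun i => Nat.blt i 9)) = true ∧
    (edge1.all fun e => (e.1.all fun i => Nat.blt i 9) && (e.2.1.all fun i => Nat.blt i 9)) = true ∧
    edge0.map Prod.fst = edge1.map Prod.fst ∧
    swapW20 = swapW.map (fun g => [0, 1, 2, 3, 5, 9, 10, 11, 12, 13, 15, 19].getD g 0) ∧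
    (swapW.all fun g => Nat.blt g 12) = true := by
  decide +kernel

end Cfsg.Lib.LyReal
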