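import Cfsg.Agent.Lib.LyReal.CentData
import Cfsg.Agent.Lib.LyReal.OutData
import Cfsg.Agent.Lib.CosetEnum.MclStemG.Data

/-!
# Five involutions commuting with an element of order three
-/

set_option autoImplicit false
set_option maxRecDepth 100000

namespace Cfsg.Lib.LyReal

open Cfsg.Lib.CosetEnum (force force_eq)

/-- The element of order three, in the twenty letters. -/
def triY20 : List Nat := [0, 1, 0, 11, 0, 1, 1, 0, 11, 11]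

/-- The five involutions, in the twenty letters. -/
def mclW : List (List Nat) := [
  [4, 4, 4, 4],
  [14, 1, 10, 11, 10, 1, 1, 10, 11, 11, 1, 10, 11, 10, 11, 12, 1, 1, 10, 11, 11, 12, 1, 1, 10, 11, 13, 12, 10, 19, 15, 10, 11, 19, 14, 1, 10, 11, 1, 12, 11, 11, 12, 1, 1, 1, 10, 11, 11, 11, 12, 1, 1, 10, 11, 10, 1, 1, 10, 11, 11, 1, 10, 11, 4, 4, 4, 4, 1, 0, 11, 1, 1, 0, 11, 11, 0, 1, 0, 11, 11, 2, 1, 1, 1, 0, 11, 11, 11, 2, 1, 1, 2, 11, 1, 0, 11, 4, 9, 1, 0, 5, 9, 0, 2, 3, 1, 0, 11, 11, 2, 1, 1, 0, 11, 11, 2, 1, 0, 1, 0, 11, 1, 1, 0, 11, 11, 0, 1, 0, 11, 4],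
  [10, 19, 10, 10, 10, 10, 10, 14, 10, 19, 10, 10, 10, 10, 10, 1, 10, 11, 10, 1, 1, 10, 11, 11, 1, 10, 11, 10, 11, 12, 1, 1, 10, 11, 11, 12, 1, 1, 10, 11, 13, 12, 10, 19, 15, 10, 11, 19, 4, 4, 4, 4, 9, 1, 0, 5, 9, 0, 2, 3, 1, 0, 11, 11, 2, 1, 1, 0, 11, 11, 2, 1, 0, 1, 0, 11, 1, 1, 0, 11, 11, 0, 1, 0, 11, 0, 0, 0, 0, 0, 9, 0, 4, 0, 0, 0, 0, 0, 9, 0],
  [10, 19, 10, 10, 10, 10, 10, 1, 10, 11, 10, 1, 1, 10, 11, 11, 1, 10, 11, 10, 11, 12, 1, 1, 10, 11, 11, 12, 1, 1, 10, 11, 13, 12, 10, 19, 15, 10, 11, 19, 14, 10, 19, 10, 10, 10, 10, 10, 1, 10, 11, 1, 12, 11, 11, 12, 1, 1, 1, 10, 11, 11, 11, 12, 1, 1, 10, 11, 10, 1, 1, 10, 11, 11, 1, 10, 11, 1, 10, 11, 10, 1, 1, 10, 11, 11, 1, 10, 11, 10, 11, 12, 1, 1, 10, 11, 11, 12, 1, 1, 10, 11, 13, 12, 10, 19, 15, 10, 11, 19, 14, 10, 19, 10, 10, 10, 10, 10, 1, 10, 11,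 1, 12, 11, 11, 12, 1, 1, 1, 10, 11, 11, 11, 12, 1, 1, 10, 11, 10, 1, 1, 10, 11, 11, 1, 10, 11, 4, 4, 4, 4, 1, 0, 11, 1, 1, 0, 11, 11, 0, 1, 0, 11, 11, 2, 1, 1, 1, 0, 11, 11, 11, 2, 1, 1, 2, 11, 1, 0, 11, 0, 0, 0, 0, 0, 9, 0, 4, 9, 1, 0, 5, 9, 0, 2, 3, 1, 0, 11, 11, 2, 1, 1, 0, 11, 11, 2, 1, 0, 1, 0, 11, 1, 1, 0, 11, 11, 0, 1, 0, 11, 1, 0, 11, 1, 1, 0, 11, 11, 0, 1, 0, 11, 11, 2, 1, 1, 1, 0, 11, 11, 11, 2, 1, 1, 2, 11, 1, 0, 11, 0, 0, 0, 0, 0, 9, 0, 4, 9, 1, 0, 5, 9, 0, 2, 3, 1, 0, 11, 11, 2, 1, 1, 0, 11, 11, 2, 1, 0, 1, 0, 11, 1, 1, 0, 11, 11, 0, 1, 0, 11, 0, 0, 0, 0, 0, 9, 0],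
  [14, 10, 19, 10, 10, 10, 10, 10, 1, 10, 11, 10, 1, 1, 10, 11, 11, 1, 10, 11, 10, 11, 12, 1, 1, 10, 11, 11, 12, 1, 1, 10, 11, 13, 12, 10, 19, 15, 10, 11, 19, 14, 1, 10, 11, 10, 1, 1, 10, 11, 11, 1, 10, 11, 10, 11, 12, 1, 1, 10, 11, 11, 12, 1, 1, 10, 11, 13, 12, 10, 19, 15, 10, 11, 19, 4, 4, 4, 4, 9, 1, 0, 5, 9, 0, 2, 3, 1, 0, 11, 11, 2, 1, 1, 0, 11, 11, 2, 1, 0, 1, 0, 11, 1, 1, 0, 11, 11, 0, 1, 0, 11, 4, 9, 1, 0, 5, 9, 0, 2, 3, 1, 0, 11, 11, 2, 1, 1, 0, 11, 11, 2, 1, 0, 1, 0, 11, 1, 1, 0, 11, 11, 0, 1, 0, 11, 0, 0, 0, 0, 0, 9, 0, 4]]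

/-- The powers of the element of order three given by the relators. -/
def mclE : List Nat := [0, 0, 0, 0, 0, 0, 0, 0, 0, 0, 0, 0, 0, 0, 0, 0, 0, 0, 0, 0, 0, 0, 0, 0, 0, 0, 2, 0, 0]

/-- A power. -/
noncomputable def yPow (Y e : ℕ) : ℕ := xprod [Y] (List.replicate e 0)

/-- The relations. -/
noncomputable def mclOK (l : List ℕ) : Bool :=
  match l with
  | [] => false
  | Y :: Xs => (Xs.all fun X => Nat.beq (BigMat.mul 111 X X) (BigMat.one 111) &&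
      Nat.beq (BigMat.mul 111 X Y) (BigMat.mul 111 Y X)) &&
    (CosetEnum.MclStemG.canon.zip mclE).all fun re =>
      Nat.beq (xprod Xs re.1.reverse) (yPow Y re.2)

theorem mcl_ok : withMats (triY20 :: mclW) [] mclOK = true := by decide +kernel

theorem mcl_shape : (triY20.all fun l => Nat.blt l 20) = true ∧
    (mclW.all fun w => w.all fun l => Nat.blt l 20) = true ∧ mclW.length = 5 ∧
    mclE.length = CosetEnum.MclStemG.canon.length ∧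
    (CosetEnum.MclStemG.canon.all fun r => r.reverse.all fun g => Nat.blt g 5) = true := by
  decide +kernel

end Cfsg.Lib.LyReal
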