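import Cfsg.Agent.Lib.MclMult.Pres
import Cfsg.Agent.Lib.Concrete.LeechSimpleGroups
import Cfsg.Agent.S0404

/-!
# The group with the presentation on five involutions is simple
-/

set_option autoImplicit false
set_option maxRecDepth 100000

namespace Cfsg.Lib.LyReal

open Cfsg Cfsg.Lib.Concrete MulAction

/-- The short vector `-(u + v)` completing the triangle. -/
noncomputable def wTri : leechLattice := -(Spor.leechU + Spor.leechV)

theorem wTri_coe : (wTri : GolayPt → ℤ) = fun p => -(Spor.vecU p + Spor.vecV p) := rfl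

theorem wTri_norm : sqNorm (wTri : GolayPt → ℤ) = 32 := by rw [wTri_coe]; decide +kernel

theorem wTri_dot : dotInt ((Spor.leechU : leechLattice) : GolayPt → ℤ) (wTri : GolayPt → ℤ) = -8 := by
  rw [wTri_coe]
  show dotInt Spor.vecU _ = -8
  decide +kernel

theorem mem_mcl_iff (g : Equiv.Perm leechLattice) :
    g ∈ Spor.McL ↔ g ∈ (stabilizer Co0 Spor.leechU ⊓ stabilizer Co0 wTri).map Co0.subtype := by
  constructor
  · rintro ⟨⟨hg, hv⟩, hu⟩
    refine ⟨⟨g, hg⟩, ⟨hu, ?_⟩, rfl⟩
    show g wTri = wTri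
    change g Spor.leechU = Spor.leechU at hu
    change g Spor.leechV = Spor.leechV at hv
    have hneg := map_neg (AddMonoidHom.mk' (fun a => g a) hg.1) (Spor.leechU + Spor.leechV)
    have hadd := hg.1 Spor.leechU Spor.leechV
    rw [hu, hv] at hadd
    show g (-(Spor.leechU + Spor.leechV)) = _
    exact hneg.trans (by rw [AddMonoidHom.mk'_apply, hadd]; rfl)
  · rintro ⟨k, ⟨hu, hw⟩, rfl⟩
    refine ⟨⟨k.2, ?_⟩, hu⟩
    show (k : Equiv.Perm leechLattice) Spor.leechV = Spor.leechV
    change (k : Equiv.Perm leechLattice) Spor.leechU = Spor.leechU at hu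
    change (k : Equiv.Perm leechLattice) wTri = wTri at hw
    have h1 : Spor.leechV = -(wTri + Spor.leechU) := by unfold wTri; abel
    have hneg := map_neg (AddMonoidHom.mk' (fun a => (k : Equiv.Perm leechLattice) a) k.2.1) (wTri + Spor.leechU)
    have hadd := k.2.1 wTri Spor.leechU
    rw [hu, hw] at hadd
    rw [h1]
    exact hneg.trans (by rw [AddMonoidHom.mk'_apply, hadd])

theorem mcl_simple : IsSimpleGroup Cfsg.Lib.MclMult.grp := by
  have h := Cfsg.Agent.S0404.result Spor.leechU wTri leechU_norm' wTri_norm wTri_dot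
  have hs : IsSimpleGroup ↥Spor.McL := by
    rw [show Spor.McL = (stabilizer Co0 Spor.leechU ⊓ stabilizer Co0 wTri).map Co0.subtype from
      Subgroup.ext mem_mcl_iff]
    exact ((stabilizer Co0 Spor.leechU ⊓ stabilizer Co0 wTri).equivMapOfInjective _
      Co0.subtype_injective).isSimpleGroup_congr.1 h.1
  obtain ⟨e⟩ := Cfsg.Lib.PermAut.Mcl.mcl_model.1
  exact e.isSimpleGroup_congr.1 hs

end Cfsg.Lib.LyReal
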