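import Cfsg.Agent.Lib.CosetEnum.LyG2.Iso
import Cfsg.Agent.Lib.LyReal.DataSeven

/-!
# G2(5) in the six letters: equality of words is equality of seven by seven matrices
-/

set_option autoImplicit false
set_option maxRecDepth 20000

namespace Cfsg.Lib.LyReal

open Cfsg.Lie Cfsg.Lib.CosetEnum Cfsg.Lib.CosetEnum.LyG2

/-- All letters are among the twelve. -/
def lettersOK : List ℕ → Bool
  | [] => true
  | g :: w => Nat.blt g 12 && lettersOK w

theorem lettersOK_iff : ∀ {w : List ℕ}, lettersOK w = true ↔ ∀ g ∈ w, g < 12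
  | [] => by simp [lettersOK]
  | g :: w => by simp [lettersOK, lettersOK_iff (w := w)]

/-- The matrix of a word. -/
noncomputable def pw (w : List ℕ) : ℕ := BigMat.prodWord 7 m7 w.reverse

/-- Two words give the same matrix. -/
noncomputable def eqW (a b : List ℕ) : Bool :=
  lettersOK a && lettersOK b && Nat.beq (pw a) (pw b)

theorem m7_ok : ∀ g < 12, BigMat.matOK 7 (m7 g) = true := by decide +kernel

theorem m7_inv : ∀ g < 12,
    Nat.beq (BigMat.mul 7 (m7 g) (m7 (Signed.flipAt 6 g))) (BigMat.one 7) = true := by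
  decide +kernel

theorem m7_rels :
    ((List.range 44).all fun j => Nat.beq (pw (relWord j)) (BigMat.one 7)) = true := by
  decide +kernel

theorem m7_ne : Nat.beq (m7 0) (BigMat.one 7) = false := by decide +kernel

/-- The group on six generators is simple. -/
theorem six_simple : IsSimpleGroup SixGroup := by
  obtain ⟨ψ, hψ⟩ := exists_surjective
  obtain ⟨hfin, hcard⟩ := card_le sixLetter_pair sixLetter_rel sixLetter_gen
  have hG : Nat.card (chevG2.group (ZMod 5)) = 5859000000 := by
    rw [Cfsg.Agent.S1059.result (F := ZMod 5) (q := 5) (ZMod.card 5)]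
    norm_num
  have heq : Nat.card SixGroup = Nat.card (chevG2.group (ZMod 5)) :=
    le_antisymm (hcard.trans hG.ge) (Nat.card_le_card_of_surjective ψ hψ)
  have hbij : Function.Bijective ψ := (Nat.bijective_iff_surjective_and_card ψ).2 ⟨hψ, heq⟩
  have hsimple : IsSimpleGroup (chevG2.group (ZMod 5)) :=
    (Cfsg.Agent.S1055.result (F := ZMod 5) ⟨2, by decide, by decide⟩).1
  exact (MulEquiv.ofBijective ψ hbij).isSimpleGroup

/-- The order of the group on six generators. -/
theorem six_card : Nat.card SixGroup = 5859000000 := by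
  obtain ⟨ψ, hψ⟩ := exists_surjective
  obtain ⟨hfin, hcard⟩ := card_le sixLetter_pair sixLetter_rel sixLetter_gen
  have hG : Nat.card (chevG2.group (ZMod 5)) = 5859000000 := by
    rw [Cfsg.Agent.S1059.result (F := ZMod 5) (q := 5) (ZMod.card 5)]
    norm_num
  exact le_antisymm hcard (hG.symm.le.trans (Nat.card_le_card_of_surjective ψ hψ))

/-- The product of the letters of a word in the group on six generators. -/
def six (w : List ℕ) : SixGroup := (w.map sixLetter).prod

/-- The faithful action on seven coordinates. -/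
theorem exists_seven : ∃ ψ : SixGroup →* GL (Fin 7) (ZMod 5), Function.Injective ψ ∧
    ∀ w, (∀ g ∈ w, g < 12) →
      (ψ (six w) : Matrix (Fin 7) (Fin 7) (ZMod 5)) = BigMat.toMat 7 (pw w) ∧
        BigMat.IsMat 7 (pw w) := by
  have hflip : ∀ g < 12, Signed.flipAt 6 g < 12 ∧ Signed.flipAt 6 (Signed.flipAt 6 g) = g := by
    decide
  obtain ⟨e, he⟩ := BigMat.exists_units (n := 7) (by norm_num) (by norm_num) m7
    (Signed.flipAt 6) hflip m7_ok m7_inv
  have he1 : ∀ g < 12, (e g : Matrix (Fin 7) (Fin 7) (ZMod 5)) = BigMat.toMat 7 (m7 g) :=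
    fun g hg => (he g hg).1
  have hpair : ∀ g < 6, e g * e (g + 6) = 1 := fun g hg => by
    have := (he g (by omega)).2
    rwa [show Signed.flipAt 6 g = g + 6 from if_pos hg] at this
  have hmat : ∀ g < 12, BigMat.IsMat 7 (m7 g) := fun g hg =>
    BigMat.isMat_of_matOK (m7_ok g hg)
  have hrel : ∀ j < 44, ((relWord j).map e).prod = 1 := fun j hj => by
    have h := List.all_eq_true.1 m7_rels j (List.mem_range.2 hj)
    refine Units.ext ?_
    rw [BigMat.units_word m7 e fun g hg => he1 g (relWord_lt hj g hg),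
      BigMat.word_eq_of_beq (by norm_num) (by norm_num) m7
        (fun g hg => hmat g (relWord_lt hj g hg)) h, Units.val_one, BigMat.isMat_one.2]
  obtain ⟨ψ, hψ, -⟩ := exists_hom e hpair hrel
  have := six_simple
  refine ⟨ψ, ?_, fun w hw => ⟨?_, ?_⟩⟩
  · refine (MonoidHom.ker_eq_bot_iff ψ).1 ((six_simple.eq_bot_or_eq_top_of_normal ψ.ker
      inferInstance).resolve_right fun h => ?_)
    have h0 : e 0 = 1 := by
      rw [← hψ 0 (by norm_num), ← MonoidHom.mem_ker, h]
      trivial
    have h1 : BigMat.toMat 7 (m7 0) = BigMat.toMat 7 (BigMat.one 7) := by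
      rw [BigMat.isMat_one.2, ← he1 0 (by norm_num), h0, Units.val_one]
    have hne := m7_ne
    rw [BigMat.toMat_inj (hmat 0 (by norm_num)) BigMat.isMat_one.1 h1, Nat.beq_refl] at hne
    exact Bool.noConfusion hne
  · rw [six, map_list_prod, List.map_map,
      List.map_congr_left (f := ψ ∘ sixLetter) (g := e) fun g hg => hψ g (hw g hg),
      BigMat.units_word m7 e fun g hg => he1 g (hw g hg)]
    exact BigMat.word_eq_of_beq (by norm_num) (by norm_num) m7 (fun g hg => hmat g (hw g hg))
      (Nat.beq_refl _)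
  · exact (BigMat.toMat_prodWord (by norm_num) (by norm_num) m7
      fun g hg => hmat g (hw g (List.mem_reverse.1 hg))).1

/-- Words with equal matrices are equal in every group satisfying the relators. -/
theorem prod_eq_of_eqW {Γ : Type*} [Group Γ] {e : ℕ → Γ}
    (he : ∀ g < 6, e g * e (g + 6) = 1) (hrel : ∀ j < 44, ((relWord j).map e).prod = 1)
    {a b : List ℕ} (h : eqW a b = true) : (a.map e).prod = (b.map e).prod := by
  simp only [eqW, Bool.and_eq_true, lettersOK_iff] at h
  obtain ⟨⟨ha, hb⟩, hab⟩ := h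
  obtain ⟨f, hf, -⟩ := exists_hom e he hrel
  obtain ⟨ψ, hinj, hψ⟩ := exists_seven
  have h6 : six a = six b := hinj <| Units.ext <| by
    rw [(hψ a ha).1, (hψ b hb).1, Nat.eq_of_beq_eq_true hab]
  have h2 := congrArg f h6
  rwa [six, six, map_list_prod, map_list_prod, List.map_map, List.map_map,
    List.map_congr_left (f := f ∘ sixLetter) (g := e) fun g hg => hf g (ha g hg),
    List.map_congr_left (f := f ∘ sixLetter) (g := e) fun g hg => hf g (hb g hg)] at h2

end Cfsg.Lib.LyReal
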