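import Cfsg.Agent.Lib.LyReal.ClosureDefs
import Cfsg.Agent.Lib.LyReal.DataMove55
import Cfsg.Agent.Lib.LyReal.DataMove56
import Cfsg.Agent.Lib.LyReal.DataMove57
import Cfsg.Agent.Lib.LyReal.DataMove58
import Cfsg.Agent.Lib.LyReal.DataMove59

/-!
# Translates of five records
-/

set_option autoImplicit false
set_option maxRecDepth 100000

namespace Cfsg.Lib.LyReal

theorem move55_ok : moveOK 55 moveT55 = true := by decide +kernel

theorem move56_ok : moveOK 56 moveT56 = true := by decide +kernel

theorem move57_ok : moveOK 57 moveT57 = true := by decide +kernel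

theorem move58_ok : moveOK 58 moveT58 = true := by decide +kernel

theorem move59_ok : moveOK 59 moveT59 = true := by decide +kernel

end Cfsg.Lib.LyReal
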