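import Cfsg.Agent.Lib.LyReal.Presented
import Cfsg.Agent.S2100

/-!
# Central extensions of the presented Lyons group: the subgroup G2(5) lifts, the data lifts
-/

set_option autoImplicit false
set_option maxRecDepth 100000

open scoped commutatorElement IsMulCommutative

namespace Cfsg.Lib.LyReal

open Cfsg.Spor Cfsg.Lie Cfsg.Lib.CosetEnum Cfsg.Lib.CosetEnum.LyG2

/-- A subgroup mapping onto the quotient of a stem extension is everything. -/
theorem stem_sub_top {E G : Type*} [Group E] [Group G] {σ : E →* G} (hst : IsStemExtension σ)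
    (T : Subgroup E) (hT : ∀ g, ∃ t ∈ T, σ t = g) : T = ⊤ := by
  have hdec : ∀ x : E, ∃ t ∈ T, ∃ n, σ n = 1 ∧ x = t * n := by
    intro x
    obtain ⟨t, ht, hσ⟩ := hT (σ x)
    exact ⟨t, ht, t⁻¹ * x, by rw [map_mul, map_inv, hσ, inv_mul_cancel], by group⟩
  have hcen : ∀ n, σ n = 1 → ∀ y, y * n = n * y := fun n hn =>
    Subgroup.mem_center_iff.1 (hst.2.1 (MonoidHom.mem_ker.2 hn))
  have hcomm : commutator E ≤ T := by
    rw [_root_.commutator_def, Subgroup.commutator_le]
    intro x _ y _
    obtain ⟨a, ha, n, hn, rfl⟩ := hdec x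
    obtain ⟨b, hb, m, hm, rfl⟩ := hdec y
    have : ⁅a * n, b * m⁆ = ⁅a, b⁆ := by
      simp only [commutatorElement_def, mul_inv_rev]
      calc a * n * (b * m) * (n⁻¹ * a⁻¹) * (m⁻¹ * b⁻¹)
          = a * (n * (b * m)) * n⁻¹ * a⁻¹ * m⁻¹ * b⁻¹ := by group
        _ = a * ((b * m) * n) * n⁻¹ * a⁻¹ * m⁻¹ * b⁻¹ := by rw [hcen n hn]
        _ = a * b * (m * a⁻¹) * m⁻¹ * b⁻¹ := by group
        _ = a * b * (a⁻¹ * m) * m⁻¹ * b⁻¹ := by rw [hcen m hm]
        _ = a * b * a⁻¹ * b⁻¹ := by group
    rw [this, commutatorElement_def]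
    exact mul_mem (mul_mem (mul_mem ha hb) (inv_mem ha)) (inv_mem hb)
  rw [eq_top_iff]
  intro x _
  obtain ⟨a, ha, n, hn, rfl⟩ := hdec x
  exact mul_mem ha (hcomm (hst.2.2 (MonoidHom.mem_ker.2 hn)))

/-- The subgroup of the letters is perfect. -/
theorem abcd_perfect : ⁅abcd, abcd⁆ = abcd := by
  have := six_simple
  have h : commutator SixGroup = ⊤ := by
    refine ((Subgroup.commutator_normal _ _).eq_bot_or_eq_top).resolve_left fun hbot => ?_
    have hc : ∀ a b : SixGroup, a * b = b * a := fun a b => by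
      have hm : ⁅a, b⁆ ∈ ⁅(⊤ : Subgroup SixGroup), (⊤ : Subgroup SixGroup)⁆ :=
        Subgroup.commutator_mem_commutator trivial trivial
      rw [hbot, Subgroup.mem_bot, commutatorElement_eq_one_iff_mul_comm] at hm
      exact hm
    let _ : CommGroup SixGroup := { (inferInstance : Group SixGroup) with mul_comm := hc }
    have hp := IsSimpleGroup.prime_card (α := SixGroup)
    rw [six_card] at hp
    norm_num at hp
  have h2 := congrArg (Subgroup.map lySys.hom) h
  rw [_root_.commutator_def, Subgroup.map_commutator, ← MonoidHom.range_eq_map, lySys.hom_range,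
    lySys_H] at h2
  exact h2

theorem lyLetter_mem {g : ℕ} (hg : g < 12) : lyLetter g ∈ abcd :=
  lySys_H ▸ lySys.e_mem hg

theorem segs_ok : ∀ k < 6, ∀ s ∈ getL [] segsT k, lettersOK s = true := by decide +kernel

section Ext

variable {E : Type} [Group E] [Finite E] {σ : E →* Ly}

/-- The derived group of the preimage of G2(5). -/
def Dsub (σ : E →* Ly) : Subgroup E := ⁅abcd.comap σ, abcd.comap σ⁆

variable (hst : IsStemExtension σ)

include hst in
theorem map_Dsub : (Dsub σ).map σ = abcd := by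
  rw [Dsub, Subgroup.map_commutator, Subgroup.map_comap_eq_self_of_surjective hst.1, abcd_perfect]

include hst in
theorem exists_Dsub {g : Ly} (hg : g ∈ abcd) : ∃ x ∈ Dsub σ, σ x = g := by
  rw [← map_Dsub hst] at hg
  exact hg

include hst in
theorem perfect_Dsub : Dsub σ ≤ ⁅Dsub σ, Dsub σ⁆ := by
  refine Subgroup.commutator_le.2 fun x hx y hy => ?_
  obtain ⟨a, ha, hax⟩ := exists_Dsub hst (Subgroup.mem_comap.1 hx)
  obtain ⟨b, hb, hby⟩ := exists_Dsub hst (Subgroup.mem_comap.1 hy)
  have key : ∀ c d : E, σ c = σ d → ∃ n, (∀ u, u * n = n * u) ∧ d = c * n := fun c d h =>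
    ⟨c⁻¹ * d, Subgroup.mem_center_iff.1
      (hst.2.1 (MonoidHom.mem_ker.2 (by rw [map_mul, map_inv, h, inv_mul_cancel]))), by group⟩
  obtain ⟨n, hn, rfl⟩ := key a x hax
  obtain ⟨m, hm, rfl⟩ := key b y hby
  have : ⁅a * n, b * m⁆ = ⁅a, b⁆ := by
    simp only [commutatorElement_def, mul_inv_rev]
    calc a * n * (b * m) * (n⁻¹ * a⁻¹) * (m⁻¹ * b⁻¹)
        = a * (n * (b * m)) * n⁻¹ * a⁻¹ * m⁻¹ * b⁻¹ := by group
      _ = a * ((b * m) * n) * n⁻¹ * a⁻¹ * m⁻¹ * b⁻¹ := by rw [hn]
      _ = a * b * (m * a⁻¹) * m⁻¹ * b⁻¹ := by group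
      _ = a * b * (a⁻¹ * m) * m⁻¹ * b⁻¹ := by rw [hm]
      _ = a * b * a⁻¹ * b⁻¹ := by group
  rw [this]
  exact Subgroup.commutator_mem_commutator ha hb

include hst in
/-- The derived group meets the kernel trivially, G2(5) having trivial multiplier. -/
theorem Dsub_exact : ∀ x ∈ Dsub σ, σ x = 1 → x = 1 := by
  set D := Dsub σ
  let τ : D →* abcd := (σ.comp D.subtype).codRestrict abcd fun x => by
    rw [← map_Dsub hst]; exact ⟨x.1, x.2, rfl⟩
  obtain ⟨e⟩ := abcd_iso
  let τ' : D →* chevG2.group (ZMod 5) := e.toMonoidHom.comp τ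
  have hsurj : Function.Surjective τ' := e.surjective.comp fun g => by
    obtain ⟨x, hx, hxg⟩ := exists_Dsub hst g.2
    exact ⟨⟨x, hx⟩, Subtype.ext hxg⟩
  have hker : ∀ x : D, x ∈ τ'.ker → σ x.1 = 1 := fun x hx => by
    have h : τ x = 1 := e.injective (by rw [map_one]; exact hx)
    exact congrArg Subtype.val h
  have hperf : commutator D = ⊤ := by
    refine Subgroup.map_injective D.subtype_injective ?_
    rw [Subgroup.map_subtype_commutator, ← MonoidHom.range_eq_map, Subgroup.range_subtype]
    exact le_antisymm (Subgroup.commutator_le.2 fun x hx y hy =>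
      mul_mem (mul_mem (mul_mem hx hy) (inv_mem hx)) (inv_mem hy)) (perfect_Dsub hst)
  have hτ : IsStemExtension τ' := by
    refine ⟨hsurj, fun x hx => Subgroup.mem_center_iff.2 fun y => Subtype.ext ?_,
      hperf ▸ le_top⟩
    exact Subgroup.mem_center_iff.1 (hst.2.1 (MonoidHom.mem_ker.2 (hker x hx))) y.1
  obtain ⟨π, hπ⟩ := (Cfsg.Agent.S2100.result (F := ZMod 5) (by simp)).2 D τ' hτ
  have : Subsingleton τ'.ker := hπ.subsingleton
  intro x hx h1
  have hmem : (⟨x, hx⟩ : D) ∈ τ'.ker := by
    have : τ ⟨x, hx⟩ = 1 := Subtype.ext h1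
    simp [τ', this]
  have := Subsingleton.elim (⟨⟨x, hx⟩, hmem⟩ : τ'.ker) 1
  exact congrArg (fun q : τ'.ker => (q : D).1) this

end Ext

theorem segVal_map {A B : Type*} [Group A] [Group B] (f : A →* B) (e : ℕ → A) (z : A)
    (e' : ℕ → B) : ∀ l : List (List ℕ), (∀ s ∈ l, ∀ g ∈ s, f (e g) = e' g) →
      f (segVal e z l) = segVal e' (f z) l
  | [], _ => by simp [segVal]
  | [s], h => by
    rw [segVal, segVal, map_list_prod, List.map_map]
    exact congrArg List.prod (List.map_congr_left fun g hg => h s (by simp) g hg)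
  | s :: t :: r, h => by
    rw [segVal, segVal, map_mul, map_mul,
      segVal_map f e z e' (t :: r) fun u hu => h u (List.mem_cons_of_mem _ hu), map_list_prod,
      List.map_map]
    exact congrArg (fun q => List.prod q * _) (List.map_congr_left fun g hg => h s (by simp) g hg)

theorem segVal_mul_central {A : Type*} [Group A] (e : ℕ → A) (z c : A) (hc : ∀ x, x * c = c * x) :
    ∀ l : List (List ℕ), segVal e (z * c) l = c ^ (l.length - 1) * segVal e z l
  | [] => by simp [segVal]
  | [s] => by simp [segVal]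
  | s :: t :: r => by
    rw [segVal, segVal, segVal_mul_central e z c hc (t :: r)]
    simp only [List.length_cons, Nat.add_sub_cancel]
    rw [pow_succ']
    have hp : ∀ x, x * c ^ r.length = c ^ r.length * x := fun x =>
      (Commute.pow_right (hc x) _).eq
    calc (s.map e).prod * (z * c * (c ^ r.length * segVal e z (t :: r)))
        = (s.map e).prod * (z * (c * c ^ r.length)) * segVal e z (t :: r) := by group
      _ = (s.map e).prod * (c * c ^ r.length * z) * segVal e z (t :: r) := by
        rw [← mul_assoc z c, hc z, mul_assoc c z, hp z, ← mul_assoc c]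
      _ = (s.map e).prod * (c * c ^ r.length) * (z * segVal e z (t :: r)) := by group
      _ = c * c ^ r.length * ((s.map e).prod * (z * segVal e z (t :: r))) := by
        rw [← mul_assoc ((s.map e).prod) c, hc, mul_assoc c, hp, ← mul_assoc c, mul_assoc]

/-- A stem extension carries the data with all parameters in the kernel, normalised. -/
theorem exists_sys {E : Type} [Group E] [Finite E] {σ : E →* Ly} (hst : IsStemExtension σ) :
    ∃ S : Sys E, (∀ a, S.ev a ∈ S.H → S.ev a = 1) ∧ S.ev normVec = 1 ∧ S.H ≤ Dsub σ ∧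
      Subgroup.closure ((S.H : Set E) ∪ {S.z}) = ⊤ := by
  classical
  choose lift hliftD hlift using fun g : {g // g < 12} => exists_Dsub hst (lyLetter_mem g.2)
  let e : ℕ → E := fun g => if h : g < 12 then lift ⟨g, h⟩ else 1
  have heD : ∀ g, e g ∈ Dsub σ := fun g => by
    by_cases h : g < 12
    · simp only [e, dif_pos h]; exact hliftD _
    · simp only [e, dif_neg h]; exact one_mem _
  have heσ : ∀ g < 12, σ (e g) = lyLetter g := fun g h => by
    simp only [e, dif_pos h]; exact hlift _
  have hVD : ∀ w : List ℕ, (w.map e).prod ∈ Dsub σ := fun w =>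
    Subgroup.list_prod_mem _ fun a ha => by
      obtain ⟨g, -, rfl⟩ := List.mem_map.1 ha
      exact heD g
  have hVσ : ∀ w, lettersOK w = true → σ (w.map e).prod = val w := fun w hw => by
    rw [val, map_list_prod, List.map_map]
    exact congrArg List.prod (List.map_congr_left fun g hg => heσ g (lettersOK_iff.1 hw g hg))
  have hex := Dsub_exact hst
  obtain ⟨z0, hz0⟩ := hst.1 (mk Ly.z)
  have hseg : ∀ z, σ z = mk Ly.z → ∀ k < 6, σ (segVal e z (getL [] segsT k)) = 1 := by
    intro z hz k hk
    rw [segVal_map σ e z lyLetter _ fun s hs g hg =>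
      heσ g (lettersOK_iff.1 (segs_ok k hk s hs) g hg), hz]
    exact rels_items k hk
  set r0 := segVal e z0 (getL [] segsT 0) with hr0
  set r1 := segVal e z0 (getL [] segsT 1) with hr1
  set c := r0 * r1⁻¹ with hcdef
  have hσc : σ c = 1 := by
    rw [hcdef, map_mul, map_inv, hseg z0 hz0 0 (by norm_num), hseg z0 hz0 1 (by norm_num),
      inv_one, mul_one]
  have hcc : ∀ x, x * c = c * x := Subgroup.mem_center_iff.1 (hst.2.1 (MonoidHom.mem_ker.2 hσc))
  set z := z0 * c with hzdef
  have hz : σ z = mk Ly.z := by rw [hzdef, map_mul, hσc, mul_one, hz0]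
  have h01 : segVal e z (getL [] segsT 1) = segVal e z (getL [] segsT 0) := by
    rw [hzdef, segVal_mul_central e z0 c hcc, segVal_mul_central e z0 c hcc, ← hr0, ← hr1,
      show (getL [] segsT 1).length - 1 = 3 from rfl, show (getL [] segsT 0).length - 1 = 2 from rfl,
      pow_succ, mul_assoc, show c * r1 = r0 by rw [hcdef, mul_assoc, inv_mul_cancel, mul_one]]
  let rC : ℕ → Subgroup.center E := fun k => if h : k < 6 then
    ⟨segVal e z (getL [] segsT k), hst.2.1 (MonoidHom.mem_ker.2 (hseg z hz k h))⟩ else 1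
  let d : ℕ → E := fun i =>
    ((getL [] ci6 i).map e).prod⁻¹ * (z⁻¹ * ((getL [] c6 i).map e).prod * z)
  have hd : ∀ i < 8, σ (d i) = 1 := fun i hi => by
    simp only [d, map_mul, map_inv, hz, hVσ _ (Sys.seeds_ok.1 i hi).1, hVσ _ (Sys.seeds_ok.1 i hi).2,
      conj_ok i hi, inv_mul_cancel]
  let η : ℕ → Subgroup.center E := fun i => if h : i < 8 then
    ⟨d i, hst.2.1 (MonoidHom.mem_ker.2 (hd i h))⟩
    else if i = 8 then rC 0 else rC (i - 8) * rC 0 ^ (-getL 0 ninvT (i - 8))
  have hK : ∀ i < 14, σ (η i : E) = 1 := by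
    have hr : ∀ k, σ (rC k : E) = 1 := fun k => by
      simp only [rC]
      split_ifs with h
      · exact hseg z hz k h
      · exact map_one σ
    intro i _
    simp only [η]
    split_ifs with h h8
    · exact hd i h
    · exact hr 0
    · rw [Subgroup.coe_mul, Subgroup.coe_zpow, map_mul, map_zpow, hr, hr, one_zpow, one_mul]
  have hrel : ∀ k < 6, segVal e z (getL [] segsT k) =
      ((∏ i ∈ Finset.range 14, η i ^ getL 0 (revec k) i : Subgroup.center E) : E) := by
    intro k hk
    have hsingle : ∀ (j : ℕ) (a : ℤ), j < 14 →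
        (∏ i ∈ Finset.range 14, η i ^ (if i = j then a else 0)) = η j ^ a := fun j a hj => by
      rw [Finset.prod_eq_single j]
      · rw [if_pos rfl]
      · intro i _ hij; rw [if_neg hij, zpow_zero]
      · intro h; exact absurd (Finset.mem_range.2 hj) h
    have h8 : η 8 = rC 0 := by simp [η]
    rcases k with - | k
    · have hv : ∏ i ∈ Finset.range 14, η i ^ getL 0 (revec 0) i = η 8 ^ (1 : ℤ) := by
        rw [← hsingle 8 1 (by norm_num)]
        refine Finset.prod_congr rfl fun i hi => ?_
        rw [revec, vunit, getL_map_range _ _ (Finset.mem_range.1 hi)]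
      rw [hv, zpow_one, h8]
      simp [rC]
    · have hv : ∏ i ∈ Finset.range 14, η i ^ getL 0 (revec (k + 1)) i =
          η (9 + k) ^ (1 : ℤ) * η 8 ^ getL 0 ninvT (k + 1) := by
        rw [← hsingle (9 + k) 1 (by omega), ← hsingle 8 (getL 0 ninvT (k + 1)) (by norm_num),
          ← Finset.prod_mul_distrib]
        refine Finset.prod_congr rfl fun i hi => ?_
        rw [revec, getL_map_range _ _ (Finset.mem_range.1 hi), zpow_add]
      have h9 : η (9 + k) = rC (k + 1) * rC 0 ^ (-getL 0 ninvT (k + 1)) := by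
        simp only [η]
        rw [dif_neg (by omega), if_neg (by omega), show 9 + k - 8 = k + 1 by omega]
      rw [hv, zpow_one, h9, h8, mul_assoc, ← zpow_add, neg_add_cancel, zpow_zero, mul_one]
      simp [rC, hk]
  let S : Sys E :=
    { e := e
      pair := fun g hg => hex _ (mul_mem (heD _) (heD _)) (by
        rw [map_mul, heσ g (by omega), heσ (g + 6) (by omega), lyLetter_pair g hg])
      rels := fun j hj => hex _ (hVD _) (by
        rw [hVσ _ (lettersOK_iff.2 (relWord_lt hj))]
        exact lyLetter_rel j hj)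
      z := z
      η := η
      conj := fun i hi => by
        simp only [η, dif_pos hi, d]
        group
      relZ := hrel }
  have hHD : S.H ≤ Dsub σ := by
    rw [Sys.H, Subgroup.closure_le]
    rintro _ ⟨g, -, rfl⟩
    exact heD g
  refine ⟨S, fun a ha => hex _ (hHD ha) ?_, ?_, hHD, ?_⟩
  · let K : Subgroup (Subgroup.center E) := σ.ker.comap (Subgroup.center E).subtype
    have : S.evC a ∈ K := Subgroup.prod_mem _ fun i hi =>
      zpow_mem (show η i ∈ K from MonoidHom.mem_ker.2 (hK i (Finset.mem_range.1 hi))) _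
    exact this
  · rw [normVec, S.ev_vsub, S.ev_vunit (by norm_num), S.ev_vunit (by norm_num)]
    show (η 9 : E) * (η 8 : E)⁻¹ = 1
    have h9 : η 9 = rC 1 := by simp [η, show getL 0 ninvT 1 = 0 from rfl]
    have h8 : η 8 = rC 0 := by simp [η]
    rw [h9, h8]
    simp [rC, h01]
  · refine stem_sub_top hst _ fun g => ?_
    have hg : g ∈ (Subgroup.closure ((S.H : Set E) ∪ {S.z})).map σ := by
      have htop : g ∈ Subgroup.closure ((lySys.H : Set Ly) ∪ {lySys.z}) := lySys_gen ▸ trivial
      refine (Subgroup.closure_le _).2 ?_ htop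
      rintro x (hx | rfl)
      · have hle : lySys.H ≤ (Subgroup.closure ((S.H : Set E) ∪ {S.z})).map σ := by
          rw [Sys.H, Subgroup.closure_le]
          rintro _ ⟨i, hi, rfl⟩
          exact ⟨e i, Subgroup.subset_closure (Or.inl (Subgroup.subset_closure ⟨i, hi, rfl⟩)),
            heσ i (lt_of_lt_of_le hi (by norm_num))⟩
        exact hle hx
      · exact ⟨z, Subgroup.subset_closure (Or.inr rfl), hz⟩
    exact hg

end Cfsg.Lib.LyReal
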