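import Cfsg.Agent.Lib.LyReal.Order
import Cfsg.Agent.Lib.LyReal.MultCore

/-!
# The multiplier of the presented Lyons group is trivial
-/

set_option autoImplicit false

namespace Cfsg.Lib.LyReal

open Cfsg.Spor Cfsg.Lib.CosetEnum.LyG2

/-- A stem extension of the presented group is an isomorphism. -/
theorem stem_bijective {E : Type} [Group E] [Finite E] {σ : E →* Ly} (hst : IsStemExtension σ) :
    Function.Bijective σ := by
  have := finite_ly
  obtain ⟨S, hdis, hnorm, hHD, hgen⟩ := exists_sys hst
  have hη := S.eta_one hdis hnorm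
  obtain ⟨-, hidx⟩ := S.index_le hη hgen
  refine (Nat.bijective_iff_surjective_and_card σ).2
    ⟨hst.1, le_antisymm ?_ (Nat.card_le_card_of_surjective σ hst.1)⟩
  have hD : Nat.card (Dsub σ) ≤ Nat.card abcd := by
    refine Nat.card_le_card_of_injective
      (fun x => (⟨σ x.1, map_Dsub hst ▸ ⟨x.1, x.2, rfl⟩⟩ : abcd)) fun x y h => ?_
    have h' : σ x.1 = σ y.1 := congrArg Subtype.val h
    exact Subtype.ext (inv_mul_eq_one.1 (Dsub_exact hst _ (mul_mem (inv_mem x.2) y.2)
      (by rw [map_mul, map_inv, h', inv_mul_cancel])))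
  have hH : Nat.card S.H ≤ Nat.card abcd :=
    (Nat.card_le_card_of_injective _ (Subgroup.inclusion_injective hHD)).trans hD
  rw [← S.H.card_mul_index, order_index.1]
  refine (Nat.mul_le_mul hH hidx).trans ?_
  rw [card_abcd]

/-- The multiplier of the presented group is trivial. -/
theorem multiplier_ly : HasCyclicSchurMultiplier Ly 1 := by
  have := finite_ly
  refine ⟨⟨Ly, inferInstance, inferInstance, MonoidHom.id Ly, ⟨fun x => ⟨x, rfl⟩, ?_, ?_⟩, ?_⟩,
    fun E _ _ σ hst => ⟨1, fun x => ⟨1, ?_⟩⟩⟩
  · rw [MonoidHom.ker_id]; exact bot_le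
  · rw [MonoidHom.ker_id]; exact bot_le
  · refine ⟨?_⟩
    have : Subsingleton (MonoidHom.id Ly).ker := by rw [MonoidHom.ker_id]; infer_instance
    have : Subsingleton (Multiplicative (ZMod 1)) := inferInstance
    exact
      { toFun := fun _ => 1
        invFun := fun _ => 1
        left_inv := fun _ => Subsingleton.elim _ _
        right_inv := fun _ => Subsingleton.elim _ _
        map_mul' := fun _ _ => by simp }
  · rw [MonoidHom.one_apply]
    exact Subtype.ext ((stem_bijective hst).1 (by
      rw [Subgroup.coe_one, map_one]; exact (MonoidHom.mem_ker.1 x.2).symm))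

end Cfsg.Lib.LyReal
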