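import Cfsg.Agent.Lib.LyReal.Rep

/-!
# Orbits of vectors give divisors of the group order
-/

set_option autoImplicit false
set_option maxRecDepth 20000
set_option maxHeartbeats 400000

namespace Cfsg.Lib.LyReal

open Cfsg.Spor Cfsg.Lib.CosetEnum

theorem closedOK_spec {V nxt R : Tab} {size : ℕ} : ∀ {n i : ℕ},
    closedOK V nxt R size n i = true → ∀ k, i ≤ k → k < i + n →
      nxt.get k < size ∧ vm (V.get k) R = V.get (nxt.get k)
  | 0, i, _, k, h1, h2 => by omega
  | n + 1, i, h, k, h1, h2 => by
    simp only [closedOK, CosetEnum.force_eq, Bool.and_eq_true, Nat.blt_eq, Nat.beq_eq] at h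
    rcases eq_or_lt_of_le h1 with rfl | hlt
    · exact h.1
    · exact closedOK_spec h.2 k (by omega) (by omega)

theorem reachOK_spec {par : Tab} {nx : List Tab} : ∀ {n i : ℕ}, reachOK par nx n i = true →
    ∀ k, i ≤ k → k < i + n → k = 0 ∨ (par.get k / 16 < k ∧ par.get k % 16 < nx.length ∧
      (nx.getD (par.get k % 16) (.leaf 0)).get (par.get k / 16) = k)
  | 0, i, _, k, h1, h2 => by omega
  | n + 1, i, h, k, h1, h2 => by
    simp only [reachOK, CosetEnum.force_eq, Bool.and_eq_true, Bool.or_eq_true, Nat.blt_eq,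
      Nat.beq_eq] at h
    rcases eq_or_lt_of_le h1 with rfl | hlt
    · rcases h.1 with h0 | ⟨⟨ha, hb⟩, hc⟩
      · exact Or.inl h0
      · exact Or.inr ⟨ha, hb, hc⟩
    · exact reachOK_spec h.2 k (by omega) (by omega)

theorem incOK_spec {V o : Tab} {size : ℕ} : ∀ {n i : ℕ}, incOK V o size n i = true →
    ∀ k, i ≤ k → k < i + n → o.get k < size ∧ V.get (o.get k) < V.get (o.get (k + 1))
  | 0, i, _, k, h1, h2 => by omega
  | n + 1, i, h, k, h1, h2 => by
    simp only [incOK, CosetEnum.force_eq, Bool.and_eq_true, Nat.blt_eq] at h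
    rcases eq_or_lt_of_le h1 with rfl | hlt
    · exact h.1
    · exact incOK_spec h.2 k (by omega) (by omega)

/-- The vector of a packed number. -/
def mkVec (v : ℕ) : RVec 111 := ⟨toVec v⟩

/-- The inverse of a word moves a vector by its matrix. -/
theorem inv_smul_vec {w : List ℕ} {M : ℕ} {R : Tab} {v : ℕ} (hv : IsVec v)
    (hw : ((w.all fun l => Nat.blt l 20) &&
      Nat.beq (BigMat.prodWord 111 LyRep.letterMat w.reverse) M) = true)
    (hR : rowsOK M R = true) :
    IsVec (vm v R) ∧ (val20 w)⁻¹ • mkVec v = mkVec (vm v R) := by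
  obtain ⟨hM, hρ⟩ := rho_word hw
  obtain ⟨h1, h2⟩ := vm_spec hv hM hR
  refine ⟨h1, ?_⟩
  ext1
  rw [smul_row, map_inv, inv_inv, hρ]
  exact h2.symm

/-- Orbits of subgroups are closed under their elements. -/
theorem orbit_smul_mem {G α : Type*} [Group G] [MulAction G α] (L : Subgroup G) {g : G} {x y : α}
    (hg : g ∈ L) (hy : y ∈ MulAction.orbit L x) : g • y ∈ MulAction.orbit L x := by
  obtain ⟨l, rfl⟩ := hy
  exact ⟨⟨g, hg⟩ * l, mul_smul g (l : G) x⟩

/-- A finite family moved into itself by the inverses of the generators contains the orbit. -/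
theorem orbit_subset_range {G α ι : Type*} [Group G] [MulAction G α] [Finite ι] (f : ι → α)
    (gens : Set G) (hinv : ∀ g ∈ gens, ∀ i, ∃ j, g⁻¹ • f i = f j) (i0 : ι) :
    MulAction.orbit (Subgroup.closure gens) (f i0) ⊆ Set.range f := by
  have : Finite (Set.range f) := Finite.Set.finite_range f
  have key : ∀ l ∈ Subgroup.closure gens,
      (∀ x ∈ Set.range f, l • x ∈ Set.range f) ∧ ∀ x ∈ Set.range f, l⁻¹ • x ∈ Set.range f := by
    intro l hl
    induction hl using Subgroup.closure_induction with
    | mem a ha =>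
      have h1 : ∀ x ∈ Set.range f, a⁻¹ • x ∈ Set.range f := by
        rintro _ ⟨i, rfl⟩
        obtain ⟨j, hj⟩ := hinv a ha i
        exact ⟨j, hj.symm⟩
      refine ⟨fun x hx => ?_, h1⟩
      have hi : Function.Injective (fun y : Set.range f => (⟨a⁻¹ • y.1, h1 y.1 y.2⟩ : Set.range f)) :=
        fun u v h => Subtype.ext (MulAction.injective _ (congrArg Subtype.val h))
      obtain ⟨y, hy⟩ := Finite.injective_iff_surjective.1 hi ⟨x, hx⟩
      have hyv : a⁻¹ • y.1 = x := congrArg Subtype.val hy
      rw [← hyv, smul_inv_smul]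
      exact y.2
    | one => exact ⟨fun x hx => by simpa using hx, fun x hx => by simpa using hx⟩
    | mul a b _ _ iha ihb =>
      exact ⟨fun x hx => by rw [mul_smul]; exact iha.1 _ (ihb.1 x hx),
        fun x hx => by rw [mul_inv_rev, mul_smul]; exact ihb.2 _ (iha.2 x hx)⟩
    | inv a _ iha => exact ⟨iha.2, fun x hx => by rw [inv_inv]; exact iha.1 x hx⟩
  rintro _ ⟨l, rfl⟩
  exact (key l l.2).1 _ ⟨i0, rfl⟩

/-- A certified orbit. -/
theorem orbit_card {n : ℕ} {V par o : Tab} {words : List (List ℕ)} {Ms : ℕ → ℕ}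
    {Rs nx : ℕ → Tab} {nxl : List Tab} (hnx : ∀ g < words.length, nxl.getD g (.leaf 0) = nx g)
    (hlen : nxl.length = words.length)
    (hw : ∀ g < words.length, ((words.getD g []).all (fun l => Nat.blt l 20) &&
      Nat.beq (BigMat.prodWord 111 LyRep.letterMat (words.getD g []).reverse) (Ms g)) = true)
    (hR : ∀ g < words.length, rowsOK (Ms g) (Rs g) = true)
    (hcl : ∀ g < words.length, ∀ i < n,
      (nx g).get i < n ∧ vm (V.get i) (Rs g) = V.get ((nx g).get i))
    (h0 : vecOK (V.get 0) = true)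
    (hre : reachOK par nxl n 0 = true)
    (hinc : (incOK V o n (n - 1) 0 && Nat.blt (o.get (n - 1)) n) = true) :
    Nat.card (MulAction.orbit (Subgroup.closure {g | ∃ w ∈ words, g = val20 w})
      (mkVec (V.get 0))) = n := by
  classical
  set L := Subgroup.closure {g | ∃ w ∈ words, g = val20 w}
  simp only [Bool.and_eq_true, Nat.blt_eq] at hinc
  have hn : 0 < n := by omega
  have hgen : ∀ g < words.length, val20 (words.getD g []) ∈ L := fun g hg => by
    refine Subgroup.subset_closure ⟨_, ?_, rfl⟩
    rw [List.getD_eq_getElem _ _ hg]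
    exact List.getElem_mem hg
  have hmain : ∀ i < n, IsVec (V.get i) ∧
      mkVec (V.get i) ∈ MulAction.orbit L (mkVec (V.get 0)) := by
    intro i
    induction i using Nat.strong_induction_on with
    | _ i ih =>
      intro hi
      rcases reachOK_spec hre i (Nat.zero_le _) (by omega) with rfl | ⟨hp, hg, he⟩
      · exact ⟨isVec_of_vecOK h0, MulAction.mem_orbit_self _⟩
      · rw [hlen] at hg
        obtain ⟨hv, hmem⟩ := ih _ hp (by omega)
        obtain ⟨hv', hsm⟩ := inv_smul_vec hv (hw _ hg) (hR _ hg)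
        obtain ⟨-, hvm⟩ := hcl _ hg _ (show par.get i / 16 < n by omega)
        rw [hnx _ hg] at he
        rw [hvm, he] at hv' hsm
        refine ⟨hv', ?_⟩
        rw [← hsm]
        exact orbit_smul_mem _ (inv_mem (hgen _ hg)) hmem
  set X : Set (RVec 111) := Set.range fun i : Fin n => mkVec (V.get i)
  have hsub : MulAction.orbit L (mkVec (V.get 0)) ⊆ X := by
    refine orbit_subset_range (fun i : Fin n => mkVec (V.get i)) _ ?_ ⟨0, hn⟩
    rintro a ⟨w, hw', rfl⟩ i
    obtain ⟨g, hg, rfl⟩ := List.getElem_of_mem hw'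
    rw [← List.getD_eq_getElem _ [] hg]
    obtain ⟨hj, hvm⟩ := hcl g hg i i.2
    refine ⟨⟨_, hj⟩, ?_⟩
    show (val20 (words.getD g []))⁻¹ • mkVec (V.get i) = mkVec (V.get ((nx g).get i))
    rw [(inv_smul_vec (hmain i i.2).1 (hw g hg) (hR g hg)).2, hvm]
  have heq : MulAction.orbit L (mkVec (V.get 0)) = X := by
    refine Set.Subset.antisymm hsub ?_
    rintro _ ⟨i, rfl⟩
    exact (hmain i i.2).2
  have hstep : ∀ b a : ℕ, a < b → b < n → V.get (o.get a) < V.get (o.get b) := by
    intro b
    induction b with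
    | zero => intro a ha; omega
    | succ b ih =>
      intro a ha hb
      have h := (incOK_spec hinc.1 b (Nat.zero_le _) (by omega)).2
      rcases Nat.lt_succ_iff_lt_or_eq.1 ha with h' | rfl
      · exact (ih a h' (by omega)).trans h
      · exact h
  have ho : ∀ k < n, o.get k < n := fun k hk => by
    rcases Nat.lt_or_ge k (n - 1) with h | h
    · exact (incOK_spec hinc.1 k (Nat.zero_le _) (by omega)).1
    · rw [show k = n - 1 by omega]; exact hinc.2
  have hoinj : Function.Injective fun k : Fin n => (⟨o.get k, ho k k.2⟩ : Fin n) := by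
    intro a b hab
    have e : o.get a = o.get b := congrArg Fin.val hab
    by_contra hne
    rcases lt_or_gt_of_ne hne with h | h
    · have := hstep b a h b.2; rw [e] at this; exact lt_irrefl _ this
    · have := hstep a b h a.2; rw [e] at this; exact lt_irrefl _ this
  have hinj : Function.Injective fun i : Fin n => mkVec (V.get i) := by
    intro i i' hii
    obtain ⟨a, ha⟩ := (Finite.injective_iff_surjective.1 hoinj) i
    obtain ⟨b, hb⟩ := (Finite.injective_iff_surjective.1 hoinj) i'
    have ea : o.get a = i := congrArg Fin.val ha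
    have eb : o.get b = i' := congrArg Fin.val hb
    have e : V.get i = V.get i' := toVec_inj (hmain i i.2).1 (hmain i' i'.2).1
      (congrArg RVec.row hii)
    by_contra hne
    have hab : a ≠ b := fun h => hne (by rw [← ha, ← hb, h])
    rcases lt_or_gt_of_ne hab with h | h
    · have := hstep b a h b.2; rw [ea, eb, e] at this; exact lt_irrefl _ this
    · have := hstep a b h a.2; rw [ea, eb, e] at this; exact lt_irrefl _ this
  rw [heq, Nat.card_coe_set_eq]
  exact (Set.ncard_range_of_injective hinj).trans (Nat.card_fin n)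

theorem dvd_of_orbit {G α : Type*} [Group G] [MulAction G α] (L : Subgroup G) (x : α)
    {n : ℕ} (h : Nat.card (MulAction.orbit L x) = n) : n ∣ Nat.card L := by
  rw [← h, ← Nat.card_congr (MulAction.orbitProdStabilizerEquivGroup L x), Nat.card_prod]
  exact Dvd.intro _ rfl

end Cfsg.Lib.LyReal
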