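import Cfsg.Agent.Lib.LyReal.Lower

/-!
# The order, the index and the simplicity of the presented Lyons group
-/

set_option autoImplicit false
set_option maxRecDepth 100000

open scoped Pointwise

namespace Cfsg.Lib.LyReal

open Cfsg.Spor Cfsg.Lib.CosetEnum Cfsg.Lib.CosetEnum.LyG2

theorem card_abcd : Nat.card abcd = 5859000000 := by
  obtain ⟨E⟩ := abcd_iso
  rw [Nat.card_congr E.toEquiv, Cfsg.Agent.S1059.result (F := ZMod 5) (q := 5) (ZMod.card 5)]
  norm_num

theorem finite_ly : Finite Ly := by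
  have hf := abcd_index_le.1
  have : Finite abcd := Nat.finite_of_card_ne_zero (by rw [card_abcd]; norm_num)
  exact Finite.of_subgroup_quotient abcd

theorem order_index : Nat.card Ly = 51765179004000000 ∧ abcd.index = 8835156 := by
  have := finite_ly
  obtain ⟨h256, h3, h37, h67⟩ := dvd_card
  have hH : (5859000000 : ℕ) ∣ Nat.card Ly := card_abcd ▸ Subgroup.card_subgroup_dvd_card abcd
  have hdvd : (51765179004000000 : ℕ) ∣ Nat.card Ly := by
    have := Nat.lcm_dvd hH (Nat.lcm_dvd h256 (Nat.lcm_dvd h3 (Nat.lcm_dvd h37 h67)))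
    exact (show (51765179004000000 : ℕ) =
      Nat.lcm 5859000000 (Nat.lcm 256 (Nat.lcm 192456 (Nat.lcm 37 67))) by norm_num) ▸ this
  have hmul := Subgroup.card_mul_index abcd
  rw [card_abcd] at hmul
  have hle := abcd_index_le.2
  have hpos : 0 < Nat.card Ly := Nat.card_pos
  have hge := Nat.le_of_dvd hpos hdvd
  rw [← hmul, show (51765179004000000 : ℕ) = 5859000000 * 8835156 by norm_num] at hge
  have hidx : abcd.index = 8835156 :=
    le_antisymm hle (Nat.le_of_mul_le_mul_left hge (by norm_num))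
  refine ⟨?_, hidx⟩
  rw [← hmul, hidx]

theorem orb_eq : (∀ j : Fin 5, (lySys.Orb j).ncard = orbSize j) ∧
    Pairwise (Function.onFun Disjoint fun j : Fin 5 => lySys.Orb j) := by
  classical
  have := finite_ly
  have hle : ∀ j : Fin 5, (lySys.Orb j).ncard ≤ orbSize j := fun j =>
    (Nat.card_coe_set_eq _).ge.trans (lySys.orb_card lySys_one j.2).2
  have hu := lySys.orb_union lySys_one lySys_gen
  have htot : (⋃ j : Fin 5, lySys.Orb j).ncard = 8835156 := by
    rw [hu, Set.ncard_univ]
    show lySys.H.index = 8835156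
    rw [lySys_H]
    exact order_index.2
  have hsum : (∑ j : Fin 5, orbSize j) = 8835156 := by simp [Fin.sum_univ_five, orbSize]
  have h1 := Set.ncard_iUnion_le_of_fintype fun j : Fin 5 => lySys.Orb j
  have heq : ∀ j : Fin 5, (lySys.Orb j).ncard = orbSize j := by
    intro j
    refine le_antisymm (hle j) (le_of_not_gt fun hlt => ?_)
    have := Finset.sum_lt_sum (s := Finset.univ) (fun i _ => hle i) ⟨j, Finset.mem_univ j, hlt⟩
    omega
  refine ⟨heq, fun i j hij => ?_⟩
  rw [Function.onFun, Set.disjoint_left]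
  intro x hxi hxj
  have hsub : (⋃ k : Fin 5, lySys.Orb k) ⊆
      (lySys.Orb j \ {x}) ∪ ⋃ k ∈ Finset.univ.erase j, lySys.Orb k := by
    intro y hy
    obtain ⟨k, hk⟩ := Set.mem_iUnion.1 hy
    by_cases hkj : k = j
    · subst hkj
      by_cases hyx : y = x
      · exact Or.inr (Set.mem_iUnion₂.2 ⟨i, Finset.mem_erase.2 ⟨hij, Finset.mem_univ i⟩, hyx ▸ hxi⟩)
      · exact Or.inl ⟨hk, hyx⟩
    · exact Or.inr (Set.mem_iUnion₂.2 ⟨k, Finset.mem_erase.2 ⟨hkj, Finset.mem_univ k⟩, hk⟩)
  have h2 := (Set.ncard_le_ncard hsub (Set.toFinite _)).trans (Set.ncard_union_le _ _)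
  have h3 := Finset.set_ncard_biUnion_le (Finset.univ.erase j) fun k => lySys.Orb k
  have h4 := Set.ncard_diff_singleton_lt_of_mem hxj (Set.toFinite _)
  have h5 := Finset.add_sum_erase Finset.univ (fun k : Fin 5 => (lySys.Orb k).ncard) (Finset.mem_univ j)
  have h6 : (∑ k : Fin 5, (lySys.Orb k).ncard) = 8835156 := by
    rw [← hsum]; exact Finset.sum_congr rfl fun k _ => heq k
  omega

theorem zeq_of_subsets : ∀ a b c d : Bool,
    (1 + cond a 19530 0 + cond b 968750 0 + cond c 5812500 0 + cond d 2034375 0) ∣ 8835156 →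
      (a = false ∧ b = false ∧ c = false ∧ d = false) ∨
      (a = true ∧ b = true ∧ c = true ∧ d = true) := by decide +kernel

theorem normal_top_of_le {N : Subgroup Ly} [N.Normal] (h : abcd ≤ N) : N = ⊤ := by
  have hv : ∀ w, lettersOK w = true → lySys.v w ∈ N := fun w hw => h (lySys_H ▸ lySys.v_mem hw)
  have hev : ∀ a, lySys.ev a = 1 := lySys.ev_one lySys_one
  have hlet : ∀ s ∈ getL [] segsT 1, lettersOK s = true := by decide +kernel
  have hr := lySys.relZ' (k := 1) (by norm_num)
  rw [hev, show getL [] segsT 1 = [getL [] (getL [] segsT 1) 0, getL [] (getL [] segsT 1) 1,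
    getL [] (getL [] segsT 1) 2, getL [] (getL [] segsT 1) 3] from rfl] at hr
  simp only [Sys.items_cons, Sys.items_one] at hr
  have hz2 := lySys.z_sq
  rw [hev, mul_one] at hz2
  set q := QuotientGroup.mk' N
  have hk : ∀ w, lettersOK w = true → q (lySys.v w) = 1 := fun w hw =>
    (QuotientGroup.eq_one_iff _).2 (hv w hw)
  have e3 := congrArg q hr
  have e2 := congrArg q hz2
  simp only [map_mul, map_one] at e3 e2
  rw [hk _ (hlet _ (by decide)), hk _ (hlet _ (by decide)), hk _ (hlet _ (by decide)),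
    hk _ (hlet _ (by decide))] at e3
  rw [hk _ rfl] at e2
  simp only [one_mul, mul_one] at e3
  rw [← mul_assoc, e2, one_mul] at e3
  have hzN : lySys.z ∈ N := (QuotientGroup.eq_one_iff _).1 e3
  rw [eq_top_iff, ← lySys_gen, Subgroup.closure_le]
  rintro x (hx | rfl)
  · exact h (lySys_H ▸ hx)
  · exact hzN

theorem ly_simple : IsSimpleGroup Ly := by
  classical
  have := finite_ly
  obtain ⟨hord, hidx⟩ := order_index
  have : Nontrivial Ly := Finite.one_lt_card_iff_nontrivial.1 (by rw [hord]; norm_num)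
  refine { eq_bot_or_eq_top_of_normal := fun N hN => ?_ }
  have : IsSimpleGroup SixGroup := six_simple
  obtain hbot | htop := this.eq_bot_or_eq_top_of_normal (N.comap lySys.hom) inferInstance
  swap
  · right
    refine normal_top_of_le fun x hx => ?_
    rw [← lySys_H, ← lySys.hom_range] at hx
    obtain ⟨s, rfl⟩ := hx
    exact Subgroup.mem_comap.1 (htop ▸ Subgroup.mem_top s)
  -- a regular normal subgroup
  have hinter : ∀ x ∈ N, x ∈ lySys.H → x = 1 := by
    intro x hxN hxH
    rw [← lySys.hom_range] at hxH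
    obtain ⟨s, rfl⟩ := hxH
    have hs : s ∈ N.comap lySys.hom := Subgroup.mem_comap.2 hxN
    rw [hbot, Subgroup.mem_bot] at hs
    rw [hs, map_one]
  let f : N → Ly ⧸ lySys.H := fun n => ((n : Ly) : Ly ⧸ lySys.H)
  have hfinj : Function.Injective f := by
    intro a b hab
    have := hinter _ (mul_mem (inv_mem a.2) b.2) (QuotientGroup.eq.1 hab)
    exact Subtype.ext (inv_mul_eq_one.1 this)
  obtain ⟨hsize, hdisj⟩ := orb_eq
  have hsix : ∀ s : SixGroup, lySys.hom s ∈ lySys.H := fun s => lySys.hom_range ▸ ⟨s, rfl⟩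
  have hconj : ∀ (n : N) (s : SixGroup), ((lySys.hom s * (n : Ly) : Ly) : Ly ⧸ lySys.H) =
      f ⟨lySys.hom s * n * (lySys.hom s)⁻¹, hN.conj_mem _ n.2 _⟩ := by
    intro n s
    refine QuotientGroup.eq.2 ?_
    have e : (lySys.hom s * (n : Ly))⁻¹ * (lySys.hom s * n * (lySys.hom s)⁻¹) = (lySys.hom s)⁻¹ := by
      group
    rw [e]
    exact inv_mem (hsix s)
  have horb : ∀ (n : N) (j : Fin 5), f n ∈ lySys.Orb j → lySys.Orb j ⊆ Set.range f := by
    rintro n j ⟨s, hs⟩ _ ⟨t, rfl⟩
    refine ⟨⟨_, hN.conj_mem _ n.2 (lySys.hom (t * s⁻¹))⟩, ?_⟩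
    rw [← hconj n (t * s⁻¹)]
    have hs' : (lySys.hom s * lySys.P j)⁻¹ * (n : Ly) ∈ lySys.H := QuotientGroup.eq.1 hs
    refine QuotientGroup.eq.2 ?_
    have e : (lySys.hom (t * s⁻¹) * (n : Ly))⁻¹ * (lySys.hom t * lySys.P j) =
        ((lySys.hom s * lySys.P j)⁻¹ * (n : Ly))⁻¹ := by
      rw [map_mul, map_inv]; group
    rw [e]
    exact inv_mem hs'
  have hu := lySys.orb_union lySys_one lySys_gen
  have hin : ∀ x : Ly ⧸ lySys.H, ∃ j : Fin 5, x ∈ lySys.Orb j := fun x => by
    have hx : x ∈ (⋃ j : Fin 5, lySys.Orb j) := hu ▸ Set.mem_univ x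
    exact Set.mem_iUnion.1 hx
  choose jo hjo using hin
  let sel : Fin 5 → Bool := fun j => decide (lySys.Orb j ⊆ Set.range f)
  have hrange : Set.range f = ⋃ j ∈ (Finset.univ.filter fun j => sel j = true), lySys.Orb j := by
    refine Set.Subset.antisymm ?_ ?_
    · rintro _ ⟨n, rfl⟩
      refine Set.mem_iUnion₂.2 ⟨jo (f n), Finset.mem_filter.2 ⟨Finset.mem_univ _, ?_⟩, hjo _⟩
      exact decide_eq_true (horb n _ (hjo _))
    · refine Set.iUnion₂_subset fun j hj => ?_
      exact of_decide_eq_true (Finset.mem_filter.1 hj).2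
  have hcardN : Nat.card N = ∑ j : Fin 5, cond (sel j) (orbSize j) 0 := by
    rw [← Set.ncard_range_of_injective hfinj, hrange,
      ← Finset.set_biUnion_coe, (Finset.finite_toSet _).ncard_biUnion (fun j _ => Set.toFinite _)
        (fun i _ j _ hij => hdisj hij), finsum_mem_coe_finset, Finset.sum_filter]
    refine Finset.sum_congr rfl fun j _ => ?_
    rw [hsize j]
    cases sel j <;> rfl
  have h0 : sel 0 = true := by
    have hmem : f 1 ∈ lySys.Orb (0 : Fin 5) := ⟨1, by simp [f, Sys.P]⟩
    exact decide_eq_true (horb 1 0 hmem)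
  have hdvd : Nat.card N ∣ 8835156 := by
    have hNH : Nat.card N * Nat.card lySys.H ∣ Nat.card Ly := by
      have hd : Disjoint N lySys.H := by
        rw [disjoint_iff, eq_bot_iff]
        exact fun x hx => hinter x hx.1 hx.2
      have hc : Nat.card (N ⊔ lySys.H : Subgroup Ly) = Nat.card N * Nat.card lySys.H := by
        have hset : ((N ⊔ lySys.H : Subgroup Ly) : Set Ly) = (N : Set Ly) * (lySys.H : Set Ly) :=
          Subgroup.normal_mul N lySys.H
        have hinj : Function.Injective fun p : N × lySys.H => (p.1 : Ly) * p.2 :=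
          Subgroup.mul_injective_of_disjoint hd
        rw [← Nat.card_prod, ← Nat.card_range_of_injective hinj]
        refine Nat.card_congr (Equiv.setCongr ?_)
        rw [hset]
        ext x
        simp [Set.mem_mul]
      exact hc ▸ Subgroup.card_subgroup_dvd_card _
    rw [lySys_H, card_abcd, hord,
      show (51765179004000000 : ℕ) = 8835156 * 5859000000 from rfl] at hNH
    exact (Nat.mul_dvd_mul_iff_right (by norm_num)).1 hNH
  rw [Fin.sum_univ_five, h0] at hcardN
  simp only [orbSize, cond_true, Fin.val_one, Fin.val_zero, Fin.val_two] at hcardN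
  rw [hcardN] at hdvd
  rcases zeq_of_subsets (sel 1) (sel 2) (sel 3) (sel 4) hdvd with ⟨a, b, c, d⟩ | ⟨a, b, c, d⟩
  · left
    rw [a, b, c, d] at hcardN
    exact Subgroup.eq_bot_of_card_eq N (by simpa using hcardN)
  · exfalso
    rw [a, b, c, d] at hcardN
    simp only [cond_true] at hcardN
    have hprime : ∀ i : Fin 5, ∃ n : N, orderOf n = ![2, 3, 11, 37, 67] i := by
      intro i
      have hp : Fact (![2, 3, 11, 37, 67] i).Prime := ⟨by fin_cases i <;> norm_num⟩
      refine exists_prime_orderOf_dvd_card' (p := ![2, 3, 11, 37, 67] i) ?_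
      rw [hcardN]
      fin_cases i <;> norm_num
    choose el hel using hprime
    have hne0 : ∀ i, jo (f (el i)) ≠ 0 := by
      intro i h
      have hm := hjo (f (el i))
      rw [h] at hm
      obtain ⟨s, hs⟩ := hm
      have hs' := QuotientGroup.eq.1 hs
      simp only [Fin.val_zero, Sys.P, mul_one] at hs'
      have hn : (el i : Ly) ∈ lySys.H := by
        have := mul_mem (hsix s) hs'
        rwa [mul_inv_cancel_left] at this
      have h1 : el i = 1 := Subtype.ext (hinter _ (el i).2 hn)
      have := hel i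
      rw [h1, orderOf_one] at this
      fin_cases i <;> simp at this
    obtain ⟨i, k, hik, hjk⟩ : ∃ i k, i ≠ k ∧ jo (f (el i)) = jo (f (el k)) := by
      by_contra hcon
      push Not at hcon
      have hinj : Function.Injective fun i => jo (f (el i)) := fun x y h => by
        by_contra hxy
        exact hcon x y hxy h
      obtain ⟨i, hi⟩ := (Finite.injective_iff_surjective.1 hinj) 0
      exact hne0 i hi
    have hmi := hjo (f (el i))
    have hmk := hjo (f (el k))
    rw [← hjk] at hmk
    obtain ⟨s, hs⟩ := hmi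
    obtain ⟨t, ht⟩ := hmk
    have hs' := QuotientGroup.eq.1 hs
    have ht' := QuotientGroup.eq.1 ht
    have heq : f ⟨_, hN.conj_mem _ (el i).2 (lySys.hom (t * s⁻¹))⟩ = f (el k) := by
      rw [← hconj (el i) (t * s⁻¹)]
      refine QuotientGroup.eq.2 ?_
      have := mul_mem (inv_mem hs') ht'
      convert this using 1
      rw [map_mul, map_inv]; group
    have hek := hfinj heq
    have hord2 : orderOf (el k) = orderOf (el i) := by
      rw [← Subgroup.orderOf_coe, ← Subgroup.orderOf_coe (el i), ← hek]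
      exact (SemiconjBy.orderOf_eq (lySys.hom (t * s⁻¹)) (by
        show lySys.hom (t * s⁻¹) * (el i : Ly) =
          lySys.hom (t * s⁻¹) * (el i : Ly) * (lySys.hom (t * s⁻¹))⁻¹ * lySys.hom (t * s⁻¹)
        group)).symm
    rw [hel, hel] at hord2
    have hinj : Function.Injective (![2, 3, 11, 37, 67] : Fin 5 → ℕ) := by decide
    exact hik (hinj hord2).symm

end Cfsg.Lib.LyReal
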