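import Cfsg.Agent.Lib.LyReal.OutInvol
import Cfsg.Agent.S2119
import Cfsg.Prelude.Def_KGroupFacts

/-!
# Every automorphism of the presented Lyons group is inner
-/

set_option autoImplicit false
set_option maxRecDepth 100000

namespace Cfsg.Lib.LyReal

open Cfsg.Spor Cfsg.Lib.CosetEnum Cfsg.Lib.CosetEnum.LyG2

theorem map_list {α : MulAut Ly} {f f' : ℕ → CT} (h : ∀ i, α (f i : Ly) = f' i) : ∀ w : List ℕ,
    α (((w.map f).prod : CT) : Ly) = (((w.map f').prod : CT) : Ly)
  | [] => by simp
  | i :: w => by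
    simp only [List.map_cons, List.prod_cons, Subgroup.coe_mul, map_mul, h, map_list h w]

theorem map_tpow {α : MulAut Ly} (hτ : α tau = tau) : ∀ f, α (tpow f : Ly) = (tpow f : Ly)
  | true => hτ
  | false => map_one α

/-- An automorphism fixing the involution and the second one moves the swap by an element of the
centralizer. -/
theorem swap_image {α : MulAut Ly} (hτ : α tau = tau) (hsec : α sec = sec) :
    ∃ c : CT, α swapEl = swapEl * c ∧ α swapEl = (c : Ly)⁻¹ * swapEl := by
  set c := swapEl * α swapEl with hc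
  have hg2 : α swapEl * α swapEl = 1 := by rw [← map_mul, swap_sq, map_one]
  have h1 : α swapEl = swapEl * c := by rw [hc, ← mul_assoc, swap_sq, one_mul]
  have h2 : α swapEl = c⁻¹ * swapEl := by
    have hi : (α swapEl)⁻¹ = α swapEl := inv_eq_of_mul_eq_one_right hg2
    have hgi : swapEl⁻¹ = swapEl := inv_eq_of_mul_eq_one_right swap_sq
    rw [hc, mul_inv_rev, hi, hgi, mul_assoc, swap_sq, mul_one]
  refine ⟨⟨c, ?_⟩, h1, h2⟩
  rw [sec, map_mul, map_mul, hτ] at hsec
  nth_rw 1 [h1] at hsec
  rw [h2] at hsec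
  rw [Subgroup.mem_centralizer_singleton_iff]
  calc c * tau = swapEl * (swapEl * c * tau * (c⁻¹ * swapEl)) * swapEl * c := by
        rw [show swapEl * (swapEl * c * tau * (c⁻¹ * swapEl)) * swapEl * c =
          (swapEl * swapEl) * c * tau * c⁻¹ * (swapEl * swapEl) * c by group, swap_sq]
        group
    _ = (swapEl * swapEl) * tau * (swapEl * swapEl) * c := by rw [hsec]; group
    _ = tau * c := by rw [swap_sq]; group

/-- The centralizer's map of an edge. -/
theorem inter_eq {π : CT →* alternatingGroup (Fin 11)} {c y z : CT} (h : c * y = z * c) (x : Fin 11) :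
    (π c : Equiv.Perm (Fin 11)) ((π y : Equiv.Perm (Fin 11)) x) =
      (π z : Equiv.Perm (Fin 11)) ((π c : Equiv.Perm (Fin 11)) x) := by
  have := congrArg (fun q : alternatingGroup (Fin 11) => (q : Equiv.Perm (Fin 11)) x)
    (congrArg π h)
  simpa only [map_mul, Subgroup.coe_mul, Equiv.Perm.mul_apply] using this

theorem edge_lengths : edge0.length = edge1.length ∧ cons0.length = edge0.length ∧
    cons1.length = edge0.length := by decide +kernel

/-- Fixing the nine elements leaves only inner automorphisms. -/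
theorem inner_of_fix {α : MulAut Ly} (hτ : α tau = tau)
    (hX : ∀ i, α (triC i : Ly) = (triC i : Ly)) : α ∈ Inn Ly := by
  obtain ⟨-, hs1, -, he0, -⟩ := out_facts
  obtain ⟨-, -, hsecok, he0ok, -, -, -, -⟩ := out_shape
  have hxC : ∀ w, α (xC w : Ly) = (xC w : Ly) := fun w =>
    map_list (f := triN) (f' := triN) (fun i => hX _) w
  have hy : ∀ w f, α ((xC w * tpow f : CT) : Ly) = ((xC w * tpow f : CT) : Ly) := fun w f => by
    rw [Subgroup.coe_mul, map_mul, hxC, map_tpow hτ]
  have hsec : α sec = sec := by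
    conv_lhs => rw [hs1]
    rw [hy, ← hs1]
  obtain ⟨c, hc1, hc2⟩ := swap_image hτ hsec
  have hCT : ∀ x ∈ CT, α x = x := by
    intro x hx
    have hle : (⊤ : Subgroup CT) ≤ (MonoidHom.eqLocus (α.toMonoidHom.comp CT.subtype) CT.subtype) := by
      rw [← triC_gen, Subgroup.closure_le]
      rintro _ ⟨i, rfl⟩
      exact hX i
    exact hle (Subgroup.mem_top (⟨x, hx⟩ : CT))
  have hcomm : ∀ e ∈ edge0, c * (xC e.2.1 * tpow e.2.2) = xC e.2.1 * tpow e.2.2 * c := by
    intro e he
    set y := xC e.2.1 * tpow e.2.2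
    have h := he0 e he
    have hα : α (swapEl * (xC e.1 : Ly) * swapEl) = (c : Ly)⁻¹ * (y : Ly) * c := by
      rw [← h, map_mul, map_mul, hxC]
      nth_rw 1 [hc2]
      rw [hc1]
      group
    rw [h, hy] at hα
    refine Subtype.ext ?_
    show (c : Ly) * (y : Ly) = (y : Ly) * c
    conv_lhs => rw [hα]
    group
  obtain ⟨π, hπs, hker, hπ⟩ := exists_cover
  have hint : ∀ k < cons0.length, ∀ x, (π c : Equiv.Perm (Fin 11)) ((cons0.getD k (id, id)).1 x) =
      (cons0.getD k (id, id)).2 ((π c : Equiv.Perm (Fin 11)) x) := by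
    intro k hk x
    have hk' : k < edge0.length := edge_lengths.2.1 ▸ hk
    have he : edge0[k] ∈ edge0 := List.getElem_mem hk'
    have h := inter_eq (π := π) (hcomm _ he) x
    have hok := List.all_eq_true.1 he0ok _ he
    simp only [Bool.and_eq_true] at hok
    rw [map_mul, img_tpow hker, mul_one, img_xC hπ hok.2, img_xC hπ hok.2] at h
    rw [cons0, List.getD_eq_getElem (List.map _ _) _ (by simpa using hk'), List.getElem_map]
    exact h
  have hsecC : ∀ x, (π (xC secW * tpow secF) : Equiv.Perm (Fin 11)) x = imgW secW x := fun x => by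
    rw [map_mul, img_tpow hker, mul_one, img_xC hπ hsecok]
  have htau2 : tau * tau = 1 := by rw [← pow_two, ← tau_order, pow_orderOf_eq_one]
  have hkc : ∀ y : CT, π c = π y → c = y ∨ c = y * tauC := by
    intro y hy
    have hk : y⁻¹ * c ∈ Subgroup.zpowers tauC := by
      rw [← hker, MonoidHom.mem_ker, map_mul, map_inv, hy, inv_mul_cancel]
    obtain ⟨k, hk'⟩ := hk
    have hk'' : tauC ^ k = y⁻¹ * c := hk'
    have ht : (tauC : CT) ^ (2 : ℤ) = 1 := Subtype.ext (by
      show tau ^ (2 : ℤ) = 1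
      rw [zpow_ofNat, pow_two, htau2])
    rcases Int.even_or_odd k with ⟨m, hm⟩ | ⟨m, hm⟩
    · left
      rw [hm, ← two_mul, zpow_mul, ht, one_zpow] at hk''
      exact (inv_mul_eq_one.1 hk''.symm).symm
    · right
      rw [hm, zpow_add, zpow_mul, ht, one_zpow, one_mul, zpow_one] at hk''
      rw [hk'', mul_inv_cancel_left]
  have hfin : ∀ β : MulAut Ly, (∀ x ∈ CT, β x = x) → β swapEl = α swapEl → α = β := by
    intro β hβ hs
    refine MulEquiv.toMonoidHom_injective (MonoidHom.eq_of_eqOn_dense gen_top ?_)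
    rintro x (hx | rfl)
    · show α x = β x
      rw [hCT x hx, hβ x hx]
    · exact hs.symm
  have hgsq : α swapEl * α swapEl = 1 := by rw [← map_mul, swap_sq, map_one]
  have hne : ∀ u : Ly, u = swapEl * tau ∨ u = tau * swapEl → u * u ≠ 1 := by
    rintro u (rfl | rfl) h
    · apply tau_swap_ne
      calc tau * swapEl * (tau * swapEl) = swapEl⁻¹ * (swapEl * tau * (swapEl * tau)) * swapEl := by
            group
        _ = 1 := by rw [h]; group
    · exact tau_swap_ne h
  rcases intertwine0 _ (π c : Equiv.Perm (Fin 11)).injective hint with h | h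
  · rcases hkc 1 (Subtype.ext (Equiv.ext fun x => by rw [h, map_one]; rfl)) with h' | h'
    · rw [hfin 1 (fun x _ => rfl) (by rw [hc1, h', Subgroup.coe_one, mul_one]; rfl)]
      exact one_mem _
    · exact absurd hgsq (hne _ (Or.inl (by rw [hc1, h', one_mul]; rfl)))
  · rcases hkc (xC secW * tpow secF) (Subtype.ext (Equiv.ext fun x => by rw [h, hsecC]))
      with h' | h'
    · refine absurd hgsq (hne _ (Or.inr ?_))
      rw [hc1, h', ← hs1, sec, ← mul_assoc, ← mul_assoc, swap_sq, one_mul]
    · refine ⟨tau, (hfin (MulAut.conj tau) (fun x hx => ?_) ?_).symm⟩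
      · rw [MulAut.conj_apply, ← Subgroup.mem_centralizer_singleton_iff.1 hx, mul_inv_cancel_right]
      · rw [MulAut.conj_apply, inv_eq_of_mul_eq_one_right htau2, hc1, h', Subgroup.coe_mul, ← hs1]
        show tau * swapEl * tau = swapEl * (sec * tau)
        rw [sec, ← mul_assoc, ← mul_assoc, ← mul_assoc, swap_sq, one_mul]

/-- The outer candidate does not extend. -/
theorem no_outer {α : MulAut Ly} (hτ : α tau = tau)
    (hX : ∀ i : Fin 9, α (triC i : Ly) = (outEl i : Ly)) : False := by
  obtain ⟨-, hs1, hs2, he0, he1⟩ := out_facts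
  obtain ⟨-, -, -, he0ok, he1ok, hfst, -, -⟩ := out_shape
  have hN : ∀ i, α (triN i : Ly) = (outEl (Fin.ofNat 9 i : Fin 9) : Ly) := fun i => hX _
  have hxC : ∀ {w : List ℕ}, (w.all fun i => Nat.blt i 9) = true →
      α (xC w : Ly) = (eC w : Ly) := by
    intro w hw
    rw [xC, map_list (f' := fun i => outEl (Fin.ofNat 9 i : Fin 9)) hN w, eC]
    refine congrArg (fun q : CT => (q : Ly)) (congrArg List.prod (List.map_congr_left fun i hi => ?_))
    have := List.all_eq_true.1 hw i hi
    rw [Nat.blt_eq] at this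
    rw [Fin.val_ofNat, Nat.mod_eq_of_lt this]
  have hy : ∀ {w : List ℕ} (f : Bool), (w.all fun i => Nat.blt i 9) = true →
      α ((xC w * tpow f : CT) : Ly) = ((eC w * tpow f : CT) : Ly) := fun f hw => by
    rw [Subgroup.coe_mul, map_mul, hxC hw, map_tpow hτ, Subgroup.coe_mul]
  have hsec : α sec = sec := by
    conv_lhs => rw [hs1]
    rw [hy _ out_shape.2.2.1, ← hs2]
  obtain ⟨c, hc1, hc2⟩ := swap_image hτ hsec
  obtain ⟨π, hπs, hker, hπ⟩ := exists_cover
  refine intertwine1 _ (π c : Equiv.Perm (Fin 11)).injective ?_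
  intro k hk x
  have hk0 : k < edge0.length := edge_lengths.2.2 ▸ hk
  have hk1 : k < edge1.length := edge_lengths.1 ▸ hk0
  have he : edge0[k] ∈ edge0 := List.getElem_mem hk0
  have he' : edge1[k] ∈ edge1 := List.getElem_mem hk1
  have hok := List.all_eq_true.1 he0ok _ he
  have hok' := List.all_eq_true.1 he1ok _ he'
  simp only [Bool.and_eq_true] at hok hok'
  have hw : (edge0[k]).1 = (edge1[k]).1 := by
    have := List.getElem_of_eq hfst (i := k) (by simpa using hk0)
    rw [List.getElem_map, List.getElem_map] at this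
    exact this
  set y := xC (edge1[k]).2.1 * tpow (edge1[k]).2.2
  set y0 := eC (edge0[k]).2.1 * tpow (edge0[k]).2.2
  have hcomm : c * y0 = y * c := by
    have h := he0 _ he
    have hα : α (swapEl * (xC (edge0[k]).1 : Ly) * swapEl) = (c : Ly)⁻¹ * (y : Ly) * c := by
      rw [map_mul, map_mul, hxC hok.1, hw, ← he1 _ he']
      nth_rw 1 [hc2]
      rw [hc1]
      group
    rw [h, hy _ hok.2] at hα
    refine Subtype.ext ?_
    show (c : Ly) * (y0 : Ly) = (y : Ly) * c
    rw [hα]
    group
  have h := inter_eq (π := π) hcomm x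
  rw [map_mul, map_mul, img_tpow hker, img_tpow hker, mul_one, mul_one, img_eC hπ hok.2,
    img_xC hπ hok'.2] at h
  rw [cons1, List.getD_eq_getElem (List.map _ _) _ (by simpa using ⟨hk0, hk1⟩), List.getElem_map,
    List.getElem_zip]
  exact h

/-- Every automorphism is inner. -/
theorem aut_inner (α : MulAut Ly) : α ∈ Inn Ly := by
  classical
  have := finite_ly
  have hord : orderOf (α tau) = 2 := by rw [MulEquiv.orderOf_eq α]; exact tau_order
  obtain ⟨c₁, hc₁⟩ := invol_conj hord
  suffices h : ∀ β : MulAut Ly, β tau = tau → β ∈ Inn Ly by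
    have hin : MulAut.conj c₁ ∈ Inn Ly := ⟨c₁, rfl⟩
    have h' := h (MulAut.conj c₁ * α) (by rw [MulAut.mul_apply, MulAut.conj_apply, hc₁])
    have := mul_mem (inv_mem hin) h'
    rwa [inv_mul_cancel_left] at this
  intro β hβ
  obtain ⟨π, hπs, hker, hπ⟩ := exists_cover
  have hmem : ∀ x ∈ CT, β x ∈ CT := fun x hx => by
    rw [Subgroup.mem_centralizer_singleton_iff] at hx ⊢
    calc β x * tau = β x * β tau := by rw [hβ]
      _ = β tau * β x := by rw [← map_mul, ← map_mul, hx]
      _ = tau * β x := by rw [hβ]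
  let βC : CT →* CT := (β.toMonoidHom.comp CT.subtype).codRestrict CT fun x => hmem x x.2
  have hβτ : βC tauC = tauC := Subtype.ext hβ
  have hkerle : π.ker ≤ (π.comp βC).ker := by
    rw [hker, Subgroup.zpowers_le, MonoidHom.mem_ker, MonoidHom.comp_apply, hβτ,
      ← MonoidHom.mem_ker, hker]
    exact Subgroup.mem_zpowers _
  let γ : alternatingGroup (Fin 11) →* alternatingGroup (Fin 11) :=
    π.liftOfSurjective hπs ⟨π.comp βC, hkerle⟩
  have hγ : ∀ x, γ (π x) = π (βC x) := fun x =>
    π.liftOfRightInverse_comp_apply _ _ ⟨π.comp βC, hkerle⟩ x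
  have hγb : Function.Bijective γ := by
    refine Finite.injective_iff_bijective.1 ((injective_iff_map_eq_one γ).2 fun q hq => ?_)
    obtain ⟨x, rfl⟩ := hπs q
    rw [hγ, ← MonoidHom.mem_ker, hker] at hq
    obtain ⟨k, hk⟩ := hq
    rw [← MonoidHom.mem_ker, hker]
    refine ⟨k, Subtype.ext (β.injective ?_)⟩
    have hk' : (tauC : CT) ^ k = βC x := hk
    rw [show ((tauC ^ k : CT) : Ly) = tau ^ k from rfl, map_zpow, hβ]
    exact congrArg Subtype.val hk'
  obtain ⟨p, hp⟩ := (Cfsg.Agent.S2119.result 11 (by norm_num) (by norm_num)).2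
    (MulEquiv.ofBijective γ hγb)
  have hp' : ∀ x, (π (βC x) : Equiv.Perm (Fin 11)) = p * (π x : Equiv.Perm (Fin 11)) * p⁻¹ := by
    intro x
    have h := congrArg (fun f : MulAut (alternatingGroup (Fin 11)) =>
      ((f (π x) : alternatingGroup (Fin 11)) : Equiv.Perm (Fin 11))) hp
    simp only [MulAut.conjNormal_apply, MulEquiv.ofBijective_apply, hγ] at h
    exact h.symm
  -- adjust by an element of the centralizer
  obtain ⟨r, hr, hrs⟩ : ∃ r : alternatingGroup (Fin 11), ∃ s : Equiv.Perm (Fin 11),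
      ((r : Equiv.Perm (Fin 11)) * p = s) ∧ (s = 1 ∨ s = Equiv.swap 0 3) := by
    rcases Int.units_eq_one_or (Equiv.Perm.sign p) with h | h
    · exact ⟨⟨p⁻¹, Equiv.Perm.mem_alternatingGroup.2 (by rw [map_inv, h, inv_one])⟩, 1,
        inv_mul_cancel p, Or.inl rfl⟩
    · refine ⟨⟨Equiv.swap 0 3 * p⁻¹, Equiv.Perm.mem_alternatingGroup.2 ?_⟩, _, ?_, Or.inr rfl⟩
      · rw [map_mul, map_inv, h, Equiv.Perm.sign_swap (by decide)]
        rfl
      · rw [inv_mul_cancel_right]
  obtain ⟨hrp, hs⟩ := hrs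
  obtain ⟨c₀, hc₀⟩ := hπs r
  let β' : MulAut Ly := MulAut.conj (c₀ : Ly) * β
  have hin : MulAut.conj (c₀ : Ly) ∈ Inn Ly := ⟨_, rfl⟩
  suffices h : β' ∈ Inn Ly by
    have := mul_mem (inv_mem hin) h
    rwa [inv_mul_cancel_left] at this
  have hτ' : β' tau = tau := by
    show (c₀ : Ly) * β tau * (c₀ : Ly)⁻¹ = tau
    rw [hβ, Subgroup.mem_centralizer_singleton_iff.1 c₀.2, mul_inv_cancel_right]
  -- the images of the nine elements
  have himg : ∀ i, (π (c₀ * βC (triC i) * c₀⁻¹) : Equiv.Perm (Fin 11)) =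
      hr * (tri11 i : Equiv.Perm (Fin 11)) * hr⁻¹ := by
    intro i
    rw [map_mul, map_mul, map_inv, hc₀, Subgroup.coe_mul, Subgroup.coe_mul, Subgroup.coe_inv, hp',
      hπ, ← hrp]
    group
  have hlift : ∀ (i : Fin 9) (y : CT), y ^ 3 = 1 → π (c₀ * βC (triC i) * c₀⁻¹) = π y →
      β' (triC i : Ly) = (y : Ly) := by
    intro i y hy h
    set u := c₀ * βC (triC i) * c₀⁻¹ with hu
    have hu3 : u ^ 3 = 1 := by
      rw [hu, conj_pow, ← map_pow, show triC i ^ 3 = 1 from Subtype.ext (tri_rels.1 i).1, map_one,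
        mul_one, mul_inv_cancel]
    have hk : y⁻¹ * u ∈ Subgroup.zpowers tauC := by
      rw [← hker, MonoidHom.mem_ker, map_mul, map_inv, h, inv_mul_cancel]
    obtain ⟨k, hk'⟩ := hk
    have hk'' : tauC ^ k = y⁻¹ * u := hk'
    have ht : (tauC : CT) ^ (2 : ℤ) = 1 := Subtype.ext (by
      show tau ^ (2 : ℤ) = 1
      rw [zpow_ofNat, ← tau_order, pow_orderOf_eq_one])
    have huy : u = y := by
      rcases Int.even_or_odd k with ⟨m, hm⟩ | ⟨m, hm⟩
      · rw [hm, ← two_mul, zpow_mul, ht, one_zpow] at hk''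
        exact (inv_mul_eq_one.1 hk''.symm).symm
      · exfalso
        rw [hm, zpow_add, zpow_mul, ht, one_zpow, one_mul, zpow_one] at hk''
        have hu' : u = y * tauC := by rw [hk'', mul_inv_cancel_left]
        have hc : Commute y tauC := Subtype.ext (Subgroup.mem_centralizer_singleton_iff.1 y.2)
        rw [hu', hc.mul_pow, hy, one_mul] at hu3
        have h2 : tauC ^ 2 = 1 := by rw [← zpow_natCast]; exact ht
        have h1 : tauC = 1 := by
          calc tauC = tauC ^ 3 * (tauC ^ 2)⁻¹ := by group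
            _ = 1 := by rw [hu3, h2]; group
        have := tau_order
        rw [show tau = 1 from congrArg Subtype.val h1, orderOf_one] at this
        norm_num at this
    exact congrArg Subtype.val huy
  rcases hs with h | h
  · refine inner_of_fix hτ' fun i => hlift i (triC i) (Subtype.ext (tri_rels.1 i).1) (Subtype.ext ?_)
    rw [himg, h, hπ, one_mul, inv_one, mul_one]
  · refine absurd (fun i => hlift i (outEl i) ((out_facts).1 i i.2) (Subtype.ext (Equiv.ext fun x => ?_)))
      fun hX => no_outer hτ' hX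
    rw [himg, h, img_outEl hπ i.2, Equiv.Perm.mul_apply, Equiv.Perm.mul_apply, Equiv.swap_inv,
      swp_eq, swp_eq, tri11_apply]

/-- The outer automorphism group is trivial. -/
theorem out_ly : Nat.card (Out Ly) = 1 := by
  have h : Inn Ly = ⊤ := eq_top_iff.2 fun α _ => aut_inner α
  show (Inn Ly).index = 1
  rw [h, Subgroup.index_top]

end Cfsg.Lib.LyReal
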