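import Cfsg.Agent.Lib.LyReal.DataOut
import Mathlib

/-!
# Intertwiners of a few permutations of eleven points
-/

set_option autoImplicit false
set_option maxRecDepth 100000

namespace Cfsg.Lib.LyReal

/-- The three-cycle through the last two points and a point, as a map. -/
def triFun (i : ℕ) (x : Fin 11) : Fin 11 :=
  if x.1 = 9 then 10 else if x.1 = 10 then Fin.ofNat 11 i else if x.1 = i then 9 else x

/-- The map of a word in the nine elements. -/
def imgW : List ℕ → Fin 11 → Fin 11
  | [], x => x
  | i :: w, x => triFun i (imgW w x)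

/-- The transposition of the outer candidate. -/
def swp (x : Fin 11) : Fin 11 := if x.1 = 0 then 3 else if x.1 = 3 then 0 else x

/-- Fill in an intertwiner along a list of steps. -/
def fillIn (cs : List ((Fin 11 → Fin 11) × (Fin 11 → Fin 11))) :
    List (ℕ × ℕ × ℕ) → (Fin 11 → Fin 11) → Fin 11 → Fin 11
  | [], π => π
  | (x, k, y) :: st, π =>
    fillIn cs st (fun p => if p.1 = y then (cs.getD k (id, id)).2 (π (Fin.ofNat 11 x)) else π p)

/-- The first guess. -/
def startMap (a b : Fin 11) (p : Fin 11) : Fin 11 := if p.1 = 1 then b else a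

/-- The steps are true steps. -/
def stepsOK (cs : List ((Fin 11 → Fin 11) × (Fin 11 → Fin 11))) (st : List (ℕ × ℕ × ℕ)) : Bool :=
  st.all fun q => decide (q.1 < 11 ∧ q.2.1 < cs.length ∧ q.2.2 < 11 ∧
    ((cs.getD q.2.1 (id, id)).1 (Fin.ofNat 11 q.1)).1 = q.2.2)

/-- An intertwiner is determined by what it does along the steps. -/
theorem fillIn_eq (cs : List ((Fin 11 → Fin 11) × (Fin 11 → Fin 11))) (π : Fin 11 → Fin 11)
    (hπ : ∀ k < cs.length, ∀ x, π ((cs.getD k (id, id)).1 x) = (cs.getD k (id, id)).2 (π x)) :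
    ∀ (st : List (ℕ × ℕ × ℕ)) (μ : Fin 11 → Fin 11) (known : List ℕ),
      stepsOK cs st = true → (∀ p : Fin 11, p.1 ∈ known → μ p = π p) →
      (∀ (n : ℕ) (h : n < st.length), (st[n]).1 ∈ known ∨ ∃ m, ∃ hm : m < n,
        (st[n]).1 = (st[m]'(hm.trans h)).2.2) →
      ∀ p : Fin 11, (p.1 ∈ known ∨ p.1 ∈ st.map fun q => q.2.2) → fillIn cs st μ p = π p
  | [], μ, known, _, hμ, _, p, hp => by
    rcases hp with hp | hp
    · exact hμ p hp
    · simp at hp
  | (x, k, y) :: st, μ, known, hok, hμ, hsrc, p, hp => by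
    simp only [stepsOK, List.all_cons, Bool.and_eq_true, decide_eq_true_eq] at hok
    obtain ⟨⟨hx, hk, hy, hxy⟩, hok⟩ := hok
    have hxk : x ∈ known := by
      rcases hsrc 0 (by simp) with h | ⟨m, hm, -⟩
      · simpa using h
      · omega
    rw [fillIn]
    refine fillIn_eq cs π hπ st _ (y :: known) hok ?_ ?_ p ?_
    · intro q hq
      by_cases hqy : q.1 = y
      · rw [if_pos hqy, hμ _ (by rwa [Fin.val_ofNat, Nat.mod_eq_of_lt hx]), ← hπ k hk]
        exact congrArg π (Fin.ext (hxy.trans hqy.symm))
      · rw [if_neg hqy]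
        exact hμ q ((List.mem_cons.1 hq).resolve_left hqy)
    · intro n hn
      rcases hsrc (n + 1) (by simpa using hn) with h | ⟨m, hm, h⟩
      · left; simpa using List.mem_cons_of_mem _ h
      · rcases m with - | m
        · left; simp only [List.getElem_cons_succ, List.getElem_cons_zero] at h; simp [h]
        · right
          exact ⟨m, by omega, by simpa using h⟩
    · rcases hp with hp | hp
      · exact Or.inl (List.mem_cons_of_mem _ hp)
      · rcases List.mem_cons.1 hp with h | h
        · exact Or.inl (by simp [h])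
        · exact Or.inr h

/-- The conditions of the first case. -/
def cons0 : List ((Fin 11 → Fin 11) × (Fin 11 → Fin 11)) :=
  edge0.map fun e => (imgW e.2.1, imgW e.2.1)

/-- The conditions of the second case. -/
def cons1 : List ((Fin 11 → Fin 11) × (Fin 11 → Fin 11)) :=
  (edge0.zip edge1).map fun e => (fun x => swp (imgW e.1.2.1 (swp x)), imgW e.2.2.1)

/-- A candidate satisfies all conditions and is injective. -/
def goodMap (cs : List ((Fin 11 → Fin 11) × (Fin 11 → Fin 11))) (π : Fin 11 → Fin 11) : Bool :=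
  decide (∀ k < cs.length, ∀ x, π ((cs.getD k (id, id)).1 x) = (cs.getD k (id, id)).2 (π x)) &&
    decide (∀ x y, π x = π y → x = y)

theorem spread_ok : stepsOK cons0 spread0 = true ∧ stepsOK cons1 spread1 = true := by
  decide +kernel

theorem spread_src : (∀ n, ∀ h : n < spread0.length, (spread0[n]).1 ∈ [0, 1] ∨ ∃ m, ∃ hm : m < n,
      (spread0[n]).1 = (spread0[m]'(hm.trans h)).2.2) ∧
    (∀ n, ∀ h : n < spread1.length, (spread1[n]).1 ∈ [0, 1] ∨ ∃ m, ∃ hm : m < n,
      (spread1[n]).1 = (spread1[m]'(hm.trans h)).2.2) := by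
  decide +kernel

theorem spread_all : ∀ p : Fin 11, (p.1 ∈ [0, 1] ∨ p.1 ∈ spread0.map fun q => q.2.2) ∧
    (p.1 ∈ [0, 1] ∨ p.1 ∈ spread1.map fun q => q.2.2) := by
  decide +kernel

theorem cand0 : ∀ a b : Fin 11, goodMap cons0 (fillIn cons0 spread0 (startMap a b)) = true →
    (∀ p, fillIn cons0 spread0 (startMap a b) p = p) ∨
      ∀ p, fillIn cons0 spread0 (startMap a b) p = imgW secW p := by
  decide +kernel

theorem cand1 : ∀ a b : Fin 11, goodMap cons1 (fillIn cons1 spread1 (startMap a b)) = false := by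
  decide +kernel

/-- Intertwiners of the first case. -/
theorem intertwine0 (π : Fin 11 → Fin 11) (hinj : Function.Injective π)
    (h : ∀ k < cons0.length, ∀ x, π ((cons0.getD k (id, id)).1 x) =
      (cons0.getD k (id, id)).2 (π x)) :
    (∀ p, π p = p) ∨ ∀ p, π p = imgW secW p := by
  have hfill : fillIn cons0 spread0 (startMap (π 0) (π 1)) = π := funext fun p =>
    fillIn_eq cons0 π h spread0 _ [0, 1] spread_ok.1 (fun q hq => by
      simp only [List.mem_cons, List.not_mem_nil, or_false] at hq
      rcases hq with hq | hq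
      · rw [show q = 0 from Fin.ext hq]; rfl
      · rw [show q = 1 from Fin.ext hq]; rfl) spread_src.1 p (spread_all p).1
  have hc := cand0 (π 0) (π 1)
  rw [hfill] at hc
  exact hc (by
    simp only [goodMap, Bool.and_eq_true, decide_eq_true_eq]
    exact ⟨h, hinj⟩)

/-- There is no intertwiner in the second case. -/
theorem intertwine1 (π : Fin 11 → Fin 11) (hinj : Function.Injective π)
    (h : ∀ k < cons1.length, ∀ x, π ((cons1.getD k (id, id)).1 x) =
      (cons1.getD k (id, id)).2 (π x)) : False := by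
  have hfill : fillIn cons1 spread1 (startMap (π 0) (π 1)) = π := funext fun p =>
    fillIn_eq cons1 π h spread1 _ [0, 1] spread_ok.2 (fun q hq => by
      simp only [List.mem_cons, List.not_mem_nil, or_false] at hq
      rcases hq with hq | hq
      · rw [show q = 0 from Fin.ext hq]; rfl
      · rw [show q = 1 from Fin.ext hq]; rfl) spread_src.2 p (spread_all p).2
  have hc := cand1 (π 0) (π 1)
  rw [hfill] at hc
  have hg : goodMap cons1 π = true := by
    simp only [goodMap, Bool.and_eq_true, decide_eq_true_eq]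
    exact ⟨h, hinj⟩
  rw [hg] at hc
  exact Bool.noConfusion hc

end Cfsg.Lib.LyReal
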