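import Cfsg.Agent.Lib.LyReal.Cent
import Cfsg.Agent.Lib.LyReal.OutData
import Cfsg.Agent.Lib.LyReal.OutPerm

/-!
# A second involution, the swap and the images in the alternating group
-/

set_option autoImplicit false
set_option maxRecDepth 100000

namespace Cfsg.Lib.LyReal

open Cfsg.Spor Cfsg.Lib.CosetEnum Cfsg.Lib.CosetEnum.LyG2

/-- The nine elements indexed by numbers. -/
noncomputable def triN (i : ℕ) : CT := triC (Fin.ofNat 9 i)

/-- A product of the nine. -/
noncomputable def xC (w : List ℕ) : CT := (w.map triN).prod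

/-- The images of the nine under the outer candidate. -/
noncomputable def outEl (i : ℕ) : CT := xC (outW.getD i [])

/-- A product of the images. -/
noncomputable def eC (w : List ℕ) : CT := (w.map outEl).prod

/-- The involution or one. -/
noncomputable def tpow : Bool → CT
  | true => tauC
  | false => 1

/-- The swap in the group on six generators. -/
def sixSwap : SixGroup := six swapW

/-- The swap. -/
noncomputable def swapEl : Ly := lySys.hom sixSwap

/-- The second involution. -/
noncomputable def sec : Ly := swapEl * tau * swapEl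

/-- An element has the given matrix. -/
def MatOf (x : Ly) (M : ℕ) : Prop :=
  BigMat.IsMat 111 M ∧ (rho x : Matrix (Fin 111) (Fin 111) (ZMod 5)) = BigMat.toMat 111 M

theorem MatOf.mul {x y : Ly} {M N : ℕ} (hx : MatOf x M) (hy : MatOf y N) :
    MatOf (x * y) (BigMat.mul 111 M N) := by
  obtain ⟨h1, h2⟩ := BigMat.toMat_mul (n := 111) (by norm_num) (by norm_num) hx.1 hy.1
  exact ⟨h1, by rw [map_mul, Units.val_mul, hx.2, hy.2, h2]⟩

theorem MatOf.one : MatOf 1 (BigMat.one 111) :=
  ⟨BigMat.isMat_one.1, by rw [map_one, Units.val_one, BigMat.isMat_one.2]⟩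

theorem MatOf.eq {x y : Ly} {M N : ℕ} (hx : MatOf x M) (hy : MatOf y N) (h : M = N) : x = y := by
  subst h
  exact rho_injective (Units.ext (hx.2.trans hy.2.symm))

theorem xprod_spec (f : ℕ → CT) (Xs : List ℕ) (h : ∀ i < 9, MatOf (f i) (Xs.getD i 0)) :
    ∀ {w : List ℕ}, (w.all fun i => Nat.blt i 9) = true →
      MatOf ((w.map f).prod : CT) (xprod Xs w)
  | [], _ => by simpa [xprod] using MatOf.one
  | i :: w, hw => by
    simp only [List.all_cons, Bool.and_eq_true, Nat.blt_eq] at hw
    rw [xprod, force_eq, List.map_cons, List.prod_cons, Subgroup.coe_mul]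
    exact (h i hw.1).mul (xprod_spec f Xs h hw.2)

theorem mulT_spec {x : CT} {M T : ℕ} (hx : MatOf (x : Ly) M) (hT : MatOf tau T) :
    ∀ f, MatOf ((x * tpow f : CT) : Ly) (mulT T M f)
  | true => by
    rw [mulT, force_eq, Subgroup.coe_mul]
    exact hx.mul hT
  | false => by simpa [mulT, tpow] using hx

theorem withProds_spec (Xs : List ℕ) : ∀ (ws : List (List ℕ)) (acc : List ℕ) (f : List ℕ → Bool),
    withProds Xs ws acc f = f (acc.reverse ++ ws.map fun w => xprod Xs w)
  | [], acc, f => by simp [withProds]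
  | w :: ws, acc, f => by
    rw [withProds, force_eq, withProds_spec Xs ws _ f]
    simp [List.append_assoc]

theorem letter20 : ∀ g < 12,
    let20 ([0, 1, 2, 3, 5, 9, 10, 11, 12, 13, 15, 19].getD g 0) = lyLetter g := by
  intro g hg
  interval_cases g <;> simp [let20, baseGen, lyLetter] <;> rfl

theorem swap_val : val20 swapW20 = swapEl := by
  obtain ⟨-, -, -, -, -, -, h, hok⟩ := out_shape
  rw [List.all_eq_true] at hok
  have hlt : ∀ g ∈ swapW, g < 12 := fun g hg => by simpa using hok g hg
  have hl : lettersOK swapW = true := lettersOK_iff.2 hlt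
  rw [swapEl, sixSwap, lySys.hom_six hl, val20, h, List.map_map]
  exact congrArg List.prod (List.map_congr_left fun g hg => letter20 g (hlt g hg))

/-- The consequences of the matrix checks. -/
theorem out_facts : (∀ i < 9, outEl i ^ 3 = 1) ∧
    sec = ((xC secW * tpow secF : CT) : Ly) ∧ sec = ((eC secW * tpow secF : CT) : Ly) ∧
    (∀ e ∈ edge0, swapEl * (xC e.1 : Ly) * swapEl = ((xC e.2.1 * tpow e.2.2 : CT) : Ly)) ∧
    (∀ e ∈ edge1, swapEl * (eC e.1 : Ly) * swapEl = ((xC e.2.1 * tpow e.2.2 : CT) : Ly)) := by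
  obtain ⟨hlen, how, hsec, he0, he1, -, -, -⟩ := out_shape
  have h := out_ok
  rw [withMats_spec, List.reverse_nil, List.nil_append, List.map_cons, List.map_cons] at h
  set Tm := BigMat.prodWord 111 LyRep.letterMat [0, 0, 0, 0].reverse
  set Gm := BigMat.prodWord 111 LyRep.letterMat swapW20.reverse
  set Xs := triWord.map fun w => BigMat.prodWord 111 LyRep.letterMat w.reverse with hXs
  simp only [outOK, withProds_spec, List.reverse_nil, List.nil_append, force_eq] at h
  set Es := outW.map fun w => xprod Xs w with hEs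
  simp only [outBody, Bool.and_eq_true, List.all_eq_true, Nat.beq_eq, force_eq] at h
  obtain ⟨⟨⟨⟨hcube, hs1⟩, hs2⟩, h0⟩, h1⟩ := h
  have hT : MatOf tau Tm := by
    rw [← tau_val]; exact hasMat_word rfl
  have hG : MatOf swapEl Gm := by
    rw [← swap_val]
    exact hasMat_word (by decide +kernel)
  have hX : ∀ i < 9, MatOf (triN i) (Xs.getD i 0) := by
    intro i hi
    have hi' : i < triWord.length := triWord_ok.2.symm ▸ hi
    show MatOf (triEl (Fin.ofNat 9 i)) _
    rw [triEl, Fin.val_ofNat, Nat.mod_eq_of_lt hi, hXs, List.getD_eq_getElem _ _ hi',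
      List.getD_eq_getElem (List.map _ _) _ (by simpa using hi'), List.getElem_map]
    exact hasMat_word (List.all_eq_true.1 triWord_ok.1 _ (List.getElem_mem hi'))
  have hE : ∀ i < 9, MatOf (outEl i) (Es.getD i 0) := by
    intro i hi
    have hi' : i < outW.length := hlen.symm ▸ hi
    rw [outEl, xC, hEs, List.getD_eq_getElem _ _ hi',
      List.getD_eq_getElem (List.map _ _) _ (by simpa using hi'), List.getElem_map]
    exact xprod_spec triN Xs hX (List.all_eq_true.1 how _ (List.getElem_mem hi'))
  have hEslen : Es.length = 9 := by rw [hEs, List.length_map, hlen]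
  have hS := (hG.mul hT).mul hG
  rw [List.all_eq_true] at he0 he1
  refine ⟨fun i hi => ?_, ?_, ?_, fun e he => ?_, fun e he => ?_⟩
  · refine Subtype.ext ?_
    have hm := hE i hi
    rw [SubmonoidClass.coe_pow, pow_succ', pow_two, Subgroup.coe_one]
    refine (hm.mul (hm.mul hm)).eq MatOf.one (hcube _ ?_)
    rw [List.getD_eq_getElem _ _ (hEslen.symm ▸ hi)]
    exact List.getElem_mem _
  · exact hS.eq (mulT_spec (xprod_spec triN Xs hX hsec) hT secF) hs1
  · exact hS.eq (mulT_spec (xprod_spec outEl Es hE hsec) hT secF) hs2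
  · have hok := he0 e he
    simp only [Bool.and_eq_true] at hok
    exact ((hG.mul (xprod_spec triN Xs hX hok.1)).mul hG).eq
      (mulT_spec (xprod_spec triN Xs hX hok.2) hT e.2.2) (h0 e he)
  · have hok := he1 e he
    simp only [Bool.and_eq_true] at hok
    exact ((hG.mul (xprod_spec outEl Es hE hok.1)).mul hG).eq
      (mulT_spec (xprod_spec triN Xs hX hok.2) hT e.2.2) (h1 e he)

theorem swap_checks : eqW (swapW ++ swapW) [] = true ∧
    Nat.beq (pw (([0, 0, 0, 0] ++ swapW) ++ ([0, 0, 0, 0] ++ swapW))) (BigMat.one 7) = false ∧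
    lettersOK (([0, 0, 0, 0] ++ swapW) ++ ([0, 0, 0, 0] ++ swapW)) = true := by decide +kernel

theorem sixSwap_sq : sixSwap * sixSwap = 1 := by
  have h := prod_eq_of_eqW (e := sixLetter) sixLetter_pair sixLetter_rel swap_checks.1
  rw [List.map_append, List.prod_append, List.map_nil, List.prod_nil] at h
  exact h

theorem swap_sq : swapEl * swapEl = 1 := by rw [swapEl, ← map_mul, sixSwap_sq, map_one]

theorem tau_swap_ne : tau * swapEl * (tau * swapEl) ≠ 1 := by
  intro h
  rw [tau, swapEl, ← map_mul, ← map_mul] at h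
  have h6 : tauSix * sixSwap * (tauSix * sixSwap) = 1 := hom_injective (by rw [h, map_one])
  obtain ⟨ψ, -, hψ⟩ := exists_seven
  obtain ⟨-, hne, hl⟩ := swap_checks
  have h7 := hψ _ (lettersOK_iff.1 hl)
  rw [six_append, six_append, ← tauSix, ← sixSwap, h6, map_one, Units.val_one,
    ← BigMat.isMat_one.2] at h7
  rw [← BigMat.toMat_inj BigMat.isMat_one.1 h7.2 h7.1, Nat.beq_refl] at hne
  exact Bool.noConfusion hne

theorem tri11_apply : ∀ (i : Fin 9) (x : Fin 11),
    (tri11 i : Equiv.Perm (Fin 11)) x = triFun i.1 x := by decide +kernel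

theorem swp_eq : ∀ x : Fin 11, Equiv.swap (0 : Fin 11) 3 x = swp x := by decide +kernel

theorem outW_img : ∀ (i : Fin 9) (x : Fin 11),
    imgW (outW.getD i.1 []) x = swp (triFun i.1 (swp x)) := by decide +kernel

theorem swp_swp : ∀ x : Fin 11, swp (swp x) = x := by decide +kernel

section Cover

variable {π : CT →* alternatingGroup (Fin 11)} (hπ : ∀ i, π (triC i) = tri11 i)

include hπ in
theorem img_xC : ∀ {w : List ℕ}, (w.all fun i => Nat.blt i 9) = true → ∀ x,
    (π (xC w) : Equiv.Perm (Fin 11)) x = imgW w x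
  | [], _, x => by simp [xC, imgW]
  | i :: w, hw, x => by
    simp only [List.all_cons, Bool.and_eq_true, Nat.blt_eq] at hw
    have ih := img_xC (w := w) hw.2 x
    rw [xC] at ih
    rw [xC, List.map_cons, List.prod_cons, map_mul, Subgroup.coe_mul, Equiv.Perm.mul_apply, ih,
      triN, hπ, tri11_apply, Fin.val_ofNat, Nat.mod_eq_of_lt hw.1, imgW]

include hπ in
theorem img_outEl {i : ℕ} (hi : i < 9) (x : Fin 11) :
    (π (outEl i) : Equiv.Perm (Fin 11)) x = swp (triFun i (swp x)) := by
  obtain ⟨hlen, how, -⟩ := out_shape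
  have hi' : i < outW.length := hlen.symm ▸ hi
  rw [outEl, img_xC hπ (List.all_eq_true.1 how _ (by
    rw [List.getD_eq_getElem _ _ hi']; exact List.getElem_mem hi'))]
  exact outW_img ⟨i, hi⟩ x

include hπ in
theorem img_eC : ∀ {w : List ℕ}, (w.all fun i => Nat.blt i 9) = true → ∀ x,
    (π (eC w) : Equiv.Perm (Fin 11)) x = swp (imgW w (swp x))
  | [], _, x => by simp [eC, imgW, swp_swp]
  | i :: w, hw, x => by
    simp only [List.all_cons, Bool.and_eq_true, Nat.blt_eq] at hw
    have ih := img_eC (w := w) hw.2 x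
    rw [eC] at ih
    rw [eC, List.map_cons, List.prod_cons, map_mul, Subgroup.coe_mul, Equiv.Perm.mul_apply, ih,
      img_outEl hπ hw.1, swp_swp, imgW]

theorem img_tpow (hker : π.ker = Subgroup.zpowers tauC) : ∀ f, π (tpow f) = 1
  | true => MonoidHom.mem_ker.1 (hker ▸ Subgroup.mem_zpowers tauC)
  | false => map_one π

end Cover

end Cfsg.Lib.LyReal
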