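import Cfsg.Agent.Lib.LyReal.OutBase

/-!
# One class of involutions, and generators
-/

set_option autoImplicit false
set_option maxRecDepth 100000

namespace Cfsg.Lib.LyReal

open Cfsg.Spor Cfsg.Lib.CosetEnum Cfsg.Lib.CosetEnum.LyG2

theorem triC_gen : Subgroup.closure (Set.range triC) = ⊤ := by
  obtain ⟨π, hπs, hker, hπ⟩ := exists_cover
  set L := Subgroup.closure (Set.range triC)
  have htau : tauC ∈ L := by
    rw [← triC_pair (i := 0) (j := 1) (by decide)]
    have h0 : triC 0 ∈ L := Subgroup.subset_closure ⟨0, rfl⟩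
    have h1 : triC 1 ∈ L := Subgroup.subset_closure ⟨1, rfl⟩
    exact mul_mem (mul_mem h0 h1) (mul_mem h0 h1)
  have hcl : Subgroup.closure (Set.range fun i : Fin 9 =>
      (⟨PresSymAlt.tri i, PresSymAlt.tri_mem i⟩ : alternatingGroup (Fin 9 ⊕ Bool))) = ⊤ := by
    refine Subgroup.map_injective (alternatingGroup (Fin 9 ⊕ Bool)).subtype_injective ?_
    rw [MonoidHom.map_closure, ← Set.range_comp, ← MonoidHom.range_eq_map, Subgroup.range_subtype]
    exact PresSymAlt.closure_tri
  have hmap : L.map π = ⊤ := by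
    rw [MonoidHom.map_closure, ← Set.range_comp,
      show π ∘ triC = pt11.altCongrHom.toMonoidHom ∘ fun i : Fin 9 =>
        (⟨PresSymAlt.tri i, PresSymAlt.tri_mem i⟩ : alternatingGroup (Fin 9 ⊕ Bool)) from funext hπ,
      Set.range_comp, ← MonoidHom.map_closure, hcl,
      Subgroup.map_top_of_surjective _ pt11.altCongrHom.surjective]
  rw [eq_top_iff]
  intro x _
  obtain ⟨l, hl, hlx⟩ : π x ∈ L.map π := hmap ▸ Subgroup.mem_top _
  have hk : l⁻¹ * x ∈ π.ker := by
    rw [MonoidHom.mem_ker, map_mul, map_inv, hlx, inv_mul_cancel]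
  rw [hker] at hk
  have := mul_mem hl ((Subgroup.zpowers_le.2 htau) hk)
  rwa [mul_inv_cancel_left] at this

theorem card_CT : Nat.card CT = 39916800 := by
  obtain ⟨π, hπs, hker, -⟩ := exists_cover
  have h := Subgroup.card_eq_card_quotient_mul_card_subgroup π.ker
  rw [hker, card_tauC, ← hker,
    Nat.card_congr (QuotientGroup.quotientKerEquivOfSurjective π hπs).toEquiv] at h
  have hc := two_mul_nat_card_alternatingGroup (α := Fin 11)
  rw [Nat.card_perm, Nat.card_fin, show Nat.factorial (11 : ℕ) = 39916800 from rfl] at hc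
  omega

/-- Every involution has a conjugate in the centralizer of the involution. -/
theorem invol_into_CT {u : Ly} (hu : orderOf u = 2) : ∃ c : Ly, c * u * c⁻¹ ∈ CT := by
  have := finite_ly
  have := Fact.mk Nat.prime_two
  obtain ⟨Q, hQ⟩ := Sylow.exists_subgroup_card_pow_prime (G := CT) 2 (n := 8)
    (by rw [card_CT]; norm_num)
  have hQ' : Nat.card (Q.map CT.subtype) = 2 ^ 8 := by
    rw [Subgroup.card_map_of_injective CT.subtype_injective, hQ]
  obtain ⟨R, hR⟩ := IsPGroup.exists_le_sylow (IsPGroup.of_card (p := 2) hQ')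
  obtain ⟨k, hk⟩ := IsPGroup.iff_card.1 R.2
  have hRQ : Q.map CT.subtype = (R : Subgroup Ly) := by
    refine Subgroup.eq_of_le_of_card_ge hR ?_
    rw [hQ', hk]
    refine Nat.pow_le_pow_right (by norm_num) ?_
    by_contra hk8
    have h9 : 2 ^ 9 ∣ Nat.card Ly :=
      (pow_dvd_pow 2 (not_le.1 hk8)).trans (hk ▸ Subgroup.card_subgroup_dvd_card _)
    rw [order_index.1] at h9
    norm_num at h9
  obtain ⟨R', hR'⟩ := IsPGroup.exists_le_sylow (IsPGroup.of_card (p := 2) (n := 1)
    (by rw [Nat.card_zpowers, hu, pow_one]) : IsPGroup 2 (Subgroup.zpowers u))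
  obtain ⟨g, hg⟩ := MulAction.exists_smul_eq Ly R' R
  refine ⟨g, ?_⟩
  have hmem : g * u * g⁻¹ ∈ (R : Subgroup Ly) := by
    rw [← hg, Sylow.coe_subgroup_smul]
    exact ⟨u, hR' (Subgroup.mem_zpowers u), rfl⟩
  rw [← hRQ] at hmem
  obtain ⟨q, -, hq⟩ := hmem
  rw [← hq]
  exact q.2

theorem cycleType_invol {p : Equiv.Perm (Fin 11)} (hp : p * p = 1) (hne : p ≠ 1) :
    ∃ n, p.cycleType = Multiset.replicate (n + 1) 2 ∧ p.support.card = 2 * (n + 1) := by
  have ho : orderOf p = 2 := orderOf_eq_prime (by rw [pow_two]; exact hp) hne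
  obtain ⟨n, hn⟩ := Equiv.Perm.cycleType_prime_order (σ := p) (by rw [ho]; exact Nat.prime_two)
  rw [ho] at hn
  refine ⟨n, hn, ?_⟩
  rw [← Equiv.Perm.sum_cycleType, hn, Multiset.sum_replicate, smul_eq_mul, mul_comm]

theorem conj_alt {p q : alternatingGroup (Fin 11)} (s : Equiv.Perm (Fin 11))
    (hs : Equiv.Perm.sign s = -1) (hsq : s * (q : Equiv.Perm (Fin 11)) * s⁻¹ = q)
    (h : (p : Equiv.Perm (Fin 11)).cycleType = (q : Equiv.Perm (Fin 11)).cycleType) :
    ∃ c : alternatingGroup (Fin 11), c * p * c⁻¹ = q := by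
  obtain ⟨c, hc⟩ := isConj_iff.1 (Equiv.Perm.isConj_iff_cycleType_eq.2 h)
  rcases Int.units_eq_one_or (Equiv.Perm.sign c) with h1 | h1
  · exact ⟨⟨c, Equiv.Perm.mem_alternatingGroup.2 h1⟩, Subtype.ext hc⟩
  · refine ⟨⟨s * c, Equiv.Perm.mem_alternatingGroup.2 (by rw [map_mul, hs, h1]; rfl)⟩,
      Subtype.ext ?_⟩
    show s * c * (p : Equiv.Perm (Fin 11)) * (s * c)⁻¹ = q
    rw [mul_inv_rev, show s * c * (p : Equiv.Perm (Fin 11)) * (c⁻¹ * s⁻¹) =
      s * (c * (p : Equiv.Perm (Fin 11)) * c⁻¹) * s⁻¹ by group, hc, hsq]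

theorem conj_dbl_or_sec (p : alternatingGroup (Fin 11)) (hp : p * p = 1) (hne : p ≠ 1)
    {q : alternatingGroup (Fin 11)} (hq : ∀ x, (q : Equiv.Perm (Fin 11)) x = imgW secW x) :
    ∃ c, c * p * c⁻¹ = tri11 0 * tri11 1 ∨ c * p * c⁻¹ = q := by
  obtain ⟨n, hn, hsupp⟩ := cycleType_invol (p := (p : Equiv.Perm (Fin 11)))
    (congrArg Subtype.val hp) fun h => hne (Subtype.ext h)
  have hsign := Equiv.Perm.sign_of_cycleType (p : Equiv.Perm (Fin 11))
  rw [Equiv.Perm.mem_alternatingGroup.1 p.2, hn, Multiset.sum_replicate, Multiset.card_replicate,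
    smul_eq_mul] at hsign
  have hle : 2 * (n + 1) ≤ 11 := hsupp ▸ (Finset.card_le_univ _).trans (by simp)
  have hn13 : n = 1 ∨ n = 3 := by
    obtain rfl | rfl | rfl | rfl | rfl : n = 0 ∨ n = 1 ∨ n = 2 ∨ n = 3 ∨ n = 4 := by omega
    all_goals first | (left; rfl) | (right; rfl) | (exfalso; revert hsign; decide)
  rcases hn13 with rfl | rfl
  · have hfun : ∀ x, ((tri11 0 * tri11 1 : alternatingGroup (Fin 11)) : Equiv.Perm (Fin 11)) x =
        imgW [0, 1] x := fun x => by
      rw [Subgroup.coe_mul, Equiv.Perm.mul_apply, tri11_apply, tri11_apply]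
      rfl
    obtain ⟨m, hm, hms⟩ := cycleType_invol
      (p := ((tri11 0 * tri11 1 : alternatingGroup (Fin 11)) : Equiv.Perm (Fin 11)))
      (Equiv.ext fun x => by
        rw [Equiv.Perm.mul_apply, hfun, hfun, Equiv.Perm.one_apply]
        revert x; decide +kernel)
      (fun h => by
        have := hfun 0
        rw [h, Equiv.Perm.one_apply] at this
        exact absurd this (by decide +kernel))
    have h4 : ((tri11 0 * tri11 1 : alternatingGroup (Fin 11)) : Equiv.Perm (Fin 11)).support =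
        Finset.univ.filter fun x => imgW [0, 1] x ≠ x := by
      ext x
      rw [Equiv.Perm.mem_support, hfun, Finset.mem_filter]
      simp
    rw [h4, show (Finset.univ.filter fun x : Fin 11 => imgW [0, 1] x ≠ x).card = 4 by
      decide +kernel] at hms
    obtain rfl : m = 1 := by omega
    obtain ⟨c, hc⟩ := conj_alt (p := p) (q := tri11 0 * tri11 1) (Equiv.swap 2 3)
      (Equiv.Perm.sign_swap (by decide)) (Equiv.ext fun x => by
        simp only [Equiv.Perm.mul_apply, Equiv.swap_inv, hfun]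
        revert x; decide +kernel) (hn.trans hm.symm)
    exact ⟨c, Or.inl hc⟩
  · obtain ⟨m, hm, hms⟩ := cycleType_invol (p := (q : Equiv.Perm (Fin 11)))
      (Equiv.ext fun x => by
        rw [Equiv.Perm.mul_apply, hq, hq, Equiv.Perm.one_apply]
        revert x; decide +kernel)
      (fun h => by
        have := hq 1
        rw [h, Equiv.Perm.one_apply] at this
        exact absurd this (by decide +kernel))
    have h8 : (q : Equiv.Perm (Fin 11)).support =
        Finset.univ.filter fun x => imgW secW x ≠ x := by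
      ext x
      rw [Equiv.Perm.mem_support, hq, Finset.mem_filter]
      simp
    rw [h8, show (Finset.univ.filter fun x : Fin 11 => imgW secW x ≠ x).card = 8 by
      decide +kernel] at hms
    obtain rfl : m = 3 := by omega
    obtain ⟨c, hc⟩ := conj_alt (p := p) (q := q) (Equiv.swap 0 3)
      (Equiv.Perm.sign_swap (by decide)) (Equiv.ext fun x => by
        simp only [Equiv.Perm.mul_apply, Equiv.swap_inv, hq, swp_eq]
        revert x; decide +kernel) (hn.trans hm.symm)
    exact ⟨c, Or.inr hc⟩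

theorem sec_mem : sec ∈ CT := by
  rw [out_facts.2.1]
  exact SetLike.coe_mem _

theorem sec_sq : sec * sec = 1 := by
  have ht : tau * tau = 1 := by rw [← pow_two, ← tau_order]; exact pow_orderOf_eq_one tau
  calc sec * sec = swapEl * tau * (swapEl * swapEl) * tau * swapEl := by rw [sec]; group
    _ = swapEl * (tau * tau) * swapEl := by rw [swap_sq]; group
    _ = 1 := by rw [ht, mul_one, swap_sq]

theorem sec_ne_tau : sec ≠ tau := by
  intro h
  apply tau_swap_ne
  have e : tau * swapEl = swapEl * tau := by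
    calc tau * swapEl = sec * swapEl := by rw [h]
      _ = swapEl * tau * (swapEl * swapEl) := by rw [sec]; group
      _ = swapEl * tau := by rw [swap_sq, mul_one]
  calc tau * swapEl * (tau * swapEl) = tau * (swapEl * tau) * swapEl := by group
    _ = tau * tau * (swapEl * swapEl) := by rw [← e]; group
    _ = 1 := by rw [swap_sq, mul_one, ← pow_two, ← tau_order, pow_orderOf_eq_one]

/-- All involutions are conjugate. -/
theorem invol_conj {u : Ly} (hu : orderOf u = 2) : ∃ c : Ly, c * u * c⁻¹ = tau := by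
  obtain ⟨c₁, hc₁⟩ := invol_into_CT hu
  suffices h : ∀ v : CT, v * v = 1 → v ≠ 1 → ∃ c : Ly, c * (v : Ly) * c⁻¹ = tau by
    have hu2 : u * u = 1 := by rw [← pow_two, ← hu]; exact pow_orderOf_eq_one u
    obtain ⟨c, hc⟩ := h ⟨_, hc₁⟩ (Subtype.ext (by
        show c₁ * u * c₁⁻¹ * (c₁ * u * c₁⁻¹) = 1
        calc c₁ * u * c₁⁻¹ * (c₁ * u * c₁⁻¹) = c₁ * (u * u) * c₁⁻¹ := by group
          _ = 1 := by rw [hu2]; group))
      (fun h => by
        have h' : c₁ * u * c₁⁻¹ = 1 := congrArg Subtype.val h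
        rw [conj_eq_one_iff] at h'
        rw [h', orderOf_one] at hu
        norm_num at hu)
    exact ⟨c * c₁, by rw [← hc]; group⟩
  intro v hv hv1
  obtain ⟨π, hπs, hker, hπ⟩ := exists_cover
  set secC : CT := ⟨sec, sec_mem⟩
  have hsecC : secC = xC secW * tpow secF := Subtype.ext out_facts.2.1
  have hq : ∀ x, (π secC : Equiv.Perm (Fin 11)) x = imgW secW x := fun x => by
    rw [hsecC, map_mul, img_tpow hker, mul_one, img_xC hπ out_shape.2.2.1]
  by_cases h1 : π v = 1
  · have hk : v ∈ Subgroup.zpowers tauC := hker ▸ MonoidHom.mem_ker.2 h1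
    obtain ⟨k, hk'⟩ := hk
    have ht : (tauC : CT) ^ (2 : ℤ) = 1 := Subtype.ext (by
      show tau ^ (2 : ℤ) = 1
      rw [zpow_ofNat, ← tau_order, pow_orderOf_eq_one])
    have hk'' : tauC ^ k = v := hk'
    rcases Int.even_or_odd k with ⟨m, hm⟩ | ⟨m, hm⟩
    · rw [hm, ← two_mul, zpow_mul, ht, one_zpow] at hk''
      exact absurd hk''.symm hv1
    · rw [hm, zpow_add, zpow_mul, ht, one_zpow, one_mul, zpow_one] at hk''
      exact ⟨1, by rw [← hk'', one_mul, inv_one, mul_one]; rfl⟩
  obtain ⟨c, hc⟩ := conj_dbl_or_sec (π v) (by rw [← map_mul, hv, map_one]) h1 hq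
  obtain ⟨cl, rfl⟩ := hπs c
  set w := cl * v * cl⁻¹ with hw
  have hw2 : w * w = 1 := by
    calc w * w = cl * (v * v) * cl⁻¹ := by rw [hw]; group
      _ = 1 := by rw [hv]; group
  have hdiff : ∀ y : CT, π w = π y → w = y ∨ w = y * tauC := by
    intro y hy
    have hk : y⁻¹ * w ∈ Subgroup.zpowers tauC := by
      rw [← hker, MonoidHom.mem_ker, map_mul, map_inv, hy, inv_mul_cancel]
    obtain ⟨k, hk'⟩ := hk
    have hk'' : tauC ^ k = y⁻¹ * w := hk'
    have ht : (tauC : CT) ^ (2 : ℤ) = 1 := Subtype.ext (by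
      show tau ^ (2 : ℤ) = 1
      rw [zpow_ofNat, ← tau_order, pow_orderOf_eq_one])
    rcases Int.even_or_odd k with ⟨m, hm⟩ | ⟨m, hm⟩
    · left
      rw [hm, ← two_mul, zpow_mul, ht, one_zpow] at hk''
      exact (inv_mul_eq_one.1 hk''.symm).symm
    · right
      rw [hm, zpow_add, zpow_mul, ht, one_zpow, one_mul, zpow_one] at hk''
      rw [hk'', mul_inv_cancel_left]
  have hcomm : ∀ y : CT, y * tauC = tauC * y := fun y =>
    Subtype.ext (Subgroup.mem_centralizer_singleton_iff.1 y.2)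
  have htt : tauC * tauC = 1 := Subtype.ext (by
    show tau * tau = 1
    rw [← pow_two, ← tau_order, pow_orderOf_eq_one])
  rcases hc with hc | hc
  · exfalso
    have he : π w = π (triC 0 * triC 1) := by
      rw [hw, map_mul, map_mul, map_inv, hc, map_mul, hπ, hπ]
    have hp := triC_pair (i := 0) (j := 1) (by decide)
    have hne : tauC ≠ 1 := fun h => by
      have := tau_order
      rw [show tau = 1 from congrArg Subtype.val h, orderOf_one] at this
      norm_num at this
    rcases hdiff _ he with h | h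
    · rw [h, hp] at hw2
      exact hne hw2
    · rw [h] at hw2
      refine hne ?_
      calc tauC = triC 0 * triC 1 * (triC 0 * triC 1) * (tauC * tauC) := by rw [hp, htt, mul_one]
        _ = triC 0 * triC 1 * (triC 0 * triC 1 * tauC) * tauC := by group
        _ = triC 0 * triC 1 * (tauC * (triC 0 * triC 1)) * tauC := by rw [hcomm (triC 0 * triC 1)]
        _ = triC 0 * triC 1 * tauC * (triC 0 * triC 1 * tauC) := by group
        _ = 1 := hw2
  · have he : π w = π secC := by rw [hw, map_mul, map_mul, map_inv, hc]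
    rcases hdiff _ he with h | h
    · refine ⟨swapEl * (cl : Ly), ?_⟩
      have h' : (cl : Ly) * v * (cl : Ly)⁻¹ = sec := congrArg Subtype.val h
      calc swapEl * (cl : Ly) * v * (swapEl * (cl : Ly))⁻¹
          = swapEl * ((cl : Ly) * v * (cl : Ly)⁻¹) * swapEl⁻¹ := by group
        _ = swapEl * swapEl * tau * (swapEl * swapEl⁻¹) := by rw [h', sec]; group
        _ = tau := by rw [swap_sq, mul_inv_cancel, mul_one, one_mul]
    · set s6 := sixSwap * tauSix * sixSwap * tauSix with hs6
      have h' : lySys.hom s6 = (cl : Ly) * v * (cl : Ly)⁻¹ := by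
        rw [show (cl : Ly) * v * (cl : Ly)⁻¹ = sec * tau from congrArg Subtype.val h, hs6, map_mul,
          map_mul, map_mul, sec, swapEl, tau]
      have hs62 : s6 * s6 = 1 := hom_injective (by
        rw [map_mul, h', map_one]
        exact congrArg Subtype.val hw2)
      have hs61 : s6 ≠ 1 := fun h0 => sec_ne_tau (by
        have h1' : sec * tau = 1 := by
          rw [← show (cl : Ly) * v * (cl : Ly)⁻¹ = sec * tau from congrArg Subtype.val h, ← h', h0,
            map_one]
        calc sec = sec * (tau * tau) := by rw [← pow_two, ← tau_order, pow_orderOf_eq_one, mul_one]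
          _ = sec * tau * tau := by group
          _ = tau := by rw [h1', one_mul])
      obtain ⟨d, hd⟩ := six_conj hs62 hs61
      refine ⟨lySys.hom d * (cl : Ly), ?_⟩
      calc lySys.hom d * (cl : Ly) * v * (lySys.hom d * (cl : Ly))⁻¹
          = lySys.hom d * ((cl : Ly) * v * (cl : Ly)⁻¹) * (lySys.hom d)⁻¹ := by group
        _ = lySys.hom (d * s6 * d⁻¹) := by rw [← h']; simp only [map_mul, map_inv]
        _ = tau := by rw [← hd, tau]; congr 1; group

theorem gen_checks : eqW [1, 0, 0, 0, 0] [0, 0, 0, 0, 1] = true ∧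
    eqW [3, 0, 0, 0, 0] [0, 0, 0, 0, 3] = true ∧
    eqW ([1] ++ ([6] ++ (swapW ++ ([1] ++ (swapW ++ ([0] ++ [7])))))) [2] = true ∧
    eqW [6, 6, 6, 6, 6, 6, 6, 6, 6, 6, 6, 6] [0, 0, 0, 0] = true := by decide +kernel

theorem tau_v : tau = lySys.v [0, 0, 0, 0] := lySys.hom_six rfl

/-- The centralizer and the swap generate. -/
theorem gen_top : Subgroup.closure ((CT : Set Ly) ∪ {swapEl}) = ⊤ := by
  set T := Subgroup.closure ((CT : Set Ly) ∪ {swapEl})
  have hg : lySys.v swapW ∈ T := by
    rw [← lySys.hom_six (by decide +kernel : lettersOK swapW = true)]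
    exact Subgroup.subset_closure (Or.inr rfl)
  have hC : ∀ x ∈ CT, x ∈ T := fun x hx => Subgroup.subset_closure (Or.inl hx)
  obtain ⟨hb, hd, hc, ha⟩ := gen_checks
  have hmem : ∀ g, lySys.v (g :: [0, 0, 0, 0]) = lySys.v ([0, 0, 0, 0] ++ [g]) → lySys.v [g] ∈ CT := by
    intro g hg
    rw [lySys.v_cons, lySys.v_append] at hg
    rw [Subgroup.mem_centralizer_singleton_iff, tau_v, lySys.v_cons g [], lySys.v_nil, mul_one]
    rw [hg, lySys.v_cons g [], lySys.v_nil, mul_one]
  have h0 : lySys.v [0] ∈ CT := hmem 0 rfl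
  have h1 : lySys.v [1] ∈ CT := hmem 1 (lySys.v_eq hb)
  have h3 : lySys.v [3] ∈ CT := hmem 3 (lySys.v_eq hd)
  have h6 : lySys.v [6] ∈ CT := by
    rw [show ([6] : List ℕ) = winv [0] from rfl, lySys.v_winv rfl]
    exact inv_mem h0
  have h7 : lySys.v [7] ∈ CT := by
    rw [show ([7] : List ℕ) = winv [1] from rfl, lySys.v_winv rfl]
    exact inv_mem h1
  have h2 : lySys.v [2] ∈ T := by
    rw [← lySys.v_eq hc]
    simp only [lySys.v_append]
    exact mul_mem (hC _ h1) (mul_mem (hC _ h6) (mul_mem hg (mul_mem (hC _ h1)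
      (mul_mem hg (mul_mem (hC _ h0) (hC _ h7))))))
  have hz : lySys.z ∈ CT := by
    have h := conj_ok 0 (by norm_num)
    rw [Subgroup.mem_centralizer_singleton_iff]
    have e : lySys.z⁻¹ * tau * lySys.z = tau := by
      have ev : lySys.v [0, 0, 0, 0] = lySys.v [0] ^ 4 := by
        simp [Sys.v, pow_succ, mul_assoc]
      have h' : lySys.z⁻¹ * lySys.v [0] * lySys.z = lySys.v [6, 6, 6] := h
      have hp : (lySys.z⁻¹ * lySys.v [0] * lySys.z) ^ 4 =
          lySys.z⁻¹ * lySys.v [0] ^ 4 * lySys.z := by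
        simp only [pow_succ, pow_zero, one_mul]; group
      rw [tau_v, ev, ← hp, h', ← ev, ← lySys.v_eq ha]
      simp [Sys.v, pow_succ, mul_assoc]
    calc lySys.z * tau = lySys.z * (lySys.z⁻¹ * tau * lySys.z) := by rw [e]
      _ = tau * lySys.z := by group
  have hH : lySys.H ≤ T := by
    rw [lySys_H, abcd, Subgroup.map_le_iff_le_comap, Subgroup.closure_le]
    have hv : ∀ g, lySys.v [g] = lyLetter g := fun g => by
      simp [Sys.v, lySys]
    intro x hx
    simp only [Set.mem_insert_iff, Set.mem_singleton_iff] at hx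
    rcases hx with rfl | rfl | rfl | rfl
    · show lyLetter 0 ∈ T
      rw [← hv]; exact hC _ h0
    · show lyLetter 1 ∈ T
      rw [← hv]; exact hC _ h1
    · show lyLetter 2 ∈ T
      rw [← hv]; exact h2
    · show lyLetter 3 ∈ T
      rw [← hv]; exact hC _ h3
  rw [eq_top_iff, ← lySys_gen, Subgroup.closure_le]
  rintro x (hx | rfl)
  · exact hH hx
  · exact hC _ hz

end Cfsg.Lib.LyReal
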