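import Cfsg.Agent.Lib.LyReal.VecSem
import Cfsg.Agent.Lib.CosetEnum.LyRep.Checks
import Cfsg.Agent.Lib.BigMat.Present

/-!
# The representation of degree 111 and the action on vectors
-/

set_option autoImplicit false
set_option maxRecDepth 20000
set_option maxHeartbeats 100000

namespace Cfsg.Lib.LyReal

open Cfsg.Spor Cfsg.Lib.CosetEnum

/-- The relators. -/
abbrev rels0 : Set (FreeGroup Ly.Gen) := coxRelators Ly.edges ∪ {r | r ∈ Ly.extra}

/-- The generators behind the letters. -/
def baseGen (g : ℕ) : Ly.Gen := ([.a, .b, .c, .d, .z, .e, .c2, .c3, .c4, .c5] : List Ly.Gen).getD g .a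

/-- The first twenty letters in the presented group. -/
noncomputable def let20 (g : ℕ) : Ly :=
  if g < 10 then
    PresentedGroup.mk rels0 (FreeGroup.of (baseGen g))
  else (PresentedGroup.mk rels0 (FreeGroup.of (baseGen (g - 10))))⁻¹

/-- The value of a word in the twenty letters. -/
noncomputable def val20 (w : List ℕ) : Ly := (w.map let20).prod

/-- A presented group acts through packed matrices. -/
theorem exists_pack_hom {β : Type*} [DecidableEq β] {n k : ℕ} (hn0 : 0 < n) (hn : n ≤ 127)
    (M : ℕ → ℕ) (hok : ∀ g < k + k, BigMat.matOK n (M g) = true)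
    (hinv : ∀ g < k + k,
      Nat.beq (BigMat.mul n (M g) (M (Signed.flipAt k g))) (BigMat.one n) = true)
    (gw : β → List ℕ) (hgw : ∀ b, ∀ l ∈ gw b, l < k + k) (R : Set (FreeGroup β))
    (hR : ∀ r ∈ R, Nat.beq (BigMat.prodWord n M (Signed.relatorWord k gw r).reverse)
      (BigMat.one n) = true)
    (base : ℕ → β) (hbase : ∀ g < k, gw (base g) = [g]) :
    ∃ ρ : PresentedGroup R →* GL (Fin n) (ZMod 5), ∀ w : List ℕ, (∀ g ∈ w, g < k + k) →
      (ρ (w.map fun g => if g < k then PresentedGroup.mk R (FreeGroup.of (base g))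
        else (PresentedGroup.mk R (FreeGroup.of (base (g - k))))⁻¹).prod :
          Matrix (Fin n) (Fin n) (ZMod 5)) = (w.map fun g => BigMat.toMat n (M g)).prod := by
  have hflip : ∀ g < k + k,
      Signed.flipAt k g < k + k ∧ Signed.flipAt k (Signed.flipAt k g) = g := by
    intro g hg
    refine ⟨Signed.flipAt_lt hg, ?_⟩
    unfold Signed.flipAt
    split_ifs <;> omega
  obtain ⟨e, he⟩ := BigMat.exists_units hn0 hn M (Signed.flipAt k) hflip hok hinv
  have hpair : ∀ g < k, e g * e (g + k) = 1 := fun g hg => by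
    have := (he g (by omega)).2
    rwa [show Signed.flipAt k g = g + k from if_pos hg] at this
  let F : β → GL (Fin n) (ZMod 5) := fun x => ((gw x).map e).prod
  have hrel : ∀ r ∈ R, FreeGroup.lift F r = 1 := by
    intro r hr
    obtain ⟨h1, h2⟩ := Signed.relatorWord_spec hpair gw hgw (FreeGroup.lift F) r fun p _ => by
      rw [FreeGroup.lift_apply_of]
    rw [← h2]
    have hM : ∀ a ∈ Signed.relatorWord k gw r, BigMat.IsMat n (M a) := fun a ha =>
      BigMat.isMat_of_matOK (hok a (h1 a ha))
    refine Units.ext ?_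
    rw [BigMat.units_word M e fun a ha => (he a (h1 a ha)).1,
      BigMat.word_eq_of_beq hn0 hn M hM (hR r hr), Units.val_one, BigMat.isMat_one.2]
  refine ⟨PresentedGroup.toGroup hrel, fun w hw => ?_⟩
  rw [map_list_prod, List.map_map]
  have hb : ∀ g < k, PresentedGroup.toGroup hrel (PresentedGroup.mk R (FreeGroup.of (base g))) =
      e g := fun g hg => by
    show PresentedGroup.toGroup hrel (PresentedGroup.of (base g)) = e g
    rw [PresentedGroup.toGroup.of]
    simp [F, hbase g hg]
  rw [List.map_congr_left (g := e) fun g hg => show _ = e g by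
    simp only [Function.comp_apply]
    rcases Nat.lt_or_ge g k with h | h
    · rw [if_pos h, hb g h]
    · rw [if_neg (by omega), map_inv, hb (g - k) (by have := hw g hg; omega)]
      have := hpair (g - k) (by have := hw g hg; omega)
      rw [Nat.sub_add_cancel h] at this
      exact inv_eq_of_mul_eq_one_right this]
  exact BigMat.units_word M e fun g hg => (he g (hw g hg)).1

theorem rels_beq : ∀ r ∈ rels0, Nat.beq (BigMat.prodWord 111 LyRep.letterMat
    (Signed.relatorWord 10 LyRep.genWord r).reverse) (BigMat.one 111) = true := by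
  rintro r (⟨x, hx, -⟩ | hr)
  · simp [Ly.edges, coxNodes] at hx
  · obtain ⟨j, hj, rfl⟩ := List.mem_iff_getElem.1 hr
    rw [← List.getD_eq_getElem _ 1 hj]
    exact LyRep.rels_ok j (LyRep.length_extra ▸ hj)

theorem exists_rho : ∃ ρ : Ly →* GL (Fin 111) (ZMod 5), ∀ w : List ℕ, (∀ g ∈ w, g < 20) →
    (ρ (val20 w) : Matrix (Fin 111) (Fin 111) (ZMod 5)) =
      (w.map fun g => BigMat.toMat 111 (LyRep.letterMat g)).prod :=
  exists_pack_hom (k := 10) (by norm_num) (by norm_num) LyRep.letterMat
    (fun g hg => LyRep.mats_ok g hg) (fun g hg => LyRep.invs_ok g hg) LyRep.genWord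
    (fun b l hl => LyRep.genWord_lt b l hl) rels0 rels_beq baseGen
    (fun g hg => by interval_cases g <;> rfl)

/-- The representation. -/
noncomputable def rho : Ly →* GL (Fin 111) (ZMod 5) := exists_rho.choose

/-- Row vectors, moved by invertible matrices. -/
@[ext] structure RVec (n : ℕ) where
  /-- The row. -/
  row : Fin n → ZMod 5

instance glAction (n : ℕ) : MulAction (GL (Fin n) (ZMod 5)) (RVec n) where
  smul g x := ⟨Matrix.vecMul x.row ((g⁻¹ : GL (Fin n) (ZMod 5)) : Matrix (Fin n) (Fin n) (ZMod 5))⟩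
  one_smul x := by
    ext1
    show Matrix.vecMul x.row (((1 : GL (Fin n) (ZMod 5))⁻¹ : GL (Fin n) (ZMod 5)) :
      Matrix (Fin n) (Fin n) (ZMod 5)) = x.row
    rw [inv_one, Units.val_one, Matrix.vecMul_one]
  mul_smul g h x := by
    ext1
    show Matrix.vecMul x.row (((g * h)⁻¹ : GL (Fin n) (ZMod 5)) : Matrix (Fin n) (Fin n) (ZMod 5)) =
      Matrix.vecMul (Matrix.vecMul x.row ((h⁻¹ : GL (Fin n) (ZMod 5)) : Matrix (Fin n) (Fin n) (ZMod 5)))
        ((g⁻¹ : GL (Fin n) (ZMod 5)) : Matrix (Fin n) (Fin n) (ZMod 5))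
    rw [Matrix.vecMul_vecMul, mul_inv_rev, Units.val_mul]

theorem gl_smul_row {n : ℕ} (g : GL (Fin n) (ZMod 5)) (x : RVec n) : (g • x).row =
    Matrix.vecMul x.row ((g⁻¹ : GL (Fin n) (ZMod 5)) : Matrix (Fin n) (Fin n) (ZMod 5)) := rfl

/-- The action through the representation. -/
noncomputable instance lyAction : MulAction Ly (RVec 111) := MulAction.compHom _ rho

theorem smul_row (g : Ly) (x : RVec 111) : (g • x).row =
    Matrix.vecMul x.row (((rho g)⁻¹ : GL (Fin 111) (ZMod 5)) : Matrix (Fin 111) (Fin 111) (ZMod 5)) :=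
  gl_smul_row (rho g) x

/-- A word acts through its matrix. -/
theorem rho_word {w : List ℕ} {M : ℕ}
    (h : ((w.all fun l => Nat.blt l 20) &&
      Nat.beq (BigMat.prodWord 111 LyRep.letterMat w.reverse) M) = true) :
    BigMat.IsMat 111 M ∧
      (rho (val20 w) : Matrix (Fin 111) (Fin 111) (ZMod 5)) = BigMat.toMat 111 M := by
  simp only [Bool.and_eq_true, List.all_eq_true, Nat.blt_eq] at h
  have hM : ∀ g ∈ w, BigMat.IsMat 111 (LyRep.letterMat g) := fun g hg =>
    BigMat.isMat_of_matOK (LyRep.mats_ok g (h.1 g hg))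
  refine ⟨?_, ?_⟩
  · rw [← Nat.eq_of_beq_eq_true h.2]
    exact (BigMat.toMat_prodWord (by norm_num) (by norm_num) LyRep.letterMat
      fun g hg => hM g (List.mem_reverse.1 hg)).1
  · rw [rho, exists_rho.choose_spec w h.1]
    exact BigMat.word_eq_of_beq (by norm_num) (by norm_num) LyRep.letterMat hM h.2

end Cfsg.Lib.LyReal
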