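import Cfsg.Agent.Lib.LyReal.Model
import Cfsg.Agent.Lib.LyReal.DataDefs

/-!
# Groups with six letters of G2(5), an element `z` and fourteen central parameters
-/

set_option autoImplicit false
set_option maxRecDepth 20000

namespace Cfsg.Lib.LyReal

open Cfsg.Lib.CosetEnum Cfsg.Lib.CosetEnum.LyG2
open scoped IsMulCommutative

/-- The inverse word. -/
def winv (w : List ℕ) : List ℕ := (w.reverse).map fun g => if g < 6 then g + 6 else g - 6

/-- An entry of a list. -/
def getL {α : Type*} (d : α) : List α → ℕ → α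
  | [], _ => d
  | a :: _, 0 => a
  | _ :: l, n + 1 => getL d l n

/-- The sum of two exponent vectors. -/
def vadd (a b : List ℤ) : List ℤ := (List.range 14).map fun i => getL 0 a i + getL 0 b i

/-- The negative of an exponent vector. -/
def vneg (a : List ℤ) : List ℤ := (List.range 14).map fun i => -getL 0 a i

/-- The difference of two exponent vectors. -/
def vsub (a b : List ℤ) : List ℤ := (List.range 14).map fun i => getL 0 a i - getL 0 b i

/-- A unit vector. -/
def vunit (k : ℕ) : List ℤ := (List.range 14).map fun i => if i = k then 1 else 0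

/-- The zero vector. -/
def vzero : List ℤ := (List.range 14).map fun _ => 0

/-- The vector of a word in the eight generators. -/
def lam : List ℕ → List ℤ
  | [] => vzero
  | i :: c => vadd (vunit i) (lam c)

/-- The six-letter word of a word in the eight generators. -/
def cw : List ℕ → List ℕ
  | [] => []
  | i :: c => getL [] c6 i ++ cw c

/-- The six-letter word of the conjugate. -/
def ciw : List ℕ → List ℕ
  | [] => []
  | i :: c => getL [] ci6 i ++ ciw c

/-- The word that moves to the left of `z`. -/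
def cim (c : List ℕ) : List ℕ := [0, 0] ++ (ciw c ++ [6, 6])

/-- The vector of a relator. -/
def revec : ℕ → List ℤ
  | 0 => vunit 8
  | k + 1 => (List.range 14).map fun i =>
      (if i = 9 + k then (1 : ℤ) else 0) + (if i = 8 then getL 0 ninvT (k + 1) else 0)

theorem getL_map_range {α : Type*} (d : α) (f : ℕ → α) : ∀ {n i : ℕ}, i < n →
    getL d ((List.range n).map f) i = f i := by
  intro n i hi
  have key : ∀ (l : List α) (i : ℕ) (h : i < l.length), getL d l i = l[i] := by
    intro l
    induction l with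
    | nil => intro i h; simp at h
    | cons a l ih =>
      intro i h
      cases i with
      | zero => rfl
      | succ i => exact ih i (by simpa using h)
  rw [key _ i (by simpa using hi), List.getElem_map, List.getElem_range]

/-- The value of a word given in segments cut at `z`. -/
def segVal {Γ : Type*} [Group Γ] (e : ℕ → Γ) (z : Γ) : List (List ℕ) → Γ
  | [] => 1
  | [s] => (s.map e).prod
  | s :: t :: r => (s.map e).prod * (z * segVal e z (t :: r))

/-- A group with the data. -/
structure Sys (Γ : Type*) [Group Γ] where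
  /-- The letters. -/
  e : ℕ → Γ
  pair : ∀ g < 6, e g * e (g + 6) = 1
  rels : ∀ j < 44, ((relWord j).map e).prod = 1
  /-- The extra element. -/
  z : Γ
  /-- The parameters. -/
  η : ℕ → Subgroup.center Γ
  conj : ∀ i < 8, z⁻¹ * ((getL [] c6 i).map e).prod * z =
    ((getL [] ci6 i).map e).prod * (η i : Γ)
  relZ : ∀ k < 6, segVal e z (getL [] segsT k) =
      ((∏ i ∈ Finset.range 14, η i ^ getL 0 (revec k) i : Subgroup.center Γ) : Γ)

namespace Sys

variable {Γ : Type*} [Group Γ] (S : Sys Γ)

/-- The value of a word. -/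
def v (w : List ℕ) : Γ := (w.map S.e).prod

/-- The value of an exponent vector. -/
def evC (a : List ℤ) : Subgroup.center Γ := ∏ i ∈ Finset.range 14, S.η i ^ getL 0 a i

/-- The value of an exponent vector in the group. -/
def ev (a : List ℤ) : Γ := S.evC a

/-- The value of a relator given in segments. -/
def items (l : List (List ℕ)) : Γ := segVal S.e S.z l

@[simp] theorem items_one (s : List ℕ) : S.items [s] = S.v s := rfl

theorem items_cons (s t : List ℕ) (r : List (List ℕ)) :
    S.items (s :: t :: r) = S.v s * (S.z * S.items (t :: r)) := rfl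

@[simp] theorem v_nil : S.v [] = 1 := rfl

theorem v_append (a b : List ℕ) : S.v (a ++ b) = S.v a * S.v b := by
  simp [v, List.map_append, List.prod_append]

theorem v_cons (g : ℕ) (b : List ℕ) : S.v (g :: b) = S.e g * S.v b := rfl

theorem v_eq {a b : List ℕ} (h : eqW a b = true) : S.v a = S.v b :=
  prod_eq_of_eqW S.pair S.rels h

theorem e_flip {g : ℕ} (hg : g < 12) : S.e (if g < 6 then g + 6 else g - 6) = (S.e g)⁻¹ := by
  split_ifs with h
  · exact eq_inv_of_mul_eq_one_right (S.pair g h)
  · have := S.pair (g - 6) (by omega)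
    rw [Nat.sub_add_cancel (by omega)] at this
    exact eq_inv_of_mul_eq_one_left this

theorem v_winv : ∀ {w : List ℕ}, lettersOK w = true → S.v (winv w) = (S.v w)⁻¹
  | [], _ => by simp [winv]
  | g :: w, h => by
    simp only [lettersOK, Bool.and_eq_true, Nat.blt_eq] at h
    have ih := v_winv h.2
    simp only [winv, List.reverse_cons, List.map_append, List.map_cons, List.map_nil] at ih ⊢
    rw [v_append, ih, v_cons, v_cons, v_nil, mul_one, mul_inv_rev, S.e_flip h.1]

theorem ev_central (a : List ℤ) (x : Γ) : x * S.ev a = S.ev a * x :=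
  Subgroup.mem_center_iff.1 (S.evC a).2 x

theorem ev_vadd (a b : List ℤ) : S.ev (vadd a b) = S.ev a * S.ev b := by
  rw [ev, ev, ev, ← Subgroup.coe_mul, evC, evC, evC, ← Finset.prod_mul_distrib]
  congr 1
  refine Finset.prod_congr rfl fun i hi => ?_
  rw [vadd, getL_map_range _ _ (Finset.mem_range.1 hi), zpow_add]

theorem ev_vneg (a : List ℤ) : S.ev (vneg a) = (S.ev a)⁻¹ := by
  rw [ev, ev, ← Subgroup.coe_inv, evC, evC, ← Finset.prod_inv_distrib]
  congr 1
  refine Finset.prod_congr rfl fun i hi => ?_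
  rw [vneg, getL_map_range _ _ (Finset.mem_range.1 hi), zpow_neg]

theorem ev_vsub (a b : List ℤ) : S.ev (vsub a b) = S.ev a * (S.ev b)⁻¹ := by
  rw [ev, ev, ev, ← Subgroup.coe_inv, ← Subgroup.coe_mul, evC, evC, evC, ← Finset.prod_inv_distrib,
    ← Finset.prod_mul_distrib]
  congr 1
  refine Finset.prod_congr rfl fun i hi => ?_
  rw [vsub, getL_map_range _ _ (Finset.mem_range.1 hi), zpow_sub]

theorem ev_vzero : S.ev vzero = 1 := by
  rw [ev, evC, Finset.prod_eq_one, Subgroup.coe_one]
  intro i hi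
  rw [vzero, getL_map_range _ _ (Finset.mem_range.1 hi), zpow_zero]

theorem ev_vunit {k : ℕ} (hk : k < 14) : S.ev (vunit k) = (S.η k : Γ) := by
  rw [ev, evC, Finset.prod_eq_single k]
  · rw [vunit, getL_map_range _ _ hk, if_pos rfl, zpow_one]
  · intro i hi hne
    rw [vunit, getL_map_range _ _ (Finset.mem_range.1 hi), if_neg hne, zpow_zero]
  · intro h
    exact absurd (Finset.mem_range.2 hk) h

theorem relZ' {k : ℕ} (hk : k < 6) : S.items (getL [] segsT k) = S.ev (revec k) := S.relZ k hk

theorem relWord_ok : ∀ j < 44, lettersOK (relWord j) = true := fun j hj =>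
  lettersOK_iff.2 (relWord_lt hj)

theorem z_sq : S.z * S.z = S.v [0, 0] * S.ev (vunit 8) := by
  have h := S.relZ' (k := 0) (by norm_num)
  have hs : getL [] segsT 0 = [[], [], [6, 6]] := rfl
  rw [hs] at h
  simp only [items_cons, items_one, v_nil, one_mul, show revec 0 = vunit 8 from rfl] at h
  have h6 : S.v [6, 6] = (S.v [0, 0])⁻¹ :=
    (congrArg S.v (show [6, 6] = winv [0, 0] from rfl)).trans (S.v_winv rfl)
  rw [h6, ← mul_assoc, mul_inv_eq_iff_eq_mul] at h
  rw [h]
  exact (S.ev_central _ _).symm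

theorem z_inv : S.z⁻¹ = S.z * S.v [6, 6] * (S.ev (vunit 8))⁻¹ := by
  have h6 : S.v [6, 6] = (S.v [0, 0])⁻¹ :=
    (congrArg S.v (show [6, 6] = winv [0, 0] from rfl)).trans (S.v_winv rfl)
  refine inv_eq_of_mul_eq_one_right ?_
  rw [h6, ← mul_assoc, ← mul_assoc, S.z_sq]
  have hc := S.ev_central (vunit 8) (S.v [0, 0])
  rw [hc]
  group

theorem conj_word : ∀ {c : List ℕ}, (∀ i ∈ c, i < 8) →
    S.z⁻¹ * S.v (cw c) * S.z = S.v (ciw c) * S.ev (lam c)
  | [], _ => by simp [cw, ciw, lam, S.ev_vzero]
  | i :: c, h => by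
    have hi := h i (by simp)
    have ih := conj_word (c := c) fun j hj => h j (List.mem_cons_of_mem _ hj)
    rw [cw, ciw, lam, v_append, v_append, S.ev_vadd, S.ev_vunit (by omega)]
    have h1 : S.z⁻¹ * S.v (getL [] c6 i) * S.z = S.v (getL [] ci6 i) * (S.η i : Γ) := S.conj i hi
    calc S.z⁻¹ * (S.v (getL [] c6 i) * S.v (cw c)) * S.z
        = (S.z⁻¹ * S.v (getL [] c6 i) * S.z) * (S.z⁻¹ * S.v (cw c) * S.z) := by group
      _ = S.v (getL [] ci6 i) * (S.η i : Γ) * (S.v (ciw c) * S.ev (lam c)) := by rw [h1, ih]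
      _ = S.v (getL [] ci6 i) * S.v (ciw c) * ((S.η i : Γ) * S.ev (lam c)) := by
        have hc := Subgroup.mem_center_iff.1 (S.η i).2 (S.v (ciw c))
        rw [mul_assoc, ← mul_assoc (S.η i : Γ), ← hc, mul_assoc, mul_assoc]

theorem z_move {c : List ℕ} (hc : ∀ i ∈ c, i < 8) :
    S.z * S.v (cw c) = S.ev (lam c) * S.v (cim c) * S.z := by
  have h := S.conj_word hc
  have h1 : S.v (cw c) = S.z * (S.v (ciw c) * S.ev (lam c)) * S.z⁻¹ := by rw [← h]; group
  have h6 : S.v [6, 6] = (S.v [0, 0])⁻¹ :=
    (congrArg S.v (show [6, 6] = winv [0, 0] from rfl)).trans (S.v_winv rfl)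
  rw [cim, v_append, v_append, h6, h1]
  have hz := S.z_sq
  have hu := S.ev_central (vunit 8)
  have hl := S.ev_central (lam c)
  calc S.z * (S.z * (S.v (ciw c) * S.ev (lam c)) * S.z⁻¹)
      = (S.z * S.z) * (S.v (ciw c) * S.ev (lam c)) * ((S.z * S.z)⁻¹ * S.z) := by group
    _ = S.v [0, 0] * (S.ev (vunit 8) * S.v (ciw c)) * S.ev (lam c) *
          ((S.ev (vunit 8))⁻¹ * (S.v [0, 0])⁻¹ * S.z) := by rw [hz]; group
    _ = S.v [0, 0] * S.v (ciw c) * (S.ev (vunit 8) * S.ev (lam c) * (S.ev (vunit 8))⁻¹) *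
          ((S.v [0, 0])⁻¹ * S.z) := by rw [← hu]; group
    _ = (S.v [0, 0] * S.v (ciw c)) * S.ev (lam c) * ((S.v [0, 0])⁻¹ * S.z) := by
        rw [hl (S.ev (vunit 8))]; group
    _ = S.ev (lam c) * (S.v [0, 0] * (S.v (ciw c) * (S.v [0, 0])⁻¹)) * S.z := by
        rw [hl]; group

/-- The subgroup of the letters. -/
def H : Subgroup Γ := Subgroup.closure (S.e '' {g | g < 6})

theorem e_mem {g : ℕ} (hg : g < 12) : S.e g ∈ S.H := by
  rcases Nat.lt_or_ge g 6 with h | h
  · exact Subgroup.subset_closure ⟨g, h, rfl⟩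
  · have := S.e_flip hg
    rw [if_neg (by omega)] at this
    rw [← inv_inv (S.e g), ← this]
    exact inv_mem (Subgroup.subset_closure ⟨g - 6, show g - 6 < 6 by omega, rfl⟩)

theorem v_mem {w : List ℕ} (h : lettersOK w = true) : S.v w ∈ S.H := by
  refine Subgroup.list_prod_mem _ fun a ha => ?_
  obtain ⟨g, hg, rfl⟩ := List.mem_map.1 ha
  exact S.e_mem (lettersOK_iff.1 h g hg)

/-- The five points. -/
def P : ℕ → Γ
  | 0 => 1
  | 1 => S.z * S.v (getL [] defW 0)
  | k + 2 => S.z * S.v (getL [] defW (k + 1)) * (S.z * S.v (getL [] defW 0))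

end Sys

end Cfsg.Lib.LyReal
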