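import Cfsg.Agent.Lib.LyReal.Check

/-!
# Soundness of derivations
-/

set_option autoImplicit false
set_option maxRecDepth 20000

namespace Cfsg.Lib.LyReal

namespace Sys

variable {Γ : Type*} [Group Γ] (S : Sys Γ)

theorem seeds_ok : (∀ i < 8, lettersOK (getL [] c6 i) = true ∧ lettersOK (getL [] ci6 i) = true) ∧
    lettersOK (getL [] defW 0) = true ∧ getL 0 defJ 0 = 0 ∧
    getL 0 defJ 1 = 1 ∧ getL 0 defJ 2 = 1 ∧ getL 0 defJ 3 = 1 := by decide +kernel

theorem seedK_sound {i : ℕ} (hi : i < 8) :
    S.Holds ⟨false, 1, getL [] c6 i, 1, [], vunit i⟩ := by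
  have hm := S.z_move (c := [i]) fun j hj => by rw [List.mem_singleton.1 hj]; exact hi
  have hl : S.ev (lam [i]) = S.ev (vunit i) := by
    rw [lam, lam, S.ev_vadd, S.ev_vzero, mul_one]
  have hc : S.v (getL [] c6 i) * S.z = S.z * S.v (ciw [i]) * S.ev (vunit i) := by
    have h := S.conj_word (c := [i]) fun j hj => by rw [List.mem_singleton.1 hj]; exact hi
    rw [hl, cw, cw, List.append_nil] at h
    rw [mul_assoc, ← h]
    group
  obtain ⟨hlet, hw0, -⟩ := seeds_ok
  have hmem : S.v (ciw [i]) * S.v (getL [] defW 0) ∈ S.H := by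
    refine mul_mem ?_ (S.v_mem hw0)
    rw [ciw, ciw, List.append_nil]
    exact S.v_mem (hlet i hi).2
  simp only [Holds, P, v_nil, one_mul, Bool.false_eq_true, if_false]
  set w := S.v (getL [] defW 0)
  have h1 : S.v (getL [] c6 i) * (S.z * w) = S.ev (vunit i) * (S.z * (S.v (ciw [i]) * w)) := by
    rw [← mul_assoc, hc, S.ev_central (vunit i) (S.z * S.v (ciw [i])), mul_assoc, mul_assoc]
  rw [h1]
  refine S.R_mul _ (S.R_mul _ ?_)
  simp only [R]
  exact mul_mem (inv_mem hmem) (S.v_mem hw0)

theorem seedT_sound {k : ℕ} (hk : k < 4) :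
    S.Holds ⟨true, getL 0 defJ k, getL [] defW k, k + 1, [], vzero⟩ := by
  obtain ⟨-, -, h0, h1, h2, h3⟩ := seeds_ok
  simp only [Holds, v_nil, one_mul, S.ev_vzero, if_true]
  refine S.R_of_eq ?_
  interval_cases k
  · simp [h0, P]
  · rw [h1]; simp [P, mul_assoc]
  · rw [h2]; simp [P, mul_assoc]
  · rw [h3]; simp [P, mul_assoc]

/-- The two ends of a coset equation between states at one point. -/
theorem close_sound {A B : St} (hj : A.j = B.j) (hl : lettersOK B.w = true)
    (h : S.R (S.pt A) (S.pt B)) :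
    S.Holds ⟨false, A.j, winv B.w ++ A.w, A.j, [], vsub B.e A.e⟩ := by
  simp only [Holds, v_nil, one_mul, Bool.false_eq_true, if_false, v_append, S.v_winv hl,
    S.ev_vsub]
  refine S.R_cancel (S.v B.w) (S.R_cancel (S.ev A.e) ?_)
  simp only [pt] at h
  convert h using 1
  · group
  · have hd := S.ev_central (vsub B.e A.e) (S.v B.w)
    rw [S.ev_vsub] at hd
    have hc : S.ev A.e * (S.ev B.e * (S.ev A.e)⁻¹) = S.ev B.e := by
      rw [← mul_assoc, S.ev_central B.e (S.ev A.e), mul_inv_cancel_right]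
    rw [hj, ← mul_assoc (S.v B.w), hd, ← mul_assoc (S.ev A.e), ← mul_assoc (S.ev A.e), hc,
      mul_assoc]

theorem derive_sound {env : List Fct} (h : ∀ f ∈ env, S.Holds f) {w : List ℕ} :
    ∀ {ct : Cert} {f : Fct}, derive env w ct = some f → S.Holds f
  | .seedK i, f, hf => by
    simp only [derive] at hf
    split_ifs at hf with hi
    · simp only [Option.some.injEq] at hf
      subst hf
      exact S.seedK_sound (Nat.blt_eq.mp hi)
  | .seedT k, f, hf => by
    simp only [derive] at hf
    split_ifs at hf with hk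
    · simp only [Option.some.injEq] at hf
      subst hf
      exact S.seedT_sound (Nat.blt_eq.mp hk)
  | .scan ri x aw bw, f, hf => by
    simp only [derive] at hf
    split_ifs at hf with hri
    · obtain ⟨p, hp, hf⟩ := Option.bind_eq_some_iff.1 hf
      obtain ⟨A, hA, hf⟩ := Option.bind_eq_some_iff.1 hf
      split_ifs at hf with hc
      · simp only [Option.some.injEq] at hf
        subst hf
        simp only [Bool.and_eq_true, Nat.beq_eq] at hc
        have hB := S.runB_sound h hp (S.start_sound (Nat.blt_eq.mp hri) x)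
        exact S.close_sound hc.1 hc.2 (S.R_trans (S.R_symm (S.runA_sound h hA)) hB)
  | .gap ri x aw bw c ks, f, hf => by
    simp only [derive] at hf
    split_ifs at hf with hri
    · obtain ⟨p, hp, hf⟩ := Option.bind_eq_some_iff.1 hf
      have hB := S.runB_sound h hp (S.start_sound (Nat.blt_eq.mp hri) x)
      rcases hseg : p.2 with _ | ⟨s, _ | ⟨t, rest⟩⟩
      · rw [hseg] at hf; simp at hf
      · rw [hseg] at hf; simp at hf
      rw [hseg] at hf hB
      simp only [List.isEmpty_cons, Bool.false_eq_true, if_false] at hf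
      obtain ⟨A, hA, hf⟩ := Option.bind_eq_some_iff.1 hf
      obtain ⟨q, hq, hf⟩ := Option.bind_eq_some_iff.1 hf
      split_ifs at hf with hc
      · simp only [Option.some.injEq] at hf
        subst hf
        simp only [Bool.and_eq_true] at hc
        obtain ⟨⟨⟨hs, hcim⟩, hcc⟩, he⟩ := hc
        have hk := S.kapJ_sound h hq
        have hA' := S.runA_sound h hA
        rw [items_cons] at hB
        have h1 : S.R (S.z * S.pt A) ((S.v s)⁻¹ * S.pt p.1) := by
          refine S.R_trans (S.R_mul _ (S.R_symm hA')) ?_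
          refine S.R_cancel (S.v s) ?_
          simpa [mul_assoc] using hB
        simp only [Holds, if_true, v_append, S.v_winv hcim, S.v_winv hs, S.ev_vsub, S.ev_vadd]
        have hm := S.z_move (cOK_iff hcc)
        simp only [pt] at h1
        rw [S.v_eq he, v_append, v_append] at h1
        set C := S.ev (lam c)
        set X := S.v (cim c)
        have e1 : S.z * (S.ev A.e * (S.v (cw c) * (S.v w * S.v q.1) * S.P A.j)) =
            S.ev A.e * C * X * (S.z * (S.v w * (S.v q.1 * S.P A.j))) := by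
          rw [← mul_assoc, S.ev_central, mul_assoc, ← mul_assoc S.z, ← mul_assoc S.z, hm]
          simp only [C, X, mul_assoc]
        rw [e1] at h1
        have h2 := S.R_trans (S.R_symm (S.R_mul (S.ev A.e * C * X)
          (S.R_mul S.z (S.R_mul (S.v w) hk)))) h1
        rw [show S.z * (S.v w * (S.ev q.2 * S.P A.j)) = S.ev q.2 * (S.z * (S.v w * S.P A.j)) by
          rw [← mul_assoc (S.v w), S.ev_central, mul_assoc, ← mul_assoc, S.ev_central, mul_assoc]]
          at h2
        refine S.R_cancel (S.ev A.e * C * X * S.ev q.2) ?_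
        convert h2 using 1
        · group
        · have hx : S.ev A.e * C * X * S.ev q.2 = S.ev A.e * (C * S.ev q.2) * X := by
            rw [mul_assoc _ X, S.ev_central q.2 X]; group
          rw [hx]
          have hb := S.ev_central p.1.e (S.v s)⁻¹
          calc S.ev A.e * (C * S.ev q.2) * X * (S.ev p.1.e * (S.ev A.e * (C * S.ev q.2))⁻¹ *
                (X⁻¹ * ((S.v s)⁻¹ * S.v p.1.w) * S.P p.1.j))
              = (S.ev A.e * (C * S.ev q.2)) * (X * (S.ev p.1.e * (S.ev A.e * (C * S.ev q.2))⁻¹)) *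
                  (X⁻¹ * ((S.v s)⁻¹ * S.v p.1.w) * S.P p.1.j) := by group
            _ = (S.ev A.e * (C * S.ev q.2)) * ((S.ev p.1.e * (S.ev A.e * (C * S.ev q.2))⁻¹) * X) *
                  (X⁻¹ * ((S.v s)⁻¹ * S.v p.1.w) * S.P p.1.j) := by
                rw [show S.ev p.1.e * (S.ev A.e * (C * S.ev q.2))⁻¹ =
                  S.ev (vsub p.1.e (vadd A.e (vadd (lam c) q.2))) by
                    simp only [S.ev_vsub, S.ev_vadd, C]]
                rw [S.ev_central _ X]
            _ = ((S.ev A.e * (C * S.ev q.2)) * S.ev p.1.e * (S.ev A.e * (C * S.ev q.2))⁻¹) *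
                  (S.v s)⁻¹ * S.v p.1.w * S.P p.1.j := by group
            _ = S.ev p.1.e * (S.v s)⁻¹ * S.v p.1.w * S.P p.1.j := by
                rw [S.ev_central p.1.e (S.ev A.e * (C * S.ev q.2))]; group
            _ = (S.v s)⁻¹ * (S.ev p.1.e * (S.v p.1.w * S.P p.1.j)) := by
                rw [← hb]; group
  | .prop i c ks, f, hf => by
    simp only [derive] at hf
    obtain ⟨q, hq, hf⟩ := Option.bind_eq_some_iff.1 hf
    split_ifs at hf with hc
    · simp only [Option.some.injEq] at hf
      subst hf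
      simp only [Bool.and_eq_true] at hc
      obtain ⟨⟨⟨hz, hcc⟩, hl⟩, he⟩ := hc
      have hf := S.holds_get h i
      set g := getL nilFct env i
      simp only [Holds, hz, if_true] at hf
      have hk := S.kapJ_sound h hq
      have hm := S.z_move (cOK_iff hcc)
      have hv := S.v_eq he
      rw [v_append, v_append] at hv
      simp only [Holds, v_nil, one_mul, Bool.false_eq_true, if_false, v_append, S.v_winv hl,
        S.ev_vsub]
      set X := S.v (cim c)
      set C := S.ev (lam c)
      -- z (w κ) P = z (c w) P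
      have h1 : S.R (C * X * (S.z * (S.v g.w * S.P g.j))) (S.ev q.2 * (S.z * (S.v g.w * S.P g.j))) := by
        have := S.R_mul (S.z * S.v g.w) hk
        rw [show S.z * S.v g.w * (S.v q.1 * S.P g.j) = C * X * (S.z * (S.v g.w * S.P g.j)) by
          rw [← mul_assoc, mul_assoc S.z, hv, ← mul_assoc S.z, hm]; simp only [C, X, mul_assoc],
          show S.z * S.v g.w * (S.ev q.2 * S.P g.j) = S.ev q.2 * (S.z * (S.v g.w * S.P g.j)) by
            rw [← mul_assoc, S.ev_central]; simp only [mul_assoc]] at this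
        exact this
      have h2 := S.R_trans (S.R_trans (S.R_mul (C * X) (S.R_symm hf)) h1) (S.R_mul _ hf)
      refine S.R_cancel (S.v g.w') (S.R_cancel C (S.R_cancel (S.ev g.e) ?_))
      convert h2 using 1
      · rw [← mul_assoc (C * X), S.ev_central g.e]; group
      · calc S.ev g.e * (C * (S.v g.w' * (S.ev q.2 * C⁻¹ * S.P g.k)))
            = S.ev g.e * C * (S.v g.w' * (S.ev q.2 * C⁻¹)) * S.P g.k := by group
          _ = S.ev g.e * C * (S.ev q.2 * C⁻¹ * S.v g.w') * S.P g.k := by
              rw [show S.ev q.2 * C⁻¹ = S.ev (vsub q.2 (lam c)) by rw [S.ev_vsub],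
                S.ev_central (vsub q.2 (lam c)) (S.v g.w')]
          _ = (S.ev g.e * (C * S.ev q.2 * C⁻¹)) * (S.v g.w' * S.P g.k) := by group
          _ = S.ev q.2 * (S.ev g.e * (S.v g.w' * S.P g.k)) := by
              rw [S.ev_central q.2 C, mul_inv_cancel_right, S.ev_central q.2 (S.ev g.e)]; group

theorem factOK_sound {env : List Fct} (h : ∀ f ∈ env, S.Holds f) {g : Fct} {ct : Cert}
    (hg : factOK env g ct = true) : S.Holds g := by
  simp only [factOK] at hg
  split at hg
  · simp at hg
  · rename_i f hf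
    simp only [Bool.and_eq_true, Nat.beq_eq, beq_iff_eq] at hg
    obtain ⟨⟨⟨⟨⟨hz, hj⟩, hk⟩, he⟩, hw⟩, hw'⟩ := hg
    have := S.derive_sound h hf
    simpa only [Holds, ← hz, ← hj, ← hk, ← eqE_eq he, ← S.v_eq hw, ← S.v_eq hw'] using this

theorem allOK_sound : ∀ {l : List (Fct × Cert)} {env : List Fct}, (∀ f ∈ env, S.Holds f) →
    allOK env l = true → ∀ f ∈ env ++ l.map Prod.fst, S.Holds f
  | [], env, h, _ => by simpa using h
  | (g, ct) :: rest, env, h, hl => by
    simp only [allOK, Bool.and_eq_true] at hl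
    have hg := S.factOK_sound h hl.1
    have := allOK_sound (l := rest) (env := env ++ [g])
      (fun f hf => by
        rcases List.mem_append.1 hf with hf | hf
        · exact h f hf
        · rw [List.mem_singleton.1 hf]; exact hg) hl.2
    simpa using this

theorem scalar_one (hdis : ∀ a, S.ev a ∈ S.H → S.ev a = 1) {x : Γ} {a b : List ℤ}
    (h : S.R (S.ev a * x) (S.ev b * x)) : S.ev (vsub b a) = 1 := by
  refine hdis _ ?_
  have h' : x⁻¹ * S.ev (vsub b a) * x ∈ S.H := by
    simp only [R] at h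
    rw [S.ev_vsub, ← S.ev_vneg, S.ev_central (vneg a), S.ev_vneg]
    simpa [mul_assoc] using h
  rwa [S.ev_central _ x⁻¹, mul_assoc, inv_mul_cancel, mul_one] at h'

theorem eqnOK_sound {env : List Fct} (h : ∀ f ∈ env, S.Holds f)
    (hdis : ∀ a, S.ev a ∈ S.H → S.ev a = 1) {ct : Cert} {ks : List ℕ} {d : List ℤ}
    (hd : eqnOK env ct ks d = true) : S.ev d = 1 := by
  simp only [eqnOK] at hd
  split at hd
  · simp at hd
  · rename_i f hf
    split at hd
    · simp at hd
    · rename_i q hq
      simp only [Bool.and_eq_true, Bool.not_eq_true', Nat.beq_eq, List.isEmpty_iff] at hd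
      obtain ⟨⟨⟨⟨hz, hk⟩, hw'⟩, hw⟩, hd⟩ := hd
      have h1 := S.derive_sound h hf
      simp only [Holds, hz, hk, hw', v_nil, one_mul, Bool.false_eq_true, if_false, S.v_eq hw] at h1
      have h2 := S.kapJ_sound h hq
      rw [← eqE_eq hd]
      exact S.scalar_one hdis (S.R_trans (S.R_symm h2) h1)

theorem ceqOK_sound (hdis : ∀ a, S.ev a ∈ S.H → S.ev a = 1) {a b : List ℕ} {d : List ℤ}
    (hd : ceqOK a b d = true) : S.ev d = 1 := by
  simp only [ceqOK, Bool.and_eq_true] at hd
  obtain ⟨⟨⟨⟨⟨ha, hb⟩, he⟩, hla⟩, hlb⟩, hd⟩ := hd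
  have h1 := S.conj_word (cOK_iff ha)
  have h2 := S.conj_word (cOK_iff hb)
  rw [S.v_eq he, h2] at h1
  rw [← eqE_eq hd]
  refine hdis _ ?_
  have h3 : S.ev (vsub (lam a) (lam b)) = (S.v (ciw a))⁻¹ * S.v (ciw b) := by
    rw [S.ev_vsub, eq_inv_mul_iff_mul_eq, ← mul_assoc, ← h1]
    group
  rw [h3]
  exact mul_mem (inv_mem (S.v_mem hla)) (S.v_mem hlb)

end Sys

end Cfsg.Lib.LyReal
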