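import Cfsg.Agent.Lib.LyReal.StabDefs
import Cfsg.Agent.Lib.LyReal.DataStab2

/-!
# One element list of a stabilizer
-/

set_option autoImplicit false
set_option maxRecDepth 100000

namespace Cfsg.Lib.LyReal

theorem prods2_ok : prodsOK 2 mats2 par2 6048 0 = true := by decide +kernel

theorem ord2_ok : (ordOK id mats2 ord2 6048 6047 0 && Nat.blt (ord2.get 6047) 6048) = true := by
  decide +kernel

end Cfsg.Lib.LyReal
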