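import Cfsg.Agent.Lib.LyReal.StabDefs
import Cfsg.Agent.Lib.LyReal.DataStab4

/-!
# One element list of a stabilizer
-/

set_option autoImplicit false
set_option maxRecDepth 100000

namespace Cfsg.Lib.LyReal

theorem prods4_ok : prodsOK 4 mats4 par4 2880 0 = true := by decide +kernel

theorem ord4_ok : (ordOK id mats4 ord4 2880 2879 0 && Nat.blt (ord4.get 2879) 2880) = true := by
  decide +kernel

end Cfsg.Lib.LyReal
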