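import Cfsg.Agent.Lib.LyReal.StabDefs
import Cfsg.Agent.Lib.LyReal.DataStabA

/-!
# One element list of a stabilizer
-/

set_option autoImplicit false
set_option maxRecDepth 100000

namespace Cfsg.Lib.LyReal

theorem prodsA_ok : prodsOK 1 matsA parA 96 0 = true := by decide +kernel

theorem ordA_ok : (ordOK colKey matsA ordA 96 95 0 && Nat.blt (ordA.get 95) 96) = true := by
  decide +kernel

end Cfsg.Lib.LyReal
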