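import Cfsg.Agent.Lib.LyReal.StabDefs
import Cfsg.Agent.Lib.LyReal.DataStabQ

/-!
# One element list of a stabilizer
-/

set_option autoImplicit false
set_option maxRecDepth 100000

namespace Cfsg.Lib.LyReal

theorem prodsQ_ok : prodsOK 1 matsQ parQ 3125 0 = true := by decide +kernel

theorem ordQ_ok : (ordOK id matsQ ordQ 3125 3124 0 && Nat.blt (ordQ.get 3124) 3125) = true := by
  decide +kernel

theorem fixQ_ok : fixOK matsQ 3125 0 = true := by decide +kernel

end Cfsg.Lib.LyReal
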