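import Cfsg.Agent.Lib.LyReal.Facts
import Cfsg.Agent.Lib.LyReal.Stab2
import Cfsg.Agent.Lib.LyReal.Stab3
import Cfsg.Agent.Lib.LyReal.Stab4
import Cfsg.Agent.Lib.LyReal.StabQ
import Cfsg.Agent.Lib.LyReal.StabA

/-!
# The stabilizers are large
-/

set_option autoImplicit false
set_option maxRecDepth 100000

namespace Cfsg.Lib.LyReal

open Cfsg.Lib.CosetEnum Cfsg.Lib.CosetEnum.LyG2

theorem prodsOK_spec {j : ℕ} {M par : Tab} : ∀ {n i : ℕ}, prodsOK j M par n i = true →
    ∀ k, i ≤ k → k < i + n → (k = 0 ∧ M.get k = BigMat.one 7) ∨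
      (par.get k / 16 < k ∧ par.get k % 16 < (getL [] kiT j).length ∧
        M.get k = BigMat.mul 7 (M.get (par.get k / 16)) (genMat j (par.get k % 16)))
  | 0, i, _, k, hk1, hk2 => by omega
  | n + 1, i, h, k, hk1, hk2 => by
    simp only [prodsOK, CosetEnum.force_eq, Bool.and_eq_true, Bool.or_eq_true, Nat.beq_eq,
      Nat.blt_eq] at h
    rcases eq_or_lt_of_le hk1 with rfl | hlt
    · rcases h.1 with ⟨h0, h1⟩ | ⟨⟨h1, h2⟩, h3⟩
      · exact Or.inl ⟨h0, h1⟩
      · exact Or.inr ⟨h1, h2, h3⟩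
    · exact prodsOK_spec h.2 k (by omega) (by omega)

theorem ordOK_spec {key : ℕ → ℕ} {M o : Tab} {size : ℕ} : ∀ {n i : ℕ},
    ordOK key M o size n i = true → ∀ k, i ≤ k → k < i + n →
      o.get k < size ∧ key (M.get (o.get k)) < key (M.get (o.get (k + 1)))
  | 0, i, _, k, hk1, hk2 => by omega
  | n + 1, i, h, k, hk1, hk2 => by
    simp only [ordOK, CosetEnum.force_eq, Bool.and_eq_true, Nat.blt_eq] at h
    rcases eq_or_lt_of_le hk1 with rfl | hlt
    · exact h.1
    · exact ordOK_spec h.2 k (by omega) (by omega)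

theorem fixOK_spec {M : Tab} : ∀ {n i : ℕ}, fixOK M n i = true → ∀ k, i ≤ k → k < i + n →
    ∀ r c, r < 7 → c < 2 → BigMat.ent 7 (M.get k) r c = if r = c then 1 else 0
  | 0, i, _, k, hk1, hk2 => by omega
  | n + 1, i, h, k, hk1, hk2 => by
    simp only [fixOK, CosetEnum.force_eq, Bool.and_eq_true] at h
    rcases eq_or_lt_of_le hk1 with rfl | hlt
    · intro r c hr hc
      have := List.all_eq_true.1 h.1 (2 * r + c) (List.mem_range.2 (by omega))
      rw [Nat.beq_eq, show (2 * r + c) / 2 = r by omega, show (2 * r + c) % 2 = c by omega] at this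
      exact this
    · exact fixOK_spec h.2 k (by omega) (by omega)

theorem ki_ok : kiOK = true := by decide +kernel

namespace Sys

variable {Γ : Type*} [Group Γ] (S : Sys Γ)

/-- The map from the group on six generators. -/
noncomputable def hom : SixGroup →* Γ := (exists_hom S.e S.pair S.rels).choose

theorem hom_six {w : List ℕ} (h : lettersOK w = true) : S.hom (six w) = S.v w := by
  have hs := (exists_hom S.e S.pair S.rels).choose_spec.1
  rw [six, map_list_prod, List.map_map, v]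
  exact congrArg List.prod (List.map_congr_left fun g hg => hs g (lettersOK_iff.1 h g hg))

theorem hom_range : S.hom.range = S.H := (exists_hom S.e S.pair S.rels).choose_spec.2

/-- The elements fixing a point. -/
def Stab (j : ℕ) : Subgroup SixGroup where
  carrier := {s | S.R (S.hom s * S.P j) (S.P j)}
  one_mem' := by simp [S.R_refl]
  mul_mem' := by
    intro a b ha hb
    simp only [Set.mem_ofPred_eq] at ha hb ⊢
    rw [map_mul, mul_assoc]
    exact S.R_trans (S.R_mul _ hb) ha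
  inv_mem' := by
    intro a ha
    simp only [Set.mem_ofPred_eq] at ha ⊢
    refine S.R_cancel (S.hom a) ?_
    rw [map_inv, mul_inv_cancel_left]
    exact S.R_symm ha

theorem gen_mem (hη : ∀ a, S.ev a = 1) {j g : ℕ} (h0 : 0 < j) (h5 : j < 5)
    (hg : g < (getL [] kiT j).length) :
    ∃ w, lettersOK w = true ∧ genMat j g = pw w ∧ six w ∈ S.Stab j := by
  have h := List.all_eq_true.1 ki_ok (j - 1) (List.mem_range.2 (by omega))
  rw [show j - 1 + 1 = j by omega] at h
  have hm : getL 0 (getL [] kiT j) g ∈ getL [] kiT j := by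
    generalize getL [] kiT j = l at hg
    induction l generalizing g with
    | nil => simp at hg
    | cons a l ih =>
      cases g with
      | zero => simp [getL]
      | succ g => exact List.mem_cons_of_mem _ (ih (g := g) (by simpa using hg))
  have h' := List.all_eq_true.1 h _ hm
  simp only [Bool.and_eq_true, Bool.not_eq_true', Nat.beq_eq, List.isEmpty_iff] at h'
  obtain ⟨⟨⟨⟨hz, hj⟩, hk⟩, hw'⟩, hl⟩ := h'
  refine ⟨_, hl, rfl, ?_⟩
  have hf := S.holds_get (env := envS) S.facts_hold (getL 0 (getL [] kiT j) g)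
  simp only [Holds, hz, hj, hk, hw', v_nil, one_mul, Bool.false_eq_true, if_false, hη] at hf
  show S.R (S.hom _ * S.P j) (S.P j)
  rwa [S.hom_six hl]

theorem elem_mem (hη : ∀ a, S.ev a = 1) {j n : ℕ} {M par : Tab} (h0 : 0 < j) (h5 : j < 5)
    (hp : prodsOK j M par n 0 = true) {ψ : SixGroup →* GL (Fin 7) (ZMod 5)}
    (hψ : ∀ w, (∀ g ∈ w, g < 12) →
      (ψ (six w) : Matrix (Fin 7) (Fin 7) (ZMod 5)) = BigMat.toMat 7 (pw w) ∧
        BigMat.IsMat 7 (pw w)) :
    ∀ i < n, ∃ s ∈ S.Stab j, BigMat.IsMat 7 (M.get i) ∧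
      (ψ s : Matrix (Fin 7) (Fin 7) (ZMod 5)) = BigMat.toMat 7 (M.get i) := by
  intro i
  induction i using Nat.strong_induction_on with
  | _ i ih =>
    intro hi
    rcases prodsOK_spec hp i (Nat.zero_le _) (by omega) with ⟨-, h1⟩ | ⟨hpar, hg, he⟩
    · refine ⟨1, one_mem _, ?_⟩
      rw [h1, map_one, Units.val_one]
      exact ⟨BigMat.isMat_one.1, BigMat.isMat_one.2.symm⟩
    · obtain ⟨s, hs, hM, hsM⟩ := ih _ hpar (by omega)
      obtain ⟨w, hl, hw, hmem⟩ := S.gen_mem hη h0 h5 hg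
      have hψw := hψ w (lettersOK_iff.1 hl)
      have hmul := BigMat.toMat_mul (n := 7) (by norm_num) (by norm_num) hM hψw.2
      refine ⟨s * six w, mul_mem hs hmem, ?_⟩
      rw [he, hw, map_mul, Units.val_mul, hsM, hψw.1]
      exact ⟨hmul.1, hmul.2.symm⟩

theorem exists_list (hη : ∀ a, S.ev a = 1) {j n : ℕ} {M par o : Tab} (h0 : 0 < j) (h5 : j < 5)
    (hp : prodsOK j M par n 0 = true)
    (ho : (ordOK id M o n (n - 1) 0 && Nat.blt (o.get (n - 1)) n) = true)
    {ψ : SixGroup →* GL (Fin 7) (ZMod 5)}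
    (hψ : ∀ w, (∀ g ∈ w, g < 12) →
      (ψ (six w) : Matrix (Fin 7) (Fin 7) (ZMod 5)) = BigMat.toMat 7 (pw w) ∧
        BigMat.IsMat 7 (pw w)) :
    ∃ f : Fin n → S.Stab j, Function.Injective f ∧
      (Function.Injective fun i : Fin n => o.get i) ∧
      ∀ i : Fin n, o.get i < n ∧ BigMat.IsMat 7 (M.get (o.get i)) ∧
        (ψ (f i : SixGroup) : Matrix (Fin 7) (Fin 7) (ZMod 5)) = BigMat.toMat 7 (M.get (o.get i)) := by
  have hel := S.elem_mem hη h0 h5 hp hψ
  simp only [Bool.and_eq_true, Nat.blt_eq] at ho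
  have hlt : ∀ k < n, o.get k < n := fun k hk => by
    rcases Nat.lt_or_ge k (n - 1) with h | h
    · exact (ordOK_spec ho.1 k (Nat.zero_le _) (by omega)).1
    · rw [show k = n - 1 by omega]; exact ho.2
  choose s hs hM hsM using fun i : Fin n => hel (o.get i) (hlt i i.2)
  have hstep : ∀ b a : ℕ, a < b → b < n → M.get (o.get a) < M.get (o.get b) := by
    intro b
    induction b with
    | zero => intro a ha; omega
    | succ b ih =>
      intro a ha hb
      have h := (ordOK_spec ho.1 b (Nat.zero_le _) (by omega)).2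
      rcases Nat.lt_succ_iff_lt_or_eq.1 ha with h' | rfl
      · exact (ih a h' (by omega)).trans h
      · exact h
  have hmono : StrictMono fun i : Fin n => M.get (o.get i) := fun a b hab => hstep b a hab b.2
  have : Finite SixGroup := (Nat.finite_of_card_ne_zero (by rw [six_card]; norm_num))
  have hinj : Function.Injective fun i : Fin n => (⟨s i, hs i⟩ : S.Stab j) := by
    intro a b hab
    have h1 : s a = s b := congrArg Subtype.val hab
    have h2 := congrArg (fun x => ((ψ x : GL (Fin 7) (ZMod 5)) : Matrix (Fin 7) (Fin 7) (ZMod 5))) h1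
    simp only [hsM] at h2
    exact hmono.injective (BigMat.toMat_inj (hM a) (hM b) h2)
  exact ⟨_, hinj, fun a b h => hmono.injective (congrArg M.get h),
    fun i => ⟨hlt i i.2, hM i, hsM i⟩⟩

theorem card_stab (hη : ∀ a, S.ev a = 1) {j n : ℕ} {M par o : Tab} (h0 : 0 < j) (h5 : j < 5)
    (hp : prodsOK j M par n 0 = true)
    (ho : (ordOK id M o n (n - 1) 0 && Nat.blt (o.get (n - 1)) n) = true) :
    n ≤ Nat.card (S.Stab j) := by
  obtain ⟨ψ, -, hψ⟩ := exists_seven
  obtain ⟨f, hf, -⟩ := S.exists_list hη h0 h5 hp ho hψ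
  have : Finite SixGroup := (Nat.finite_of_card_ne_zero (by rw [six_card]; norm_num))
  simpa using Nat.card_le_card_of_injective f hf

theorem exists_list_one (hη : ∀ a, S.ev a = 1) {ψ : SixGroup →* GL (Fin 7) (ZMod 5)}
    (hψ : ∀ w, (∀ g ∈ w, g < 12) →
      (ψ (six w) : Matrix (Fin 7) (Fin 7) (ZMod 5)) = BigMat.toMat 7 (pw w) ∧
        BigMat.IsMat 7 (pw w)) :
    ∃ f : Fin 96 × Fin 3125 → S.Stab 1, Function.Injective f ∧
      (Function.Injective fun x : Fin 96 × Fin 3125 => (ordA.get x.1, ordQ.get x.2)) ∧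
      ∀ x, ordA.get x.1 < 96 ∧ ordQ.get x.2 < 3125 ∧
        BigMat.IsMat 7 (matsA.get (ordA.get x.1)) ∧ BigMat.IsMat 7 (matsQ.get (ordQ.get x.2)) ∧
        (ψ (f x : SixGroup) : Matrix (Fin 7) (Fin 7) (ZMod 5)) =
          BigMat.toMat 7 (matsA.get (ordA.get x.1)) * BigMat.toMat 7 (matsQ.get (ordQ.get x.2)) := by
  have hA := S.elem_mem hη (j := 1) (by norm_num) (by norm_num) prodsA_ok hψ
  have hQ := S.elem_mem hη (j := 1) (by norm_num) (by norm_num) prodsQ_ok hψ
  have hoA := ordA_ok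
  have hoQ := ordQ_ok
  simp only [Bool.and_eq_true, Nat.blt_eq] at hoA hoQ
  have hfix := fixOK_spec fixQ_ok
  have hlA : ∀ k < 96, ordA.get k < 96 := fun k hk => by
    rcases Nat.lt_or_ge k 95 with h | h
    · exact (ordOK_spec hoA.1 k (Nat.zero_le _) (by omega)).1
    · rw [show k = 95 by omega]; exact hoA.2
  have hlQ : ∀ k < 3125, ordQ.get k < 3125 := fun k hk => by
    rcases Nat.lt_or_ge k 3124 with h | h
    · exact (ordOK_spec hoQ.1 k (Nat.zero_le _) (by omega)).1
    · rw [show k = 3124 by omega]; exact hoQ.2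
  choose a ha haM haψ using fun i : Fin 96 => hA (ordA.get i) (hlA i i.2)
  choose q hq hqM hqψ using fun i : Fin 3125 => hQ (ordQ.get i) (hlQ i i.2)
  have mono : ∀ (key : ℕ → ℕ) (M o : Tab) (n : ℕ), ordOK key M o n (n - 1) 0 = true →
      ∀ b x : ℕ, x < b → b < n → key (M.get (o.get x)) < key (M.get (o.get b)) := by
    intro key M o n h b
    induction b with
    | zero => intro x hx; omega
    | succ b ih =>
      intro x hx hb
      have h' := (ordOK_spec h b (Nat.zero_le _) (by omega)).2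
      rcases Nat.lt_succ_iff_lt_or_eq.1 hx with h'' | rfl
      · exact (ih x h'' (by omega)).trans h'
      · exact h'
  have col : ∀ (i : Fin 96) (k : Fin 3125) (r c : Fin 7), c.1 < 2 →
      ((ψ (a i * q k) : GL (Fin 7) (ZMod 5)) : Matrix (Fin 7) (Fin 7) (ZMod 5)) r c =
        (BigMat.ent 7 (matsA.get (ordA.get i)) r c : ZMod 5) := by
    intro i k r c hc
    rw [map_mul, Units.val_mul, haψ, hqψ, Matrix.mul_apply, Finset.sum_eq_single c]
    · simp only [BigMat.toMat, Matrix.of_apply]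
      rw [hfix _ (Nat.zero_le _) (by simpa using hlQ k k.2) c c c.2 hc, if_pos rfl,
        Nat.cast_one, mul_one]
    · intro x _ hx
      simp only [BigMat.toMat, Matrix.of_apply]
      rw [hfix _ (Nat.zero_le _) (by simpa using hlQ k k.2) x c x.2 hc,
        if_neg (fun h => hx (Fin.ext h)), Nat.cast_zero, mul_zero]
    · intro h; exact absurd (Finset.mem_univ c) h
  have hinj : Function.Injective fun x : Fin 96 × Fin 3125 =>
      (⟨a x.1 * q x.2, mul_mem (ha x.1) (hq x.2)⟩ : S.Stab 1) := by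
    rintro ⟨i, k⟩ ⟨i', k'⟩ h
    have h1 : a i * q k = a i' * q k' := congrArg Subtype.val h
    have hkey : colList (matsA.get (ordA.get i)) = colList (matsA.get (ordA.get i')) := by
      refine List.map_congr_left fun x hx => ?_
      have hx := List.mem_range.1 hx
      have e := (col i k ⟨x / 2, by omega⟩ ⟨x % 2, by omega⟩ (Nat.mod_lt _ (by norm_num))).symm.trans
        ((congrArg (fun y => ((ψ y : GL (Fin 7) (ZMod 5)) : Matrix (Fin 7) (Fin 7) (ZMod 5))
          ⟨x / 2, by omega⟩ ⟨x % 2, by omega⟩) h1).trans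
          (col i' k' ⟨x / 2, by omega⟩ ⟨x % 2, by omega⟩ (Nat.mod_lt _ (by norm_num))))
      rwa [ZMod.natCast_eq_natCast_iff', BigMat.ent, BigMat.ent, Nat.mod_eq_of_lt ((haM i).2 _),
        Nat.mod_eq_of_lt ((haM i').2 _)] at e
    have hii : i = i' := by
      by_contra hne
      have hk : colKey (matsA.get (ordA.get i)) = colKey (matsA.get (ordA.get i')) := by
        rw [colKey, colKey, hkey]
      rcases lt_or_gt_of_ne hne with h' | h'
      · exact (mono colKey _ _ _ hoA.1 _ _ h' i'.2).ne hk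
      · exact (mono colKey _ _ _ hoA.1 _ _ h' i.2).ne hk.symm
    subst hii
    have hqq : q k = q k' := mul_left_cancel h1
    have e := BigMat.toMat_inj (hqM k) (hqM k') (by rw [← hqψ, ← hqψ, hqq])
    have hkk : k = k' := by
      by_contra hne
      rcases lt_or_gt_of_ne hne with h' | h'
      · exact (mono id _ _ _ hoQ.1 _ _ h' k'.2).ne e
      · exact (mono id _ _ _ hoQ.1 _ _ h' k.2).ne e.symm
    rw [hkk]
  refine ⟨_, hinj, ?_, fun x => ⟨hlA _ x.1.2, hlQ _ x.2.2, haM x.1, hqM x.2, by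
    show ((ψ (a x.1 * q x.2) : GL (Fin 7) (ZMod 5)) : Matrix (Fin 7) (Fin 7) (ZMod 5)) = _
    rw [map_mul, Units.val_mul, haψ, hqψ]⟩⟩
  rintro ⟨i, k⟩ ⟨i', k'⟩ h
  obtain ⟨hi, hk⟩ := Prod.mk.injEq _ _ _ _ ▸ h
  refine Prod.ext ?_ ?_
  · by_contra hne
    rcases lt_or_gt_of_ne hne with h' | h'
    · exact (mono colKey _ _ _ hoA.1 _ _ h' i'.2).ne (by rw [hi])
    · exact (mono colKey _ _ _ hoA.1 _ _ h' i.2).ne (by rw [hi])
  · by_contra hne
    rcases lt_or_gt_of_ne hne with h' | h'
    · exact (mono id _ _ _ hoQ.1 _ _ h' k'.2).ne (by rw [hk])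
    · exact (mono id _ _ _ hoQ.1 _ _ h' k.2).ne (by rw [hk])

theorem card_stab_one (hη : ∀ a, S.ev a = 1) : 300000 ≤ Nat.card (S.Stab 1) := by
  obtain ⟨ψ, -, hψ⟩ := exists_seven
  obtain ⟨f, hf, -⟩ := S.exists_list_one hη hψ
  have : Finite SixGroup := Nat.finite_of_card_ne_zero (by rw [six_card]; norm_num)
  simpa using Nat.card_le_card_of_injective f hf

end Sys

end Cfsg.Lib.LyReal
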