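import Cfsg.Agent.Lib.LyReal.Check
import Cfsg.Agent.Lib.LyReal.DataFacts
import Cfsg.Agent.Lib.BigMat.Sem

/-!
# Checks of element lists of stabilizers
-/

set_option autoImplicit false
set_option maxRecDepth 20000

namespace Cfsg.Lib.LyReal

open Cfsg.Lib.CosetEnum (Tab force)

/-- The facts generating the stabilizer of a point. -/
def kiT : List (List ℕ) := [[], [0, 1, 2, 3, 4, 5, 6, 7], [15, 19], [17, 20, 29], [16, 18, 31]]

/-- The facts of the list. -/
def envS : List Fct := factList.map Prod.fst

/-- The matrix of a generator of a stabilizer. -/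
noncomputable def genMat (j g : ℕ) : ℕ :=
  pw (getL nilFct envS (getL 0 (getL [] kiT j) g)).w

/-- The facts named are about one stabilizer. -/
def kiOK : Bool :=
  (List.range 4).all fun j => (getL [] kiT (j + 1)).all fun i =>
    let f := getL nilFct envS i
    !f.zf && Nat.beq f.j (j + 1) && Nat.beq f.k (j + 1) && f.w'.isEmpty && lettersOK f.w

/-- Every matrix of a list is an earlier one times a generator. -/
noncomputable def prodsOK (j : ℕ) (M par : Tab) : ℕ → ℕ → Bool
  | 0, _ => true
  | n + 1, i => force i fun i => force (par.get i) fun p =>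
    (Nat.beq i 0 && Nat.beq (M.get i) (BigMat.one 7) ||
      Nat.blt (p / 16) i && Nat.blt (p % 16) (getL [] kiT j).length &&
        Nat.beq (M.get i) (BigMat.mul 7 (M.get (p / 16)) (genMat j (p % 16)))) &&
      prodsOK j M par n (i + 1)

/-- The keys increase along an order of the list. -/
noncomputable def ordOK (key : ℕ → ℕ) (M o : Tab) (size : ℕ) : ℕ → ℕ → Bool
  | 0, _ => true
  | n + 1, i => force i fun i =>
    Nat.blt (o.get i) size && Nat.blt (key (M.get (o.get i))) (key (M.get (o.get (i + 1)))) &&
      ordOK key M o size n (i + 1)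

/-- The first two columns. -/
noncomputable def colList (A : ℕ) : List ℕ :=
  (List.range 14).map fun x => BigMat.ent 7 A (x / 2) (x % 2)

/-- The first two columns in one number. -/
noncomputable def colKey (A : ℕ) : ℕ := (colList A).foldl (fun r x => 8 * r + x) 0

/-- All matrices of a list fix the first two coordinates. -/
noncomputable def fixOK (M : Tab) : ℕ → ℕ → Bool
  | 0, _ => true
  | n + 1, i => force i fun i =>
    (List.range 14).all (fun x => Nat.beq (BigMat.ent 7 (M.get i) (x / 2) (x % 2))
      (if x / 2 = x % 2 then 1 else 0)) && fixOK M n (i + 1)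

end Cfsg.Lib.LyReal
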