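import Cfsg.Agent.Lib.BigMat.Sem

/-!
# Rows of one hundred and eleven entries times matrices
-/

set_option autoImplicit false
set_option maxRecDepth 20000

namespace Cfsg.Lib.LyReal

open Cfsg.Lib.CosetEnum (Tab force force_eq)

/-- The low six bits of all places. -/
def lo111 : Nat := 0x3f003f003f003f003f003f003f003f003f003f003f003f003f003f003f003f003f003f003f003f003f003f003f003f003f003f003f003f003f003f003f003f003f003f003f003f003f003f003f003f003f003f003f003f003f003f003f003f003f003f003f003f003f003f003f003f003f003f003f003f003f003f003f003f003f003f003f003f003f003f003f003f003f003f003f003f003f003f003f003f003f003f003f003f003f003f003f003f003f003f003f003f003f003f003f003f003f003f003f003f003f003f003f003f003f003f003f003f003f003f003f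

/-- The high bits of all places. -/
def hi111 : Nat := 0x3ff03ff03ff03ff03ff03ff03ff03ff03ff03ff03ff03ff03ff03ff03ff03ff03ff03ff03ff03ff03ff03ff03ff03ff03ff03ff03ff03ff03ff03ff03ff03ff03ff03ff03ff03ff03ff03ff03ff03ff03ff03ff03ff03ff03ff03ff03ff03ff03ff03ff03ff03ff03ff03ff03ff03ff03ff03ff03ff03ff03ff03ff03ff03ff03ff03ff03ff03ff03ff03ff03ff03ff03ff03ff03ff03ff03ff03ff03ff03ff03ff03ff03ff03ff03ff03ff03ff03ff03ff03ff03ff03ff03ff03ff03ff03ff03ff03ff03ff03ff03ff03ff03ff03ff03ff03ff03ff03ff03ff03ff03ff

/-- Reduction modulo five in all places. -/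
noncomputable def red111 (y : Nat) : Nat :=
  force (Nat.add (Nat.land y lo111) (Nat.mul 4 (Nat.land (Nat.shiftRight y 6) hi111))) fun z =>
    Nat.sub z (Nat.mul 5 (Nat.land (Nat.shiftRight (Nat.mul z 205) 10) lo111))

/-- The sum of the first rows with the entries of a vector as factors. -/
noncomputable def vacc (v : Nat) (R : Tab) (j : Nat) : Nat :=
  Nat.rec (motive := fun _ => Nat) 0
    (fun k ih => Nat.add (Nat.mul (Nat.land (Nat.shiftRight v (Nat.mul 16 k)) 65535) (R.get k)) ih) j

/-- A vector times a matrix given by rows. -/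
noncomputable def vm (v : Nat) (R : Tab) : Nat :=
  force v fun v => force (vacc v R 111) fun y => red111 y

/-- The rows are those of a matrix. -/
noncomputable def rowsOK (M : Nat) (R : Tab) : Bool :=
  (List.range 111).all fun k =>
    Nat.beq (R.get k) (Nat.land (Nat.shiftRight M (Nat.mul 16 (Nat.mul 111 k))) (BigMat.rowMask 111))

/-- All images of a list of vectors are in the list, as stated. -/
noncomputable def closedOK (V nxt R : Tab) (size : Nat) : Nat → Nat → Bool
  | 0, _ => true
  | n + 1, i => force i fun i => force (nxt.get i) fun j =>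
    Nat.blt j size && Nat.beq (vm (V.get i) R) (V.get j) && closedOK V nxt R size n (i + 1)

/-- All vectors of a list are reached from the first. -/
noncomputable def reachOK (par : Tab) (nx : List Tab) : Nat → Nat → Bool
  | 0, _ => true
  | n + 1, i => force i fun i => force (par.get i) fun p =>
    (Nat.beq i 0 || Nat.blt (p / 16) i && Nat.blt (p % 16) nx.length &&
      Nat.beq ((nx.getD (p % 16) (.leaf 0)).get (p / 16)) i) && reachOK par nx n (i + 1)

/-- The values increase along an order of the list. -/
noncomputable def incOK (V o : Tab) (size : Nat) : Nat → Nat → Bool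
  | 0, _ => true
  | n + 1, i => force i fun i =>
    Nat.blt (o.get i) size && Nat.blt (V.get (o.get i)) (V.get (o.get (i + 1))) &&
      incOK V o size n (i + 1)

/-- All entries are below five and there are at most one hundred and eleven. -/
noncomputable def vecOK (v : Nat) : Bool :=
  Nat.blt v (Nat.pow BigMat.base 111) &&
    (List.range 111).all fun j =>
      Nat.blt (Nat.mod (Nat.div v (Nat.pow BigMat.base j)) BigMat.base) 5

end Cfsg.Lib.LyReal
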