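import Cfsg.Agent.Lib.LyReal.VecDefs
import Cfsg.Agent.Lib.BigMat.Units

/-!
# Meaning of the vector checks
-/

set_option autoImplicit false
set_option maxRecDepth 20000

namespace Cfsg.Lib.LyReal

open Cfsg.Lib.CosetEnum (Tab force force_eq)
open BigMat

/-- A packed vector with reduced entries. -/
def IsVec (v : ℕ) : Prop := v < base ^ 111 ∧ ∀ m, dig v m < 5

/-- The vector over the field with five elements. -/
def toVec (v : ℕ) : Fin 111 → ZMod 5 := fun j => (dig v j.1 : ℕ)

theorem isVec_of_vecOK {v : ℕ} (h : vecOK v = true) : IsVec v := by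
  simp only [vecOK, Bool.and_eq_true, Nat.blt_eq, List.all_eq_true, List.mem_range] at h
  refine ⟨h.1, fun m => ?_⟩
  rcases Nat.lt_or_ge m 111 with hm | hm
  · exact h.2 m hm
  · rw [dig, Nat.div_eq_of_lt (h.1.trans_le (Nat.pow_le_pow_right (by decide) hm))]
    simp

theorem toVec_inj {u v : ℕ} (hu : IsVec u) (hv : IsVec v) (h : toVec u = toVec v) : u = v := by
  rw [← sum_dig hu.1, ← sum_dig hv.1]
  refine Finset.sum_congr rfl fun m hm => ?_
  have e := congrFun h ⟨m, Finset.mem_range.1 hm⟩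
  simp only [toVec] at e
  rw [ZMod.natCast_eq_natCast_iff', Nat.mod_eq_of_lt (hu.2 m), Nat.mod_eq_of_lt (hv.2 m)] at e
  rw [e]

theorem red111_eq (f : ℕ → ℕ) (hf : ∀ m < 111, f m < 2048) :
    red111 (∑ m ∈ Finset.range 111, f m * base ^ m) =
      ∑ m ∈ Finset.range 111, f m % 5 * base ^ m := by
  have hlo : lo111 = 63 * geo 1 111 := by decide +kernel
  have hhi : hi111 = 1023 * geo 1 111 := by decide +kernel
  have hfb : ∀ m < 111, f m < base := fun m hm => (hf m hm).trans (by decide)
  let g : ℕ → ℕ := fun m => f m % 64 + 4 * (f m / 64)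
  have hg : ∀ m < 111, g m * 205 < base := fun m hm => by
    have := (reduce_place _ (hf m hm)).1
    simp only [base, g]; omega
  have h1 : (∑ m ∈ Finset.range 111, f m * base ^ m) &&& 63 * geo 1 111 =
      ∑ m ∈ Finset.range 111, f m % 64 * base ^ m := by
    simpa using field_eq f (N := 111) (s := 0) (w := 6) (by norm_num) hfb
  have h2 : (∑ m ∈ Finset.range 111, f m * base ^ m) >>> 6 &&& 1023 * geo 1 111 =
      ∑ m ∈ Finset.range 111, f m / 64 * base ^ m := by
    rw [show (1023 : ℕ) = 2 ^ 10 - 1 from rfl, field_eq f (s := 6) (w := 10) (by norm_num) hfb]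
    refine Finset.sum_congr rfl fun m hm => ?_
    have := hf m (Finset.mem_range.1 hm)
    rw [show (2 : ℕ) ^ 6 = 64 from rfl, Nat.mod_eq_of_lt (by omega)]
  obtain ⟨z, hz⟩ : ∃ z, z = ∑ m ∈ Finset.range 111, g m * base ^ m := ⟨_, rfl⟩
  have hz' : (∑ m ∈ Finset.range 111, f m * base ^ m &&& 63 * geo 1 111) +
      4 * ((∑ m ∈ Finset.range 111, f m * base ^ m) >>> 6 &&& 1023 * geo 1 111) = z := by
    rw [h1, h2, Finset.mul_sum, ← Finset.sum_add_distrib, hz]
    exact Finset.sum_congr rfl fun m _ => by ring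
  have hq : (z * 205) >>> 10 &&& 63 * geo 1 111 =
      ∑ m ∈ Finset.range 111, g m / 5 * base ^ m := by
    rw [hz, Finset.sum_mul, Finset.sum_congr rfl fun m _ => mul_right_comm (g m) (base ^ m) 205,
      show (63 : ℕ) = 2 ^ 6 - 1 from rfl, field_eq _ (s := 10) (w := 6) (by norm_num) hg]
    refine Finset.sum_congr rfl fun m hm => ?_
    obtain ⟨k1, k2, -⟩ := reduce_place _ (hf m (Finset.mem_range.1 hm))
    rw [show g m * 205 / 2 ^ 10 = g m / 5 from k2, Nat.mod_eq_of_lt]
    simp only [g]; omega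
  have hsplit : z = 5 * (∑ m ∈ Finset.range 111, g m / 5 * base ^ m) +
      ∑ m ∈ Finset.range 111, f m % 5 * base ^ m := by
    rw [hz, Finset.mul_sum, ← Finset.sum_add_distrib]
    refine Finset.sum_congr rfl fun m hm => ?_
    rw [← (reduce_place _ (hf m (Finset.mem_range.1 hm))).2.2]
    conv_lhs => rw [← Nat.div_add_mod (g m) 5]
    simp only [g]
    ring
  have e : red111 (∑ m ∈ Finset.range 111, f m * base ^ m) =
      z - 5 * ((z * 205) >>> 10 &&& 63 * geo 1 111) := by
    simp only [red111, force_eq, hlo, hhi]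
    rw [← hz']
    rfl
  rw [e, hq]
  omega

theorem vacc_eq (v : ℕ) (R : Tab) : ∀ j, vacc v R j =
    ∑ k ∈ Finset.range j, dig v k * R.get k
  | 0 => rfl
  | j + 1 => by
    rw [Finset.sum_range_succ, ← vacc_eq v R j]
    have : dig v j = Nat.land (Nat.shiftRight v (Nat.mul 16 j)) 65535 := by
      show dig v j = v >>> (16 * j) &&& 65535
      rw [show (65535 : ℕ) = base - 1 from rfl, (land_mask_pow _ 0).1, dig,
        Nat.shiftRight_eq_div_pow, pow_mul, ← base_eq]
    rw [this]
    exact Nat.add_comm _ _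

theorem vm_spec {v M : ℕ} {R : Tab} (hv : IsVec v) (hM : IsMat 111 M) (hR : rowsOK M R = true) :
    IsVec (vm v R) ∧ toVec (vm v R) = Matrix.vecMul (toVec v) (toMat 111 M) := by
  have hrow : ∀ k < 111, R.get k = ∑ j ∈ Finset.range 111, ent 111 M k j * base ^ j := fun k hk => by
    have h := List.all_eq_true.1 hR k (List.mem_range.2 hk)
    rw [Nat.beq_eq] at h
    rw [h]
    exact row_eq M k
  let f : ℕ → ℕ := fun j => ∑ k ∈ Finset.range 111, dig v k * ent 111 M k j
  have hf : ∀ m < 111, f m < 2048 := fun m _ => by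
    refine lt_of_le_of_lt ((Finset.sum_le_card_nsmul _ _ 16 fun k _ => ?_).trans
      (le_of_eq (by rw [Finset.card_range, smul_eq_mul]))) (by omega)
    exact Nat.mul_le_mul (Nat.le_of_lt_succ (hv.2 _)) (Nat.le_of_lt_succ (hM.2 _))
  have hacc : vacc v R 111 = ∑ j ∈ Finset.range 111, f j * base ^ j := by
    rw [vacc_eq]
    simp only [f, Finset.sum_mul]
    rw [Finset.sum_comm]
    refine Finset.sum_congr rfl fun k hk => ?_
    rw [hrow k (Finset.mem_range.1 hk), Finset.mul_sum]
    exact Finset.sum_congr rfl fun j _ => (mul_assoc _ _ _).symm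
  have he : vm v R = ∑ j ∈ Finset.range 111, f j % 5 * base ^ j := by
    rw [vm, force_eq, force_eq, hacc, red111_eq f hf]
  have hr : ∀ m < 111, f m % 5 < base := fun m _ =>
    (Nat.mod_lt _ (by norm_num)).trans (by decide)
  refine ⟨⟨he ▸ sum_lt _ hr, fun m => ?_⟩, ?_⟩
  · rw [he, dig_sum _ hr]
    split
    · exact Nat.mod_lt _ (by norm_num)
    · norm_num
  · funext j
    simp only [toVec, Matrix.vecMul, dotProduct, BigMat.toMat, Matrix.of_apply]
    rw [he, dig_sum _ hr, if_pos j.2, ZMod.natCast_mod]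
    simp only [f, Nat.cast_sum, Nat.cast_mul]
    rw [Finset.sum_range]

end Cfsg.Lib.LyReal
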