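import Cfsg.Agent.Lib.LyReal.FixBound
import Cfsg.Agent.Lib.LyReal.LineData

/-!
# The centralizer of the element of order three in G2(5) has order at most 378000
-/

set_option autoImplicit false
set_option maxRecDepth 100000

namespace Cfsg.Lib.LyReal

open Cfsg.Spor Cfsg.Lib.CosetEnum Cfsg.Lib.CosetEnum.LyG2

/-- The element of order three in the group on six generators. -/
def triY : SixGroup := six triYW

/-- The first column of a matrix as a vector. -/
def colVec (V : ℕ) : Fin 7 → ZMod 5 := fun r => BigMat.toMat 7 V r 0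

theorem lineOK_spec : ∀ {n i : ℕ}, lineOK n i = true → ∀ k, i ≤ k → k < i + n →
    BigMat.matOK 7 (lineV.get k) = true ∧ normCol (lineV.get k) = true ∧
      (k = 0 ∨ (lineB.get k / 128 < k ∧ lineB.get k / 8 % 16 < 12 ∧ 0 < lineB.get k % 8 ∧
        lineB.get k % 8 < 5 ∧ mul7 (pw [lineB.get k / 8 % 16]) (lineV.get (lineB.get k / 128)) =
          mul7 (sc7 (lineB.get k % 8)) (lineV.get k)))
  | 0, i, _, k, h1, h2 => by omega
  | n + 1, i, h, k, h1, h2 => by
    simp only [lineOK, force_eq, Bool.and_eq_true, Bool.or_eq_true, Nat.blt_eq, Nat.beq_eq] at h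
    rcases eq_or_lt_of_le h1 with rfl | hlt
    · obtain ⟨⟨⟨ha, hb⟩, hc⟩, -⟩ := h
      refine ⟨ha, hb, ?_⟩
      rcases hc with hc | ⟨⟨⟨⟨h1, h2⟩, h3⟩, h4⟩, h5⟩
      · exact Or.inl hc
      · exact Or.inr ⟨h1, h2, h3, h4, h5⟩
    · exact lineOK_spec h.2 k (by omega) (by omega)

theorem line_all : ∀ k < 7750, BigMat.IsMat 7 (lineV.get k) ∧ normCol (lineV.get k) = true ∧
    (k = 0 ∨ (lineB.get k / 128 < k ∧ lineB.get k / 8 % 16 < 12 ∧ 0 < lineB.get k % 8 ∧
      lineB.get k % 8 < 5 ∧ mul7 (pw [lineB.get k / 8 % 16]) (lineV.get (lineB.get k / 128)) =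
        mul7 (sc7 (lineB.get k % 8)) (lineV.get k))) := by
  intro k hk
  have h : BigMat.matOK 7 (lineV.get k) = true ∧ normCol (lineV.get k) = true ∧
      (k = 0 ∨ (lineB.get k / 128 < k ∧ lineB.get k / 8 % 16 < 12 ∧ 0 < lineB.get k % 8 ∧
        lineB.get k % 8 < 5 ∧ mul7 (pw [lineB.get k / 8 % 16]) (lineV.get (lineB.get k / 128)) =
          mul7 (sc7 (lineB.get k % 8)) (lineV.get k))) := by
    rcases Nat.lt_or_ge k 2000 with h | h
    · exact lineOK_spec line_ok0 k (Nat.zero_le _) (by omega)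
    rcases Nat.lt_or_ge k 4000 with h' | h'
    · exact lineOK_spec line_ok1 k h (by omega)
    rcases Nat.lt_or_ge k 6000 with h'' | h''
    · exact lineOK_spec line_ok2 k h' (by omega)
    · exact lineOK_spec line_ok3 k h'' (by omega)
  exact ⟨BigMat.isMat_of_matOK h.1, h.2⟩

theorem sc7_ok : ∀ l : Fin 5, BigMat.matOK 7 (sc7 l.1) = true ∧
    ((List.range 49).all fun x => Nat.beq (BigMat.ent 7 (sc7 l.1) (x / 7) (x % 7))
      (if x / 7 = x % 7 then l.1 else 0)) = true := by decide +kernel

theorem mul_colVec {M V : ℕ} (hM : BigMat.IsMat 7 M) (hV : BigMat.IsMat 7 V) :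
    colVec (BigMat.mul 7 M V) = (BigMat.toMat 7 M).mulVec (colVec V) := by
  funext r
  rw [colVec, (BigMat.toMat_mul (n := 7) (by norm_num) (by norm_num) hM hV).2]
  rfl

theorem sc7_colVec {l V : ℕ} (hl : l < 5) (hV : BigMat.IsMat 7 V) :
    colVec (BigMat.mul 7 (sc7 l) V) = (l : ZMod 5) • colVec V := by
  obtain ⟨hok, hent⟩ := sc7_ok ⟨l, hl⟩
  rw [mul_colVec (BigMat.isMat_of_matOK hok) hV]
  funext r
  rw [Matrix.mulVec, dotProduct, Finset.sum_eq_single r, Pi.smul_apply, smul_eq_mul]
  · congr 1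
    have h := List.all_eq_true.1 hent (7 * r.1 + r.1) (List.mem_range.2 (by have := r.2; omega))
    simp only [Nat.beq_eq] at h
    rw [show (7 * r.1 + r.1) / 7 = r.1 by omega, show (7 * r.1 + r.1) % 7 = r.1 by omega,
      if_pos rfl] at h
    simp [BigMat.toMat, h]
  · intro c _ hc
    have h := List.all_eq_true.1 hent (7 * r.1 + c.1) (List.mem_range.2 (by
      have := r.2; have := c.2; omega))
    simp only [Nat.beq_eq] at h
    rw [show (7 * r.1 + c.1) / 7 = r.1 by omega, show (7 * r.1 + c.1) % 7 = c.1 by omega,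
      if_neg (fun e => hc (Fin.ext e).symm)] at h
    simp [BigMat.toMat, h]
  · intro h; exact absurd (Finset.mem_univ r) h

/-- The fixed vector. -/
noncomputable def fixVec : Fin 7 → ZMod 5 := colVec (lineV.get 0)

variable {ψ : SixGroup →* GL (Fin 7) (ZMod 5)}

/-- The action on vectors. -/
noncomputable def actV (ψ : SixGroup →* GL (Fin 7) (ZMod 5)) (s : SixGroup) (x : Fin 7 → ZMod 5) :
    Fin 7 → ZMod 5 :=
  (ψ s : Matrix (Fin 7) (Fin 7) (ZMod 5)).mulVec x

theorem actV_mul (s t : SixGroup) (x : Fin 7 → ZMod 5) :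
    actV ψ (s * t) x = actV ψ s (actV ψ t x) := by
  simp [actV, Matrix.mulVec_mulVec]

theorem actV_one (x : Fin 7 → ZMod 5) : actV ψ 1 x = x := by simp [actV]

theorem actV_smul (s : SixGroup) (a : ZMod 5) (x : Fin 7 → ZMod 5) :
    actV ψ s (a • x) = a • actV ψ s x := by
  simp [actV, Matrix.mulVec_smul]

/-- The stabilizer of the fixed line. -/
def lineStab (ψ : SixGroup →* GL (Fin 7) (ZMod 5)) : Subgroup SixGroup where
  carrier := {s | ∃ a : ZMod 5, a ≠ 0 ∧ actV ψ s fixVec = a • fixVec}
  one_mem' := ⟨1, one_ne_zero, by rw [actV_one, one_smul]⟩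
  mul_mem' := by
    rintro s t ⟨a, ha, hs⟩ ⟨b, hb, ht⟩
    exact ⟨b * a, mul_ne_zero hb ha, by rw [actV_mul, ht, actV_smul, hs, smul_smul]⟩
  inv_mem' := by
    rintro s ⟨a, ha, hs⟩
    refine ⟨a⁻¹, inv_ne_zero ha, ?_⟩
    have h := congrArg (actV ψ s⁻¹) hs
    rw [← actV_mul, inv_mul_cancel, actV_one, actV_smul] at h
    conv_rhs => rw [h]
    rw [smul_smul, inv_mul_cancel₀ ha, one_smul]

theorem normCol_spec {V : ℕ} (h : normCol V = true) :
    ∃ r : Fin 7, colVec V r = 1 ∧ ∀ q : Fin 7, q.1 < r.1 → colVec V q = 0 := by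
  simp only [normCol, force_eq, List.any_eq_true, List.mem_range, Bool.and_eq_true, Nat.beq_eq,
    List.all_eq_true] at h
  obtain ⟨r, hr, h1, h0⟩ := h
  exact ⟨⟨r, hr⟩, by simp [colVec, BigMat.toMat, h1],
    fun q hq => by simp [colVec, BigMat.toMat, h0 q.1 hq]⟩

theorem col0Key_eq {V W : ℕ} (hV : BigMat.IsMat 7 V) (hW : BigMat.IsMat 7 W)
    (h : colVec V = colVec W) : col0Key V = col0Key W := by
  refine congrArg (fun l : List ℕ => l.foldl (fun a x => 8 * a + x) 0)
    (List.map_congr_left fun r hr => ?_)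
  have e := congrFun h ⟨r, List.mem_range.1 hr⟩
  simp only [colVec, BigMat.toMat, Matrix.of_apply] at e
  rwa [ZMod.natCast_eq_natCast_iff', BigMat.ent, BigMat.ent, Nat.mod_eq_of_lt (hV.2 _),
    Nat.mod_eq_of_lt (hW.2 _)] at e

theorem line_elems (hψ : ∀ w, (∀ g ∈ w, g < 12) →
      (ψ (six w) : Matrix (Fin 7) (Fin 7) (ZMod 5)) = BigMat.toMat 7 (pw w) ∧
        BigMat.IsMat 7 (pw w)) :
    ∀ i < 7750, ∃ g : SixGroup, ∃ a : ZMod 5, a ≠ 0 ∧
      actV ψ g fixVec = a • colVec (lineV.get i) := by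
  intro i
  induction i using Nat.strong_induction_on with
  | _ i ih =>
    intro hi
    obtain ⟨hV, -, hrec⟩ := line_all i hi
    rcases hrec with rfl | ⟨hp, hg, hl0, hl5, he⟩
    · exact ⟨1, 1, one_ne_zero, by rw [actV_one, one_smul]; rfl⟩
    obtain ⟨g, a, ha, hga⟩ := ih _ hp (by omega)
    obtain ⟨hVp, -, -⟩ := line_all _ (show lineB.get i / 128 < 7750 by omega)
    obtain ⟨hmat, hM⟩ := hψ [lineB.get i / 8 % 16] (by simpa using hg)
    rw [mul7_eq, mul7_eq] at he
    have h1 := congrArg colVec he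
    rw [sc7_colVec hl5 hV, mul_colVec hM hVp, ← hmat] at h1
    refine ⟨six [lineB.get i / 8 % 16] * g, a * (lineB.get i % 8 : ℕ), mul_ne_zero ha ?_, ?_⟩
    · intro h
      rw [ZMod.natCast_eq_zero_iff] at h
      exact absurd (Nat.le_of_dvd hl0 h) (by omega)
    · rw [actV_mul, hga, actV_smul, mul_smul, ← h1]
      rfl

theorem lineStab_index (hψ : ∀ w, (∀ g ∈ w, g < 12) →
      (ψ (six w) : Matrix (Fin 7) (Fin 7) (ZMod 5)) = BigMat.toMat 7 (pw w) ∧
        BigMat.IsMat 7 (pw w)) :
    7750 * Nat.card (lineStab ψ) ≤ 5859000000 := by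
  have := finite_six
  have ho := line_ord
  simp only [Bool.and_eq_true, Nat.blt_eq] at ho
  have hlt : ∀ k < 7750, lineO.get k < 7750 := fun k hk => by
    rcases Nat.lt_or_ge k 7749 with h | h
    · exact (ordOK_spec ho.1 k (Nat.zero_le _) (by omega)).1
    · rw [show k = 7749 by omega]; exact ho.2
  have hstep : ∀ b a : ℕ, a < b → b < 7750 →
      col0Key (lineV.get (lineO.get a)) < col0Key (lineV.get (lineO.get b)) := by
    intro b
    induction b with
    | zero => intro a ha; omega
    | succ b ih =>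
      intro a ha hb
      have h := (ordOK_spec ho.1 b (Nat.zero_le _) (by omega)).2
      rcases Nat.lt_succ_iff_lt_or_eq.1 ha with h' | rfl
      · exact (ih a h' (by omega)).trans h
      · exact h
  choose g a ha hga using fun i : Fin 7750 => line_elems hψ (lineO.get i) (hlt i i.2)
  have hinj : Function.Injective fun i : Fin 7750 => ((g i : SixGroup) : SixGroup ⧸ lineStab ψ) := by
    intro i k h
    obtain ⟨b, hb, hbe⟩ := QuotientGroup.eq.1 h
    have e := congrArg (actV ψ (g i)) hbe
    rw [← actV_mul, mul_inv_cancel_left, actV_smul, hga k, hga i, smul_smul] at e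
    obtain ⟨hVi, hni, -⟩ := line_all _ (hlt i i.2)
    obtain ⟨hVk, hnk, -⟩ := line_all _ (hlt k k.2)
    obtain ⟨r, hr1, hr0⟩ := normCol_spec hnk
    obtain ⟨r', hr1', hr0'⟩ := normCol_spec hni
    have hne : b * a i ≠ 0 := mul_ne_zero hb (ha i)
    have hcomp : ∀ q, a k * colVec (lineV.get (lineO.get k)) q =
        b * a i * colVec (lineV.get (lineO.get i)) q := fun q => by
      have := congrFun e q
      simpa using this
    have hrr : r = r' := by
      rcases lt_trichotomy r.1 r'.1 with hl | hl | hl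
      · have := hcomp r
        rw [hr1, hr0' r hl, mul_one, mul_zero] at this
        exact absurd this (ha k)
      · exact Fin.ext hl
      · have := hcomp r'
        rw [hr1', hr0 r' hl, mul_one, mul_zero] at this
        exact absurd this.symm hne
    subst hrr
    have hab : a k = b * a i := by
      have := hcomp r
      rwa [hr1, hr1', mul_one, mul_one] at this
    have hv : colVec (lineV.get (lineO.get i)) = colVec (lineV.get (lineO.get k)) := by
      funext q
      have := hcomp q
      rw [← hab] at this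
      exact (mul_left_cancel₀ (ha k) this).symm
    have hkey := col0Key_eq hVi hVk hv
    by_contra hik
    rcases lt_or_gt_of_ne hik with h' | h'
    · exact (hstep _ _ h' k.2).ne hkey
    · exact (hstep _ _ h' i.2).ne hkey.symm
  have hidx := Nat.card_le_card_of_injective _ hinj
  rw [Nat.card_fin, ← Subgroup.index] at hidx
  rw [← six_card, ← (lineStab ψ).index_mul_card]
  exact Nat.mul_le_mul_right _ hidx

theorem triY_pow : triY ^ 3 = 1 := by
  obtain ⟨-, -, h, -⟩ := triY_checks
  have h' := prod_eq_of_eqW (e := sixLetter) sixLetter_pair sixLetter_rel h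
  rw [List.map_append, List.prod_append, List.map_append, List.prod_append, List.map_nil,
    List.prod_nil] at h'
  rw [pow_succ, pow_two, mul_assoc]
  exact h'

theorem triY_ne : triY ≠ 1 := by
  intro h
  obtain ⟨ψ, -, hψ⟩ := exists_seven
  obtain ⟨hl, -, -, hne, -⟩ := triY_checks
  obtain ⟨he, hM⟩ := hψ triYW (lettersOK_iff.1 hl)
  rw [← triY, h, map_one, Units.val_one, ← BigMat.isMat_one.2] at he
  rw [← BigMat.toMat_inj BigMat.isMat_one.1 hM he, Nat.beq_refl] at hne
  exact Bool.noConfusion hne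

/-- The centralizer of the element of order three in G2(5) is small. -/
theorem card_cent_triY :
    Nat.card (Subgroup.centralizer ({triY} : Set SixGroup)) ≤ 378000 := by
  have := finite_six
  obtain ⟨ψ, -, hψ⟩ := exists_seven
  obtain ⟨hlY, hlW, -, -, -, hne, hfix, hR, hP⟩ := triY_checks
  obtain ⟨heY, hMY⟩ := hψ triYW (lettersOK_iff.1 hlY)
  obtain ⟨heW, hMW⟩ := hψ lineW (lettersOK_iff.1 hlW)
  obtain ⟨hV0, -, -⟩ := line_all 0 (by norm_num)
  have hYv : actV ψ triY fixVec = fixVec := by
    rw [actV, triY, heY, fixVec, ← mul_colVec hMY hV0, ← mul7_eq, hfix]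
  have hproj : ∀ x, actV ψ triY x = x → x = x 2 • fixVec := by
    intro x hx
    have hRm := BigMat.isMat_of_matOK hR
    have hall := List.all_eq_true.1 line_proj
    have hRY : BigMat.toMat 7 lineR * BigMat.toMat 7 (pw triYW) =
        BigMat.toMat 7 lineP + BigMat.toMat 7 lineR := by
      rw [← (BigMat.toMat_mul (n := 7) (by norm_num) (by norm_num) hRm hMY).2, ← mul7_eq]
      ext r c
      have h := hall (7 * r.1 + c.1) (List.mem_range.2 (by have := r.2; have := c.2; omega))
      simp only [Bool.and_eq_true, Nat.beq_eq, show (7 * r.1 + c.1) / 7 = r.1 by omega,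
        show (7 * r.1 + c.1) % 7 = c.1 by omega] at h
      simp only [BigMat.toMat, Matrix.of_apply, Matrix.add_apply]
      rw [h.1, ZMod.natCast_mod, Nat.cast_add]
    have hPx : (BigMat.toMat 7 lineP).mulVec x = 0 := by
      have e := congrArg (fun M => Matrix.mulVec M x) hRY
      simp only [Matrix.add_mulVec] at e
      rw [← Matrix.mulVec_mulVec, ← heY] at e
      rw [show (ψ (six triYW) : Matrix (Fin 7) (Fin 7) (ZMod 5)).mulVec x = x from hx] at e
      exact right_eq_add.1 e
    funext r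
    have e := congrFun hPx r
    rw [Matrix.mulVec, dotProduct, Pi.zero_apply] at e
    have hP' : ∀ c : Fin 7, BigMat.toMat 7 lineP r c =
        (if r = c then (1 : ZMod 5) else 0) - (if c = 2 then fixVec r else 0) := by
      intro c
      have h := hall (7 * r.1 + c.1) (List.mem_range.2 (by have := r.2; have := c.2; omega))
      simp only [Bool.and_eq_true, Nat.beq_eq, show (7 * r.1 + c.1) / 7 = r.1 by omega,
        show (7 * r.1 + c.1) % 7 = c.1 by omega] at h
      have h2 := congrArg (fun n : ℕ => (n : ZMod 5)) h.2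
      simp only [ZMod.natCast_mod, Nat.cast_add] at h2
      rw [eq_sub_iff_add_eq]
      by_cases hc : c = 2
      · subst hc
        simp only [Fin.val_two, if_true] at h2
        rw [if_pos rfl]
        simpa [BigMat.toMat, fixVec, colVec, Fin.ext_iff] using h2
      · rw [if_neg hc, add_zero]
        have hc' : c.1 ≠ 2 := fun e => hc (Fin.ext e)
        rw [if_neg hc'] at h2
        simpa [BigMat.toMat, Fin.ext_iff] using h2
    simp only [hP', sub_mul, Finset.sum_sub_distrib, ite_mul, one_mul, zero_mul,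
      Finset.sum_ite_eq, Finset.sum_ite_eq', Finset.mem_univ, if_true, sub_eq_zero] at e
    rw [e, Pi.smul_apply, smul_eq_mul, mul_comm]
  set C := Subgroup.centralizer ({triY} : Set SixGroup)
  have hle : C ≤ lineStab ψ := by
    intro c hc
    rw [Subgroup.mem_centralizer_singleton_iff] at hc
    have h := hproj (actV ψ c fixVec) (by rw [← actV_mul, ← hc, actV_mul, hYv])
    refine ⟨_, fun h0 => ?_, h⟩
    rw [h0, zero_smul] at h
    have h' := congrArg (actV ψ c⁻¹) h
    rw [← actV_mul, inv_mul_cancel, actV_one, actV, Matrix.mulVec_zero] at h'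
    obtain ⟨r, hr, -⟩ := normCol_spec (line_all 0 (by norm_num)).2.1
    rw [← fixVec, h', Pi.zero_apply] at hr
    exact zero_ne_one hr
  have hw : six lineW ∈ lineStab ψ ∧ six lineW ∉ C := by
    refine ⟨?_, fun h => ?_⟩
    · obtain ⟨l, hl, h⟩ := List.any_eq_true.1 line_w
      simp only [List.mem_range] at hl
      simp only [Bool.and_eq_true, Nat.blt_eq, Nat.beq_eq, mul7_eq] at h
      refine ⟨(l : ZMod 5), fun h0 => ?_, ?_⟩
      · rw [ZMod.natCast_eq_zero_iff] at h0
        exact absurd (Nat.le_of_dvd h.1 h0) (by omega)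
      · rw [actV, heW, fixVec, ← mul_colVec hMW hV0, h.2, sc7_colVec hl hV0]
    · rw [Subgroup.mem_centralizer_singleton_iff, triY, ← six_append, ← six_append] at h
      have ok1 : ∀ g ∈ triYW ++ lineW, g < 12 := fun g hg => (List.mem_append.1 hg).elim
        (lettersOK_iff.1 hlY g) (lettersOK_iff.1 hlW g)
      have ok2 : ∀ g ∈ lineW ++ triYW, g < 12 := fun g hg => (List.mem_append.1 hg).elim
        (lettersOK_iff.1 hlW g) (lettersOK_iff.1 hlY g)
      obtain ⟨e1, m1⟩ := hψ _ ok1
      obtain ⟨e2, m2⟩ := hψ _ ok2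
      rw [h] at e2
      rw [BigMat.toMat_inj m1 m2 (e1.symm.trans e2), Nat.beq_refl] at hne
      exact Bool.noConfusion hne
  obtain ⟨k, hk⟩ := Subgroup.card_dvd_of_le hle
  have hL := lineStab_index (ψ := ψ) hψ
  have hk2 : 2 ≤ k := by
    rcases k with - | - | k
    · exact absurd (hk.trans (Nat.mul_zero _)) Nat.card_pos.ne'
    · exfalso
      exact hw.2 ((Subgroup.eq_of_le_of_card_ge hle (hk.trans (Nat.mul_one _)).le).symm ▸ hw.1)
    · omega
  have h1 : 7750 * (Nat.card C * 2) ≤ 5859000000 :=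
    le_trans (Nat.mul_le_mul_left _ ((Nat.mul_le_mul_left _ hk2).trans hk.ge)) hL
  exact Nat.le_of_mul_le_mul_right (c := 15500) (by
    rw [show (378000 : ℕ) * 15500 = 5859000000 by norm_num]
    calc Nat.card C * 15500 = 7750 * (Nat.card C * 2) := by ring
      _ ≤ 5859000000 := h1) (by norm_num)

end Cfsg.Lib.LyReal
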