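import Cfsg.Agent.Lib.LyReal.YCent

/-!
# An element of order three fixes at most 7128 cosets and has a small centralizer
-/

set_option autoImplicit false
set_option maxRecDepth 100000

namespace Cfsg.Lib.LyReal

open Cfsg.Spor Cfsg.Lib.CosetEnum Cfsg.Lib.CosetEnum.LyG2

/-- The element of order three in the presented group. -/
noncomputable def triYL : Ly := lySys.hom triY

/-- The conjugates of the element of order three in a stabilizer. -/
abbrev StabTri (j : ℕ) : Type :=
  {u : lySys.Stab j // ∃ c : SixGroup, c⁻¹ * triY * c = u}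

theorem trM_spec (M : ℕ) : ((trM M : ℕ) : ZMod 5) = (BigMat.toMat 7 M).trace := by
  have h : trM M = (((List.range 7).map fun r => BigMat.ent 7 M r r).foldl (· + ·) 0) % 5 := rfl
  rw [h, ZMod.natCast_mod]
  simp [Matrix.trace, Fin.sum_univ_seven, BigMat.toMat, List.range_succ]

theorem tri_le_list {j : ℕ} {ι β : Type} [Fintype ι] {ψ : SixGroup →* GL (Fin 7) (ZMod 5)}
    (hψ : ∀ w, (∀ g ∈ w, g < 12) →
      (ψ (six w) : Matrix (Fin 7) (Fin 7) (ZMod 5)) = BigMat.toMat 7 (pw w) ∧
        BigMat.IsMat 7 (pw w))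
    (f : ι → lySys.Stab j) (hf : Function.Injective f)
    (hcard : Nat.card (lySys.Stab j) ≤ Fintype.card ι) (A : ι → ℕ)
    (hA : ∀ i, BigMat.IsMat 7 (A i) ∧
      (ψ (f i : SixGroup) : Matrix (Fin 7) (Fin 7) (ZMod 5)) = BigMat.toMat 7 (A i))
    (g : ι → β) (hg : Function.Injective g) (s : Finset β)
    (hs : ∀ i, isTriY (A i) = true → g i ∈ s) : Nat.card (StabTri j) ≤ s.card := by
  have := finite_six
  obtain ⟨hlY, -, -, -, htr, -⟩ := triY_checks
  obtain ⟨heY, hMY⟩ := hψ triYW (lettersOK_iff.1 hlY)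
  have hbij : Function.Bijective f := (Nat.bijective_iff_injective_and_card f).2
    ⟨hf, le_antisymm (Nat.card_le_card_of_injective f hf) (by rwa [Nat.card_eq_fintype_card (α := ι)])⟩
  choose inv hinv using fun u : StabTri j => hbij.2 u.1
  have hmem : ∀ u : StabTri j, isTriY (A (inv u)) = true := by
    intro u
    obtain ⟨hM, he⟩ := hA (inv u)
    rw [hinv] at he
    obtain ⟨c, hc⟩ := u.2
    have hu3 : (u.1 : SixGroup) * ((u.1 : SixGroup) * u.1) = 1 := by
      rw [← hc]
      calc c⁻¹ * triY * c * (c⁻¹ * triY * c * (c⁻¹ * triY * c))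
          = c⁻¹ * (triY * triY * triY) * c := by group
        _ = 1 := by rw [← pow_two, ← pow_succ, triY_pow]; group
    have hm2 := BigMat.toMat_mul (n := 7) (by norm_num) (by norm_num) hM hM
    have hm3 := BigMat.toMat_mul (n := 7) (by norm_num) (by norm_num) hM hm2.1
    simp only [isTriY, force_eq, mul7_eq, Bool.and_eq_true, Nat.beq_eq]
    refine ⟨?_, BigMat.toMat_inj hm3.1 BigMat.isMat_one.1 ?_⟩
    · have h : ((trM (A (inv u)) : ℕ) : ZMod 5) = ((3 : ℕ) : ZMod 5) := by
        have h3 := congrArg (fun n : ℕ => (n : ZMod 5)) htr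
        simp only [trM_spec] at h3
        rw [← h3, trM_spec, ← he, ← hc, map_mul, map_mul, map_inv, Units.val_mul, Units.val_mul,
          Matrix.trace_units_conj', ← heY]
        rfl
      rwa [ZMod.natCast_eq_natCast_iff', Nat.mod_eq_of_lt (by norm_num : 3 < 5),
        Nat.mod_eq_of_lt (show trM (A (inv u)) < 5 from Nat.mod_lt _ (by norm_num))] at h
    · rw [hm3.2, hm2.2, ← he, ← Units.val_mul, ← map_mul, ← Units.val_mul, ← map_mul, hu3, map_one,
        Units.val_one, BigMat.isMat_one.2]
  refine (Nat.card_le_card_of_injective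
    (fun u : StabTri j => (⟨g (inv u), hs _ (hmem u)⟩ : s)) fun u v h => ?_).trans
    (by rw [Nat.card_eq_fintype_card, Fintype.card_coe])
  have h' : inv u = inv v := hg (congrArg Subtype.val h)
  exact Subtype.ext (by rw [← hinv u, ← hinv v, h'])

theorem tri_list {j n c : ℕ} {M par o : Tab} (h0 : 0 < j) (h5 : j < 5)
    (hn : n * orbSize j = 5859000000) (hpos : 0 < orbSize j) (hp : prodsOK j M par n 0 = true)
    (ho : (ordOK id M o n (n - 1) 0 && Nat.blt (o.get (n - 1)) n) = true)
    (hc : countY (BigMat.one 7) M n 0 = c) : Nat.card (StabTri j) ≤ c := by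
  obtain ⟨ψ, -, hψ⟩ := exists_seven
  have hη := lySys.ev_one lySys_one
  obtain ⟨f, hf, hoinj, hfi⟩ := lySys.exists_list hη h0 h5 hp ho hψ
  rw [← hc, ← card_filter_triY]
  refine tri_le_list hψ f hf ?_ (fun i => M.get (o.get i)) (fun i => (hfi i).2)
    (fun i : Fin n => o.get i) hoinj _ fun i hi => ?_
  · rw [Fintype.card_fin]
    exact le_of_eq (Nat.eq_of_mul_eq_mul_right hpos ((stab_card h5).trans hn.symm))
  · have hone : mul7 (BigMat.one 7) (M.get (o.get i)) = M.get (o.get i) := by
      have hM := (hfi i).2.1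
      have hm := BigMat.toMat_mul (n := 7) (by norm_num) (by norm_num) BigMat.isMat_one.1 hM
      rw [mul7_eq]
      exact BigMat.toMat_inj hm.1 hM (by rw [hm.2, BigMat.isMat_one.2, one_mul])
    rw [Finset.mem_filter, Finset.mem_range, hone]
    exact ⟨(hfi i).1, hi⟩

theorem headTri_mem {i k : ℕ} (hi : i < 96) (hk : k < 3125)
    (hA : BigMat.IsMat 7 (matsA.get i)) (hQ : BigMat.IsMat 7 (matsQ.get k))
    (hx : isTriY (mul7 (matsA.get i) (matsQ.get k)) = true) : i ∈ headTri := by
  have h := List.all_eq_true.1 head_cube i (List.mem_range.2 hi)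
  simp only [Bool.or_eq_true, Bool.not_eq_true', List.contains_iff_mem] at h
  refine h.resolve_left fun hno => ?_
  -- the cube of the head fixes the first two coordinates
  rw [cubeFix, force_eq, mul7_eq, mul7_eq] at hno
  have hz := List.all_eq_true.1 head_zero i (List.mem_range.2 hi)
  have hlow : ∀ r c : Fin 7, c.1 < 2 → 2 ≤ r.1 →
      BigMat.toMat 7 (matsA.get i) r c = 0 := by
    intro r c hc hr
    have := List.all_eq_true.1 hz (2 * r.1 + c.1) (List.mem_range.2 (by have := r.2; omega))
    simp only [Bool.or_eq_true, Nat.blt_eq, Nat.beq_eq, show (2 * r.1 + c.1) / 2 = r.1 by omega,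
      show (2 * r.1 + c.1) % 2 = c.1 by omega] at this
    rcases this with h1 | h1
    · omega
    · simp [BigMat.toMat, h1]
  have hq : ∀ r c : Fin 7, c.1 < 2 →
      BigMat.toMat 7 (matsQ.get k) r c = if r = c then 1 else 0 := by
    intro r c hc
    have := fixOK_spec fixQ_ok k (Nat.zero_le _) (by omega) r c r.2 hc
    simp only [BigMat.toMat, Matrix.of_apply, this, Fin.ext_iff]
    split_ifs <;> simp
  simp only [isTriY, force_eq, mul7_eq, Bool.and_eq_true, Nat.beq_eq] at hx
  have hm := BigMat.toMat_mul (n := 7) (by norm_num) (by norm_num) hA hQ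
  have hm2 := BigMat.toMat_mul (n := 7) (by norm_num) (by norm_num) hm.1 hm.1
  have hm3 := BigMat.toMat_mul (n := 7) (by norm_num) (by norm_num) hm.1 hm2.1
  have haa := BigMat.toMat_mul (n := 7) (by norm_num) (by norm_num) hA hA
  have haaa := BigMat.toMat_mul (n := 7) (by norm_num) (by norm_num) hA haa.1
  set A := BigMat.toMat 7 (matsA.get i)
  set Q := BigMat.toMat 7 (matsQ.get k)
  have hone : A * Q * A * Q * A * Q = 1 := by
    rw [show A * Q * A * Q * A * Q = A * Q * (A * Q * (A * Q)) by simp only [mul_assoc], ← hm.2,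
      ← hm2.2, ← hm3.2, hx.2, BigMat.isMat_one.2]
  have hcol : ∀ (B : Matrix (Fin 7) (Fin 7) (ZMod 5)) (r c : Fin 7), c.1 < 2 →
      (B * Q) r c = B r c := by
    intro B r c hc
    rw [Matrix.mul_apply, Finset.sum_eq_single c]
    · rw [hq c c hc, if_pos rfl, mul_one]
    · intro y _ hy; rw [hq y c hc, if_neg hy, mul_zero]
    · intro h; exact absurd (Finset.mem_univ c) h
  have hcongr : ∀ B B' : Matrix (Fin 7) (Fin 7) (ZMod 5),
      (∀ r c : Fin 7, c.1 < 2 → B r c = B' r c) →
      ∀ r c : Fin 7, c.1 < 2 → (B * A) r c = (B' * A) r c := by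
    intro B B' hB r c hc
    simp only [Matrix.mul_apply]
    refine Finset.sum_congr rfl fun y _ => ?_
    rcases Nat.lt_or_ge y.1 2 with hy | hy
    · rw [hB r y hy]
    · rw [hlow y c hc hy, mul_zero, mul_zero]
  have hAAA : ∀ r c : Fin 7, c.1 < 2 →
      (A * (A * A)) r c = (1 : Matrix (Fin 7) (Fin 7) (ZMod 5)) r c := by
    intro r c hc
    have h2 := hcongr _ _ (fun r c hc => hcol A r c hc)
    have h3 : ∀ r c : Fin 7, c.1 < 2 → (A * Q * A * Q) r c = (A * A) r c :=
      fun r c hc => (hcol _ r c hc).trans (h2 r c hc)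
    have h4 := hcongr _ _ h3
    rw [← hone, hcol _ r c hc, h4 r c hc, mul_assoc]
  have hkey : colList (BigMat.mul 7 (matsA.get i) (BigMat.mul 7 (matsA.get i) (matsA.get i))) =
      colList (BigMat.one 7) := by
    refine List.map_congr_left fun y hy => ?_
    have hy := List.mem_range.1 hy
    have e := hAAA ⟨y / 2, by omega⟩ ⟨y % 2, by omega⟩ (Nat.mod_lt _ (by norm_num))
    rw [← haa.2, ← haaa.2, ← BigMat.isMat_one.2] at e
    simp only [BigMat.toMat, Matrix.of_apply] at e
    rwa [ZMod.natCast_eq_natCast_iff', BigMat.ent, BigMat.ent, Nat.mod_eq_of_lt (haaa.1.2 _),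
      Nat.mod_eq_of_lt (BigMat.isMat_one.1.2 _)] at e
  rw [colKey, colKey, hkey, Nat.beq_refl] at hno
  exact Bool.noConfusion hno

/-- The pairs giving conjugates in the first stabilizer. -/
noncomputable def triPairs : Finset (ℕ × ℕ) :=
  headTri.toFinset.biUnion fun i =>
    ((Finset.range 3125).filter fun k => isTriY (mul7 (matsA.get i) (matsQ.get k)) = true).image
      (Prod.mk i)

theorem triPairs_card : triPairs.card ≤ 200 := by
  rw [triPairs]
  refine Finset.card_biUnion_le.trans ?_
  refine (Finset.sum_le_sum fun i _ => Finset.card_image_le).trans ?_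
  simp only [card_filter_triY]
  rw [List.sum_toFinset _ (by decide)]
  simp [headTri, countYA0, countYA1, countYA2, countYA3, countYA4, countYA5, countYA6, countYA7,
    countYA8]

theorem tri_one : Nat.card (StabTri 1) ≤ 200 := by
  obtain ⟨ψ, -, hψ⟩ := exists_seven
  have hη := lySys.ev_one lySys_one
  obtain ⟨f, hf, hoinj, hfi⟩ := lySys.exists_list_one hη hψ
  refine (tri_le_list hψ f hf ?_
    (fun x => BigMat.mul 7 (matsA.get (ordA.get x.1)) (matsQ.get (ordQ.get x.2))) ?_
    (fun x : Fin 96 × Fin 3125 => (ordA.get x.1, ordQ.get x.2)) hoinj triPairs ?_).trans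
      triPairs_card
  · rw [Fintype.card_prod, Fintype.card_fin, Fintype.card_fin]
    exact le_of_eq (Nat.eq_of_mul_eq_mul_right (by norm_num [orbSize])
      ((stab_card (j := 1) (by norm_num)).trans (by norm_num [orbSize])))
  · intro x
    obtain ⟨-, -, hA, hQ, he⟩ := hfi x
    have hm := BigMat.toMat_mul (n := 7) (by norm_num) (by norm_num) hA hQ
    exact ⟨hm.1, by rw [he, hm.2]⟩
  intro x hx
  obtain ⟨hi, hk, hA, hQ, -⟩ := hfi x
  rw [← mul7_eq] at hx
  rw [triPairs]
  exact Finset.mem_biUnion.2 ⟨_, List.mem_toFinset.2 (headTri_mem hi hk hA hQ hx),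
    Finset.mem_image.2 ⟨_, Finset.mem_filter.2 ⟨Finset.mem_range.2 hk, hx⟩, rfl⟩⟩

theorem tri_card : Nat.card (StabTri 1) ≤ 200 ∧ Nat.card (StabTri 2) ≤ 56 ∧
    Nat.card (StabTri 3) ≤ 2 ∧ Nat.card (StabTri 4) ≤ 20 :=
  ⟨tri_one,
    tri_list (j := 2) (n := 6048) (by norm_num) (by norm_num) (by norm_num [orbSize])
      (by norm_num [orbSize]) prods2_ok ord2_ok countY2,
    tri_list (j := 3) (n := 1008) (by norm_num) (by norm_num) (by norm_num [orbSize])
      (by norm_num [orbSize]) prods3_ok ord3_ok countY3,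
    tri_list (j := 4) (n := 2880) (by norm_num) (by norm_num) (by norm_num [orbSize])
      (by norm_num [orbSize]) prods4_ok ord4_ok countY4⟩

theorem triY_fix_orbit {j : ℕ} (hj : j < 5) :
    {x ∈ lySys.Orb j | triYL • x = x}.ncard * Nat.card (lySys.Stab j) ≤
      Nat.card (StabTri j) * 378000 := by
  classical
  have := finite_six
  have := finite_ly
  set a : Ly ⧸ lySys.H := ((lySys.P j : Ly) : Ly ⧸ lySys.H)
  have hmem : ∀ s, s ∈ lySys.Stab j ↔ lySys.hom s • a = a := fun s =>
    (QuotientGroup.eq (a := lySys.hom s * lySys.P j) (b := lySys.P j) (s := lySys.H)).symm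
  let T := {s : SixGroup // s⁻¹ * triY * s ∈ lySys.Stab j}
  let F := {x ∈ lySys.Orb j | triYL • x = x}
  choose rep hrep using fun x : F => (x.2.1 : x.1 ∈ lySys.Orb j)
  have hrep' : ∀ x : F, lySys.hom (rep x) • a = x.1 := hrep
  have h1 : F.ncard * Nat.card (lySys.Stab j) ≤ Nat.card T := by
    rw [← Nat.card_coe_set_eq, ← Nat.card_prod]
    refine Nat.card_le_card_of_injective (fun p : F × lySys.Stab j => (⟨rep p.1 * p.2, ?_⟩ : T)) ?_
    · rw [hmem]
      have hk := (hmem _).1 p.2.2
      simp only [map_mul, map_inv, mul_inv_rev, mul_smul]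
      rw [hk, hrep' p.1, show lySys.hom triY • p.1.1 = p.1.1 from p.1.2.2, ← hrep' p.1,
        inv_smul_smul, inv_smul_eq_iff, hk]
    · rintro ⟨x, k⟩ ⟨x', k'⟩ h
      have e : rep x * k = rep x' * k' := congrArg Subtype.val h
      have hk := (hmem _).1 k.2
      have hk' := (hmem _).1 k'.2
      have hx : x.1 = x'.1 := by
        rw [← hrep' x, ← hrep' x']
        calc lySys.hom (rep x) • a = lySys.hom (rep x * k) • a := by rw [map_mul, mul_smul, hk]
          _ = lySys.hom (rep x') • a := by rw [e, map_mul, mul_smul, hk']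
      have hxx : x = x' := Subtype.ext hx
      subst hxx
      rw [Subtype.ext (mul_left_cancel e)]
  have h2 : Nat.card T ≤ Nat.card (StabTri j) * 378000 := by
    refine le_trans ?_ (Nat.mul_le_mul_left _ card_cent_triY)
    let inv : T → StabTri j := fun s => ⟨⟨_, s.2⟩, s.1, rfl⟩
    choose c hc using fun u : StabTri j => u.2
    rw [← Nat.card_prod]
    refine Nat.card_le_card_of_injective (fun s : T => (inv s,
      (⟨s.1 * (c (inv s))⁻¹, ?_⟩ : Subgroup.centralizer ({triY} : Set SixGroup)))) ?_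
    · have e := hc (inv s)
      simp only [inv] at e ⊢
      rw [Subgroup.mem_centralizer_singleton_iff]
      set d := c ⟨⟨_, s.2⟩, s.1, rfl⟩
      calc s.1 * d⁻¹ * triY = s.1 * (d⁻¹ * triY * d) * d⁻¹ := by group
        _ = triY * (s.1 * d⁻¹) := by rw [e]; group
    · intro s s' h
      obtain ⟨h1, h2⟩ := Prod.ext_iff.1 h
      have h2' : s.1 * (c (inv s))⁻¹ = s'.1 * (c (inv s'))⁻¹ := congrArg Subtype.val h2
      simp only at h1
      rw [h1] at h2'
      exact Subtype.ext (mul_right_cancel h2')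
  exact h1.trans h2

/-- The element of order three fixes at most 7128 cosets. -/
theorem triY_fix_le : {x : Ly ⧸ lySys.H | triYL • x = x}.ncard ≤ 7128 := by
  have := finite_ly
  have hu := lySys.orb_union lySys_one lySys_gen
  have hsub : {x : Ly ⧸ lySys.H | triYL • x = x} ⊆
      ⋃ j : Fin 5, {x ∈ lySys.Orb j | triYL • x = x} := fun x hx => by
    obtain ⟨j, hj⟩ := Set.mem_iUnion.1 (hu ▸ Set.mem_univ x : x ∈ ⋃ j : Fin 5, lySys.Orb j)
    exact Set.mem_iUnion.2 ⟨j, hj, hx⟩
  refine (Set.ncard_le_ncard hsub (Set.toFinite _)).trans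
    ((Set.ncard_iUnion_le_of_fintype _).trans ?_)
  have h0 : {x ∈ lySys.Orb 0 | triYL • x = x}.ncard ≤ 1 := by
    refine (Set.ncard_le_ncard (fun x hx => hx.1) (Set.toFinite _)).trans ?_
    exact le_of_eq (orb_eq.1 0)
  obtain ⟨i1, i2, i3, i4⟩ := tri_card
  have hcard : ∀ j n : ℕ, j < 5 → 0 < orbSize j → n * orbSize j = 5859000000 →
      Nat.card (lySys.Stab j) = n := fun j n hj hpos h =>
    Nat.eq_of_mul_eq_mul_right hpos ((stab_card hj).trans h.symm)
  have key : ∀ (j n c b : ℕ) (hj : j < 5), 0 < orbSize j → n * orbSize j = 5859000000 →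
      Nat.card (StabTri j) ≤ c → c * 378000 ≤ b * n → 0 < n →
      {x ∈ lySys.Orb j | triYL • x = x}.ncard ≤ b := by
    intro j n c b hj hpos hn hc hb hn0
    have e := triY_fix_orbit hj
    rw [hcard j n hj hpos hn] at e
    exact Nat.le_of_mul_le_mul_right ((e.trans (Nat.mul_le_mul_right _ hc)).trans hb) hn0
  have b1 := key 1 300000 200 252 (by norm_num) (by norm_num [orbSize]) (by norm_num [orbSize]) i1
    (by norm_num) (by norm_num)
  have b2 := key 2 6048 56 3500 (by norm_num) (by norm_num [orbSize]) (by norm_num [orbSize]) i2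
    (by norm_num) (by norm_num)
  have b3 := key 3 1008 2 750 (by norm_num) (by norm_num [orbSize]) (by norm_num [orbSize]) i3
    (by norm_num) (by norm_num)
  have b4 := key 4 2880 20 2625 (by norm_num) (by norm_num [orbSize]) (by norm_num [orbSize]) i4
    (by norm_num) (by norm_num)
  rw [Fin.sum_univ_five]
  exact (Nat.add_le_add (Nat.add_le_add (Nat.add_le_add (Nat.add_le_add h0 b1) b2) b3) b4).trans
    (by norm_num)

/-- The centralizer of the element of order three has order at most 2694384000. -/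
theorem card_cent_triYL :
    Nat.card (Subgroup.centralizer ({triYL} : Set Ly)) ≤ 7128 * 378000 := by
  classical
  have := finite_ly
  have := finite_six
  set C := Subgroup.centralizer ({triYL} : Set Ly)
  set o : Ly ⧸ lySys.H := ((1 : Ly) : Ly ⧸ lySys.H)
  have hto : triYL • o = o := by
    refine QuotientGroup.eq.2 ?_
    have : triYL ∈ lySys.H := lySys.hom_range ▸ ⟨_, rfl⟩
    simpa using inv_mem this
  rw [← Nat.card_congr (MulAction.orbitProdStabilizerEquivGroup C o), Nat.card_prod]
  have h1 : Nat.card (MulAction.orbit C o) ≤ 7128 := by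
    refine le_trans ?_ triY_fix_le
    rw [Nat.card_coe_set_eq]
    refine Set.ncard_le_ncard ?_ (Set.toFinite _)
    rintro _ ⟨c, rfl⟩
    show triYL • (c : Ly) • o = (c : Ly) • o
    rw [← mul_smul, ← Subgroup.mem_centralizer_singleton_iff.1 c.2, mul_smul, hto]
  have h2 : Nat.card (MulAction.stabilizer C o) ≤ 378000 := by
    refine le_trans ?_ card_cent_triY
    have hH : ∀ c : MulAction.stabilizer C o, ∃ s, lySys.hom s = ((c : C) : Ly) := fun c => by
      have h := QuotientGroup.eq.1 (MulAction.mem_stabilizer_iff.1 c.2)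
      simp only [mul_one, smul_eq_mul] at h
      have h' := inv_mem h
      rw [inv_inv] at h'
      exact (SetLike.ext_iff.1 lySys.hom_range _).2 h'
    choose r hr using hH
    refine Nat.card_le_card_of_injective (fun c => (⟨r c, ?_⟩ :
      Subgroup.centralizer ({triY} : Set SixGroup))) fun c d h => ?_
    · rw [Subgroup.mem_centralizer_singleton_iff]
      apply hom_injective
      rw [map_mul, map_mul, hr]
      exact Subgroup.mem_centralizer_singleton_iff.1 (c : C).2
    · have e : r c = r d := congrArg Subtype.val h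
      exact Subtype.ext (Subtype.ext (by rw [← hr c, ← hr d, e]))
  exact Nat.mul_le_mul h1 h2

end Cfsg.Lib.LyReal
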