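import Cfsg.Agent.Lib.LyReal.YFix
import Cfsg.Agent.Lib.LyReal.OutBase
import Cfsg.Agent.Lib.LyReal.MclData
import Cfsg.Agent.Lib.LyReal.MclSimple

/-!
# The centralizer of the element of order three is a triple cover of the McLaughlin group
-/

set_option autoImplicit false
set_option maxRecDepth 100000

namespace Cfsg.Lib.LyReal

open Cfsg.Spor Cfsg.Lib.CosetEnum Cfsg.Lib.CosetEnum.LyG2

theorem triY20_conv : triY20 =
    triYW.map fun g => [0, 1, 2, 3, 5, 9, 10, 11, 12, 13, 15, 19].getD g 0 := by decide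

theorem triY_val : val20 triY20 = triYL := by
  obtain ⟨hl, -⟩ := triY_checks
  rw [triYL, triY, lySys.hom_six hl, val20, triY20_conv, List.map_map]
  exact congrArg List.prod (List.map_congr_left fun g hg => letter20 g (lettersOK_iff.1 hl g hg))

theorem triYL_order : orderOf triYL = 3 := by
  rw [triYL, orderOf_injective lySys.hom hom_injective]
  exact orderOf_eq_prime triY_pow triY_ne

/-- The centralizer of the element of order three. -/
noncomputable abbrev CY : Subgroup Ly := Subgroup.centralizer ({triYL} : Set Ly)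

/-- The element of order three in its centralizer. -/
noncomputable def yC : CY := ⟨triYL, Subgroup.mem_centralizer_singleton_iff.2 rfl⟩

/-- The five involutions and ones. -/
noncomputable def mclEl (g : ℕ) : Ly := if g < 5 then val20 (mclW.getD g []) else 1

theorem xprodL_spec (f : ℕ → Ly) (Xs : List ℕ) (h : ∀ i < 5, MatOf (f i) (Xs.getD i 0)) :
    ∀ {w : List ℕ}, (w.all fun i => Nat.blt i 5) = true →
      MatOf ((w.map f).prod) (xprod Xs w)
  | [], _ => by simpa [xprod] using MatOf.one
  | i :: w, hw => by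
    simp only [List.all_cons, Bool.and_eq_true, Nat.blt_eq] at hw
    rw [xprod, force_eq, List.map_cons, List.prod_cons]
    exact (h i hw.1).mul (xprodL_spec f Xs h hw.2)

theorem yPow_spec {x : Ly} {Y : ℕ} (hx : MatOf x Y) : ∀ e : ℕ, MatOf (x ^ e) (yPow Y e)
  | 0 => by simpa [yPow, xprod] using MatOf.one
  | e + 1 => by
    have ih := yPow_spec hx e
    rw [pow_succ', yPow, List.replicate_succ, xprod, force_eq, List.getD_cons_zero]
    exact hx.mul ih

theorem mcl_facts : (∀ g < 5, mclEl g * mclEl g = 1 ∧ mclEl g * triYL = triYL * mclEl g) ∧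
    ∀ r ∈ MclStemG.canon, ∃ e : ℕ, (r.reverse.map mclEl).prod = triYL ^ e := by
  obtain ⟨hY, hX, hlen, hE, hR⟩ := mcl_shape
  have h := mcl_ok
  rw [withMats_spec, List.reverse_nil, List.nil_append, List.map_cons] at h
  set Y := BigMat.prodWord 111 LyRep.letterMat triY20.reverse
  set Xs := mclW.map fun w => BigMat.prodWord 111 LyRep.letterMat w.reverse with hXs
  simp only [mclOK, Bool.and_eq_true, List.all_eq_true, Nat.beq_eq] at h
  obtain ⟨hall, hrel⟩ := h
  have hYm : MatOf triYL Y := by
    rw [← triY_val]; exact hasMat_word hY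
  have hl : Xs.length = 5 := by rw [hXs, List.length_map, hlen]
  have hXm : ∀ g < 5, MatOf (mclEl g) (Xs.getD g 0) := by
    intro g hg
    have hi : g < mclW.length := hlen.symm ▸ hg
    rw [hXs, List.getD_eq_getElem _ _ (by simpa using hi), List.getElem_map, mclEl, if_pos hg,
      List.getD_eq_getElem _ _ hi]
    exact hasMat_word (List.all_eq_true.1 hX _ (List.getElem_mem hi))
  refine ⟨fun g hg => ?_, fun r hr => ?_⟩
  · have hm := hXm g hg
    obtain ⟨h1, h2⟩ := hall (Xs.getD g 0) (by
      rw [List.getD_eq_getElem _ _ (hl.symm ▸ hg)]; exact List.getElem_mem _)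
    exact ⟨(hm.mul hm).eq MatOf.one h1, (hm.mul hYm).eq (hYm.mul hm) h2⟩
  · obtain ⟨i, hi, rfl⟩ := List.getElem_of_mem hr
    have hi' : i < mclE.length := hE.symm ▸ hi
    have hz : (MclStemG.canon[i], mclE[i]) ∈ MclStemG.canon.zip mclE := by
      refine List.mem_iff_getElem.2 ⟨i, by rw [List.length_zip]; exact lt_min hi hi', ?_⟩
      exact List.getElem_zip
    exact ⟨mclE[i], (xprodL_spec mclEl Xs hXm (List.all_eq_true.1 hR _ (List.getElem_mem hi))).eq
      (yPow_spec hYm mclE[i]) (hrel _ hz)⟩

theorem mclEl_mem (g : ℕ) : mclEl g ∈ CY := by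
  rw [Subgroup.mem_centralizer_singleton_iff]
  rcases Nat.lt_or_ge g 5 with h | h
  · exact (mcl_facts.1 g h).2
  · simp [mclEl, Nat.not_lt.2 h]

/-- The five involutions in the centralizer. -/
noncomputable def mclC (g : ℕ) : CY := ⟨mclEl g, mclEl_mem g⟩

theorem mclC_sq (g : ℕ) : mclC g * mclC g = 1 := by
  refine Subtype.ext ?_
  show mclEl g * mclEl g = 1
  rcases Nat.lt_or_ge g 5 with h | h
  · exact (mcl_facts.1 g h).1
  · simp [mclEl, Nat.not_lt.2 h]

theorem mcl_zero_ne : val20 [4, 4, 4, 4] ≠ 1 := by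
  intro h
  obtain ⟨hM, he⟩ := hasMat_word (w := [4, 4, 4, 4]) rfl
  have hne : Nat.beq (BigMat.prodWord 111 LyRep.letterMat [4, 4, 4, 4].reverse) (BigMat.one 111) =
      false := by decide +kernel
  rw [h, map_one, Units.val_one, ← BigMat.isMat_one.2] at he
  rw [← BigMat.toMat_inj BigMat.isMat_one.1 hM he, Nat.beq_refl] at hne
  exact Bool.noConfusion hne

/-- The central subgroup of order three. -/
noncomputable abbrev ZY : Subgroup CY := Subgroup.zpowers yC

theorem zy_le : ZY ≤ Subgroup.center CY := Subgroup.zpowers_le.2 (Subgroup.mem_center_iff.2 fun x =>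
  Subtype.ext (Subgroup.mem_centralizer_singleton_iff.1 x.2))

instance zy_normal : ZY.Normal := ⟨fun n hn g => by
  rwa [Subgroup.mem_center_iff.1 (zy_le hn) g, mul_inv_cancel_right]⟩

theorem card_zy : Nat.card ZY = 3 := by
  rw [Nat.card_zpowers, ← Subgroup.orderOf_coe yC]
  exact triYL_order

theorem wordVal_eq_prod {G : Type*} [Group G] (x : ℕ → G) : ∀ {w : List ℕ}, (∀ g ∈ w, g ≠ eps) →
    wordVal x w = (w.reverse.map x).prod
  | [], _ => rfl
  | g :: w, h => by
    rw [wordVal, wordVal_eq_prod x fun a ha => h a (by simp [ha]), gen, if_neg (h g (by simp)),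
      List.reverse_cons, List.map_append, List.prod_append, List.map_singleton, List.prod_singleton]

/-- The centralizer modulo the element of order three is the McLaughlin group. -/
theorem exists_mcl_iso : Nonempty (MclMult.grp ≃* CY ⧸ ZY) := by
  have := finite_ly
  let q := QuotientGroup.mk' ZY
  let y : ℕ → CY ⧸ ZY := fun g => q (mclC g)
  have hy : ∀ g, y g * y g = 1 := fun g => by
    simp only [y]; rw [← map_mul, mclC_sq, map_one]
  have hrel : ∀ r ∈ MclStemG.canon, wordVal y r = 1 := by
    intro r hr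
    rw [wordVal_eq_prod y fun g hg => by
      have := MclMult.canon_lt r hr g hg; unfold eps; omega]
    obtain ⟨e, he⟩ := mcl_facts.2 r hr
    rw [show r.reverse.map y = (r.reverse.map mclC).map q by rw [List.map_map]; rfl,
      ← map_list_prod]
    refine (QuotientGroup.eq_one_iff _).2 ?_
    rw [show (r.reverse.map mclC).prod = yC ^ e from Subtype.ext (by
      rw [SubmonoidClass.coe_list_prod, List.map_map, SubmonoidClass.coe_pow]
      exact he)]
    exact Subgroup.pow_mem _ (Subgroup.mem_zpowers _) e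
  obtain ⟨s, hs⟩ := MclMult.exists_hom y hy hrel
  have := mcl_simple
  have hinj : Function.Injective s := by
    refine (MonoidHom.ker_eq_bot_iff s).1
      ((Subgroup.Normal.eq_bot_or_eq_top inferInstance).resolve_right fun h => ?_)
    have h0 : y 0 = 1 := by rw [← hs 0 (by norm_num), MonoidHom.mem_ker.1 (h ▸ Subgroup.mem_top _)]
    have hmem := (QuotientGroup.eq_one_iff _).1 h0
    have h3 : mclC 0 ^ 3 = 1 := by
      obtain ⟨k, hk⟩ := Subgroup.mem_zpowers_iff.1 hmem
      have hy3 : yC ^ 3 = 1 := Subtype.ext (by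
        rw [SubmonoidClass.coe_pow]
        exact (congrArg (triYL ^ ·) triYL_order.symm).trans (pow_orderOf_eq_one _))
      rw [← hk, ← zpow_natCast, ← zpow_mul, mul_comm, zpow_mul, zpow_natCast, hy3, one_zpow]
    have h2 : mclC 0 ^ 2 = 1 := by rw [pow_two, mclC_sq]
    have h1 : mclC 0 = 1 := by
      calc mclC 0 = mclC 0 ^ 3 * (mclC 0 ^ 2)⁻¹ := by group
        _ = 1 := by rw [h2, h3]; group
    exact mcl_zero_ne (congrArg Subtype.val h1)
  have hmul := Subgroup.card_eq_card_quotient_mul_card_subgroup ZY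
  rw [card_zy] at hmul
  have hbound : Nat.card CY ≤ 7128 * 378000 := card_cent_triYL
  exact ⟨MulEquiv.ofBijective s ((Nat.bijective_iff_injective_and_card s).2 ⟨hinj,
    le_antisymm (Nat.card_le_card_of_injective s hinj) (by rw [MclMult.card_grp]; omega)⟩)⟩

theorem center_cy : Subgroup.center CY = ZY := by
  obtain ⟨e⟩ := exists_mcl_iso
  have := mcl_simple
  have : IsSimpleGroup (CY ⧸ ZY) := e.symm.isSimpleGroup
  refine le_antisymm (fun x hx => ?_) zy_le
  have hqc : Subgroup.center (CY ⧸ ZY) = ⊥ := by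
    refine (Subgroup.Normal.eq_bot_or_eq_top inferInstance).resolve_right fun h => ?_
    let _ : CommGroup (CY ⧸ ZY) :=
      { (inferInstance : Group (CY ⧸ ZY)) with
        mul_comm := fun a b => Subgroup.mem_center_iff.1 (h ▸ Subgroup.mem_top b) a }
    have hp := IsSimpleGroup.prime_card (α := CY ⧸ ZY)
    rw [← Nat.card_congr e.toEquiv, MclMult.card_grp] at hp
    exact Nat.not_prime_mul (a := 2) (b := 449064000) (by norm_num) (by norm_num) hp
  have h1 : (QuotientGroup.mk' ZY) x ∈ Subgroup.center (CY ⧸ ZY) := by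
    refine Subgroup.mem_center_iff.2 fun g => ?_
    obtain ⟨u, rfl⟩ := QuotientGroup.mk'_surjective ZY g
    rw [← map_mul, ← map_mul, Subgroup.mem_center_iff.1 hx u]
  rw [hqc, Subgroup.mem_bot] at h1
  exact (QuotientGroup.eq_one_iff _).1 h1

theorem isMcL_quot : IsMcL (CY ⧸ Subgroup.center CY) := by
  obtain ⟨e⟩ := exists_mcl_iso
  have := mcl_simple
  let f : MclMult.grp ≃* CY ⧸ Subgroup.center CY :=
    e.trans (QuotientGroup.quotientMulEquivOfEq center_cy.symm)
  exact ⟨f.symm.isSimpleGroup, by rw [← Nat.card_congr f.toEquiv, MclMult.card_grp]⟩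

theorem isLy_ly : IsLy Ly := ⟨ly_simple, order_index.1⟩

/-- An element of order three whose centralizer is a triple cover of the McLaughlin group. -/
theorem exists_triple_cover : ∃ (G : Type) (_ : Group G) (_ : Finite G), IsLy G ∧ ∃ x : G,
    orderOf x = 3 ∧ Nat.card (Subgroup.center (Subgroup.centralizer ({x} : Set G))) = 3 ∧
      IsMcL ((Subgroup.centralizer ({x} : Set G)) ⧸
        Subgroup.center (Subgroup.centralizer ({x} : Set G))) :=
  ⟨Ly, inferInstance, finite_ly, isLy_ly, triYL, triYL_order,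
    by rw [center_cy]; exact card_zy, isMcL_quot⟩

end Cfsg.Lib.LyReal
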